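import Mathlib.AlgebraicGeometry.Geometrically.Reduced
import Mathlib.AlgebraicGeometry.Morphisms.Smooth
import Mathlib.AlgebraicGeometry.Morphisms.ClosedImmersion
import Groth.Agent.Lib.Helper25.SmoothReduced

/-!
# Smooth over a field ⇒ reduced; lifting through surjective closed immersions from reduced schemes
-/

set_option autoImplicit false
universe u
open CategoryTheory AlgebraicGeometry Limits

namespace Groth.Agent.Lib.Helper94

/-- An affine scheme smooth over a field is reduced. -/
theorem isReduced_of_smooth_of_field_of_isAffine {K : Type u} [Field K] {W : Scheme.{u}} [IsAffine W]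
    (s : W ⟶ Spec (CommRingCat.of K)) [hs : Smooth s] : IsReduced W := by
  rw [HasRingHomProperty.iff_of_isAffine (P := @Smooth)] at hs
  have e : CommRingCat.of K ≅ Γ(Spec (CommRingCat.of K), ⊤) := Scheme.ΓSpecIso _ |>.symm
  have hs' : (e.hom ≫ s.appTop).hom.Smooth := by
    rw [CommRingCat.hom_comp]
    exact (RingHom.Smooth.respectsIso.cancel_left_isIso e.hom s.appTop).mpr hs
  set φ := e.hom ≫ s.appTop with hφ
  algebraize [φ.hom]
  have : _root_.IsReduced Γ(W, ⊤) := Groth.Agent.Lib.Helper25.isReduced_of_smooth K _
  exact isReduced_of_isAffine_isReduced W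

/-- A scheme smooth over a field is reduced. -/
theorem isReduced_of_smooth_of_field {K : Type u} [Field K] {Z : Scheme.{u}}
    (s : Z ⟶ Spec (CommRingCat.of K)) [Smooth s] : IsReduced Z := by
  have : ∀ i, IsReduced (Z.affineCover.X i) := by
    intro i
    have hs : Smooth (Z.affineCover.f i ≫ s) := inferInstance
    exact isReduced_of_smooth_of_field_of_isAffine (Z.affineCover.f i ≫ s)
  exact IsReduced.of_openCover Z Z.affineCover

/-- A smooth morphism is geometrically reduced. -/
theorem geometricallyReduced_of_smooth {X Y : Scheme.{u}} (f : X ⟶ Y) [Smooth f] :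
    GeometricallyReduced f := by
  refine ⟨fun K _ y Z fst snd h => ?_⟩
  have : Smooth snd := MorphismProperty.of_isPullback h ‹Smooth f›
  exact isReduced_of_smooth_of_field snd

/-- The nilradical is contained in the kernel of any morphism from a reduced scheme. -/
theorem nilradical_le_ker {X Y : Scheme.{u}} (g : Y ⟶ X) [IsReduced Y] :
    X.nilradical ≤ g.ker := by
  unfold Scheme.Hom.ker
  rw [Scheme.IdealSheafData.le_ofIdeals_iff]
  intro U s hs
  have hs' : s ∈ (⊥ : Ideal Γ(X, U.1)).radical := hs
  obtain ⟨n, hn⟩ := hs'
  rw [RingHom.mem_ker]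
  have h0 : ((g.app U.1).hom s) ^ n = 0 := by
    rw [← map_pow]
    have : s ^ n = 0 := by simpa using hn
    rw [this, map_zero]
  exact IsReduced.eq_zero _ ⟨n, h0⟩

/-- The kernel of a surjective morphism is contained in the nilradical. -/
theorem ker_le_nilradical_of_surjective {X Y : Scheme.{u}} (j : Y ⟶ X) [Surjective j] :
    j.ker ≤ X.nilradical := by
  rw [← Scheme.IdealSheafData.vanishingIdeal_top,
    ← Scheme.IdealSheafData.le_support_iff_le_vanishingIdeal]
  intro x _
  apply j.range_subset_ker_support
  exact j.surjective x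

/-- Any morphism from a reduced scheme lifts through a surjective closed immersion. -/
theorem exists_lift_of_isReduced {X Y W : Scheme.{u}} (j : Y ⟶ X) [IsClosedImmersion j]
    [Surjective j] (g : W ⟶ X) [IsReduced W] : ∃ ℓ : W ⟶ Y, ℓ ≫ j = g :=
  ⟨IsClosedImmersion.lift j g ((ker_le_nilradical_of_surjective j).trans (nilradical_le_ker g)),
    IsClosedImmersion.lift_fac _ _ _⟩

end Groth.Agent.Lib.Helper94
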