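import Groth.Agent.S2643
import Groth.Agent.S9634
import Mathlib

/-!
# Flat maps with (geometrically) reduced fibres

* `isReduced_of_flat_of_fibers`: a flat algebra over a reduced Noetherian ring whose fibres at the
  minimal primes are reduced is reduced.
* `isReduced_field_tensor`: if the fibres of `B → C` are geometrically reduced, then `L ⊗[B] C` is
  reduced for every field `L` over `B`.
* `isReduced_baseChange`: base change of such a flat `B → C` to a reduced Noetherian `B`-algebra is
  reduced.
-/

set_option autoImplicit false
set_option linter.style.haveILetI false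
universe u

namespace Groth.Agent.Lib.Helper94

open TensorProduct Groth.Agent.S2643

local instance minPrime_isPrime' (A : Type u) [CommRing A] (p : minimalPrimes A) :
    (p.1 : Ideal A).IsPrime := p.2.1.1

/-- A flat algebra over a reduced Noetherian ring whose fibres at the minimal primes are reduced
is reduced. -/
theorem isReduced_of_flat_of_fibers (A C : Type u) [CommRing A] [CommRing C] [Algebra A C]
    [IsNoetherianRing A] [IsReduced A] [Module.Flat A C]
    (h : ∀ p : minimalPrimes A, IsReduced (p.1.Fiber C)) : IsReduced C := by
  haveI : Finite (minimalPrimes A) := (minimalPrimes.finite_of_isNoetherianRing A).to_subtype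
  haveI : Fintype (minimalPrimes A) := Fintype.ofFinite _
  classical
  haveI := pi_isReduced (fun p : minimalPrimes A => p.1.Fiber C)
  let Φ : C →+* ∀ p : minimalPrimes A, p.1.Fiber C :=
    RingHom.pi fun p =>
      (Algebra.TensorProduct.includeRight : C →ₐ[A] p.1.ResidueField ⊗[A] C).toRingHom
  refine isReduced_of_injective Φ ?_
  rw [injective_iff_map_eq_zero]
  intro x hx
  have hxp : ∀ p : minimalPrimes A, (1 : p.1.ResidueField) ⊗ₜ[A] x = 0 := fun p => congrFun hx p
  have hinj : Function.Injective ((iotaMin A).lTensor C) :=
    Module.Flat.lTensor_preserves_injective_linearMap _ (inj_minimal A)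
  have h1 : (iotaMin A).lTensor C (x ⊗ₜ[A] (1 : A)) = 0 := by
    apply (TensorProduct.piRight A A C (fun p : minimalPrimes A => p.1.ResidueField)).injective
    rw [map_zero, LinearMap.lTensor_tmul, TensorProduct.piRight_apply,
      TensorProduct.piRightHom_tmul]
    funext p
    have h2 : iotaMin A 1 p = (1 : p.1.ResidueField) := by
      show algebraMap A p.1.ResidueField 1 = 1
      exact map_one _
    rw [h2]
    have h3 := congrArg (TensorProduct.comm A p.1.ResidueField C) (hxp p)
    rw [TensorProduct.comm_tmul, map_zero] at h3
    exact h3
  have h4 : x ⊗ₜ[A] (1 : A) = 0 := by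
    apply hinj
    rw [h1, map_zero]
  have h5 := congrArg (TensorProduct.rid A C) h4
  rw [TensorProduct.rid_tmul, one_smul, map_zero] at h5
  exact h5

/-- If the fibres of `B → C` are geometrically reduced, then `L ⊗[B] C` is reduced for every field
`L` over `B`. -/
theorem isReduced_field_tensor (B C L : Type u) [CommRing B] [CommRing C] [Algebra B C]
    [Field L] [Algebra B L]
    (hBC : ∀ (q : Ideal B) [q.IsPrime], Algebra.IsGeometricallyReduced q.ResidueField (q.Fiber C)) :
    IsReduced (L ⊗[B] C) := by
  let q : Ideal B := RingHom.ker (algebraMap B L)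
  haveI hq : q.IsPrime := RingHom.ker_isPrime _
  have hunits : q.primeCompl ≤ (IsUnit.submonoid L).comap (algebraMap B L) := by
    intro b hb
    show IsUnit (algebraMap B L b)
    rw [isUnit_iff_ne_zero]
    exact fun h0 => hb h0
  letI alg : Algebra q.ResidueField L :=
    (Ideal.ResidueField.lift q (algebraMap B L) le_rfl hunits).toAlgebra
  haveI : IsScalarTower B q.ResidueField L :=
    IsScalarTower.of_algebraMap_eq
      (fun b => (Ideal.ResidueField.lift_algebraMap q (algebraMap B L) le_rfl hunits b).symm)
  have h23 : Algebra.IsGeometricallyReduced q.ResidueField (q.Fiber C) →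
      ∀ (K : Type u) [Field K] [Algebra q.ResidueField K], IsReduced (K ⊗[q.ResidueField] q.Fiber C) :=
    ((Groth.Agent.S9634.result (k := q.ResidueField) (S := q.Fiber C)).out 1 2).mp
  haveI hred : IsReduced (L ⊗[q.ResidueField] q.Fiber C) := h23 (hBC q) L
  let e := Algebra.TensorProduct.cancelBaseChange B q.ResidueField L L C
  exact isReduced_of_injective e.symm.toAlgHom e.symm.injective

/-- Base change of a flat map with geometrically reduced fibres to a reduced Noetherian algebra is
reduced. -/
theorem isReduced_baseChange (B C B₁ : Type u) [CommRing B] [CommRing C] [CommRing B₁]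
    [Algebra B C] [Algebra B B₁] [IsNoetherianRing B₁] [IsReduced B₁] [Module.Flat B C]
    (hBC : ∀ (q : Ideal B) [q.IsPrime], Algebra.IsGeometricallyReduced q.ResidueField (q.Fiber C)) :
    IsReduced (B₁ ⊗[B] C) := by
  apply isReduced_of_flat_of_fibers B₁ (B₁ ⊗[B] C)
  intro q'
  haveI := isReduced_field_tensor B C q'.1.ResidueField hBC
  let e := Algebra.TensorProduct.cancelBaseChange B B₁ q'.1.ResidueField q'.1.ResidueField C
  exact isReduced_of_injective e.toAlgHom e.injective

end Groth.Agent.Lib.Helper94
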