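import Mathlib

set_option autoImplicit false

namespace Groth.Agent.Lib.Helper94

open TensorProduct MvPolynomial

universe u

section descend

variable {B C : Type u} [CommRing B] [CommRing C] (φ : B →+* C) (hφ : Function.Surjective φ)
  (N : Type u) [AddCommGroup N] [Module B N] [Module C N]
  (hcompat : ∀ (b : B) (n : N), b • n = φ b • n)

include hφ hcompat in
/-- Finite presentation descends along a surjective ring map. -/
theorem fp_of_surjective_of_fp [Module.FinitePresentation B N] :
    Module.FinitePresentation C N := by
  let _ : Algebra B C := φ.toAlgebra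
  have htower : IsScalarTower B C N := by
    refine ⟨fun b c n => ?_⟩
    rw [hcompat, Algebra.smul_def, mul_smul]
    rfl
  refine FinitePresentation.of_isBaseChange (A := C) (LinearMap.id : N →ₗ[B] N) ?_
  apply IsBaseChange.of_lift_unique
  intro Q _ _ _ _ g
  have hQ : ∀ (b : B) (q : Q), b • q = (φ b) • q := by
    intro b q
    rw [← algebraMap_smul C b q]
    rfl
  refine ⟨{ toFun := g, map_add' := g.map_add, map_smul' := ?_ }, ?_, ?_⟩
  · intro c n
    obtain ⟨b, rfl⟩ := hφ c
    simp only [RingHom.id_apply]
    rw [← hcompat, g.map_smul, hQ]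
  · ext n
    simp
  · intro g' hg'
    ext n
    have := LinearMap.congr_fun hg' n
    simpa using this

include hφ hcompat in
/-- Finite presentation ascends along a surjective ring map with finitely generated kernel. -/
theorem fp_of_surjective_of_ker_fg (hker : (RingHom.ker φ).FG) [Module.FinitePresentation C N] :
    Module.FinitePresentation B N := by
  let _ : Algebra B C := φ.toAlgebra
  have htower : IsScalarTower B C N := by
    refine ⟨fun b c n => ?_⟩
    rw [hcompat, Algebra.smul_def, mul_smul]
    rfl
  have hC : Module.FinitePresentation B C := by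
    refine Module.finitePresentation_of_surjective (Algebra.linearMap B C) hφ ?_
    have : LinearMap.ker (Algebra.linearMap B C) = RingHom.ker φ := by
      ext x
      simp [RingHom.mem_ker]
      rfl
    rw [this]
    exact hker
  exact Module.FinitePresentation.trans B N C

end descend

section changePresentation

variable {R' A' : Type u} [CommRing R'] [CommRing A'] [Algebra R' A'] {n k : ℕ}
  (α' : MvPolynomial (Fin n) R' →ₐ[R'] A') (hα' : Function.Surjective α')
  (γ : MvPolynomial (Fin k) R' →ₐ[R'] A') (hγ : Function.Surjective γ)
  (N : Type u) [AddCommGroup N] [Module A' N]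
  [Module (MvPolynomial (Fin n) R') N] [Module (MvPolynomial (Fin k) R') N]
  (hP : ∀ (p : MvPolynomial (Fin n) R') (x : N), p • x = α' p • x)
  (hQ : ∀ (q : MvPolynomial (Fin k) R') (x : N), q • x = γ q • x)

include hα' hγ hP hQ in
/-- Finite presentation relative to the base does not depend on the chosen presentation. -/
theorem fp_change_presentation [Module.FinitePresentation (MvPolynomial (Fin n) R') N] :
    Module.FinitePresentation (MvPolynomial (Fin k) R') N := by
  choose g hg using fun j => hα' (γ (X j))
  choose h hh using fun i => hγ (α' (X i))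
  let φ : MvPolynomial (Fin n ⊕ Fin k) R' →ₐ[R'] MvPolynomial (Fin n) R' := aeval (Sum.elim X g)
  let ψ : MvPolynomial (Fin n ⊕ Fin k) R' →ₐ[R'] MvPolynomial (Fin k) R' := aeval (Sum.elim h X)
  have hcomm : α'.comp φ = γ.comp ψ := by
    apply MvPolynomial.algHom_ext
    intro i
    cases i with
    | inl i => simp [φ, ψ, hh]
    | inr j => simp [φ, ψ, hg]
  have hφ : Function.Surjective φ := by
    intro p
    refine ⟨rename Sum.inl p, ?_⟩
    simp only [φ, aeval_rename]
    have : (Sum.elim X g ∘ Sum.inl : Fin n → MvPolynomial (Fin n) R') = X := by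
      ext i; simp
    rw [this, aeval_X_left]
    rfl
  have hψ : Function.Surjective ψ := by
    intro p
    refine ⟨rename Sum.inr p, ?_⟩
    simp only [ψ, aeval_rename]
    have : (Sum.elim h X ∘ Sum.inr : Fin k → MvPolynomial (Fin k) R') = X := by
      ext i; simp
    rw [this, aeval_X_left]
    rfl
  have hker : (RingHom.ker φ.toRingHom).FG :=
    Algebra.FinitePresentation.ker_fG_of_surjective φ hφ
  let _ : Module (MvPolynomial (Fin n ⊕ Fin k) R') N :=
    Module.compHom N (α'.toRingHom.comp φ.toRingHom)
  have hB : Module.FinitePresentation (MvPolynomial (Fin n ⊕ Fin k) R') N := by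
    refine fp_of_surjective_of_ker_fg φ.toRingHom hφ N ?_ hker
    intro b x
    rw [hP]
    rfl
  refine fp_of_surjective_of_fp ψ.toRingHom hψ N ?_
  intro b x
  rw [hQ]
  have : α' (φ b) = γ (ψ b) := AlgHom.congr_fun hcomm b
  change α' (φ b) • x = γ (ψ b) • x
  rw [this]

end changePresentation

end Groth.Agent.Lib.Helper94
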