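import Mathlib
import Groth.Agent.Lib.Helper77.Unmixed

/-!
# Complete intersections over a field: local algebra (helper94)

Core facts for Stacks 10.135: in a Cohen–Macaulay local ring, elements cutting the dimension down by
their number form a regular sequence; dimension count for `P_{q'} / I P_{q'}`.
-/

set_option autoImplicit false

namespace Groth.Agent.Lib.Helper94.CIField

open IsLocalRing RingTheory.Sequence

universe u

/-- In a Cohen–Macaulay local ring, elements of the maximal ideal that cut the dimension down by
their number form a regular sequence. -/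
theorem isRegular_of_ringKrullDim_quotient (R : Type u) [CommRing R]
    [LocCoh.IsCohenMacaulayLocalRing R] (rs : List R) (hmem : ∀ r ∈ rs, r ∈ maximalIdeal R)
    (hdim : ringKrullDim (R ⧸ Ideal.ofList rs) + rs.length = ringKrullDim R) :
    IsRegular R rs := by
  refine IsRegular.of_isWeaklyRegular_of_mem_maximalIdeal R hmem ?_
  have hCM : LocCoh.IsCohenMacaulayModule R R := LocCoh.IsCohenMacaulayLocalRing.supportDim_eq_depth
  refine Groth.Agent.Lib.Helper67.isWeaklyRegular_of_supportDim_of_CM rs R hCM hmem ?_
  have eq : Ideal.ofList rs = Ideal.ofList rs • (⊤ : Ideal R) := by simp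
  rw [ringKrullDim_eq_of_ringEquiv (Ideal.quotientEquivAlgOfEq R eq).toRingEquiv,
    ← Module.supportDim_quotient_eq_ringKrullDim, ← Module.supportDim_self_eq_ringKrullDim] at hdim
  exact hdim

theorem ofList_ofFn {R : Type*} [CommRing R] {c : ℕ} (f : Fin c → R) :
    Ideal.ofList (List.ofFn f) = Ideal.span (Set.range f) := by
  unfold Ideal.ofList
  congr 1
  ext x
  simp [List.mem_ofFn]

/-- The quotient of a localization at a prime `q'` of `P` by the extension of `I ≤ q'` is the
localization of `P ⧸ I` at the image of `q'`. -/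
theorem isLocalization_quotient_atPrime {P : Type*} [CommRing P] (I : Ideal P) (q : Ideal (P ⧸ I))
    [q.IsPrime] (R : Type*) [CommRing R] [Algebra P R]
    [IsLocalization.AtPrime R (q.comap (Ideal.Quotient.mk I))] :
    IsLocalization.AtPrime (R ⧸ I.map (algebraMap P R)) q := by
  have h : IsLocalization (Algebra.algebraMapSubmonoid (P ⧸ I) (q.comap (Ideal.Quotient.mk I)).primeCompl)
      (R ⧸ I.map (algebraMap P R)) := inferInstance
  have heq : Algebra.algebraMapSubmonoid (P ⧸ I) (q.comap (Ideal.Quotient.mk I)).primeCompl =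
      q.primeCompl := by
    ext x
    constructor
    · rintro ⟨y, hy, rfl⟩
      exact hy
    · intro hx
      obtain ⟨y, rfl⟩ := Ideal.Quotient.mk_surjective x
      exact ⟨y, hx, rfl⟩
  rw [heq] at h
  exact h

/-- Dimension count for the local ring of `P ⧸ I` at `q` inside the local ring of `P` at `q'`. -/
theorem ringKrullDim_quotient_add {P : Type*} [CommRing P] (I : Ideal P) (q : Ideal (P ⧸ I))
    [q.IsPrime] (R : Type*) [CommRing R] [Algebra P R]
    [IsLocalization.AtPrime R (q.comap (Ideal.Quotient.mk I))] (c : ℕ)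
    (hc : (c : ℕ∞) + q.height = (q.comap (Ideal.Quotient.mk I)).height) :
    ringKrullDim (R ⧸ I.map (algebraMap P R)) + c = ringKrullDim R := by
  haveI := isLocalization_quotient_atPrime I q R
  rw [IsLocalization.AtPrime.ringKrullDim_eq_height q (R ⧸ I.map (algebraMap P R)),
    IsLocalization.AtPrime.ringKrullDim_eq_height (q.comap (Ideal.Quotient.mk I)) R, ← hc]
  push_cast
  rw [add_comm]

theorem map_le_maximalIdeal {P : Type*} [CommRing P] (I : Ideal P) (q : Ideal (P ⧸ I))
    [q.IsPrime] (R : Type*) [CommRing R] [Algebra P R] [IsLocalRing R]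
    [IsLocalization.AtPrime R (q.comap (Ideal.Quotient.mk I))] :
    I.map (algebraMap P R) ≤ maximalIdeal R := by
  rw [← IsLocalization.AtPrime.map_eq_maximalIdeal (q.comap (Ideal.Quotient.mk I)) R]
  apply Ideal.map_mono
  intro x hx
  rw [Ideal.mem_comap, Ideal.Quotient.eq_zero_iff_mem.mpr hx]
  exact q.zero_mem

/-- Nakayama: generators modulo the maximal ideal generate. -/
theorem span_eq_of_sup_mul_eq {R : Type*} [CommRing R] [IsLocalRing R] [IsNoetherianRing R]
    (J : Ideal R) (s : Set R) (hs : s ⊆ J) (hgen : Ideal.span s ⊔ maximalIdeal R * J = J) :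
    Ideal.span s = J := by
  apply le_antisymm (Ideal.span_le.mpr hs)
  apply Submodule.le_of_le_smul_of_le_jacobson_bot (I := maximalIdeal R) (IsNoetherian.noetherian J)
    (IsLocalRing.jacobson_eq_maximalIdeal _ bot_ne_top).ge
  rw [smul_eq_mul]
  exact hgen.ge

/-- In the (Cohen–Macaulay) local ring `R = P_{q'}`, any `c = ht q' - ht q` elements generating
the extension of `I` form a regular sequence. -/
theorem isRegular_of_span_eq {P : Type u} [CommRing P] (I : Ideal P) (q : Ideal (P ⧸ I))
    [q.IsPrime] (R : Type u) [CommRing R] [Algebra P R] [LocCoh.IsCohenMacaulayLocalRing R]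
    [IsLocalization.AtPrime R (q.comap (Ideal.Quotient.mk I))] (c : ℕ)
    (hc : (c : ℕ∞) + q.height = (q.comap (Ideal.Quotient.mk I)).height)
    (f : Fin c → R) (hf : Ideal.span (Set.range f) = I.map (algebraMap P R)) :
    IsRegular R (List.ofFn f) := by
  apply isRegular_of_ringKrullDim_quotient
  · intro r hr
    rw [List.mem_ofFn] at hr
    obtain ⟨i, rfl⟩ := hr
    apply map_le_maximalIdeal I q R
    rw [← hf]
    exact Ideal.subset_span ⟨i, rfl⟩
  · rw [ofList_ofFn, hf, List.length_ofFn]
    exact ringKrullDim_quotient_add I q R c hc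


/-- The local ring of a polynomial ring over a field at a prime is Cohen–Macaulay. -/
instance isCohenMacaulayLocalRing_mvPolynomial_atPrime (k : Type u) [Field k] (n : ℕ)
    (q' : Ideal (MvPolynomial (Fin n) k)) [q'.IsPrime] :
    LocCoh.IsCohenMacaulayLocalRing (Localization.AtPrime q') :=
  Groth.Agent.Lib.Helper77.RegularCM.isCohenMacaulayLocalRing _

end Groth.Agent.Lib.Helper94.CIField
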