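import Mathlib
import Groth.Prelude.Def_CInt
import Groth.Agent.Lib.Helper94.CIField
import Groth.Agent.Lib.Helper76.RegularLocal
import Groth.Agent.Lib.Helper77.RegularCM

/-!
# Ideals generated by regular sequences in Cohen–Macaulay / regular local rings (helper94)

* `isRegularIdeal_iff_dim`: in a CM local ring `R`, an ideal `K ≤ m` is generated by a regular
  sequence iff `dim R/K + μ(K) = dim R`.
* `isRegularIdeal_iff_quotient`: Stacks 10.135.6 (`A → A/J → A/K` with `A`, `A/J` regular).
-/

set_option autoImplicit false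

namespace Groth.Agent.Lib.Helper94.CILocal

open IsLocalRing RingTheory.Sequence

universe u

theorem exists_nat_ringKrullDim (R : Type*) [CommRing R] [IsLocalRing R] [IsNoetherianRing R] :
    ∃ e : ℕ, ringKrullDim R = e := by
  have hd' : ringKrullDim R ≠ ⊥ := ringKrullDim_ne_bot
  have hd'' : ringKrullDim R ≠ ⊤ := ringKrullDim_ne_top
  cases h : ringKrullDim R with
  | bot => exact absurd h hd'
  | coe a =>
    cases a with
    | top => exact absurd h hd''
    | coe n => exact ⟨n, rfl⟩

theorem quot_isLocalRing {R : Type*} [CommRing R] [IsLocalRing R] (K : Ideal R)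
    (hK : K ≤ maximalIdeal R) : IsLocalRing (R ⧸ K) := by
  have : Nontrivial (R ⧸ K) := by
    rw [Ideal.Quotient.nontrivial_iff]
    rintro rfl
    exact (maximalIdeal.isMaximal R).ne_top (top_le_iff.mp hK)
  exact IsLocalRing.of_surjective' (Ideal.Quotient.mk K) Ideal.Quotient.mk_surjective

theorem mk_mem_maximalIdeal_iff {A : Type*} [CommRing A] [IsLocalRing A] (I : Ideal A)
    [IsLocalRing (A ⧸ I)] (a : A) :
    Ideal.Quotient.mk I a ∈ maximalIdeal (A ⧸ I) ↔ a ∈ maximalIdeal A := by
  have hlh : IsLocalHom (Ideal.Quotient.mk I) :=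
    IsLocalHom.of_surjective _ Ideal.Quotient.mk_surjective
  rw [mem_maximalIdeal, mem_maximalIdeal, mem_nonunits_iff, mem_nonunits_iff,
    isUnit_map_iff (Ideal.Quotient.mk I) a]

/-- In a CM local ring, `K ≤ m` is generated by a regular sequence iff
`dim R/K + μ(K) = dim R`. -/
theorem isRegularIdeal_iff_dim (R : Type u) [CommRing R] [LocCoh.IsCohenMacaulayLocalRing R]
    (K : Ideal R) (hK : K ≤ maximalIdeal R) :
    CInt.IsRegularIdeal K ↔ ringKrullDim (R ⧸ K) + K.spanFinrank = ringKrullDim R := by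
  classical
  have hloc := quot_isLocalRing K hK
  obtain ⟨e, he⟩ := exists_nat_ringKrullDim (R ⧸ K)
  obtain ⟨d, hd⟩ := exists_nat_ringKrullDim R
  have h3 := ringKrullDim_le_ringKrullDim_quotient_add_spanFinrank K
    (by rw [ringJacobson_eq_maximalIdeal]; exact hK)
  constructor
  · rintro ⟨rs, hrs, rfl⟩
    have h1 := ringKrullDim_add_length_eq_ringKrullDim_of_isRegular rs hrs
    have h2 : (Ideal.ofList rs).spanFinrank ≤ rs.length := by
      have hfin : {r | r ∈ rs}.Finite := List.finite_toSet rs
      refine le_trans (Submodule.spanFinrank_span_le_ncard_of_finite hfin) ?_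
      have : {r | r ∈ rs} = (rs.toFinset : Set R) := by ext; simp
      rw [this, Set.ncard_coe_finset]
      exact List.toFinset_card_le rs
    rw [he, hd] at h1 h3 ⊢
    have h1' : e + rs.length = d := by exact_mod_cast h1
    have h3' : d ≤ e + (Ideal.ofList rs).spanFinrank := by exact_mod_cast h3
    have : e + (Ideal.ofList rs).spanFinrank = d := by omega
    exact_mod_cast this
  · intro h
    obtain ⟨s, hs, hspan⟩ := Submodule.FG.exists_span_finset_card_eq_spanFinrank
      (IsNoetherian.noetherian K)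
    have hof : Ideal.ofList s.toList = K := by
      rw [← hspan]
      unfold Ideal.ofList
      congr 1
      ext x
      simp
    refine ⟨s.toList, ?_, hof⟩
    apply Groth.Agent.Lib.Helper94.CIField.isRegular_of_ringKrullDim_quotient
    · intro r hr
      apply hK
      rw [← hspan]
      exact Ideal.subset_span (by simpa using hr)
    · rw [hof, Finset.length_toList, hs]
      exact h

/-- Transport of "generated by a regular sequence" along a ring isomorphism. -/
theorem isRegularIdeal_map_ringEquiv {A B : Type u} [CommRing A] [CommRing B] (e : A ≃+* B)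
    (K : Ideal A) (h : CInt.IsRegularIdeal K) : CInt.IsRegularIdeal (K.map (e : A →+* B)) := by
  obtain ⟨rs, hrs, rfl⟩ := h
  refine ⟨rs.map e, ?_, ?_⟩
  · exact ((e.toAddEquiv).isRegular_congr <| List.forall₂_map_right_iff.mpr <|
      List.forall₂_same.mpr fun r _ x => map_mul e r x).mp hrs
  · rw [Ideal.map_ofList]
    rfl

theorem isRegularIdeal_map_ringEquiv_iff {A B : Type u} [CommRing A] [CommRing B] (e : A ≃+* B)
    (K : Ideal A) : CInt.IsRegularIdeal (K.map (e : A →+* B)) ↔ CInt.IsRegularIdeal K := by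
  refine ⟨fun h => ?_, isRegularIdeal_map_ringEquiv e K⟩
  have := isRegularIdeal_map_ringEquiv e.symm _ h
  rwa [Ideal.map_map, RingEquiv.symm_comp, Ideal.map_id] at this



/-- lifting a finite generating set of `K.map mk` and adding `x` generates `K`. -/
theorem spanFinrank_le_map_add_one {A : Type*} [CommRing A] [IsNoetherianRing A] (x : A)
    (K : Ideal A) (hx : x ∈ K) :
    K.spanFinrank ≤ (K.map (Ideal.Quotient.mk (Ideal.span {x}))).spanFinrank + 1 := by
  classical
  set π := Ideal.Quotient.mk (Ideal.span ({x} : Set A)) with hπ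
  obtain ⟨s', hs', hspan'⟩ := Submodule.FG.exists_span_finset_card_eq_spanFinrank
    (IsNoetherian.noetherian (K.map π))
  have hlift : ∀ y' : s', ∃ y : A, y ∈ K ∧ π y = y' := by
    intro y'
    have : (y' : A ⧸ Ideal.span {x}) ∈ K.map π := by
      rw [← hspan']; exact Submodule.subset_span y'.2
    exact (Ideal.mem_map_iff_of_surjective π Ideal.Quotient.mk_surjective).mp this
  choose l hlK hl using hlift
  let t : Finset A := Finset.univ.image l
  have htK : (t : Set A) ⊆ K := by
    intro y hy
    simp only [t, Finset.coe_image, Finset.coe_univ, Set.image_univ, Set.mem_range] at hy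
    obtain ⟨y', rfl⟩ := hy
    exact hlK y'
  have hKspan : K = Ideal.span (insert x (t : Set A)) := by
    apply le_antisymm
    · intro a ha
      have h1 : π a ∈ (Ideal.span (t : Set A)).map π := by
        rw [Ideal.map_span]
        have : π '' (t : Set A) = (s' : Set (A ⧸ Ideal.span {x})) := by
          ext z
          simp only [t, Finset.coe_image, Finset.coe_univ, Set.image_univ, Set.mem_image,
            Set.mem_range, Finset.mem_coe]
          constructor
          · rintro ⟨_, ⟨y', rfl⟩, rfl⟩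
            rw [hl]; exact y'.2
          · intro hz
            exact ⟨l ⟨z, hz⟩, ⟨⟨z, hz⟩, rfl⟩, hl ⟨z, hz⟩⟩
        rw [this]
        have h2 : π a ∈ K.map π := Ideal.mem_map_of_mem _ ha
        rw [← hspan'] at h2
        exact h2
      obtain ⟨b, hb, hba⟩ := (Ideal.mem_map_iff_of_surjective π Ideal.Quotient.mk_surjective).mp h1
      have h2 : a - b ∈ Ideal.span ({x} : Set A) := by
        rw [← Ideal.Quotient.eq_zero_iff_mem, map_sub, hba, sub_self]
      have : a = (a - b) + b := by ring
      rw [this]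
      refine Ideal.add_mem _ ?_ ?_
      · exact Ideal.span_mono (by simp) h2
      · exact Ideal.span_mono (Set.subset_insert _ _) hb
    · rw [Ideal.span_le]
      intro y hy
      rcases hy with rfl | hy
      · exact hx
      · exact htK hy
  have h1 : K.spanFinrank ≤ (insert x (t : Set A)).ncard := by
    conv_lhs => rw [hKspan]
    exact Submodule.spanFinrank_span_le_ncard_of_finite ((Finset.finite_toSet t).insert x)
  have h2 : (insert x (t : Set A)).ncard ≤ t.card + 1 := by
    have := Set.ncard_insert_le x (t : Set A)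
    rwa [Set.ncard_coe_finset] at this
  have h3 : t.card ≤ s'.card := by
    refine le_trans Finset.card_image_le ?_
    simp
  omega

/-- If `x ∈ K`, `x ∉ m²`, then `K/(x)` needs one generator less. -/
theorem spanFinrank_map_add_one_le {A : Type*} [CommRing A] [IsLocalRing A] [IsNoetherianRing A]
    (x : A) (K : Ideal A) (hx : x ∈ K) (hK : K ≤ maximalIdeal A) (hx2 : x ∉ maximalIdeal A ^ 2) :
    (K.map (Ideal.Quotient.mk (Ideal.span {x}))).spanFinrank + 1 ≤ K.spanFinrank := by
  classical
  set π := Ideal.Quotient.mk (Ideal.span ({x} : Set A)) with hπ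
  obtain ⟨s, hs, hspan⟩ := Submodule.FG.exists_span_finset_card_eq_spanFinrank
    (IsNoetherian.noetherian K)
  have hxs : x ∈ Submodule.span A (s : Set A) := by rw [hspan]; exact hx
  rw [Submodule.mem_span_finset] at hxs
  obtain ⟨f, -, hf⟩ := hxs
  have hex : ∃ z₀ ∈ s, f z₀ ∉ maximalIdeal A := by
    by_contra hcon
    push Not at hcon
    apply hx2
    rw [← hf, pow_two]
    refine Ideal.sum_mem _ fun z hz => ?_
    rw [smul_eq_mul]
    refine Ideal.mul_mem_mul (hcon z hz) (hK ?_)
    rw [← hspan]
    exact Submodule.subset_span hz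
  obtain ⟨z₀, hz₀, hfz₀⟩ := hex
  have hunit : IsUnit (f z₀) := by
    by_contra h
    exact hfz₀ ((mem_maximalIdeal _).mpr h)
  have hK' : K.map π = Ideal.span (π '' ((s.erase z₀ : Finset A) : Set A)) := by
    apply le_antisymm
    · have h0 : K = Ideal.span (s : Set A) := hspan.symm
      rw [h0, Ideal.map_span, Ideal.span_le]
      rintro _ ⟨z, hz, rfl⟩
      by_cases hzz : z = z₀
      · subst hzz
        have hsum : π (∑ a ∈ s, f a • a) = 0 := by
          rw [hf, Ideal.Quotient.eq_zero_iff_mem]
          exact Ideal.subset_span rfl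
        rw [← Finset.add_sum_erase s _ hz₀, map_add, smul_eq_mul, map_mul] at hsum
        have h3 : π z = - (↑(hunit.map π).unit⁻¹ : A ⧸ Ideal.span {x}) *
            π (∑ a ∈ s.erase z, f a • a) := by
          have h4 : π (f z) * π z = - π (∑ a ∈ s.erase z, f a • a) := eq_neg_of_add_eq_zero_left hsum
          have h5 : (↑(hunit.map π).unit⁻¹ : A ⧸ Ideal.span {x}) * π (f z) = 1 := by
            rw [Units.inv_mul_eq_one]; rfl
          calc π z = (↑(hunit.map π).unit⁻¹ * π (f z)) * π z := by rw [h5, one_mul]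
            _ = ↑(hunit.map π).unit⁻¹ * (π (f z) * π z) := by ring
            _ = _ := by rw [h4]; ring
        rw [SetLike.mem_coe, h3]
        refine Ideal.mul_mem_left _ _ ?_
        rw [map_sum]
        refine Ideal.sum_mem _ fun a ha => ?_
        rw [smul_eq_mul, map_mul]
        exact Ideal.mul_mem_left _ _ (Ideal.subset_span ⟨a, ha, rfl⟩)
      · exact Ideal.subset_span ⟨z, Finset.mem_coe.mpr (Finset.mem_erase.mpr ⟨hzz, hz⟩), rfl⟩
    · rw [Ideal.span_le]
      rintro _ ⟨z, hz, rfl⟩
      refine Ideal.mem_map_of_mem _ ?_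
      rw [← hspan]
      exact Submodule.subset_span (Finset.mem_of_mem_erase hz)
  have h1 : (K.map π).spanFinrank ≤ (π '' ((s.erase z₀ : Finset A) : Set A)).ncard := by
    conv_lhs => rw [hK']
    exact Submodule.spanFinrank_span_le_ncard_of_finite ((Finset.finite_toSet _).image _)
  have h2 : (π '' ((s.erase z₀ : Finset A) : Set A)).ncard ≤ (s.erase z₀).card := by
    have := Set.ncard_image_le (f := π) (Finset.finite_toSet (s.erase z₀))
    rwa [Set.ncard_coe_finset] at this
  have h3 : (s.erase z₀).card + 1 = s.card := Finset.card_erase_add_one hz₀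
  omega



instance (priority := 50) isCM_of_isRegularLocalRing (A : Type u) [CommRing A]
    [IsRegularLocalRing A] : LocCoh.IsCohenMacaulayLocalRing A :=
  Groth.Agent.Lib.Helper77.RegularCM.isCohenMacaulayLocalRing A

theorem map_mk_le_maximalIdeal {A : Type*} [CommRing A] [IsLocalRing A] (J K : Ideal A)
    (hK : K ≤ maximalIdeal A) [IsLocalRing (A ⧸ J)] :
    K.map (Ideal.Quotient.mk J) ≤ maximalIdeal (A ⧸ J) := by
  rw [Ideal.map_le_iff_le_comap]
  intro a ha
  exact (mk_mem_maximalIdeal_iff J a).mpr (hK ha)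

/-- One step: quotient by an element of `m \ m²` lying in `K`. -/
theorem isRegularIdeal_iff_quotient_singleton (A : Type u) [CommRing A] [IsRegularLocalRing A]
    (x : A) (K : Ideal A) (hx : x ∈ K) (hK : K ≤ maximalIdeal A) (hx2 : x ∉ maximalIdeal A ^ 2) :
    CInt.IsRegularIdeal K ↔
      CInt.IsRegularIdeal (K.map (Ideal.Quotient.mk (Ideal.span {x}))) := by
  obtain ⟨hreg', hdim⟩ :=
    Groth.Agent.Lib.Helper76.isRegularLocalRing_quotient_of_notMem_sq A x (hK hx) hx2
  have hxK : Ideal.span {x} ≤ K := by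
    rw [Ideal.span_le, Set.singleton_subset_iff]; exact hx
  have hK' := map_mk_le_maximalIdeal (Ideal.span {x}) K hK
  rw [isRegularIdeal_iff_dim A K hK, isRegularIdeal_iff_dim _ _ hK']
  have e1 : ringKrullDim ((A ⧸ Ideal.span {x}) ⧸ K.map (Ideal.Quotient.mk (Ideal.span {x}))) =
      ringKrullDim (A ⧸ K) :=
    ringKrullDim_eq_of_ringEquiv (DoubleQuot.quotQuotEquivQuotOfLE hxK)
  rw [e1]
  have hloc := quot_isLocalRing K hK
  obtain ⟨e, he⟩ := exists_nat_ringKrullDim (A ⧸ K)
  obtain ⟨d, hd⟩ := exists_nat_ringKrullDim A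
  obtain ⟨d', hd'⟩ := exists_nat_ringKrullDim (A ⧸ Ideal.span {x})
  have h3 := ringKrullDim_le_ringKrullDim_quotient_add_spanFinrank K
    (by rw [ringJacobson_eq_maximalIdeal]; exact hK)
  have h3' := ringKrullDim_le_ringKrullDim_quotient_add_spanFinrank
    (K.map (Ideal.Quotient.mk (Ideal.span {x})))
    (by rw [ringJacobson_eq_maximalIdeal]; exact hK')
  rw [e1] at h3'
  have hle1 := spanFinrank_le_map_add_one x K hx
  have hle2 := spanFinrank_map_add_one_le x K hx hK hx2
  rw [he, hd] at h3
  rw [he, hd'] at h3'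
  rw [he, hd, hd']
  rw [hd, hd'] at hdim
  have hdim' : d' + 1 = d := by exact_mod_cast hdim
  have h3n : d ≤ e + K.spanFinrank := by exact_mod_cast h3
  have h3n' : d' ≤ e + (K.map (Ideal.Quotient.mk (Ideal.span {x}))).spanFinrank := by
    exact_mod_cast h3'
  constructor
  · intro h
    have hn : e + K.spanFinrank = d := by exact_mod_cast h
    have : e + (K.map (Ideal.Quotient.mk (Ideal.span {x}))).spanFinrank = d' := by omega
    exact_mod_cast this
  · intro h
    have hn : e + (K.map (Ideal.Quotient.mk (Ideal.span {x}))).spanFinrank = d' := by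
      exact_mod_cast h
    have : e + K.spanFinrank = d := by omega
    exact_mod_cast this

/-- If `A`, `A/J` are regular local with `dim A/J < dim A`, then `J ⊄ m²`. -/
theorem exists_mem_notMem_sq (A : Type u) [CommRing A] [IsRegularLocalRing A] (J : Ideal A)
    (hAJ : IsRegularLocalRing (A ⧸ J))
    (hdim : ringKrullDim (A ⧸ J) < ringKrullDim A) : ∃ x ∈ J, x ∉ maximalIdeal A ^ 2 := by
  classical
  by_contra hcon
  push Not at hcon
  have hJ2 : J ≤ maximalIdeal A ^ 2 := fun x hx => hcon x hx
  set π := Ideal.Quotient.mk J with hπ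
  obtain ⟨s', hs', hspan'⟩ := Submodule.FG.exists_span_finset_card_eq_spanFinrank
    (IsNoetherian.noetherian (maximalIdeal (A ⧸ J)))
  have hlift : ∀ y' : s', ∃ y : A, π y = y' := fun y' => Ideal.Quotient.mk_surjective _
  choose l hl using hlift
  let t : Finset A := Finset.univ.image l
  have hπt : π '' (t : Set A) = (s' : Set (A ⧸ J)) := by
    ext z
    simp only [t, Finset.coe_image, Finset.coe_univ, Set.image_univ, Set.mem_image,
      Set.mem_range, Finset.mem_coe]
    constructor
    · rintro ⟨_, ⟨y', rfl⟩, rfl⟩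
      rw [hl]; exact y'.2
    · intro hz
      exact ⟨l ⟨z, hz⟩, ⟨⟨z, hz⟩, rfl⟩, hl ⟨z, hz⟩⟩
  have hle : maximalIdeal A ≤ Ideal.span (t : Set A) ⊔ maximalIdeal A • maximalIdeal A := by
    intro a ha
    have h1 : π a ∈ (Ideal.span (t : Set A)).map π := by
      rw [Ideal.map_span, hπt]
      have : π a ∈ maximalIdeal (A ⧸ J) := (mk_mem_maximalIdeal_iff J a).mpr ha
      rw [← hspan'] at this
      exact this
    obtain ⟨b, hb, hba⟩ := (Ideal.mem_map_iff_of_surjective π Ideal.Quotient.mk_surjective).mp h1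
    have h2 : a - b ∈ J := by
      rw [← Ideal.Quotient.eq_zero_iff_mem, map_sub, hba, sub_self]
    have : a = b + (a - b) := by ring
    rw [this]
    refine Ideal.add_mem _ (Ideal.mem_sup_left hb) (Ideal.mem_sup_right ?_)
    rw [smul_eq_mul, ← pow_two]
    exact hJ2 h2
  have hle' : maximalIdeal A ≤ Ideal.span (t : Set A) :=
    Submodule.le_of_le_smul_of_le_jacobson_bot (IsNoetherian.noetherian _)
      (IsLocalRing.jacobson_eq_maximalIdeal _ bot_ne_top).ge hle
  have ht_sub : Ideal.span (t : Set A) ≤ maximalIdeal A := by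
    rw [Ideal.span_le]
    intro y hy
    rw [SetLike.mem_coe, ← mk_mem_maximalIdeal_iff J, ← hspan']
    apply Submodule.subset_span
    rw [← hπt]
    exact ⟨y, hy, rfl⟩
  have heq : maximalIdeal A = Ideal.span (t : Set A) := le_antisymm hle' ht_sub
  have h1 : (maximalIdeal A).spanFinrank ≤ t.card := by
    conv_lhs => rw [heq]
    have := Submodule.spanFinrank_span_le_ncard_of_finite (R := A) (Finset.finite_toSet t)
    rwa [Set.ncard_coe_finset] at this
  have h2 : t.card ≤ s'.card := by
    refine le_trans Finset.card_image_le ?_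
    simp
  have h3 : ((maximalIdeal A).spanFinrank : WithBot ℕ∞) = ringKrullDim A :=
    IsRegularLocalRing.spanFinrank_maximalIdeal
  have h4 : ((maximalIdeal (A ⧸ J)).spanFinrank : WithBot ℕ∞) = ringKrullDim (A ⧸ J) :=
    IsRegularLocalRing.spanFinrank_maximalIdeal
  rw [← h3, ← h4] at hdim
  have : (maximalIdeal (A ⧸ J)).spanFinrank < (maximalIdeal A).spanFinrank := by
    exact_mod_cast hdim
  omega



/-- A quotient of a regular local ring of the same dimension is the ring itself. -/
theorem eq_bot_of_ringKrullDim_eq (A : Type u) [CommRing A] [IsRegularLocalRing A] (J : Ideal A)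
    (hAJ : IsRegularLocalRing (A ⧸ J)) (hdim : ringKrullDim A = ringKrullDim (A ⧸ J)) :
    J = ⊥ := by
  have hdom : IsDomain A := Groth.Agent.Lib.Helper76.isDomain_of_isRegularLocalRing A
  by_contra hne
  obtain ⟨x, hxJ, hx0⟩ := Submodule.exists_mem_ne_zero_of_ne_bot hne
  have h1 : ringKrullDim (A ⧸ Ideal.span {x}) + 1 ≤ ringKrullDim A :=
    ringKrullDim_quotient_succ_le_of_nonZeroDivisor (mem_nonZeroDivisors_of_ne_zero hx0)
  have hle : Ideal.span {x} ≤ J := by
    rw [Ideal.span_le, Set.singleton_subset_iff]; exact hxJ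
  have h2 : ringKrullDim (A ⧸ J) ≤ ringKrullDim (A ⧸ Ideal.span {x}) :=
    ringKrullDim_le_of_surjective (Ideal.Quotient.factor hle) (Ideal.Quotient.factor_surjective hle)
  obtain ⟨d, hd⟩ := exists_nat_ringKrullDim A
  obtain ⟨e, he⟩ := exists_nat_ringKrullDim (A ⧸ J)
  have hxm : x ∈ maximalIdeal A := by
    have : J ≤ maximalIdeal A := le_maximalIdeal (by
      rintro rfl
      have : Nontrivial (A ⧸ (⊤ : Ideal A)) := inferInstance
      exact (Ideal.Quotient.nontrivial_iff.mp this) rfl)
    exact this hxJ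
  have hloc := quot_isLocalRing (Ideal.span {x}) (by
    rw [Ideal.span_le, Set.singleton_subset_iff]; exact hxm)
  obtain ⟨e', he'⟩ := exists_nat_ringKrullDim (A ⧸ Ideal.span {x})
  rw [hd, he'] at h1
  rw [he, he'] at h2
  rw [hd, he] at hdim
  have a1 : e' + 1 ≤ d := by exact_mod_cast h1
  have a2 : e ≤ e' := by exact_mod_cast h2
  have a3 : d = e := by exact_mod_cast hdim
  omega

theorem isRegularIdeal_iff_quotient_aux (r : ℕ) : ∀ (A : Type u) [CommRing A]
    [IsRegularLocalRing A] (J K : Ideal A), J ≤ K → K ≤ maximalIdeal A →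
    IsRegularLocalRing (A ⧸ J) → ringKrullDim A = ringKrullDim (A ⧸ J) + r →
    (CInt.IsRegularIdeal K ↔ CInt.IsRegularIdeal (K.map (Ideal.Quotient.mk J))) := by
  induction r with
  | zero =>
    intro A _ _ J K hJK hK hAJ hdim
    have hJ : J = ⊥ := eq_bot_of_ringKrullDim_eq A J hAJ (by simpa using hdim)
    subst hJ
    have : (Ideal.Quotient.mk (⊥ : Ideal A)) = ((RingEquiv.quotientBot A).symm : A →+* A ⧸ ⊥) := by
      ext a; rfl
    rw [this, isRegularIdeal_map_ringEquiv_iff]
  | succ r ih =>
    intro A _ _ J K hJK hK hAJ hdim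
    obtain ⟨d, hd⟩ := exists_nat_ringKrullDim A
    obtain ⟨e, he⟩ := exists_nat_ringKrullDim (A ⧸ J)
    have hlt : ringKrullDim (A ⧸ J) < ringKrullDim A := by
      rw [hdim, he]
      have : (e : WithBot ℕ∞) + ((r + 1 : ℕ) : WithBot ℕ∞) = ((e + r + 1 : ℕ) : WithBot ℕ∞) := by
        push_cast; ring
      rw [this]
      exact_mod_cast (by omega : e < e + r + 1)
    obtain ⟨x, hxJ, hx2⟩ := exists_mem_notMem_sq A J hAJ hlt
    have hxK : x ∈ K := hJK hxJ
    obtain ⟨hreg', hdim'⟩ :=
      Groth.Agent.Lib.Helper76.isRegularLocalRing_quotient_of_notMem_sq A x (hK hxK) hx2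
    rw [isRegularIdeal_iff_quotient_singleton A x K hxK hK hx2]
    have hxJ' : Ideal.span {x} ≤ J := by
      rw [Ideal.span_le, Set.singleton_subset_iff]; exact hxJ
    let e₁ : ((A ⧸ Ideal.span {x}) ⧸ J.map (Ideal.Quotient.mk (Ideal.span {x}))) ≃+* A ⧸ J :=
      DoubleQuot.quotQuotEquivQuotOfLE hxJ'
    have hAJ' : IsRegularLocalRing
        ((A ⧸ Ideal.span {x}) ⧸ J.map (Ideal.Quotient.mk (Ideal.span {x}))) :=
      IsRegularLocalRing.of_ringEquiv e₁.symm
    have hdim'' : ringKrullDim (A ⧸ Ideal.span {x}) =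
        ringKrullDim ((A ⧸ Ideal.span {x}) ⧸ J.map (Ideal.Quotient.mk (Ideal.span {x}))) + r := by
      rw [ringKrullDim_eq_of_ringEquiv e₁]
      obtain ⟨d', hd'⟩ := exists_nat_ringKrullDim (A ⧸ Ideal.span {x})
      rw [hd, hd'] at hdim'
      rw [hd, he] at hdim
      rw [hd', he]
      have a1 : d' + 1 = d := by exact_mod_cast hdim'
      have a2 : d = e + (r + 1) := by exact_mod_cast hdim
      have : d' = e + r := by omega
      exact_mod_cast this
    have hK' := map_mk_le_maximalIdeal (Ideal.span {x}) K hK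
    rw [ih (A ⧸ Ideal.span {x}) (J.map (Ideal.Quotient.mk (Ideal.span {x})))
      (K.map (Ideal.Quotient.mk (Ideal.span {x}))) (Ideal.map_mono hJK) hK' hAJ' hdim'']
    rw [← isRegularIdeal_map_ringEquiv_iff e₁]
    rw [Ideal.map_map, Ideal.map_map]
    have : ((e₁ : ((A ⧸ Ideal.span {x}) ⧸ J.map (Ideal.Quotient.mk (Ideal.span {x}))) →+* A ⧸ J).comp
        (Ideal.Quotient.mk _)).comp (Ideal.Quotient.mk _) = Ideal.Quotient.mk J := by
      ext a; rfl
    rw [this]

/-- Stacks 10.135.6: for `A`, `A/J` regular local and `J ≤ K ≤ m`, `K` is generated by a regular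
sequence iff `K/J` is. -/
theorem isRegularIdeal_iff_quotient (A : Type u) [CommRing A] [IsRegularLocalRing A]
    (J K : Ideal A) (hJK : J ≤ K) (hK : K ≤ maximalIdeal A) (hAJ : IsRegularLocalRing (A ⧸ J)) :
    CInt.IsRegularIdeal K ↔ CInt.IsRegularIdeal (K.map (Ideal.Quotient.mk J)) := by
  obtain ⟨d, hd⟩ := exists_nat_ringKrullDim A
  obtain ⟨e, he⟩ := exists_nat_ringKrullDim (A ⧸ J)
  have hle : ringKrullDim (A ⧸ J) ≤ ringKrullDim A :=
    ringKrullDim_le_of_surjective (Ideal.Quotient.mk J) Ideal.Quotient.mk_surjective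
  rw [hd, he] at hle
  have hle' : e ≤ d := by exact_mod_cast hle
  refine isRegularIdeal_iff_quotient_aux (d - e) A J K hJK hK hAJ ?_
  rw [hd, he]
  have : d = e + (d - e) := by omega
  exact_mod_cast this


end Groth.Agent.Lib.Helper94.CILocal
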