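import Mathlib
import Groth.Agent.Lib.Helper39.QRegSpread

/-!
# Spreading out regular sequences from a localization at a prime (Noetherian rings)
-/

set_option autoImplicit false
universe u

namespace Groth.Agent.Lib.Helper94.RegSpread

open RingTheory.Sequence Ideal Groth.Agent.Lib.Helper39.QSpread

/-- Elementwise form of weak regularity on the ring itself. -/
theorem isWeaklyRegular_iff_forall_mem {R : Type*} [CommRing R] (rs : List R) :
    IsWeaklyRegular R rs ↔ ∀ (i : ℕ) (h : i < rs.length) (x : R),
      rs[i] * x ∈ ofList (rs.take i) → x ∈ ofList (rs.take i) := by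
  rw [isWeaklyRegular_iff]
  refine forall_congr' fun i => forall_congr' fun h => ?_
  rw [isSMulRegular_quotient_iff_mem_of_smul_mem]
  simp only [smul_eq_mul, Ideal.mul_top]

theorem ofList_eq_of_forall₂_unit {R : Type*} [CommRing R] {rs rs' : List R}
    (h : List.Forall₂ (fun (r r' : R) => ∃ u : Rˣ, r' = (u : R) * r) rs rs') :
    ofList rs = ofList rs' := by
  induction h with
  | nil => rfl
  | @cons r r' l l' hr _ ih =>
    obtain ⟨u, rfl⟩ := hr
    rw [Ideal.ofList_cons, Ideal.ofList_cons, ih, Ideal.span_singleton_mul_left_unit u.isUnit]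

/-- Multiplying the members of a weakly regular sequence by units keeps it weakly regular. -/
theorem isWeaklyRegular_of_forall₂_unit {R : Type*} [CommRing R] {rs rs' : List R}
    (h : List.Forall₂ (fun (r r' : R) => ∃ u : Rˣ, r' = (u : R) * r) rs rs')
    (hreg : IsWeaklyRegular R rs) : IsWeaklyRegular R rs' := by
  rw [isWeaklyRegular_iff_forall_mem] at hreg ⊢
  intro i hi x hx
  have hlen := h.length_eq
  have hi' : i < rs.length := hlen ▸ hi
  have htake := ofList_eq_of_forall₂_unit (List.forall₂_take i h)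
  obtain ⟨u, hu⟩ := h.get hi' hi
  simp only [List.get_eq_getElem] at hu
  rw [← htake] at hx ⊢
  apply hreg i hi' x
  rw [hu, mul_assoc] at hx
  exact (Ideal.unit_mul_mem_iff_mem _ u.isUnit).mp hx

/-- If the extension of a finitely generated ideal `J` to the localization at `p` lies in the
extension of `I`, a single element outside `p` multiplies `J` into `I`. -/
theorem exists_notMem_mul_mem {A : Type*} [CommRing A] (p : Ideal A) [p.IsPrime]
    (Ap : Type*) [CommRing Ap] [Algebra A Ap] [IsLocalization.AtPrime Ap p]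
    (J : Ideal A) (hJ : J.FG) (I : Ideal A)
    (h : ∀ a ∈ J, algebraMap A Ap a ∈ I.map (algebraMap A Ap)) :
    ∃ s, s ∉ p ∧ ∀ a ∈ J, s * a ∈ I := by
  classical
  obtain ⟨T, rfl⟩ := hJ
  induction T using Finset.induction_on with
  | empty =>
    refine ⟨1, fun h1 => (Ideal.IsPrime.ne_top inferInstance) ((Ideal.eq_top_iff_one p).mpr h1), ?_⟩
    intro a ha
    simp only [Finset.coe_empty, Submodule.span_empty, Submodule.mem_bot] at ha
    rw [ha, mul_zero]
    exact I.zero_mem
  | insert t T' _ ih =>
    obtain ⟨s', hs', hs'I⟩ := ih (fun a ha => h a (by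
      refine Submodule.span_mono ?_ ha
      simp))
    have ht : algebraMap A Ap t ∈ I.map (algebraMap A Ap) :=
      h t (Submodule.subset_span (by simp))
    rw [IsLocalization.algebraMap_mem_map_algebraMap_iff p.primeCompl] at ht
    obtain ⟨m, hm, hmt⟩ := ht
    refine ⟨m * s', ?_, ?_⟩
    · exact fun hmem => (Ideal.IsPrime.mem_or_mem inferInstance hmem).elim hm hs'
    · intro a ha
      rw [Finset.coe_insert] at ha
      change a ∈ Ideal.span _ at ha
      rw [Ideal.mem_span_insert] at ha
      obtain ⟨c, b, hb, rfl⟩ := ha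
      have h1 : m * s' * (c * t + b) = (c * s') * (m * t) + m * (s' * b) := by ring
      rw [h1]
      exact I.add_mem (I.mul_mem_left _ hmt) (I.mul_mem_left _ (hs'I b hb))

/-- Spreading out weak regularity: if `bs` becomes weakly regular in the localization at `p` of a
Noetherian ring, there is `g ∉ p` which is "good" for `bs` (so that `bs` is weakly regular in
`A_g`). -/
theorem exists_goodL {A : Type u} [CommRing A] [IsNoetherianRing A] (p : Ideal A) [p.IsPrime]
    (Ap : Type*) [CommRing Ap] [Algebra A Ap] [IsLocalization.AtPrime Ap p] (bs : List A)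
    (h : IsWeaklyRegular Ap (bs.map (algebraMap A Ap))) :
    ∃ g, g ∉ p ∧ GoodL bs g := by
  classical
  rw [isWeaklyRegular_iff_forall_mem] at h
  have key : ∀ i : Fin bs.length, ∃ g, g ∉ p ∧ ∀ a : A,
      bs[i.1] * a ∈ ofList (bs.take i.1) → g * a ∈ ofList (bs.take i.1) := by
    intro i
    let J : Ideal A := Submodule.comap (LinearMap.mulLeft A bs[i.1]) (ofList (bs.take i.1))
    have hJ : J.FG := IsNoetherian.noetherian J
    obtain ⟨s, hs, hsJ⟩ := exists_notMem_mul_mem p Ap J hJ (ofList (bs.take i.1)) (by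
      intro a ha
      have ha' : bs[i.1] * a ∈ ofList (bs.take i.1) := ha
      have h1 := h i.1 (by rw [List.length_map]; exact i.2) (algebraMap A Ap a)
      rw [← List.map_take, ← Ideal.map_ofList, List.getElem_map] at h1
      apply h1
      rw [← map_mul]
      exact Ideal.mem_map_of_mem _ ha')
    exact ⟨s, hs, fun a ha => hsJ a ha⟩
  choose g hg hgood using key
  refine ⟨∏ i, g i, ?_, ?_⟩
  · intro hmem
    obtain ⟨i, -, hi⟩ := Ideal.IsPrime.prod_mem_iff.mp hmem
    exact hg i hi
  · intro i hi a ha
    have h1 := hgood ⟨i, hi⟩ a ha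
    have h2 : (∏ j, g j) * a = (∏ j ∈ Finset.univ.erase ⟨i, hi⟩, g j) * (g ⟨i, hi⟩ * a) := by
      rw [← Finset.mul_prod_erase Finset.univ g (Finset.mem_univ ⟨i, hi⟩)]
      ring
    rw [h2]
    exact Ideal.mul_mem_left _ _ h1

/-- Spreading out an equality of extended ideals. -/
theorem exists_notMem_map_eq {A : Type u} [CommRing A] [IsNoetherianRing A] (p : Ideal A)
    [p.IsPrime] (Ap : Type*) [CommRing Ap] [Algebra A Ap] [IsLocalization.AtPrime Ap p]
    (I J : Ideal A) (h : I.map (algebraMap A Ap) = J.map (algebraMap A Ap)) :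
    ∃ s, s ∉ p ∧ ∀ (g : A), s ∣ g → ∀ (B : Type u) [CommRing B] [Algebra A B]
      [IsLocalization.Away g B], I.map (algebraMap A B) = J.map (algebraMap A B) := by
  obtain ⟨s1, hs1, h1⟩ := exists_notMem_mul_mem p Ap J (IsNoetherian.noetherian J) I
    (fun a ha => h ▸ Ideal.mem_map_of_mem _ ha)
  obtain ⟨s2, hs2, h2⟩ := exists_notMem_mul_mem p Ap I (IsNoetherian.noetherian I) J
    (fun a ha => h ▸ Ideal.mem_map_of_mem _ ha)
  refine ⟨s1 * s2, fun hmem => (Ideal.IsPrime.mem_or_mem inferInstance hmem).elim hs1 hs2, ?_⟩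
  intro g hg B _ _ _
  have hu : IsUnit (algebraMap A B (s1 * s2)) := by
    obtain ⟨c, rfl⟩ := hg
    have := IsLocalization.Away.algebraMap_isUnit (S := B) (s1 * s2 * c)
    rw [map_mul] at this
    exact isUnit_of_mul_isUnit_left this
  rw [map_mul] at hu
  have hu1 : IsUnit (algebraMap A B s1) := isUnit_of_mul_isUnit_left hu
  have hu2 : IsUnit (algebraMap A B s2) := isUnit_of_mul_isUnit_right hu
  apply le_antisymm
  · rw [Ideal.map_le_iff_le_comap]
    intro a ha
    rw [Ideal.mem_comap]
    have := Ideal.mem_map_of_mem (algebraMap A B) (h2 a ha)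
    rw [map_mul] at this
    exact (Ideal.unit_mul_mem_iff_mem _ hu2).mp this
  · rw [Ideal.map_le_iff_le_comap]
    intro a ha
    rw [Ideal.mem_comap]
    have := Ideal.mem_map_of_mem (algebraMap A B) (h1 a ha)
    rw [map_mul] at this
    exact (Ideal.unit_mul_mem_iff_mem _ hu1).mp this

/-- `GoodL` passes to multiples. -/
theorem goodL_of_dvd {A : Type u} [CommRing A] (bs : List A) (g g' : A) (h : GoodL bs g)
    (hd : g ∣ g') : GoodL bs g' := by
  intro i hi a ha
  obtain ⟨c, rfl⟩ := hd
  have := h i hi a ha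
  have h2 : g * c * a = c * (g * a) := by ring
  rw [h2]
  exact Ideal.mul_mem_left _ _ this

/-- Main spreading-out statement: a regular sequence in `A_p` generating the extension of `I`
spreads out to a sequence of elements of `A` which, in every `A_g` with `g₀ ∣ g`, is weakly regular
and generates the extension of `I`. -/
theorem exists_spread {A : Type u} [CommRing A] [IsNoetherianRing A] (p : Ideal A) [p.IsPrime]
    (Ap : Type*) [CommRing Ap] [Algebra A Ap] [IsLocalization.AtPrime Ap p] (I : Ideal A)
    (rs : List Ap) (hreg : IsWeaklyRegular Ap rs) (hI : I.map (algebraMap A Ap) = ofList rs) :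
    ∃ (g₀ : A) (bs : List A), g₀ ∉ p ∧ bs.length = rs.length ∧
      ∀ (g : A), g₀ ∣ g → ∀ (B : Type u) [CommRing B] [Algebra A B] [IsLocalization.Away g B],
        IsWeaklyRegular B (bs.map (algebraMap A B)) ∧
        I.map (algebraMap A B) = ofList (bs.map (algebraMap A B)) := by
  classical
  -- choose numerators
  have hex : ∀ r : Ap, ∃ a : A, ∃ u : Apˣ, algebraMap A Ap a = u * r := by
    intro r
    obtain ⟨⟨a, s⟩, has⟩ := IsLocalization.surj p.primeCompl r
    have hu : IsUnit (algebraMap A Ap s) := IsLocalization.map_units Ap s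
    refine ⟨a, hu.unit, ?_⟩
    rw [IsUnit.unit_spec, mul_comm]
    exact has.symm
  choose num hnum using hex
  let bs : List A := rs.map num
  have hF : List.Forall₂ (fun (r r' : Ap) => ∃ u : Apˣ, r' = (u : Ap) * r) rs (bs.map (algebraMap A Ap)) := by
    rw [List.map_map, List.forall₂_map_right_iff, List.forall₂_same]
    intro r _
    exact hnum r
  have hreg' := isWeaklyRegular_of_forall₂_unit hF hreg
  have hI' : I.map (algebraMap A Ap) = (ofList bs).map (algebraMap A Ap) := by
    rw [hI, Ideal.map_ofList]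
    exact ofList_eq_of_forall₂_unit hF
  obtain ⟨g1, hg1, hgood⟩ := exists_goodL p Ap bs hreg'
  obtain ⟨g2, hg2, hmap⟩ := exists_notMem_map_eq p Ap I (ofList bs) hI'
  refine ⟨g1 * g2, bs, fun hmem => (Ideal.IsPrime.mem_or_mem inferInstance hmem).elim hg1 hg2,
    by simp [bs], ?_⟩
  intro g hg B _ _ _
  refine ⟨isWeaklyRegular_away bs g (goodL_of_dvd bs g1 g hgood ((dvd_mul_right g1 g2).trans hg)) B,
    ?_⟩
  rw [hmap g ((dvd_mul_left g2 g1).trans hg) B, Ideal.map_ofList]

end Groth.Agent.Lib.Helper94.RegSpread
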