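import Mathlib
import Groth.Agent.Lib.Helper94.CILocal
import Groth.Agent.Lib.Helper94.RegSpread
import Groth.Agent.S1661

/-!
# Cancellation for regular ideals in Noetherian local rings (EGA IV 19.1.5 (ii), b ⇒ a)

If `J ≤ K`, `K` is generated by a regular sequence and `K/J` is generated by an `A/J`-regular
sequence, then `J` is generated by a regular sequence.
-/

set_option autoImplicit false
universe u

namespace Groth.Agent.Lib.Helper94.RegCancel

open scoped Pointwise
open RingTheory.Sequence Ideal IsLocalRing Groth.Agent.Lib.Helper94.CILocal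
  Groth.Agent.Lib.Helper94.RegSpread

theorem ofList_eq_span_toFinset {A : Type*} [CommRing A] [DecidableEq A] (rs : List A) :
    ofList rs = Ideal.span (rs.toFinset : Set A) := by
  unfold Ideal.ofList
  congr 1
  ext x
  simp

theorem spanFinrank_ofList_le {A : Type*} [CommRing A] (rs : List A) :
    (ofList rs).spanFinrank ≤ rs.length := by
  classical
  rw [ofList_eq_span_toFinset]
  refine (Submodule.spanFinrank_span_le_ncard_of_finite (Finset.finite_toSet _)).trans ?_
  rw [Set.ncard_coe_finset]
  exact List.toFinset_card_le rs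

theorem ofList_le_maximalIdeal_of_isRegular {A : Type*} [CommRing A] [IsLocalRing A]
    (rs : List A) (h : IsRegular A rs) : ofList rs ≤ maximalIdeal A := by
  apply le_maximalIdeal
  intro htop
  apply h.top_ne_smul
  rw [smul_eq_mul, Ideal.mul_top, htop]

/-- A regular sequence is a minimal system of generators of the ideal it generates. -/
theorem length_le_of_ofList_eq {A : Type u} [CommRing A] [IsLocalRing A] [IsNoetherianRing A]
    (rs rs' : List A) (hreg : IsRegular A rs) (h : ofList rs = ofList rs') :
    rs.length ≤ rs'.length := by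
  have hle := ofList_le_maximalIdeal_of_isRegular rs hreg
  have h1 := ringKrullDim_add_length_eq_ringKrullDim_of_isRegular rs hreg
  have h2 := ringKrullDim_le_ringKrullDim_quotient_add_spanFinrank (ofList rs)
    (by rw [ringJacobson_eq_maximalIdeal]; exact hle)
  haveI := quot_isLocalRing (ofList rs) hle
  obtain ⟨e, he⟩ := exists_nat_ringKrullDim (A ⧸ ofList rs)
  have h3 : (ofList rs).spanFinrank ≤ rs'.length := by
    rw [h]; exact spanFinrank_ofList_le rs'
  rw [← h1, he] at h2
  have h4 : e + rs.length ≤ e + (ofList rs).spanFinrank := by exact_mod_cast h2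
  omega

/-- Ring version of `isWeaklyRegular_cons_iff'`. -/
theorem isWeaklyRegular_cons_iff_quotient {A : Type*} [CommRing A] (y : A) (xs : List A) :
    IsWeaklyRegular A (y :: xs) ↔ IsSMulRegular A y ∧
      IsWeaklyRegular (A ⧸ Ideal.span {y}) (xs.map (Ideal.Quotient.mk (Ideal.span {y}))) := by
  rw [isWeaklyRegular_cons_iff]
  refine and_congr_right fun _ => ?_
  have hsm : (y • ⊤ : Submodule A A) = Ideal.span {y} := by
    rw [← Submodule.ideal_span_singleton_smul, smul_eq_mul, Ideal.mul_top]
  let e : QuotSMulTop y A ≃ₗ[A] (A ⧸ Ideal.span {y}) := Submodule.quotEquivOfEq _ _ hsm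
  rw [e.isWeaklyRegular_congr xs]
  exact (isWeaklyRegular_map_algebraMap_iff (A ⧸ Ideal.span {y}) (A ⧸ Ideal.span {y}) xs).symm

/-- Exchange lemma: an element of `K ∖ mK` can replace a member of a regular sequence generating
`K`. -/
theorem exists_exchange {A : Type u} [CommRing A] [IsLocalRing A] [IsNoetherianRing A]
    (rs : List A) (hreg : IsRegular A rs) (y : A) (hy : y ∈ ofList rs)
    (hy' : y ∉ maximalIdeal A * ofList rs) :
    ∃ rs' : List A, IsRegular A (rs' ++ [y]) ∧ ofList (rs' ++ [y]) = ofList rs ∧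
      rs'.length + 1 = rs.length := by
  classical
  have hy2 := hy
  rw [ofList_eq_span_toFinset] at hy2
  obtain ⟨c, -, hc⟩ := Submodule.mem_span_finset.mp hy2
  have hex : ∃ k ∈ rs.toFinset, c k ∉ maximalIdeal A := by
    by_contra hcon
    push Not at hcon
    apply hy'
    rw [← hc]
    refine Ideal.sum_mem _ fun x hx => ?_
    rw [smul_eq_mul]
    refine Ideal.mul_mem_mul (hcon x hx) ?_
    exact Ideal.subset_span (List.mem_toFinset.mp hx)
  obtain ⟨k, hk, hck⟩ := hex
  have hkrs : k ∈ rs := List.mem_toFinset.mp hk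
  have hu : IsUnit (c k) := by
    by_contra hnu
    exact hck ((mem_maximalIdeal _).mpr hnu)
  set rs' := rs.erase k with hrs'
  have hperm : List.Perm rs (rs' ++ [k]) :=
    (List.perm_cons_erase hkrs).trans (List.perm_append_singleton k rs').symm
  have hregp : IsRegular A (rs' ++ [k]) := IsLocalRing.isRegular_of_perm hreg hperm
  have hK : ofList rs = ofList rs' ⊔ Ideal.span {k} := by
    rw [← Ideal.ofList_singleton, ← Ideal.ofList_append]
    unfold Ideal.ofList
    congr 1
    ext x
    exact hperm.mem_iff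
  -- decomposition of `y`
  set b := ∑ x ∈ rs.toFinset.erase k, c x • x with hb
  have hyb : y = c k * k + b := by
    rw [← hc, ← Finset.add_sum_erase _ _ hk, smul_eq_mul]
  have hbmem : b ∈ ofList rs' := by
    refine Ideal.sum_mem _ fun x hx => ?_
    rw [smul_eq_mul]
    apply Ideal.mul_mem_left
    apply Ideal.subset_span
    rw [Finset.mem_erase] at hx
    exact (List.mem_erase_of_ne hx.1).mpr (List.mem_toFinset.mp hx.2)
  have hw := hregp.toIsWeaklyRegular
  rw [isWeaklyRegular_append_iff, isWeaklyRegular_singleton_iff,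
    isSMulRegular_quotient_iff_mem_of_smul_mem] at hw
  obtain ⟨hw1, hw2⟩ := hw
  simp only [smul_eq_mul, Ideal.mul_top] at hw2
  have hKeq : ofList (rs' ++ [y]) = ofList rs := by
    rw [hK, Ideal.ofList_append, Ideal.ofList_singleton]
    apply le_antisymm
    · refine sup_le le_sup_left ?_
      rw [Ideal.span_le, Set.singleton_subset_iff, hyb]
      exact Ideal.add_mem _ (Ideal.mem_sup_right (Ideal.mul_mem_left _ _
        (Ideal.mem_span_singleton_self k))) (Ideal.mem_sup_left hbmem)
    · refine sup_le le_sup_left ?_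
      rw [Ideal.span_le, Set.singleton_subset_iff]
      obtain ⟨u, hu'⟩ := hu
      have hk' : k = ↑u⁻¹ * (y - b) := by
        rw [hyb, add_sub_cancel_right, ← hu', ← mul_assoc, Units.inv_mul, one_mul]
      rw [hk']
      apply Ideal.mul_mem_left
      exact Ideal.sub_mem _ (Ideal.mem_sup_right (Ideal.mem_span_singleton_self y))
        (Ideal.mem_sup_left hbmem)
  refine ⟨rs', ⟨?_, ?_⟩, hKeq, ?_⟩
  · rw [isWeaklyRegular_append_iff, isWeaklyRegular_singleton_iff,
      isSMulRegular_quotient_iff_mem_of_smul_mem]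
    refine ⟨hw1, ?_⟩
    simp only [smul_eq_mul, Ideal.mul_top]
    intro x hx
    have h1 : k * (c k * x) ∈ ofList rs' := by
      have : k * (c k * x) = y * x - b * x := by rw [hyb]; ring
      rw [this]
      exact Ideal.sub_mem _ hx (Ideal.mul_mem_right _ _ hbmem)
    have h2 := hw2 _ h1
    exact (Ideal.unit_mul_mem_iff_mem _ hu).mp h2
  · rw [hKeq]
    exact hreg.top_ne_smul
  · have := hperm.length_eq
    simpa using this.symm

theorem map_mk_le_maximalIdeal' {A : Type*} [CommRing A] [IsLocalRing A] (J K : Ideal A)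
    (hK : K ≤ maximalIdeal A) [IsLocalRing (A ⧸ J)] :
    K.map (Ideal.Quotient.mk J) ≤ maximalIdeal (A ⧸ J) :=
  map_mk_le_maximalIdeal J K hK

theorem ne_top_of_le_maximalIdeal {A : Type*} [CommRing A] [IsLocalRing A] (I : Ideal A)
    (h : I ≤ maximalIdeal A) : (⊤ : Submodule A A) ≠ I • ⊤ := by
  rw [smul_eq_mul, Ideal.mul_top]
  intro htop
  exact (maximalIdeal.isMaximal A).ne_top (top_le_iff.mp (htop.le.trans h))

/-- Main induction for the cancellation theorem. -/
theorem isRegularIdeal_of_quotient_aux (n : ℕ) : ∀ (A : Type u) [CommRing A] [IsLocalRing A]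
    [IsNoetherianRing A] (J K : Ideal A), J ≤ K →
    (∃ rs : List A, rs.length = n ∧ IsRegular A rs ∧ ofList rs = K) →
    CInt.IsRegularIdeal (K.map (Ideal.Quotient.mk J)) → CInt.IsRegularIdeal J := by
  induction n with
  | zero =>
    intro A _ _ _ J K hJK ⟨rs, hlen, hrs, hK⟩ _
    have : rs = [] := List.length_eq_zero_iff.mp hlen
    subst this
    rw [Ideal.ofList_nil] at hK
    have hJ : J = ⊥ := le_bot_iff.mp (hK ▸ hJK)
    exact ⟨[], hrs, by rw [Ideal.ofList_nil, hJ]⟩
  | succ n ih =>
    intro A _ _ _ J K hJK ⟨rs, hlen, hrs, hK⟩ ⟨ys, hys, hKbar⟩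
    have hKm : K ≤ maximalIdeal A := hK ▸ ofList_le_maximalIdeal_of_isRegular rs hrs
    have hJm : J ≤ maximalIdeal A := hJK.trans hKm
    haveI := quot_isLocalRing J hJm
    cases ys with
    | nil =>
      rw [Ideal.ofList_nil] at hKbar
      have hKJ : K ≤ J := by
        have := (Ideal.map_eq_bot_iff_le_ker (Ideal.Quotient.mk J)).mp hKbar.symm
        rwa [Ideal.mk_ker] at this
      have hJeq : J = K := le_antisymm hJK hKJ
      exact ⟨rs, hrs, by rw [hK, hJeq]⟩
    | cons ybar ys' =>
      have hybarK : ybar ∈ K.map (Ideal.Quotient.mk J) := by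
        rw [← hKbar]
        exact Ideal.subset_span List.mem_cons_self
      obtain ⟨y, hyK, rfl⟩ := (Ideal.mem_map_iff_of_surjective (Ideal.Quotient.mk J)
        Ideal.Quotient.mk_surjective).mp hybarK
      set π := Ideal.Quotient.mk J with hπ
      have hKbar' : K.map π = Ideal.span {π y} ⊔ ofList ys' := by
        rw [← hKbar, Ideal.ofList_cons]
      have hcons := (isWeaklyRegular_cons_iff_quotient (π y) ys').mp hys.toIsWeaklyRegular
      obtain ⟨hybreg, hys'q⟩ := hcons
      have hym : y ∈ maximalIdeal A := hKm hyK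
      -- `y ∉ m K`
      have hynot : y ∉ maximalIdeal A * K := by
        intro hmem
        have h1 : π y ∈ maximalIdeal (A ⧸ J) * K.map π := by
          have := Ideal.mem_map_of_mem π hmem
          rw [Ideal.map_mul] at this
          exact Ideal.mul_mono_left (map_mk_le_maximalIdeal' J _ le_rfl) this
        have h2 : K.map π ≤ ofList ys' := by
          refine Submodule.le_of_le_smul_of_le_jacobson_bot (I := maximalIdeal (A ⧸ J))
            (IsNoetherian.noetherian _) (IsLocalRing.maximalIdeal_le_jacobson ⊥) ?_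
          rw [hKbar']
          refine sup_le ?_ le_sup_left
          rw [Ideal.span_le, Set.singleton_subset_iff]
          refine Submodule.mem_sup_right ?_
          rw [← hKbar']
          exact h1
        have h3 : ofList (π y :: ys') = ofList ys' := by
          apply le_antisymm
          · rw [hKbar]; exact h2
          · rw [Ideal.ofList_cons]; exact le_sup_right
        have := length_le_of_ofList_eq _ _ hys h3
        simp at this
      obtain ⟨rs', hreg', hKeq, hlen'⟩ := exists_exchange rs hrs y (hK ▸ hyK) (hK ▸ hynot)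
      have hregc : IsRegular A (y :: rs') :=
        IsLocalRing.isRegular_of_perm hreg' (List.perm_append_singleton y rs')
      obtain ⟨hyreg, hrs'q⟩ := (isWeaklyRegular_cons_iff_quotient y rs').mp hregc.toIsWeaklyRegular
      have hspanm : Ideal.span {y} ≤ maximalIdeal A := by
        rw [Ideal.span_le, Set.singleton_subset_iff]; exact hym
      haveI := quot_isLocalRing (Ideal.span {y}) hspanm
      set ρ := Ideal.Quotient.mk (Ideal.span {y}) with hρ
      have hK2 : K = ofList rs' ⊔ Ideal.span {y} := by
        rw [← hK, ← hKeq, Ideal.ofList_append, Ideal.ofList_singleton]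
      have hK'eq : ofList (rs'.map ρ) = K.map ρ := by
        rw [← Ideal.map_ofList, hK2, Ideal.map_sup, Ideal.map_quotient_self, sup_bot_eq]
      have hK'm : K.map ρ ≤ maximalIdeal (A ⧸ Ideal.span {y}) :=
        map_mk_le_maximalIdeal' _ _ hKm
      -- the regular ideal `K'/J'`
      have hspanm' : Ideal.span {π y} ≤ maximalIdeal (A ⧸ J) := by
        rw [Ideal.span_le, Set.singleton_subset_iff]
        exact (mk_mem_maximalIdeal_iff J y).mpr hym
      haveI := quot_isLocalRing (Ideal.span {π y}) hspanm'
      set σ := Ideal.Quotient.mk (Ideal.span {π y}) with hσ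
      have hspaneq : Ideal.span {π y} = (Ideal.span {y}).map π := by
        rw [Ideal.map_span, Set.image_singleton]
      let e : ((A ⧸ J) ⧸ Ideal.span {π y}) ≃+*
          ((A ⧸ Ideal.span {y}) ⧸ J.map ρ) :=
        (Ideal.quotEquivOfEq hspaneq).trans (DoubleQuot.quotQuotEquivComm J (Ideal.span {y}))
      have hcomp : ((e : ((A ⧸ J) ⧸ Ideal.span {π y}) →+* _).comp σ).comp π =
          (Ideal.Quotient.mk (J.map ρ)).comp ρ := by
        ext a
        rfl
      have hKbarm : K.map π ≤ maximalIdeal (A ⧸ J) := map_mk_le_maximalIdeal' _ _ hKm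
      have h3 : CInt.IsRegularIdeal ((K.map π).map σ) := by
        refine ⟨ys'.map σ, ⟨hys'q, ?_⟩, ?_⟩
        · apply ne_top_of_le_maximalIdeal
          rw [← Ideal.map_ofList]
          refine map_mk_le_maximalIdeal' _ _ ?_
          refine le_trans ?_ hKbarm
          rw [hKbar']; exact le_sup_right
        · rw [← Ideal.map_ofList, hKbar', Ideal.map_sup, Ideal.map_quotient_self, bot_sup_eq]
      have h3' : CInt.IsRegularIdeal ((K.map ρ).map (Ideal.Quotient.mk (J.map ρ))) := by
        have := isRegularIdeal_map_ringEquiv e _ h3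
        rw [Ideal.map_map, Ideal.map_map] at this
        rw [Ideal.map_map, ← hcomp]
        exact this
      have hn : rs'.length = n := by omega
      obtain ⟨xsbar, hxsbar, hJ'⟩ := ih (A ⧸ Ideal.span {y}) (J.map ρ) (K.map ρ)
        (Ideal.map_mono hJK)
        ⟨rs'.map ρ, by rw [List.length_map, hn], ⟨hrs'q, by
          rw [hK'eq]; exact ne_top_of_le_maximalIdeal _ hK'm⟩, hK'eq⟩ h3'
      -- lift `xsbar` into `J`
      have hlift : ∀ xb : A ⧸ Ideal.span {y}, ∃ x : A, xb ∈ J.map ρ → (x ∈ J ∧ ρ x = xb) := by
        intro xb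
        by_cases hxb : xb ∈ J.map ρ
        · obtain ⟨x, hx, hxe⟩ := (Ideal.mem_map_iff_of_surjective ρ
            Ideal.Quotient.mk_surjective).mp hxb
          exact ⟨x, fun _ => ⟨hx, hxe⟩⟩
        · exact ⟨0, fun h => absurd h hxb⟩
      choose g hg using hlift
      set xs := xsbar.map g with hxs
      have hxsJ' : ∀ xb ∈ xsbar, xb ∈ J.map ρ := by
        intro xb hxb
        rw [← hJ']
        exact Ideal.subset_span hxb
      have hxsmap : xs.map ρ = xsbar := by
        rw [hxs, List.map_map]
        conv_rhs => rw [← List.map_id xsbar]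
        refine List.map_congr_left fun xb hxb => ?_
        exact (hg xb (hxsJ' xb hxb)).2
      have hxsJ : ofList xs ≤ J := by
        unfold Ideal.ofList
        rw [Ideal.span_le]
        intro x hx
        obtain ⟨xb, hxb, rfl⟩ := List.mem_map.mp hx
        exact (hg xb (hxsJ' xb hxb)).1
      have hconsx : IsWeaklyRegular A (y :: xs) :=
        (isWeaklyRegular_cons_iff_quotient y xs).mpr
          ⟨hyreg, by rw [hxsmap]; exact hxsbar.toIsWeaklyRegular⟩
      -- `J = ofList xs`
      have hJle : J ≤ ofList xs := by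
        refine Submodule.le_of_le_smul_of_le_jacobson_bot (I := maximalIdeal A)
          (IsNoetherian.noetherian _) (IsLocalRing.maximalIdeal_le_jacobson ⊥) ?_
        intro j hj
        have h1 : ρ j ∈ (ofList xs).map ρ := by
          rw [Ideal.map_ofList, hxsmap, hJ']
          exact Ideal.mem_map_of_mem _ hj
        obtain ⟨j₀, hj₀, hje⟩ := (Ideal.mem_map_iff_of_surjective ρ
          Ideal.Quotient.mk_surjective).mp h1
        have h2 : j - j₀ ∈ Ideal.span {y} := by
          rw [← Ideal.Quotient.eq_zero_iff_mem, map_sub, hje, sub_self]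
        obtain ⟨a, ha⟩ := Ideal.mem_span_singleton'.mp h2
        have hayJ : a * y ∈ J := by
          rw [ha]; exact J.sub_mem hj (hxsJ hj₀)
        have haJ : a ∈ J := by
          rw [← Ideal.Quotient.eq_zero_iff_mem]
          apply hybreg.right_eq_zero_of_smul
          rw [smul_eq_mul, ← map_mul, Ideal.Quotient.eq_zero_iff_mem, mul_comm]
          exact hayJ
        have hj' : j = j₀ + y • a := by
          rw [smul_eq_mul, mul_comm, ha]; ring
        rw [hj']
        exact Submodule.add_mem _ (Submodule.mem_sup_left hj₀)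
          (Submodule.mem_sup_right (Submodule.smul_mem_smul hym haJ))
      have hJeq : ofList xs = J := le_antisymm hxsJ hJle
      have hregx : IsRegular A (y :: xs) := by
        refine ⟨hconsx, ne_top_of_le_maximalIdeal _ ?_⟩
        rw [Ideal.ofList_cons, hJeq]
        exact sup_le hspanm hJm
      have hregx' : IsRegular A (xs ++ [y]) :=
        IsLocalRing.isRegular_of_perm hregx (List.perm_append_singleton y xs).symm
      have hwx := ((isWeaklyRegular_append_iff A xs [y]).mp hregx'.toIsWeaklyRegular).1
      exact ⟨xs, ⟨hwx, ne_top_of_le_maximalIdeal _ (hJeq ▸ hJm)⟩, hJeq⟩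

/-- EGA IV 19.1.5 (ii), b) ⇒ a), local form. -/
theorem isRegularIdeal_of_quotient (A : Type u) [CommRing A] [IsLocalRing A]
    [IsNoetherianRing A] (J K : Ideal A) (hJK : J ≤ K) (hK : CInt.IsRegularIdeal K)
    (hKJ : CInt.IsRegularIdeal (K.map (Ideal.Quotient.mk J))) : CInt.IsRegularIdeal J := by
  obtain ⟨rs, hrs, hKeq⟩ := hK
  exact isRegularIdeal_of_quotient_aux rs.length A J K hJK ⟨rs, rfl, hrs, hKeq⟩ hKJ

/-- EGA IV 19.1.5 (ii), local form: for surjections `A → B → C` of rings with `A` Noetherian local
and `ker (B → C)` generated by a regular sequence, `ker (A → B)` is generated by a regular sequence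
iff `ker (A → C)` is. -/
theorem isRegularIdeal_ker_iff_of_comp {A B C : Type u} [CommRing A] [CommRing B] [CommRing C]
    [IsLocalRing A] [IsNoetherianRing A] [Nontrivial C] (ψ1 : A →+* B)
    (hψ1 : Function.Surjective ψ1) (ψ2 : B →+* C) (hB : CInt.IsRegularIdeal (RingHom.ker ψ2)) :
    CInt.IsRegularIdeal (RingHom.ker ψ1) ↔ CInt.IsRegularIdeal (RingHom.ker (ψ2.comp ψ1)) := by
  constructor
  · rintro ⟨fs, hfs, hker⟩
    obtain ⟨gs, hgs, hkerg⟩ := hB
    obtain ⟨gt, hgt, hcomap⟩ := Groth.Agent.S1661.exists_append ψ1 hψ1 fs hker.symm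
      hfs.toIsWeaklyRegular gs hgs.toIsWeaklyRegular
    rw [hkerg, RingHom.comap_ker] at hcomap
    refine ⟨fs ++ gt, ⟨hgt, ?_⟩, hcomap.symm⟩
    rw [smul_eq_mul, Ideal.mul_top, ← hcomap]
    exact (RingHom.ker_ne_top _).symm
  · intro hK
    set J := RingHom.ker ψ1 with hJ
    set K := RingHom.ker (ψ2.comp ψ1) with hKdef
    have hJK : J ≤ K := by
      intro x hx
      rw [hKdef, RingHom.mem_ker, RingHom.comp_apply, (RingHom.mem_ker).mp hx, map_zero]
    let e : A ⧸ J ≃+* B := RingHom.quotientKerEquivOfSurjective hψ1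
    apply isRegularIdeal_of_quotient A J K hJK hK
    rw [← isRegularIdeal_map_ringEquiv_iff e, Ideal.map_map]
    have h1 : (e : A ⧸ J →+* B).comp (Ideal.Quotient.mk J) = ψ1 := by
      ext a; rfl
    rw [h1]
    have h2 : K = (RingHom.ker ψ2).comap ψ1 := by
      rw [hKdef, RingHom.comap_ker]
    rw [h2, Ideal.map_comap_of_surjective ψ1 hψ1]
    exact hB

end Groth.Agent.Lib.Helper94.RegCancel
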