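import Mathlib
import Groth.Agent.Lib.Helper73.DimFT.Catenary

/-!
# Dimension theory for complete intersections over a field (helper94)
-/

set_option autoImplicit false

namespace Groth.Agent.Lib.Helper94.CIDim

open Groth.Agent.Lib.Helper73

universe u

/-- `dim D_g = dim D` for a finite type domain over a field and `g ≠ 0`. -/
theorem ringKrullDim_localizationAway_eq (k : Type*) [Field k] (D : Type*) [CommRing D] [IsDomain D]
    [Algebra k D] [Algebra.FiniteType k D] (g : D) (hg : g ≠ 0) :
    ringKrullDim (Localization.Away g) = ringKrullDim D := by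
  obtain ⟨d, hd⟩ := exists_nat_ringKrullDim_eq k D
  rw [hd]
  have hle : Submonoid.powers g ≤ nonZeroDivisors D :=
    powers_le_nonZeroDivisors_of_noZeroDivisors hg
  letI : Algebra (Localization.Away g) (FractionRing D) :=
    IsLocalization.localizationAlgebraOfSubmonoidLe (Localization.Away g) (FractionRing D)
      (Submonoid.powers g) (nonZeroDivisors D) hle
  haveI : IsScalarTower D (Localization.Away g) (FractionRing D) :=
    IsLocalization.localization_isScalarTower_of_submonoid_le (Localization.Away g)
      (FractionRing D) (Submonoid.powers g) (nonZeroDivisors D) hle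
  haveI : IsDomain (Localization.Away g) := IsLocalization.isDomain_localization hle
  haveI : IsFractionRing (Localization.Away g) (FractionRing D) :=
    IsFractionRing.isFractionRing_of_isDomain_of_isLocalization (Submonoid.powers g)
      (Localization.Away g) (FractionRing D)
  haveI : IsScalarTower k (Localization.Away g) (FractionRing D) :=
    IsScalarTower.of_algebraMap_eq fun x => by
      rw [IsScalarTower.algebraMap_apply k D (FractionRing D),
        IsScalarTower.algebraMap_apply k D (Localization.Away g),
        ← IsScalarTower.algebraMap_apply D (Localization.Away g) (FractionRing D)]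
  have h1 := trdeg_eq_of_ringKrullDim_eq k (A := D) (FractionRing D) d hd
  exact ringKrullDim_eq_of_trdeg_eq k (A := Localization.Away g) (FractionRing D) d h1

theorem ringKrullDim_away_eq (k : Type*) [Field k] (D : Type*) [CommRing D] [IsDomain D]
    [Algebra k D] [Algebra.FiniteType k D] (g : D) (hg : g ≠ 0) (T : Type*) [CommRing T]
    [Algebra D T] [IsLocalization.Away g T] :
    ringKrullDim T = ringKrullDim D := by
  rw [← ringKrullDim_localizationAway_eq k D g hg]
  exact ringKrullDim_eq_of_ringEquiv
    (IsLocalization.algEquiv (Submonoid.powers g) T (Localization.Away g)).toRingEquiv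

/-- `ht p + dim R/p ≤ dim R` (copied from helper77). -/
theorem height_add_ringKrullDim_quotient_le (R : Type*) [CommRing R] (p : Ideal R) [p.IsPrime] :
    ((p.height : ℕ∞) : WithBot ℕ∞) + ringKrullDim (R ⧸ p) ≤ ringKrullDim R := by
  let P : PrimeSpectrum R := ⟨p, inferInstance⟩
  have h2 : ringKrullDim (R ⧸ p) ≤ Order.krullDim (Set.Ici P) := by
    rw [ringKrullDim_quotient]
    exact Order.krullDim_le_of_strictMono
      (fun x => ⟨x.1, (PrimeSpectrum.mem_zeroLocus _ _).mp x.2⟩) (fun x y hxy => hxy)
  rw [← Order.coheight_eq_krullDim_Ici] at h2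
  have h1 : p.height = Order.height P := PrimeSpectrum.height_eq_orderHeight P
  have : Nonempty (PrimeSpectrum R) := ⟨P⟩
  calc _ ≤ ((Order.height P : ℕ∞) : WithBot ℕ∞) + ((Order.coheight P : ℕ∞) : WithBot ℕ∞) :=
        add_le_add (by rw [h1]) h2
    _ = ((Order.height P + Order.coheight P : ℕ∞) : WithBot ℕ∞) := rfl
    _ ≤ _ := by
      unfold ringKrullDim
      rw [Order.krullDim_eq_iSup_height_add_coheight_of_nonempty, WithBot.coe_le_coe]
      exact le_iSup (fun a => Order.height a + Order.coheight a) P

theorem ringKrullDim_localization_le {R : Type*} [CommRing R] (M : Submonoid R) (T : Type*)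
    [CommRing T] [Algebra R T] [IsLocalization M T] : ringKrullDim T ≤ ringKrullDim R := by
  rw [ringKrullDim_le_iff_height_le]
  intro p hp
  rw [← IsLocalization.height_under M p]
  have : (p.under R).IsPrime := Ideal.IsPrime.under R p
  exact Ideal.height_le_ringKrullDim_of_ne_top Ideal.IsPrime.ne_top'

/-- For a prime `p'` of `S` not containing `g`, `dim S_g ≥ ht p' + dim S/p'`. -/
theorem height_add_ringKrullDim_quotient_le_away (k : Type*) [Field k] (S : Type*) [CommRing S]
    [Algebra k S] [Algebra.FiniteType k S] (g : S) (p : Ideal S) [p.IsPrime] (hg : g ∉ p) :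
    ((p.height : ℕ∞) : WithBot ℕ∞) + ringKrullDim (S ⧸ p) ≤ ringKrullDim (Localization.Away g) := by
  have hdisj : Disjoint (Submonoid.powers g : Set S) (p : Set S) := by
    rw [Set.disjoint_left]
    rintro _ ⟨n, rfl⟩ hn
    exact hg (Ideal.IsPrime.mem_of_pow_mem inferInstance n hn)
  have hP : (p.map (algebraMap S (Localization.Away g))).IsPrime :=
    IsLocalization.isPrime_of_isPrime_disjoint (Submonoid.powers g) _ p inferInstance hdisj
  have h1 := height_add_ringKrullDim_quotient_le (Localization.Away g)
    (p.map (algebraMap S (Localization.Away g)))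
  rw [IsLocalization.height_map_of_disjoint (Submonoid.powers g) p hdisj] at h1
  have hloc : IsLocalization (Algebra.algebraMapSubmonoid (S ⧸ p) (Submonoid.powers g))
      (Localization.Away g ⧸ p.map (algebraMap S (Localization.Away g))) := inferInstance
  have heq : Algebra.algebraMapSubmonoid (S ⧸ p) (Submonoid.powers g) =
      Submonoid.powers (Ideal.Quotient.mk p g) := by
    unfold Algebra.algebraMapSubmonoid
    rw [Submonoid.map_powers]
    rfl
  rw [heq] at hloc
  have hne : Ideal.Quotient.mk p g ≠ 0 := by
    rwa [Ne, Ideal.Quotient.eq_zero_iff_mem]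
  have h2 := @ringKrullDim_away_eq k _ (S ⧸ p) _ _ _ _ (Ideal.Quotient.mk p g) hne
    (Localization.Away g ⧸ p.map (algebraMap S (Localization.Away g))) _ _ hloc
  rwa [h2] at h1

section GCI

variable {k : Type u} [Field k] {m : ℕ} {S : Type u} [CommRing S] [Algebra k S]
  (φ : MvPolynomial (Fin m) k →ₐ[k] S) (hφ : Function.Surjective φ)

include hφ

theorem finiteType_of_surjective : Algebra.FiniteType k S :=
  Algebra.FiniteType.of_surjective φ hφ

/-- (G1) `ht p' + dim S/p = m`. -/
theorem height_comap_add_ringKrullDim_quotient (p : Ideal S) [p.IsPrime] :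
    ((p.comap φ.toRingHom).height : WithBot ℕ∞) + ringKrullDim (S ⧸ p) = (m : WithBot ℕ∞) := by
  have h1 := height_add_ringKrullDim_quotient k (A := MvPolynomial (Fin m) k) (p.comap φ.toRingHom)
  rw [ringKrullDim_mvPolynomial_field] at h1
  rw [← h1]
  congr 1
  symm
  refine ringKrullDim_eq_of_ringEquiv (RingEquiv.ofBijective
    (Ideal.quotientMap p φ.toRingHom le_rfl) ⟨?_, ?_⟩)
  · exact Ideal.quotientMap_injective
  · exact Ideal.quotientMap_surjective hφ

/-- (G2) In a global complete intersection, `t + ht p = ht p'`. -/
theorem gci_height_eq (t : ℕ) (r : Fin t → MvPolynomial (Fin m) k)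
    (hker : RingHom.ker φ.toRingHom = Ideal.span (Set.range r)) (ht : t ≤ m)
    (hdim : ringKrullDim S = ((m - t : ℕ) : WithBot ℕ∞)) (p : Ideal S) [p.IsPrime] :
    (t : ℕ∞) + p.height = (p.comap φ.toRingHom).height := by
  have hFT : Algebra.FiniteType k S := finiteType_of_surjective φ hφ
  have hN : IsNoetherianRing S := Algebra.FiniteType.isNoetherianRing k S
  have h1 := height_comap_add_ringKrullDim_quotient φ hφ p
  have h2 := height_add_ringKrullDim_quotient_le S p
  obtain ⟨c, hc⟩ : ∃ c, m - t = c := ⟨_, rfl⟩
  rw [hdim, hc] at h2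
  obtain ⟨e, he⟩ := exists_nat_ringKrullDim_eq k (S ⧸ p)
  obtain ⟨a, ha⟩ := ENat.ne_top_iff_exists.mp (Ideal.height_ne_top_of_isPrime (I := p))
  obtain ⟨b, hb⟩ := ENat.ne_top_iff_exists.mp
    (Ideal.height_ne_top_of_isPrime (I := p.comap φ.toRingHom))
  -- Krull
  have hle : RingHom.ker φ.toRingHom ≤ p.comap φ.toRingHom := by
    intro x hx
    rw [Ideal.mem_comap, (RingHom.mem_ker).mp hx]
    exact p.zero_mem
  have h3 := Ideal.height_le_height_add_spanFinrank_of_le hle
  have h4 : ((p.comap φ.toRingHom).map (Ideal.Quotient.mk (RingHom.ker φ.toRingHom))).height =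
      p.height := by
    have hφ' : Function.Surjective φ.toRingHom := hφ
    let e₀ := RingHom.quotientKerEquivOfSurjective hφ'
    have : (p.comap φ.toRingHom).map (Ideal.Quotient.mk (RingHom.ker φ.toRingHom)) =
        p.comap (e₀ : _ →+* S) := by
      have hc : p.comap φ.toRingHom = (p.comap (e₀ : _ →+* S)).comap
          (Ideal.Quotient.mk (RingHom.ker φ.toRingHom)) := by
        rw [Ideal.comap_comap]
        congr 1
      rw [hc, Ideal.map_comap_of_surjective _ Ideal.Quotient.mk_surjective]
    rw [this]
    exact RingEquiv.height_comap e₀ p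
  have h5 : (RingHom.ker φ.toRingHom).spanFinrank ≤ t := by
    rw [hker]
    refine le_trans (Submodule.spanFinrank_span_le_ncard_of_finite (Set.finite_range r)) ?_
    have := Set.ncard_image_le (f := r) (Set.finite_univ (α := Fin t))
    rw [Set.image_univ] at this
    refine le_trans this ?_
    simp [Set.ncard_univ]
  rw [h4] at h3
  rw [← ha, ← hb] at h3 ⊢
  rw [← hb, he] at h1
  rw [← ha, he] at h2
  have h1' : b + e = m := by exact_mod_cast h1
  have h2' : a + e ≤ c := by exact_mod_cast h2
  have h3' : b ≤ a + (RingHom.ker φ.toRingHom).spanFinrank := by exact_mod_cast h3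
  have : t + a = b := by omega
  exact_mod_cast this

/-- (G3) The dimension of a nonzero principal localization of a global complete intersection. -/
theorem gci_ringKrullDim_away (t : ℕ) (r : Fin t → MvPolynomial (Fin m) k)
    (hker : RingHom.ker φ.toRingHom = Ideal.span (Set.range r)) (ht : t ≤ m)
    (hdim : ringKrullDim S = ((m - t : ℕ) : WithBot ℕ∞)) (g : S)
    [Nontrivial (Localization.Away g)] :
    ringKrullDim (Localization.Away g) = ((m - t : ℕ) : WithBot ℕ∞) := by
  have hFT : Algebra.FiniteType k S := finiteType_of_surjective φ hφ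
  have hN : IsNoetherianRing S := Algebra.FiniteType.isNoetherianRing k S
  apply le_antisymm
  · rw [← hdim]
    exact ringKrullDim_localization_le (Submonoid.powers g) _
  · obtain ⟨n, hn⟩ := Ideal.exists_maximal (Localization.Away g)
    have hnp : n.IsPrime := hn.isPrime
    have hp : (n.under S).IsPrime := Ideal.IsPrime.under S n
    have hg : g ∉ n.under S := by
      intro h
      rw [Ideal.under_def, Ideal.mem_comap] at h
      exact hnp.ne_top (Ideal.eq_top_of_isUnit_mem _ h
        (IsLocalization.Away.algebraMap_isUnit g))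
    refine le_trans ?_ (height_add_ringKrullDim_quotient_le_away k S g (n.under S) hg)
    have h1 := height_comap_add_ringKrullDim_quotient φ hφ (n.under S)
    have h2 := gci_height_eq φ hφ t r hker ht hdim (n.under S)
    obtain ⟨e, he⟩ := exists_nat_ringKrullDim_eq k (S ⧸ n.under S)
    obtain ⟨a, ha⟩ := ENat.ne_top_iff_exists.mp (Ideal.height_ne_top_of_isPrime (I := n.under S))
    obtain ⟨b, hb⟩ := ENat.ne_top_iff_exists.mp
      (Ideal.height_ne_top_of_isPrime (I := (n.under S).comap φ.toRingHom))
    rw [← ha, ← hb] at h2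
    rw [← hb, he] at h1
    rw [← ha, he]
    have h1' : b + e = m := by exact_mod_cast h1
    have h2' : t + a = b := by exact_mod_cast h2
    obtain ⟨c, hc⟩ : ∃ c, m - t = c := ⟨_, rfl⟩
    rw [hc]
    have : c ≤ a + e := by omega
    exact_mod_cast this

end GCI

end Groth.Agent.Lib.Helper94.CIDim
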