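import Mathlib
import Groth.Agent.Lib.Helper94.CILocal

/-!
# Independence of the presentation for complete intersections over a field (helper94)
-/

set_option autoImplicit false

namespace Groth.Agent.Lib.Helper94.CIInd

open IsLocalRing Groth.Agent.Lib.Helper94.CILocal

universe u

/-- Domination: for a surjection `ρ : A → B` of regular local rings and a surjection `π : B → T`
onto a nonzero ring, `ker (π ∘ ρ)` is generated by a regular sequence iff `ker π` is. -/
theorem isRegularIdeal_ker_comp_iff {A B : Type u} {T : Type*} [CommRing A] [CommRing B]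
    [CommRing T] [Nontrivial T] [IsRegularLocalRing A] [IsRegularLocalRing B]
    (ρ : A →+* B) (hρ : Function.Surjective ρ) (π : B →+* T) :
    CInt.IsRegularIdeal (RingHom.ker (π.comp ρ)) ↔ CInt.IsRegularIdeal (RingHom.ker π) := by
  set J := RingHom.ker ρ with hJ
  set K := RingHom.ker (π.comp ρ) with hK
  have hJK : J ≤ K := by
    intro x hx
    rw [hK, RingHom.mem_ker, RingHom.comp_apply, (RingHom.mem_ker).mp hx, map_zero]
  have hKm : K ≤ maximalIdeal A := le_maximalIdeal (RingHom.ker_ne_top _)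
  let e : A ⧸ J ≃+* B := RingHom.quotientKerEquivOfSurjective hρ
  have hAJ : IsRegularLocalRing (A ⧸ J) := IsRegularLocalRing.of_ringEquiv e.symm
  rw [isRegularIdeal_iff_quotient A J K hJK hKm hAJ, ← isRegularIdeal_map_ringEquiv_iff e,
    Ideal.map_map]
  have h1 : (e : A ⧸ J →+* B).comp (Ideal.Quotient.mk J) = ρ := by
    ext a; rfl
  rw [h1]
  have h2 : K = (RingHom.ker π).comap ρ := by
    rw [hK, RingHom.comap_ker]
  rw [h2, Ideal.map_comap_of_surjective ρ hρ]

/-- Extension of an essentially surjective map from a polynomial ring to a surjection from the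
localization at the preimage of the maximal ideal. -/
theorem exists_algHom_localization {k : Type*} [CommRing k] {ι : Type*} {R : Type*} [CommRing R]
    [IsLocalRing R] [Algebra k R] (ψ : MvPolynomial ι k →ₐ[k] R)
    (q' : Ideal (MvPolynomial ι k)) [q'.IsPrime]
    (hq' : q' = (maximalIdeal R).comap ψ.toRingHom)
    (hψ : ∀ r : R, ∃ a b : MvPolynomial ι k, IsUnit (ψ b) ∧ r * ψ b = ψ a) :
    ∃ ρ : Localization.AtPrime q' →ₐ[k] R, Function.Surjective ρ ∧
      ∀ x, ρ (algebraMap (MvPolynomial ι k) _ x) = ψ x := by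
  have hunit : ∀ y : q'.primeCompl, IsUnit (ψ (y : MvPolynomial ι k)) := by
    intro y
    by_contra h
    have h2 : (y : MvPolynomial ι k) ∈ (maximalIdeal R).comap ψ.toRingHom :=
      Ideal.mem_comap.mpr ((mem_maximalIdeal _).mpr h)
    exact y.2 ((SetLike.ext_iff.mp hq' (y : MvPolynomial ι k)).mpr h2)
  let ρ : Localization.AtPrime q' →ₐ[k] R := IsLocalization.liftAlgHom (M := q'.primeCompl)
    (f := ψ) hunit
  have hρ : ∀ x, ρ (algebraMap (MvPolynomial ι k) _ x) = ψ x := fun x => by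
    simp [ρ]
  refine ⟨ρ, ?_, hρ⟩
  intro r
  obtain ⟨a, b, hb, hab⟩ := hψ r
  have hbq : b ∈ q'.primeCompl := by
    change b ∉ q'
    intro h
    have h2 := (SetLike.ext_iff.mp hq' b).mp h
    rw [Ideal.mem_comap] at h2
    exact (mem_maximalIdeal _).mp h2 hb
  refine ⟨IsLocalization.mk' _ a ⟨b, hbq⟩, ?_⟩
  have h1 : ρ (IsLocalization.mk' (Localization.AtPrime q') a ⟨b, hbq⟩) * ψ b = ψ a := by
    rw [← hρ b, ← map_mul, IsLocalization.mk'_spec, hρ]
  apply hb.mul_left_injective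
  show ρ _ * ψ b = r * ψ b
  rw [h1, hab]

/-- essential surjectivity from the `EssFiniteType` finset -/
theorem ess_surj {k : Type*} [CommRing k] {ι : Type*} {R : Type*} [CommRing R] [Algebra k R]
    (σ : Finset R)
    (hσ : ∀ s : R, ∃ t ∈ Algebra.adjoin k (σ : Set R), IsUnit t ∧ s * t ∈ Algebra.adjoin k (σ : Set R))
    (ψ : MvPolynomial ι k →ₐ[k] R) (hψ : ∀ s ∈ σ, s ∈ ψ.range) :
    ∀ r : R, ∃ a b : MvPolynomial ι k, IsUnit (ψ b) ∧ r * ψ b = ψ a := by
  intro r
  have hle : Algebra.adjoin k (σ : Set R) ≤ ψ.range := Algebra.adjoin_le fun s hs => hψ s hs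
  obtain ⟨t, ht, htu, hrt⟩ := hσ r
  obtain ⟨b, rfl⟩ := hle ht
  obtain ⟨a, ha⟩ := hle hrt
  exact ⟨a, b, htu, ha.symm⟩

instance (k : Type u) [Field k] (ι : Type u) [Finite ι] (q' : Ideal (MvPolynomial ι k))
    [q'.IsPrime] : IsRegularLocalRing (Localization.AtPrime q') := inferInstance

/-- Independence of the presentation: for two surjections from regular local rings, essentially
of finite type over `k`, onto the same (nonzero) `k`-algebra, one kernel is generated by a regular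
sequence iff the other is. -/
theorem isRegularIdeal_ker_iff {k : Type u} [Field k] {R₁ R₂ T : Type u} [CommRing R₁]
    [CommRing R₂] [CommRing T] [Nontrivial T] [IsRegularLocalRing R₁] [IsRegularLocalRing R₂]
    [Algebra k R₁] [Algebra k R₂] [Algebra k T] [Algebra.EssFiniteType k R₁]
    [Algebra.EssFiniteType k R₂] (π₁ : R₁ →ₐ[k] T) (π₂ : R₂ →ₐ[k] T)
    (h₁ : Function.Surjective π₁) (h₂ : Function.Surjective π₂) :
    CInt.IsRegularIdeal (RingHom.ker π₁.toRingHom) ↔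
      CInt.IsRegularIdeal (RingHom.ker π₂.toRingHom) := by
  classical
  obtain ⟨σ₁, hσ₁⟩ := (Algebra.essFiniteType_iff k R₁).mp ‹Algebra.EssFiniteType k R₁›
  obtain ⟨σ₂, hσ₂⟩ := (Algebra.essFiniteType_iff k R₂).mp ‹Algebra.EssFiniteType k R₂›
  have hT : IsLocalRing T := IsLocalRing.of_surjective' π₁.toRingHom h₁
  have hl₁ : IsLocalHom π₁.toRingHom := IsLocalHom.of_surjective _ h₁
  have hl₂ : IsLocalHom π₂.toRingHom := IsLocalHom.of_surjective _ h₂
  choose ℓ₁ hℓ₁ using fun s : σ₂ => h₁ (π₂ s)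
  choose ℓ₂ hℓ₂ using fun s : σ₁ => h₂ (π₁ s)
  let ψ₁ : MvPolynomial (σ₁ ⊕ σ₂) k →ₐ[k] R₁ :=
    MvPolynomial.aeval (Sum.elim (fun s => (s : R₁)) ℓ₁)
  let ψ₂ : MvPolynomial (σ₁ ⊕ σ₂) k →ₐ[k] R₂ :=
    MvPolynomial.aeval (Sum.elim ℓ₂ (fun s => (s : R₂)))
  have hθ : π₁.comp ψ₁ = π₂.comp ψ₂ := by
    apply MvPolynomial.algHom_ext
    rintro (s | s)
    · simp [ψ₁, ψ₂, hℓ₂]
    · simp [ψ₁, ψ₂, hℓ₁]
  set q' : Ideal (MvPolynomial (σ₁ ⊕ σ₂) k) :=
    (maximalIdeal T).comap (π₁.comp ψ₁).toRingHom with hq'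
  have hq'p : q'.IsPrime := Ideal.comap_isPrime _ _
  have hm₁ : maximalIdeal R₁ = (maximalIdeal T).comap π₁.toRingHom := by
    ext x
    rw [Ideal.mem_comap, mem_maximalIdeal, mem_maximalIdeal, mem_nonunits_iff, mem_nonunits_iff,
      isUnit_map_iff π₁.toRingHom x]
  have hm₂ : maximalIdeal R₂ = (maximalIdeal T).comap π₂.toRingHom := by
    ext x
    rw [Ideal.mem_comap, mem_maximalIdeal, mem_maximalIdeal, mem_nonunits_iff, mem_nonunits_iff,
      isUnit_map_iff π₂.toRingHom x]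
  have hq₁ : q' = (maximalIdeal R₁).comap ψ₁.toRingHom := by
    rw [hm₁, Ideal.comap_comap]; rfl
  have hq₂ : q' = (maximalIdeal R₂).comap ψ₂.toRingHom := by
    rw [hm₂, Ideal.comap_comap, hq', hθ]; rfl
  obtain ⟨ρ₁, hρ₁s, hρ₁⟩ := exists_algHom_localization ψ₁ q' hq₁
    (ess_surj σ₁ hσ₁ ψ₁ fun s hs => ⟨MvPolynomial.X (Sum.inl ⟨s, hs⟩), by simp [ψ₁]⟩)
  obtain ⟨ρ₂, hρ₂s, hρ₂⟩ := exists_algHom_localization ψ₂ q' hq₂
    (ess_surj σ₂ hσ₂ ψ₂ fun s hs => ⟨MvPolynomial.X (Sum.inr ⟨s, hs⟩), by simp [ψ₂]⟩)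
  have hcomp : π₁.toRingHom.comp ρ₁.toRingHom = π₂.toRingHom.comp ρ₂.toRingHom := by
    apply IsLocalization.ringHom_ext q'.primeCompl
    ext x
    · simp only [RingHom.coe_comp, Function.comp_apply, AlgHom.toRingHom_eq_coe, RingHom.coe_coe]
      simp [hρ₁, hρ₂]
    · have := DFunLike.congr_fun hθ (MvPolynomial.X x)
      simpa [hρ₁, hρ₂] using this
  rw [← isRegularIdeal_ker_comp_iff ρ₁.toRingHom hρ₁s π₁.toRingHom,
    ← isRegularIdeal_ker_comp_iff ρ₂.toRingHom hρ₂s π₂.toRingHom, hcomp]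

end Groth.Agent.Lib.Helper94.CIInd
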