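import Mathlib
import Groth.Prelude.Def_RegImm
import Groth.Agent.Lib.Helper94.CIDim

set_option autoImplicit false

namespace Groth.Agent.Lib.Helper94.CIPres

open MvPolynomial

universe u

section

variable {k : Type*} [CommRing k] {n : ℕ} {S : Type*} [CommRing S] [Algebra k S]
  (φ : MvPolynomial (Fin n) k →ₐ[k] S) (gt : MvPolynomial (Fin n) k)

/-- The standard map `k[x_0, x_1, …, x_n] → S_g`, `x_0 ↦ 1/g`. -/
noncomputable def awayHom : MvPolynomial (Fin (n + 1)) k →ₐ[k] Localization.Away (φ gt) :=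
  aeval (Fin.cases (IsLocalization.Away.invSelf (φ gt))
    (fun j => algebraMap S (Localization.Away (φ gt)) (φ (X j))))

/-- The inclusion of variables. -/
noncomputable abbrev ι : MvPolynomial (Fin n) k →ₐ[k] MvPolynomial (Fin (n + 1)) k :=
  rename Fin.succ

theorem awayHom_ι (p : MvPolynomial (Fin n) k) :
    awayHom φ gt (ι p) = algebraMap S (Localization.Away (φ gt)) (φ p) := by
  have : (awayHom φ gt).comp ι =
      (IsScalarTower.toAlgHom k S (Localization.Away (φ gt))).comp φ := by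
    apply MvPolynomial.algHom_ext
    intro j
    simp [awayHom, ι]
  exact DFunLike.congr_fun this p

theorem awayHom_X_zero : awayHom φ gt (X 0) = IsLocalization.Away.invSelf (φ gt) := by
  simp [awayHom]

theorem awayHom_rel : awayHom φ gt (X 0 * ι gt - 1) = 0 := by
  rw [map_sub, map_mul, awayHom_X_zero, awayHom_ι, map_one, mul_comm,
    IsLocalization.Away.mul_invSelf, sub_self]

theorem awayHom_surjective (hφ : Function.Surjective φ) : Function.Surjective (awayHom φ gt) := by
  intro z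
  obtain ⟨⟨s, ⟨_, j, rfl⟩⟩, hz⟩ := IsLocalization.surj (Submonoid.powers (φ gt)) z
  simp only at hz
  obtain ⟨p, rfl⟩ := hφ s
  refine ⟨ι p * X 0 ^ j, ?_⟩
  rw [map_mul, map_pow, awayHom_ι, awayHom_X_zero, ← hz, mul_assoc, map_pow,
    ← mul_pow, IsLocalization.Away.mul_invSelf, one_pow, mul_one]

/-- Clearing the variable `x_0` modulo `x_0 g - 1`. -/
theorem exists_pow_mul_sub_mem (h : MvPolynomial (Fin (n + 1)) k) :
    ∃ (D : ℕ) (a : MvPolynomial (Fin n) k),
      (ι gt) ^ D * h - ι a ∈ Ideal.span {(X 0 * ι gt - 1 : MvPolynomial (Fin (n + 1)) k)} := by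
  induction h using MvPolynomial.induction_on with
  | C c =>
    refine ⟨0, C c, ?_⟩
    simp [ι]
  | add h₁ h₂ ih₁ ih₂ =>
    obtain ⟨D₁, a₁, h1⟩ := ih₁
    obtain ⟨D₂, a₂, h2⟩ := ih₂
    refine ⟨D₁ + D₂, gt ^ D₂ * a₁ + gt ^ D₁ * a₂, ?_⟩
    have : (ι gt) ^ (D₁ + D₂) * (h₁ + h₂) - ι (gt ^ D₂ * a₁ + gt ^ D₁ * a₂) =
        (ι gt) ^ D₂ * ((ι gt) ^ D₁ * h₁ - ι a₁) + (ι gt) ^ D₁ * ((ι gt) ^ D₂ * h₂ - ι a₂) := by
      simp only [map_add, map_mul, map_pow]
      ring
    rw [this]
    exact Ideal.add_mem _ (Ideal.mul_mem_left _ _ h1) (Ideal.mul_mem_left _ _ h2)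
  | mul_X h i ih =>
    obtain ⟨D, a, h1⟩ := ih
    induction i using Fin.cases with
    | zero =>
      refine ⟨D + 1, a, ?_⟩
      have : (ι gt) ^ (D + 1) * (h * X 0) - ι a =
          (ι gt) ^ D * h * (X 0 * ι gt - 1) + ((ι gt) ^ D * h - ι a) := by ring
      rw [this]
      exact Ideal.add_mem _ (Ideal.mul_mem_left _ _ (Ideal.subset_span rfl)) h1
    | succ j =>
      refine ⟨D, a * X j, ?_⟩
      have : (ι gt) ^ D * (h * X j.succ) - ι (a * X j) = ((ι gt) ^ D * h - ι a) * X j.succ := by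
        simp only [map_mul, ι, rename_X]
        ring
      rw [this]
      exact Ideal.mul_mem_right _ _ h1

/-- The kernel of the standard presentation of `S_g`. -/
theorem ker_awayHom (J : Ideal (MvPolynomial (Fin n) k))
    (hJ : J ≤ RingHom.ker φ.toRingHom)
    (hJ' : ∀ a ∈ RingHom.ker φ.toRingHom, ∃ N : ℕ, gt ^ N * a ∈ J) :
    RingHom.ker (awayHom φ gt).toRingHom =
      J.map (ι : MvPolynomial (Fin n) k →ₐ[k] _).toRingHom ⊔
        Ideal.span {(X 0 * ι gt - 1 : MvPolynomial (Fin (n + 1)) k)} := by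
  set 𝔞 := J.map (ι : MvPolynomial (Fin n) k →ₐ[k] _).toRingHom ⊔
        Ideal.span {(X 0 * ι gt - 1 : MvPolynomial (Fin (n + 1)) k)} with h𝔞
  have hspan_le : Ideal.span {(X 0 * ι gt - 1 : MvPolynomial (Fin (n + 1)) k)} ≤
      RingHom.ker (awayHom φ gt).toRingHom := by
    rw [Ideal.span_le, Set.singleton_subset_iff]
    exact awayHom_rel φ gt
  apply le_antisymm
  · intro h hh
    have hh' : awayHom φ gt h = 0 := hh
    obtain ⟨D, a, h1⟩ := exists_pow_mul_sub_mem gt h
    have h2 : awayHom φ gt ((ι gt) ^ D * h - ι a) = 0 := hspan_le h1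
    rw [map_sub, map_mul, hh', mul_zero, zero_sub, neg_eq_zero, awayHom_ι] at h2
    obtain ⟨⟨_, M, rfl⟩, hM⟩ := (IsLocalization.map_eq_zero_iff (Submonoid.powers (φ gt))
      (Localization.Away (φ gt)) (φ a)).mp h2
    simp only at hM
    have h3 : gt ^ M * a ∈ RingHom.ker φ.toRingHom := by
      change φ (gt ^ M * a) = 0
      rw [map_mul, map_pow, hM]
    obtain ⟨N, hN⟩ := hJ' _ h3
    -- (ι gt)^(N+M+D) * h ∈ 𝔞
    have h4 : (ι gt) ^ (N + M + D) * h ∈ 𝔞 := by
      have : (ι gt) ^ (N + M + D) * h =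
          (ι gt) ^ (N + M) * ((ι gt) ^ D * h - ι a) + ι (gt ^ N * (gt ^ M * a)) := by
        simp only [map_mul, map_pow]
        ring
      rw [this]
      refine Ideal.add_mem _ (Ideal.mul_mem_left _ _ (Ideal.mem_sup_right h1))
        (Ideal.mem_sup_left ?_)
      exact Ideal.mem_map_of_mem _ hN
    -- ι gt is a unit modulo 𝔞
    have hu : IsUnit (Ideal.Quotient.mk 𝔞 (ι gt)) := by
      refine IsUnit.of_mul_eq_one (Ideal.Quotient.mk 𝔞 (X 0)) ?_
      rw [← map_mul, ← map_one (Ideal.Quotient.mk 𝔞), ← sub_eq_zero, ← map_sub,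
        Ideal.Quotient.eq_zero_iff_mem, mul_comm]
      exact Ideal.mem_sup_right (Ideal.subset_span rfl)
    rw [← Ideal.Quotient.eq_zero_iff_mem, map_mul, map_pow] at h4
    rw [← Ideal.Quotient.eq_zero_iff_mem]
    exact ((hu.pow _).mul_right_eq_zero).mp h4
  · refine sup_le ?_ hspan_le
    rw [Ideal.map_le_iff_le_comap]
    intro a ha
    change awayHom φ gt (ι a) = 0
    rw [awayHom_ι, show φ a = 0 from hJ ha, map_zero]

end

section GCI

variable {k : Type u} [Field k] {S : Type u} [CommRing S] [Algebra k S]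

theorem isGlobalCI_of_algEquiv {S' : Type u} [CommRing S'] [Algebra k S'] (e : S ≃ₐ[k] S')
    (h : Synt.IsGlobalCI k S) : Synt.IsGlobalCI k S' := by
  rcases h with h | ⟨n, c, hc, φ, r, hφ, hker, hdim⟩
  · exact Or.inl (e.symm.toEquiv.subsingleton)
  · refine Or.inr ⟨n, c, hc, e.toAlgHom.comp φ, r, e.surjective.comp hφ, ?_, ?_⟩
    · rw [← hker]
      ext x
      simp only [RingHom.mem_ker]
      change e (φ x) = 0 ↔ φ x = 0
      exact e.map_eq_zero_iff
    · rw [← hdim]
      exact (ringKrullDim_eq_of_ringEquiv e.toRingEquiv).symm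

/-- kernel of the standard presentation of `S_g` in terms of a generating family. -/
theorem ker_awayHom_range {n : ℕ} (φ : MvPolynomial (Fin n) k →ₐ[k] S)
    (gt : MvPolynomial (Fin n) k) (c : ℕ) (r : Fin c → MvPolynomial (Fin n) k)
    (hJ : Ideal.span (Set.range r) ≤ RingHom.ker φ.toRingHom)
    (hJ' : ∀ a ∈ RingHom.ker φ.toRingHom, ∃ N : ℕ, gt ^ N * a ∈ Ideal.span (Set.range r)) :
    RingHom.ker (awayHom φ gt).toRingHom =
      Ideal.span (Set.range (Fin.cons (X 0 * ι gt - 1) (fun i => ι (r i)) :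
        Fin (c + 1) → MvPolynomial (Fin (n + 1)) k)) := by
  rw [ker_awayHom φ gt _ hJ hJ', Ideal.map_span, Fin.range_cons, Ideal.span_insert, sup_comm]
  congr 2
  ext x
  simp

/-- Principal localizations of global complete intersections are global complete
intersections. -/
theorem isGlobalCI_away (g : S) (h : Synt.IsGlobalCI k S) :
    Synt.IsGlobalCI k (Localization.Away g) := by
  rcases h with h | ⟨n, c, hc, φ, r, hφ, hker, hdim⟩
  · left
    refine subsingleton_of_zero_eq_one ?_
    rw [← map_zero (algebraMap S (Localization.Away g)),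
      ← map_one (algebraMap S (Localization.Away g)), Subsingleton.elim (0 : S) 1]
  · by_cases hnt : Subsingleton (Localization.Away g)
    · exact Or.inl hnt
    · rw [not_subsingleton_iff_nontrivial] at hnt
      obtain ⟨gt, rfl⟩ := hφ g
      refine Or.inr ⟨n + 1, c + 1, by omega, awayHom φ gt, _, awayHom_surjective φ gt hφ,
        ker_awayHom_range φ gt c r hker.ge ?_, ?_⟩
      · intro a ha
        exact ⟨0, by rw [pow_zero, one_mul, ← hker]; exact ha⟩
      · rw [Groth.Agent.Lib.Helper94.CIDim.gci_ringKrullDim_away φ hφ c r hker hc hdim (φ gt),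
          Nat.add_sub_add_right]

/-- Principal localizations of local complete intersections are local complete intersections. -/
theorem isLCIOver_away (g : S) (h : Synt.IsLCIOver k S) :
    Synt.IsLCIOver k (Localization.Away g) := by
  obtain ⟨hFT, h⟩ := h
  refine ⟨inferInstance, fun p => ?_⟩
  have hp' : (p.asIdeal.under S).IsPrime := Ideal.IsPrime.under S p.asIdeal
  obtain ⟨h₀, hh₀, hGCI⟩ := h ⟨p.asIdeal.under S, hp'⟩
  refine ⟨algebraMap S (Localization.Away g) h₀, hh₀, ?_⟩
  have h1 : Synt.IsGlobalCI k (Localization.Away (algebraMap S (Localization.Away h₀) g)) :=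
    isGlobalCI_away _ hGCI
  have i1 : IsLocalization.Away (h₀ * g)
      (Localization.Away (algebraMap S (Localization.Away h₀) g)) := inferInstance
  have i2 : IsLocalization.Away (h₀ * g)
      (Localization.Away (algebraMap S (Localization.Away g) h₀)) := inferInstance
  let e : Localization.Away (algebraMap S (Localization.Away h₀) g) ≃ₐ[S]
      Localization.Away (algebraMap S (Localization.Away g) h₀) :=
    IsLocalization.algEquiv (Submonoid.powers (h₀ * g)) _ _
  exact isGlobalCI_of_algEquiv (e.restrictScalars k) h1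

end GCI

end Groth.Agent.Lib.Helper94.CIPres
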