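import Mathlib
import Groth.Prelude.Def_RegImm
import Groth.Agent.Lib.Helper94.CIField
import Groth.Agent.Lib.Helper94.CILocal
import Groth.Agent.Lib.Helper94.CIDim
import Groth.Agent.Lib.Helper94.CIPres
import Groth.Agent.Lib.Helper94.CIInd

/-!
# Standard local presentations of finite type algebras over a field; spreading out (helper94)
-/

set_option autoImplicit false

namespace Groth.Agent.Lib.Helper94.CILoc

open IsLocalRing Groth.Agent.Lib.Helper94.CILocal Groth.Agent.Lib.Helper94.CIDim
  Groth.Agent.Lib.Helper94.CIPres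

universe u

section LemmaL

variable {P S : Type*} [CommRing P] [CommRing S] (f : P →+* S) (hf : Function.Surjective f)
  (I : Ideal P) [I.IsPrime] (J : Ideal S) [J.IsPrime] (hIJ : I = J.comap f)

include hf

theorem localRingHom_surjective : Function.Surjective (Localization.localRingHom I J f hIJ) := by
  intro y
  obtain ⟨s, t, rfl⟩ := IsLocalization.exists_mk'_eq J.primeCompl y
  obtain ⟨a, rfl⟩ := hf s
  obtain ⟨b, hb⟩ := hf t
  have hbI : b ∈ I.primeCompl := by
    change b ∉ I
    intro h
    have h2 := (SetLike.ext_iff.mp hIJ b).mp h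
    rw [Ideal.mem_comap, hb] at h2
    exact t.2 h2
  refine ⟨IsLocalization.mk' _ a ⟨b, hbI⟩, ?_⟩
  rw [Localization.localRingHom_mk']
  congr 1
  exact Subtype.ext hb

theorem ker_localRingHom : RingHom.ker (Localization.localRingHom I J f hIJ) =
    (RingHom.ker f).map (algebraMap P (Localization.AtPrime I)) := by
  apply le_antisymm
  · intro x hx
    obtain ⟨a, b, rfl⟩ := IsLocalization.exists_mk'_eq I.primeCompl x
    rw [RingHom.mem_ker, Localization.localRingHom_mk', IsLocalization.mk'_eq_zero_iff] at hx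
    obtain ⟨m, hm⟩ := hx
    obtain ⟨c, hc⟩ := hf m
    have hcI : c ∈ I.primeCompl := by
      change c ∉ I
      intro h
      have h2 := (SetLike.ext_iff.mp hIJ c).mp h
      rw [Ideal.mem_comap, hc] at h2
      exact m.2 h2
    have hca : c * a ∈ RingHom.ker f := by
      rw [RingHom.mem_ker, map_mul, hc, hm]
    rw [IsLocalization.mem_map_algebraMap_iff I.primeCompl]
    refine ⟨⟨⟨c * a, hca⟩, ⟨c, hcI⟩ * b⟩, ?_⟩
    simp only [Submonoid.coe_mul, map_mul]
    rw [mul_comm (algebraMap P _ c), ← mul_assoc, IsLocalization.mk'_spec, mul_comm]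
  · rw [Ideal.map_le_iff_le_comap]
    intro x hx
    rw [Ideal.mem_comap, RingHom.mem_ker, Localization.localRingHom_to_map,
      (RingHom.mem_ker).mp hx, map_zero]

/-- `R ⧸ (ker f) R ≃ S_J`. -/
noncomputable def quotientEquivLocalization :
    (Localization.AtPrime I ⧸ (RingHom.ker f).map (algebraMap P (Localization.AtPrime I))) ≃+*
      Localization.AtPrime J :=
  (Ideal.quotEquivOfEq (ker_localRingHom f hf I J hIJ).symm).trans
    (RingHom.quotientKerEquivOfSurjective (localRingHom_surjective f hf I J hIJ))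

include hIJ in
theorem ringKrullDim_quotient_map_ker :
    ringKrullDim (Localization.AtPrime I ⧸
      (RingHom.ker f).map (algebraMap P (Localization.AtPrime I))) = J.height := by
  rw [ringKrullDim_eq_of_ringEquiv (quotientEquivLocalization f hf I J hIJ),
    IsLocalization.AtPrime.ringKrullDim_eq_height J]

include hIJ in
theorem map_ker_le_maximalIdeal :
    (RingHom.ker f).map (algebraMap P (Localization.AtPrime I)) ≤
      maximalIdeal (Localization.AtPrime I) := by
  rw [← ker_localRingHom f hf I J hIJ]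
  exact le_maximalIdeal (RingHom.ker_ne_top _)

end LemmaL

theorem ringKrullDim_quotient_eq_coheight {A : Type*} [CommRing A] (p : PrimeSpectrum A) :
    ringKrullDim (A ⧸ p.asIdeal) = (Order.coheight p : WithBot ℕ∞) := by
  rw [ringKrullDim_quotient, Order.coheight_eq_krullDim_Ici]
  have : PrimeSpectrum.zeroLocus (p.asIdeal : Set A) = Set.Ici p := by
    ext P
    simp only [PrimeSpectrum.mem_zeroLocus, SetLike.coe_subset_coe, Set.mem_Ici]
    rfl
  rw [this]

/-- The dimension is bounded by the dimensions of the irreducible components. -/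
theorem ringKrullDim_le_of_minimalPrimes {R : Type*} [CommRing R] (N : WithBot ℕ∞)
    (h : ∀ p₀ ∈ minimalPrimes R, ringKrullDim (R ⧸ p₀) ≤ N) : ringKrullDim R ≤ N := by
  unfold ringKrullDim
  rw [Order.krullDim_eq_iSup_coheight]
  refine iSup_le fun 𝔫 => ?_
  obtain ⟨p₀, hp₀, hle⟩ := Ideal.exists_minimalPrimes_le (bot_le : (⊥ : Ideal R) ≤ 𝔫.asIdeal)
  have hp₀p : p₀.IsPrime := hp₀.1.1
  have h1 : Order.coheight 𝔫 ≤ Order.coheight (⟨p₀, hp₀p⟩ : PrimeSpectrum R) :=
    Order.coheight_anti (show (⟨p₀, hp₀p⟩ : PrimeSpectrum R) ≤ 𝔫 from hle)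
  have h2 := h p₀ hp₀
  rw [ringKrullDim_quotient_eq_coheight ⟨p₀, hp₀p⟩] at h2
  exact le_trans (by exact_mod_cast h1) h2

theorem height_le_height_comap_of_surjective {R S : Type*} [CommRing R] [CommRing S]
    (f : R →+* S) (hf : Function.Surjective f) (J : Ideal S) [hJ : J.IsPrime] :
    J.height ≤ (J.comap f).height := by
  have hφ : StrictMono (PrimeSpectrum.comap f) := by
    intro x y hxy
    refine lt_of_le_of_ne (Ideal.comap_mono hxy.le) ?_
    intro heq
    exact hxy.ne ((PrimeSpectrum.comap_injective_of_surjective _ hf) heq)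
  have h1 := Order.height_le_height_apply_of_strictMono _ hφ (⟨J, hJ⟩ : PrimeSpectrum S)
  rw [← PrimeSpectrum.height_eq_orderHeight, ← PrimeSpectrum.height_eq_orderHeight] at h1
  exact h1

/-- (MP) If every irreducible component of `D(g)` passes through `q`, then
`dim S_g ≤ ht q + dim S/q`. -/
theorem ringKrullDim_away_le (k : Type*) [Field k] (S : Type*) [CommRing S] [Algebra k S]
    [Algebra.FiniteType k S] (q : Ideal S) [q.IsPrime] (g : S)
    (hg : ∀ p ∈ minimalPrimes S, g ∉ p → p ≤ q) :
    ringKrullDim (Localization.Away g) ≤ ((q.height : ℕ∞) : WithBot ℕ∞) + ringKrullDim (S ⧸ q) := by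
  apply ringKrullDim_le_of_minimalPrimes
  intro P₀ hP₀
  have hP₀p : P₀.IsPrime := hP₀.1.1
  set p₀ := P₀.under S with hp₀
  have hp₀p : p₀.IsPrime := Ideal.IsPrime.under S P₀
  have hgp₀ : g ∉ p₀ := by
    intro h
    rw [hp₀, Ideal.under_def, Ideal.mem_comap] at h
    exact hP₀p.ne_top (Ideal.eq_top_of_isUnit_mem _ h (IsLocalization.Away.algebraMap_isUnit g))
  have hmap : p₀.map (algebraMap S (Localization.Away g)) = P₀ :=
    IsLocalization.map_under (Submonoid.powers g) _ P₀
  obtain ⟨p₀₀, hp₀₀, hle⟩ := Ideal.exists_minimalPrimes_le (bot_le : (⊥ : Ideal S) ≤ p₀)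
  have hp₀₀p : p₀₀.IsPrime := hp₀₀.1.1
  have hp₀₀q : p₀₀ ≤ q := hg p₀₀ hp₀₀ fun h => hgp₀ (hle h)
  -- step 1
  have h1 : ringKrullDim (Localization.Away g ⧸ P₀) ≤ ringKrullDim (S ⧸ p₀) := by
    rw [ringKrullDim_eq_of_ringEquiv (Ideal.quotEquivOfEq hmap.symm)]
    exact ringKrullDim_localization_le
      (Algebra.algebraMapSubmonoid (S ⧸ p₀) (Submonoid.powers g)) _
  have h2 : ringKrullDim (S ⧸ p₀) ≤ ringKrullDim (S ⧸ p₀₀) :=
    ringKrullDim_le_of_surjective (Ideal.Quotient.factor hle) (Ideal.Quotient.factor_surjective hle)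
  have hqp : (q.map (Ideal.Quotient.mk p₀₀)).IsPrime :=
    Ideal.isPrime_map_quotientMk_of_isPrime hp₀₀q
  have h3 := Groth.Agent.Lib.Helper73.height_add_ringKrullDim_quotient k (A := S ⧸ p₀₀)
    (q.map (Ideal.Quotient.mk p₀₀))
  have h4 : ringKrullDim ((S ⧸ p₀₀) ⧸ q.map (Ideal.Quotient.mk p₀₀)) = ringKrullDim (S ⧸ q) :=
    ringKrullDim_eq_of_ringEquiv (DoubleQuot.quotQuotEquivQuotOfLE hp₀₀q)
  have h5 : (q.map (Ideal.Quotient.mk p₀₀)).height ≤ q.height := by
    have := height_le_height_comap_of_surjective (Ideal.Quotient.mk p₀₀)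
      Ideal.Quotient.mk_surjective (q.map (Ideal.Quotient.mk p₀₀))
    rwa [Ideal.comap_map_of_surjective _ Ideal.Quotient.mk_surjective,
      ← RingHom.ker_eq_comap_bot, Ideal.mk_ker, sup_eq_left.mpr hp₀₀q] at this
  rw [h4] at h3
  refine le_trans h1 (le_trans h2 ?_)
  rw [← h3]
  gcongr
  exact_mod_cast h5

section GCI

variable {k : Type u} [Field k] {n : ℕ} {S : Type u} [CommRing S] [Algebra k S]
  (φ : MvPolynomial (Fin n) k →ₐ[k] S) (hφ : Function.Surjective φ)

include hφ

/-- If `c` elements generate the kernel of the standard local presentation at `q` and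
`c + ht q = ht q'`, they form a regular sequence. -/
theorem isRegular_ofFn_of_span_eq (q : Ideal S) [q.IsPrime] (c : ℕ)
    (hc : (c : ℕ∞) + q.height = (q.comap φ.toRingHom).height)
    (f : Fin c → Localization.AtPrime (q.comap φ.toRingHom))
    (hf : Ideal.span (Set.range f) = (RingHom.ker φ.toRingHom).map (algebraMap _ _)) :
    RingTheory.Sequence.IsRegular (Localization.AtPrime (q.comap φ.toRingHom)) (List.ofFn f) := by
  have hφ' : Function.Surjective φ.toRingHom := hφ
  apply Groth.Agent.Lib.Helper94.CIField.isRegular_of_ringKrullDim_quotient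
  · intro x hx
    rw [List.mem_ofFn] at hx
    obtain ⟨i, rfl⟩ := hx
    apply map_ker_le_maximalIdeal φ.toRingHom hφ' _ q rfl
    rw [← hf]
    exact Ideal.subset_span ⟨i, rfl⟩
  · rw [Groth.Agent.Lib.Helper94.CIField.ofList_ofFn, hf, List.length_ofFn,
      ringKrullDim_quotient_map_ker φ.toRingHom hφ' _ q rfl,
      IsLocalization.AtPrime.ringKrullDim_eq_height (q.comap φ.toRingHom), ← hc]
    push_cast
    rw [add_comm]

/-- (LOC) In a global complete intersection, the kernel of every standard local presentation is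
generated by a regular sequence. -/
theorem isRegularIdeal_map_ker_of_gci (c : ℕ) (r : Fin c → MvPolynomial (Fin n) k)
    (hker : RingHom.ker φ.toRingHom = Ideal.span (Set.range r)) (hc : c ≤ n)
    (hdim : ringKrullDim S = ((n - c : ℕ) : WithBot ℕ∞)) (q : Ideal S) [q.IsPrime] :
    CInt.IsRegularIdeal ((RingHom.ker φ.toRingHom).map
      (algebraMap _ (Localization.AtPrime (q.comap φ.toRingHom)))) := by
  have hc' := Groth.Agent.Lib.Helper94.CIDim.gci_height_eq φ hφ c r hker hc hdim q
  let f : Fin c → Localization.AtPrime (q.comap φ.toRingHom) := fun i => algebraMap _ _ (r i)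
  have hf : Ideal.span (Set.range f) = (RingHom.ker φ.toRingHom).map (algebraMap _ _) := by
    rw [hker, Ideal.map_span, ← Set.range_comp]
    rfl
  exact ⟨List.ofFn f, isRegular_ofFn_of_span_eq φ hφ q c hc' f hf,
    by rw [Groth.Agent.Lib.Helper94.CIField.ofList_ofFn, hf]⟩

/-- (SO) Spreading out: if the kernel of the standard local presentation at `q` is generated by
`c = ht q' - ht q` elements, a principal open neighbourhood of `q` is a global complete
intersection. -/
theorem exists_isGlobalCI_away (q : Ideal S) [q.IsPrime] (c : ℕ)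
    (hc : (c : ℕ∞) + q.height = (q.comap φ.toRingHom).height)
    (s : Finset (Localization.AtPrime (q.comap φ.toRingHom))) (hs : s.card = c)
    (hspan : Ideal.span (s : Set (Localization.AtPrime (q.comap φ.toRingHom))) =
      (RingHom.ker φ.toRingHom).map (algebraMap _ _)) :
    ∃ g : S, g ∉ q ∧ Synt.IsGlobalCI k (Localization.Away g) := by
  classical
  have hFT : Algebra.FiniteType k S := finiteType_of_surjective φ hφ
  have hN : IsNoetherianRing S := Algebra.FiniteType.isNoetherianRing k S
  set I := RingHom.ker φ.toRingHom with hI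
  -- Step 2: lift generators
  have hlift : ∀ x : s, ∃ (a t : MvPolynomial (Fin n) k), a ∈ I ∧ t ∉ q.comap φ.toRingHom ∧
      (x : Localization.AtPrime (q.comap φ.toRingHom)) * algebraMap _ _ t = algebraMap _ _ a := by
    intro x
    have hx : (x : Localization.AtPrime (q.comap φ.toRingHom)) ∈ I.map (algebraMap _ (Localization.AtPrime (q.comap φ.toRingHom))) := by
      rw [← hspan]; exact Ideal.subset_span x.2
    rw [IsLocalization.mem_map_algebraMap_iff (q.comap φ.toRingHom).primeCompl] at hx
    obtain ⟨⟨a, t⟩, h⟩ := hx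
    exact ⟨a, t, a.2, t.2, h⟩
  choose a t haI htq hat using hlift
  let eqv : Fin c ≃ s := (s.equivFinOfCardEq hs).symm
  let b : Fin c → MvPolynomial (Fin n) k := fun i => a (eqv i)
  have hJle : Ideal.span (Set.range b) ≤ I := by
    rw [Ideal.span_le]
    rintro _ ⟨i, rfl⟩
    exact haI _
  have hJmap : (Ideal.span (Set.range b)).map (algebraMap _ (Localization.AtPrime (q.comap φ.toRingHom))) =
      I.map (algebraMap _ (Localization.AtPrime (q.comap φ.toRingHom))) := by
    apply le_antisymm (Ideal.map_mono hJle)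
    rw [← hspan, Ideal.span_le]
    intro x hx
    have hu : IsUnit (algebraMap _ (Localization.AtPrime (q.comap φ.toRingHom)) (t ⟨x, hx⟩)) :=
      IsLocalization.map_units (Localization.AtPrime (q.comap φ.toRingHom)) (⟨t ⟨x, hx⟩, htq _⟩ : (q.comap φ.toRingHom).primeCompl)
    have hx' : x = algebraMap _ (Localization.AtPrime (q.comap φ.toRingHom)) (a ⟨x, hx⟩) * ↑hu.unit⁻¹ := by
      rw [← hat ⟨x, hx⟩, mul_assoc, hu.mul_val_inv, mul_one]
    rw [SetLike.mem_coe, hx']
    apply Ideal.mul_mem_right
    apply Ideal.mem_map_of_mem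
    apply Ideal.subset_span
    exact ⟨eqv.symm ⟨x, hx⟩, by simp only [b, Equiv.apply_symm_apply]⟩
  -- Step 3
  obtain ⟨F, hF⟩ : I.FG := IsNoetherian.noetherian I
  have hw : ∀ y : F, ∃ w : MvPolynomial (Fin n) k, w ∉ q.comap φ.toRingHom ∧
      w * (y : MvPolynomial (Fin n) k) ∈ Ideal.span (Set.range b) := by
    intro y
    have hy : algebraMap _ (Localization.AtPrime (q.comap φ.toRingHom)) (y : MvPolynomial (Fin n) k) ∈
        (Ideal.span (Set.range b)).map (algebraMap _ (Localization.AtPrime (q.comap φ.toRingHom))) := by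
      rw [hJmap]
      apply Ideal.mem_map_of_mem
      rw [← hF]
      exact Ideal.subset_span y.2
    rw [IsLocalization.mem_map_algebraMap_iff (q.comap φ.toRingHom).primeCompl] at hy
    obtain ⟨⟨j, t'⟩, h⟩ := hy
    rw [← map_mul, IsLocalization.eq_iff_exists (q.comap φ.toRingHom).primeCompl] at h
    obtain ⟨u, hu⟩ := h
    refine ⟨u * t', (q.comap φ.toRingHom).primeCompl.mul_mem u.2 t'.2, ?_⟩
    have : (u : MvPolynomial (Fin n) k) * t' * y = u * j := by rw [← hu]; ring
    rw [this]
    exact Ideal.mul_mem_left _ _ j.2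
  choose w hwq hwJ using hw
  let g₀ : MvPolynomial (Fin n) k := ∏ y : F, w y
  have hg₀q : g₀ ∉ q.comap φ.toRingHom := by
    intro h
    obtain ⟨y, -, hy⟩ := (Ideal.IsPrime.prod_mem_iff (p := q.comap φ.toRingHom)).mp h
    exact hwq y hy
  have hg₀ : ∀ x ∈ I, g₀ * x ∈ Ideal.span (Set.range b) := by
    intro x hx
    rw [← hF] at hx
    induction hx using Submodule.span_induction with
    | mem y hy =>
      have : g₀ = (∏ z ∈ Finset.univ.erase (⟨y, hy⟩ : F), w z) * w ⟨y, hy⟩ :=
        (Finset.prod_erase_mul _ _ (Finset.mem_univ _)).symm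
      rw [this, mul_assoc]
      exact Ideal.mul_mem_left _ _ (hwJ ⟨y, hy⟩)
    | zero => simp
    | add x y _ _ hx hy => rw [mul_add]; exact Ideal.add_mem _ hx hy
    | smul r x _ hx => rw [smul_eq_mul, mul_left_comm]; exact Ideal.mul_mem_left _ _ hx
  -- Step 4
  have hfin : (minimalPrimes S).Finite := minimalPrimes.finite_of_isNoetherianRing S
  have hfin' : {p : Ideal S | p ∈ minimalPrimes S ∧ ¬ p ≤ q}.Finite :=
    hfin.subset fun p hp => hp.1
  have hh : ∀ p : {p : Ideal S | p ∈ minimalPrimes S ∧ ¬ p ≤ q}, ∃ h : S, h ∈ p.1 ∧ h ∉ q :=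
    fun p => Set.not_subset.mp p.2.2
  choose h hhp hhq using hh
  have : Fintype {p : Ideal S | p ∈ minimalPrimes S ∧ ¬ p ≤ q} := hfin'.fintype
  let g₁ : S := ∏ p, h p
  have hg₁q : g₁ ∉ q := by
    intro hmem
    obtain ⟨p, -, hp⟩ := (Ideal.IsPrime.prod_mem_iff (p := q)).mp hmem
    exact hhq p hp
  have hg₁ : ∀ p ∈ minimalPrimes S, g₁ ∉ p → p ≤ q := by
    intro p hp hgp
    by_contra hpq
    apply hgp
    have hd : h ⟨p, hp, hpq⟩ ∣ g₁ := Finset.dvd_prod_of_mem _ (Finset.mem_univ _)
    exact Ideal.mem_of_dvd _ hd (hhp ⟨p, hp, hpq⟩)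
  obtain ⟨gt₁, hgt₁⟩ := hφ g₁
  set gt := g₀ * gt₁ with hgt
  have hφgt : φ gt = φ g₀ * g₁ := by rw [hgt, map_mul, hgt₁]
  have hφg₀ : φ g₀ ∉ q := hg₀q
  have hgq : φ gt ∉ q := by
    rw [hφgt]
    exact fun hmem => (Ideal.IsPrime.mem_or_mem inferInstance hmem).elim hφg₀ hg₁q
  refine ⟨φ gt, hgq, ?_⟩
  -- numerics
  have h1 := height_comap_add_ringKrullDim_quotient φ hφ q
  obtain ⟨e, he⟩ := Groth.Agent.Lib.Helper73.exists_nat_ringKrullDim_eq k (S ⧸ q)
  obtain ⟨a₀, ha₀⟩ := ENat.ne_top_iff_exists.mp (Ideal.height_ne_top_of_isPrime (I := q))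
  obtain ⟨b₀, hb₀⟩ := ENat.ne_top_iff_exists.mp (Ideal.height_ne_top_of_isPrime (I := q.comap φ.toRingHom))
  rw [← hb₀, he] at h1
  rw [← ha₀, ← hb₀] at hc
  have h1' : b₀ + e = n := by exact_mod_cast h1
  have hc' : c + a₀ = b₀ := by exact_mod_cast hc
  -- dimension
  have hdim : ringKrullDim (Localization.Away (φ gt)) = ((n + 1 - (c + 1) : ℕ) : WithBot ℕ∞) := by
    have hX : ((q.height : ℕ∞) : WithBot ℕ∞) + ringKrullDim (S ⧸ q) =
        ((n + 1 - (c + 1) : ℕ) : WithBot ℕ∞) := by
      rw [← ha₀, he]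
      obtain ⟨N, hN⟩ : ∃ N, n + 1 - (c + 1) = N := ⟨_, rfl⟩
      rw [hN]
      have : a₀ + e = N := by omega
      exact_mod_cast this
    rw [← hX]
    apply le_antisymm
    · refine ringKrullDim_away_le k S q (φ gt) fun p hp hgp => hg₁ p hp fun hmem => hgp ?_
      rw [hφgt]
      exact Ideal.mul_mem_left _ _ hmem
    · exact height_add_ringKrullDim_quotient_le_away k S (φ gt) q hgq
  refine Or.inr ⟨n + 1, c + 1, by omega, awayHom φ gt, _, awayHom_surjective φ gt hφ,
    ker_awayHom_range φ gt c b hJle ?_, hdim⟩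
  intro x hx
  refine ⟨1, ?_⟩
  rw [pow_one, hgt, mul_comm g₀, mul_assoc]
  exact Ideal.mul_mem_left _ _ (hg₀ x hx)

end GCI

section Iso

variable {k : Type*} [CommRing k] {S : Type*} [CommRing S] [Algebra k S] (g : S) (q : Ideal S)
  [q.IsPrime] (hg : g ∉ q)

include hg

theorem isPrime_map_away : (q.map (algebraMap S (Localization.Away g))).IsPrime := by
  have hdisj : Disjoint (Submonoid.powers g : Set S) (q : Set S) := by
    rw [Set.disjoint_left]
    rintro _ ⟨n, rfl⟩ hn
    exact hg (Ideal.IsPrime.mem_of_pow_mem inferInstance n hn)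
  exact IsLocalization.isPrime_of_isPrime_disjoint (Submonoid.powers g) _ q inferInstance hdisj

theorem comap_map_away : (q.map (algebraMap S (Localization.Away g))).comap
    (algebraMap S (Localization.Away g)) = q := by
  have hdisj : Disjoint (Submonoid.powers g : Set S) (q : Set S) := by
    rw [Set.disjoint_left]
    rintro _ ⟨n, rfl⟩ hn
    exact hg (Ideal.IsPrime.mem_of_pow_mem inferInstance n hn)
  exact IsLocalization.under_map_of_isPrime_disjoint (Submonoid.powers g) _ inferInstance hdisj

/-- `S_q ≃ (S_g)_{q S_g}` as `k`-algebras. -/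
noncomputable def atPrimeAwayEquiv
    [hP : (q.map (algebraMap S (Localization.Away g))).IsPrime] :
    Localization.AtPrime q ≃ₐ[k] Localization.AtPrime (q.map (algebraMap S (Localization.Away g))) :=
  have hloc := IsLocalization.isLocalization_isLocalization_atPrime_isLocalization
      (M := Submonoid.powers g)
      (Localization.AtPrime (q.map (algebraMap S (Localization.Away g))))
      (q.map (algebraMap S (Localization.Away g)))
  have hloc' : IsLocalization q.primeCompl
      (Localization.AtPrime (q.map (algebraMap S (Localization.Away g)))) := by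
    have hpc : ((q.map (algebraMap S (Localization.Away g))).comap
        (algebraMap S (Localization.Away g))).primeCompl = q.primeCompl := by
      ext x
      rw [Ideal.mem_primeCompl_iff, Ideal.mem_primeCompl_iff, comap_map_away g q hg]
    rw [← hpc]
    exact hloc
  (IsLocalization.algEquiv q.primeCompl (Localization.AtPrime q)
    (Localization.AtPrime (q.map (algebraMap S (Localization.Away g))))).restrictScalars k

end Iso

section GCI

variable {k : Type u} [Field k] {n : ℕ} {S : Type u} [CommRing S] [Algebra k S]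
  (φ : MvPolynomial (Fin n) k →ₐ[k] S) (hφ : Function.Surjective φ)

include hφ

/-- The standard local presentation `k[x]_{q'} → S_q`. -/
noncomputable abbrev stdHom (q : Ideal S) [q.IsPrime] :
    Localization.AtPrime (q.comap φ.toRingHom) →ₐ[k] Localization.AtPrime q :=
  Localization.localAlgHom (q.comap φ.toRingHom) q φ rfl

omit hφ in
theorem stdHom_toRingHom (q : Ideal S) [q.IsPrime] :
    (stdHom φ q).toRingHom = Localization.localRingHom (q.comap φ.toRingHom) q φ.toRingHom rfl :=
  rfl

theorem stdHom_surjective (q : Ideal S) [q.IsPrime] : Function.Surjective (stdHom φ q) :=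
  localRingHom_surjective φ.toRingHom hφ _ q rfl

theorem ker_stdHom (q : Ideal S) [q.IsPrime] :
    RingHom.ker (stdHom φ q).toRingHom = (RingHom.ker φ.toRingHom).map (algebraMap _ _) :=
  ker_localRingHom φ.toRingHom hφ _ q rfl

/-- (i) With `c + ht q = ht q'`: the kernel of the standard local presentation is generated by a
regular sequence iff it is generated by `c` elements. -/
theorem isRegularIdeal_iff_exists_finset (q : Ideal S) [q.IsPrime] (c : ℕ)
    (hc : (c : ℕ∞) + q.height = (q.comap φ.toRingHom).height) :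
    CInt.IsRegularIdeal ((RingHom.ker φ.toRingHom).map
        (algebraMap _ (Localization.AtPrime (q.comap φ.toRingHom)))) ↔
      ∃ s : Finset (Localization.AtPrime (q.comap φ.toRingHom)), s.card = c ∧
        Ideal.span (s : Set (Localization.AtPrime (q.comap φ.toRingHom))) =
          (RingHom.ker φ.toRingHom).map (algebraMap _ _) := by
  classical
  have hφ' : Function.Surjective φ.toRingHom := hφ
  have hKm := map_ker_le_maximalIdeal φ.toRingHom hφ' _ q rfl
  constructor
  · intro h
    rw [isRegularIdeal_iff_dim _ _ hKm, ringKrullDim_quotient_map_ker φ.toRingHom hφ' _ q rfl,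
      IsLocalization.AtPrime.ringKrullDim_eq_height (q.comap φ.toRingHom), ← hc] at h
    obtain ⟨s, hs, hspan⟩ := Submodule.FG.exists_span_finset_card_eq_spanFinrank
      (IsNoetherian.noetherian ((RingHom.ker φ.toRingHom).map
        (algebraMap _ (Localization.AtPrime (q.comap φ.toRingHom)))))
    refine ⟨s, ?_, hspan⟩
    rw [hs]
    have hFT : Algebra.FiniteType k S := finiteType_of_surjective φ hφ
    have hN : IsNoetherianRing S := Algebra.FiniteType.isNoetherianRing k S
    obtain ⟨a₀, ha₀⟩ := ENat.ne_top_iff_exists.mp (Ideal.height_ne_top_of_isPrime (I := q))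
    rw [← ha₀] at h
    have : a₀ + Submodule.spanFinrank ((RingHom.ker φ.toRingHom).map
        (algebraMap _ (Localization.AtPrime (q.comap φ.toRingHom)))) = c + a₀ := by
      exact_mod_cast h
    omega
  · rintro ⟨s, hs, hspan⟩
    let f : Fin c → Localization.AtPrime (q.comap φ.toRingHom) :=
      fun i => ((s.equivFinOfCardEq hs).symm i : Localization.AtPrime (q.comap φ.toRingHom))
    have hf : Ideal.span (Set.range f) = (RingHom.ker φ.toRingHom).map (algebraMap _ _) := by
      rw [← hspan]
      congr 1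
      ext x
      simp only [f, Set.mem_range, Finset.mem_coe]
      constructor
      · rintro ⟨i, rfl⟩
        exact ((s.equivFinOfCardEq hs).symm i).2
      · intro hx
        exact ⟨s.equivFinOfCardEq hs ⟨x, hx⟩, by rw [Equiv.symm_apply_apply]⟩
    exact ⟨List.ofFn f, isRegular_ofFn_of_span_eq φ hφ q c hc f hf,
      by rw [Groth.Agent.Lib.Helper94.CIField.ofList_ofFn, hf]⟩

/-- (ii) If some principal open neighbourhood of `q` is a global complete intersection, the kernel
of the standard local presentation at `q` is generated by a regular sequence. -/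
theorem isRegularIdeal_of_isGlobalCI_away (q : Ideal S) [q.IsPrime] (g : S) (hg : g ∉ q)
    (hGCI : Synt.IsGlobalCI k (Localization.Away g)) :
    CInt.IsRegularIdeal ((RingHom.ker φ.toRingHom).map
        (algebraMap _ (Localization.AtPrime (q.comap φ.toRingHom)))) := by
  have hP := isPrime_map_away g q hg
  rcases hGCI with hsub | ⟨m, t, ht, φ₂, r, hφ₂, hker, hdim⟩
  · exfalso
    exact hP.ne_top (Subsingleton.elim _ _)
  · have h2 := isRegularIdeal_map_ker_of_gci φ₂ hφ₂ t r hker ht hdim
      (q.map (algebraMap S (Localization.Away g)))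
    rw [← ker_stdHom φ₂ hφ₂] at h2
    rw [← ker_stdHom φ hφ]
    let e := atPrimeAwayEquiv (k := k) g q hg
    have h3 : RingHom.ker (stdHom φ q).toRingHom =
        RingHom.ker ((e.toAlgHom.comp (stdHom φ q)).toRingHom) := by
      ext x
      simp only [RingHom.mem_ker]
      change stdHom φ q x = 0 ↔ e (stdHom φ q x) = 0
      exact (EmbeddingLike.map_eq_zero_iff (f := e)).symm
    rw [h3]
    exact (Groth.Agent.Lib.Helper94.CIInd.isRegularIdeal_ker_iff
      (e.toAlgHom.comp (stdHom φ q)) (stdHom φ₂ (q.map (algebraMap S (Localization.Away g))))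
      (e.surjective.comp (stdHom_surjective φ hφ q))
      (stdHom_surjective φ₂ hφ₂ _)).mpr h2

end GCI

end Groth.Agent.Lib.Helper94.CILoc
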