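import Mathlib

set_option autoImplicit false
universe u

namespace Groth.Agent.Lib.Helper94.RegularUFD

open Matrix

section Det

variable {S : Type u} [CommRing S]

/-- The determinant as a linear function of the first row. -/
noncomputable def detFirst {n : ℕ} (M₀ : Matrix (Fin (n + 1)) (Fin (n + 1)) S) :
    (Fin (n + 1) → S) →ₗ[S] S where
  toFun v := (M₀.updateRow 0 v).det
  map_add' u v := Matrix.det_updateRow_add M₀ 0 u v
  map_smul' c v := by
    rw [RingHom.id_apply, Matrix.det_updateRow_smul, smul_eq_mul]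

theorem detFirst_apply {n : ℕ} (M₀ : Matrix (Fin (n + 1)) (Fin (n + 1)) S) (v : Fin (n + 1) → S) :
    detFirst M₀ v = (M₀.updateRow 0 v).det := rfl

theorem detFirst_row {n : ℕ} (M₀ : Matrix (Fin (n + 1)) (Fin (n + 1)) S) (j : Fin n) :
    detFirst M₀ (M₀ j.succ) = 0 := by
  rw [detFirst_apply]
  apply Matrix.det_zero_of_row_eq (i := 0) (j := j.succ) (Fin.succ_ne_zero j).symm
  rw [Matrix.updateRow_self, Matrix.updateRow_ne (Fin.succ_ne_zero j)]

/-- Key: a direct summand `K ≅ S^a` of `S^{a+1}` with complement `P`: the maximal minors of a basis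
of `K` generate the unit ideal. -/
theorem detFirst_surjective {a : ℕ} {P : Type u} [AddCommGroup P] [Module S P]
    (θ : (P × (Fin a → S)) ≃ₗ[S] (Fin (a + 1) → S)) :
    Function.Surjective (detFirst (S := S)
      (Matrix.of (Fin.cons 0 (fun j : Fin a => θ (0, Pi.single j 1))))) := by
  classical
  set k : Fin a → (Fin (a + 1) → S) := fun j => θ (0, Pi.single j 1) with hk
  set M₀ : Matrix (Fin (a + 1)) (Fin (a + 1)) S := Matrix.of (Fin.cons 0 k) with hM₀
  rw [← LinearMap.range_eq_top]
  by_contra hne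
  obtain ⟨Q, hQ, hle⟩ := Ideal.exists_le_maximal (LinearMap.range (detFirst M₀)) hne
  letI : Field (S ⧸ Q) := Ideal.Quotient.field Q
  let π : S →+* S ⧸ Q := Ideal.Quotient.mk Q
  let kb : Fin a → (Fin (a + 1) → S ⧸ Q) := fun j i => π (k j i)
  -- θ (0, c) = ∑ c j • k j
  have hθc : ∀ c : Fin a → S, θ (0, c) = ∑ j, c j • k j := by
    intro c
    have : ((0 : P), c) = ∑ j, c j • ((0 : P), (Pi.single j 1 : Fin a → S)) := by
      refine Prod.ext ?_ ?_
      · rw [Prod.fst_sum]; simp
      · rw [Prod.snd_sum]; ext i; simp [Finset.sum_apply, Pi.single_apply]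
    rw [this, map_sum]
    simp only [map_smul, hk]
  have hli : LinearIndependent (S ⧸ Q) kb := by
    rw [Fintype.linearIndependent_iff]
    intro c hc j
    choose c' hc' using fun j => Ideal.Quotient.mk_surjective (c j)
    set u : Fin (a + 1) → S := θ (0, c') with hu
    have hu_mem : ∀ i, u i ∈ Q := by
      intro i
      rw [← Ideal.Quotient.eq_zero_iff_mem]
      have := congrFun hc i
      rw [hu, hθc]
      simp only [Finset.sum_apply, Pi.smul_apply, smul_eq_mul, map_sum, map_mul]
      simp only [Finset.sum_apply, Pi.smul_apply, smul_eq_mul, Pi.zero_apply] at this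
      rw [← this]
      refine Finset.sum_congr rfl fun j _ => ?_
      rw [hc' j]
    have hsymm : θ.symm u = (0, c') := by rw [hu, LinearEquiv.symm_apply_apply]
    have hu_sum : u = ∑ i, u i • (Pi.single i 1 : Fin (a + 1) → S) := by
      ext l
      simp [Finset.sum_apply, Pi.single_apply]
    have hc'_eq : c' = ∑ i, u i • (θ.symm (Pi.single i 1)).2 := by
      have := congrArg Prod.snd hsymm
      rw [hu_sum, map_sum] at this
      simp only [map_smul, Prod.snd_sum, Prod.smul_snd] at this
      exact this.symm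
    rw [← hc' j]
    change π (c' j) = 0
    rw [Ideal.Quotient.eq_zero_iff_mem, hc'_eq]
    simp only [Finset.sum_apply, Pi.smul_apply, smul_eq_mul]
    exact Ideal.sum_mem _ fun i _ => Ideal.mul_mem_right _ _ (hu_mem i)
  -- extend to a basis
  have hspan : Submodule.span (S ⧸ Q) (Set.range kb) ≠ ⊤ := by
    intro htop
    have h1 : Module.finrank (S ⧸ Q) (Submodule.span (S ⧸ Q) (Set.range kb)) ≤ a := by
      have := finrank_span_le_card (R := S ⧸ Q) (Set.range kb)
      refine this.trans ?_
      rw [Set.toFinset_range]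
      refine (Finset.card_image_le).trans ?_
      simp
    rw [htop, finrank_top, Module.finrank_fin_fun] at h1
    omega
  obtain ⟨vb, -, hvb⟩ := SetLike.exists_of_lt (lt_top_iff_ne_top.2 hspan)
  have hli' : LinearIndependent (S ⧸ Q) (Fin.cons vb kb : Fin (a + 1) → (Fin (a + 1) → S ⧸ Q)) :=
    linearIndependent_finCons.2 ⟨hli, hvb⟩
  have hunit : IsUnit (Matrix.of (Fin.cons vb kb : Fin (a + 1) → (Fin (a + 1) → S ⧸ Q))) :=
    Matrix.linearIndependent_rows_iff_isUnit.1 hli'
  have hdet : (Matrix.of (Fin.cons vb kb : Fin (a + 1) → (Fin (a + 1) → S ⧸ Q))).det ≠ 0 :=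
    ((Matrix.isUnit_iff_isUnit_det _).1 hunit).ne_zero
  choose v hv using fun i => Ideal.Quotient.mk_surjective (vb i)
  have hmap : π.mapMatrix (M₀.updateRow 0 v) =
      Matrix.of (Fin.cons vb kb : Fin (a + 1) → (Fin (a + 1) → S ⧸ Q)) := by
    ext i l
    rw [RingHom.mapMatrix_apply, Matrix.map_apply]
    refine Fin.cases ?_ (fun i' => ?_) i
    · rw [Matrix.updateRow_self]
      simp only [Matrix.of_apply, Fin.cons_zero]
      exact hv l
    · rw [Matrix.updateRow_ne (Fin.succ_ne_zero i')]
      simp only [hM₀, Matrix.of_apply, Fin.cons_succ]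
      rfl
  have hzero : π (detFirst M₀ v) = 0 :=
    Ideal.Quotient.eq_zero_iff_mem.2 (hle ⟨v, rfl⟩)
  rw [detFirst_apply, RingHom.map_det, hmap] at hzero
  exact hdet hzero

end Det

section Principal

variable {S : Type u} [CommRing S] [IsDomain S]

theorem card_eq_of_stablyFree (P : Ideal S) (hP : P ≠ ⊥) {a b : ℕ}
    (θ : (↥P × (Fin a → S)) ≃ₗ[S] (Fin b → S)) : b = a + 1 := by
  obtain ⟨p₀, hp₀, hp₀0⟩ := Submodule.exists_mem_ne_zero_of_ne_bot hP
  let e := Fin.consLinearEquiv S (fun _ : Fin (a + 1) => S)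
  apply le_antisymm
  · -- S^b ≅ P × S^a ↪ S × S^a ≅ S^{a+1}
    let g : (Fin b → S) →ₗ[S] (Fin (a + 1) → S) :=
      e.toLinearMap ∘ₗ (LinearMap.prodMap P.subtype LinearMap.id) ∘ₗ θ.symm.toLinearMap
    have hg : Function.Injective g := by
      intro x y hxy
      have h1 := e.injective hxy
      have h2 : θ.symm x = θ.symm y := by
        have h1a := congrArg Prod.fst h1
        have h1b := congrArg Prod.snd h1
        change ((θ.symm x).1 : S) = ((θ.symm y).1 : S) at h1a
        change (θ.symm x).2 = (θ.symm y).2 at h1b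
        exact Prod.ext (Subtype.ext h1a) h1b
      exact θ.symm.injective h2
    simpa using card_le_of_injective S g hg
  · let g : (Fin (a + 1) → S) →ₗ[S] (Fin b → S) :=
      θ.toLinearMap ∘ₗ (LinearMap.prodMap (LinearMap.toSpanSingleton S ↥P ⟨p₀, hp₀⟩) LinearMap.id) ∘ₗ
        e.symm.toLinearMap
    have hg : Function.Injective g := by
      intro x y hxy
      have h1 := θ.injective hxy
      apply e.symm.injective
      have h3 := congrArg Prod.fst h1
      have h4 := congrArg Prod.snd h1
      change (e.symm x).1 • (⟨p₀, hp₀⟩ : ↥P) = (e.symm y).1 • (⟨p₀, hp₀⟩ : ↥P) at h3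
      change (e.symm x).2 = (e.symm y).2 at h4
      refine Prod.ext ?_ h4
      have h5 := congrArg Subtype.val h3
      change (e.symm x).1 * p₀ = (e.symm y).1 * p₀ at h5
      exact mul_right_cancel₀ hp₀0 h5
    simpa using card_le_of_injective S g hg

/-- A nonzero ideal `P` of a domain with `P × S^a ≅ S^b` is principal. -/
theorem isPrincipal_of_stablyFree (P : Ideal S) (hP : P ≠ ⊥) {a b : ℕ}
    (θ : (↥P × (Fin a → S)) ≃ₗ[S] (Fin b → S)) : P.IsPrincipal := by
  obtain rfl := card_eq_of_stablyFree P hP θ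
  set k : Fin a → (Fin (a + 1) → S) := fun j => θ (0, Pi.single j 1) with hk
  set M₀ : Matrix (Fin (a + 1)) (Fin (a + 1)) S := Matrix.of (Fin.cons 0 k) with hM₀
  have hsurj : Function.Surjective (detFirst M₀) := detFirst_surjective θ
  have hθc : ∀ c : Fin a → S, θ (0, c) = ∑ j, c j • k j := by
    intro c
    have : ((0 : ↥P), c) = ∑ j, c j • ((0 : ↥P), (Pi.single j 1 : Fin a → S)) := by
      refine Prod.ext ?_ ?_
      · rw [Prod.fst_sum]; simp
      · rw [Prod.snd_sum]; ext i; simp [Finset.sum_apply, Pi.single_apply]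
    rw [this, map_sum]
    simp only [map_smul, hk]
  have hΔk : ∀ c : Fin a → S, detFirst M₀ (θ (0, c)) = 0 := by
    intro c
    rw [hθc, map_sum]
    refine Finset.sum_eq_zero fun j _ => ?_
    rw [map_smul]
    have : k j = M₀ j.succ := by
      rw [hM₀]; rfl
    rw [this, detFirst_row, smul_zero]
  let D : ↥P →ₗ[S] S := detFirst M₀ ∘ₗ θ.toLinearMap ∘ₗ LinearMap.inl S ↥P (Fin a → S)
  have hD : ∀ (p : ↥P) (c : Fin a → S), detFirst M₀ (θ (p, c)) = D p := by
    intro p c
    have : (p, c) = (p, (0 : Fin a → S)) + ((0 : ↥P), c) := by simp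
    rw [this, map_add, map_add, hΔk, add_zero]
    rfl
  have hDsurj : Function.Surjective D := by
    intro t
    obtain ⟨v, hv⟩ := hsurj t
    refine ⟨(θ.symm v).1, ?_⟩
    rw [← hD _ (θ.symm v).2, Prod.mk.eta, LinearEquiv.apply_symm_apply, hv]
  have hDinj : Function.Injective D := by
    rw [injective_iff_map_eq_zero]
    intro p hp
    by_contra hp0
    have hzero : ∀ p' : ↥P, D p' = 0 := by
      intro p'
      have h1 : (p : S) • p' = (p' : S) • p := by
        apply Subtype.ext
        simp only [Submodule.coe_smul, smul_eq_mul]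
        exact mul_comm _ _
      have h2 := congrArg D h1
      rw [map_smul, map_smul, hp, smul_zero, smul_eq_mul] at h2
      have hp0' : (p : S) ≠ 0 := fun h => hp0 (Subtype.ext h)
      exact (mul_eq_zero.1 h2).resolve_left hp0'
    obtain ⟨q, hq⟩ := hDsurj 1
    rw [hzero q] at hq
    exact zero_ne_one hq
  obtain ⟨g, hg⟩ := hDsurj 1
  refine ⟨⟨(g : S), ?_⟩⟩
  apply le_antisymm
  · intro p hp
    have h1 : (⟨p, hp⟩ : ↥P) = D ⟨p, hp⟩ • g := by
      apply hDinj
      rw [map_smul, hg, smul_eq_mul, mul_one]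
    have h2 := congrArg Subtype.val h1
    simp only [Submodule.coe_smul, smul_eq_mul] at h2
    rw [h2]
    exact Submodule.smul_mem _ _ (Submodule.mem_span_singleton_self _)
  · rw [Submodule.span_singleton_le_iff_mem]
    exact g.2

end Principal

open CategoryTheory TensorProduct

section StablyFree

/-- Stably free: `N × S^a` is free for some `a`. -/
def StablyFree (S : Type u) [CommRing S] (N : Type u) [AddCommGroup N] [Module S N] : Prop :=
  ∃ a : ℕ, Module.Free S (N × (Fin a → S))

variable {R : Type u} [CommRing R] [IsLocalRing R] [IsNoetherianRing R]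
variable (S : Type u) [CommRing S] [Nontrivial S] [Algebra R S] [Module.Flat R S]

theorem stablyFree_of_hasProjectiveDimensionLT (n : ℕ) :
    ∀ (M : Type u) [AddCommGroup M] [Module R M] [Module.Finite R M],
      HasProjectiveDimensionLT (ModuleCat.of R M) (n + 1) → Module.Projective S (S ⊗[R] M) →
      StablyFree S (S ⊗[R] M) := by
  induction n with
  | zero =>
    intro M _ _ _ h _
    rw [zero_add, ← projective_iff_hasProjectiveDimensionLT_one, ← IsProjective.iff_projective] at h
    have hf : Module.Free R M := Module.free_of_flat_of_isLocalRing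
    refine ⟨0, ?_⟩
    infer_instance
  | succ n ih =>
    intro M _ _ _ h hproj
    obtain ⟨k, f, hf⟩ := Module.Finite.exists_fin' R M
    have hS : f.shortComplexKer.ShortExact := LinearMap.shortExact_shortComplexKer hf
    have hproj2 : Projective f.shortComplexKer.X₂ := by
      show Projective (ModuleCat.of R (Fin k → R))
      rw [← IsProjective.iff_projective]; infer_instance
    have hK : HasProjectiveDimensionLT (ModuleCat.of R (LinearMap.ker f)) (n + 1) :=
      (hS.hasProjectiveDimensionLT_X₃_iff n hproj2).mp h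
    -- base change of the exact sequence
    let i' : S ⊗[R] (LinearMap.ker f) →ₗ[S] S ⊗[R] (Fin k → R) :=
      (LinearMap.ker f).subtype.baseChange S
    let f' : S ⊗[R] (Fin k → R) →ₗ[S] S ⊗[R] M := f.baseChange S
    have hi' : Function.Injective i' :=
      Module.Flat.lTensor_preserves_injective_linearMap _ (Submodule.injective_subtype _)
    have hf' : Function.Surjective f' := LinearMap.lTensor_surjective S hf
    have hex : Function.Exact i' f' := by
      have := Module.Flat.lTensor_exact S (LinearMap.exact_subtype_ker_map f)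
      exact this
    obtain ⟨l, hl⟩ := Module.projective_lifting_property f' LinearMap.id hf'
    have hsplit := (hex.splitSurjectiveEquiv hi') ⟨l, hl⟩
    obtain ⟨e, -, -⟩ := hsplit
    -- e : S ⊗ R^k ≃ (S ⊗ K) × (S ⊗ M)
    have hKproj : Module.Projective S (S ⊗[R] (LinearMap.ker f)) := by
      have h1 : Module.Projective S ((S ⊗[R] (LinearMap.ker f)) × (S ⊗[R] M)) :=
        Module.Projective.of_equiv e
      exact Module.Projective.of_split
        (LinearMap.inl S (S ⊗[R] (LinearMap.ker f)) (S ⊗[R] M))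
        (LinearMap.fst S (S ⊗[R] (LinearMap.ker f)) (S ⊗[R] M))
        (LinearMap.fst_comp_inl S _ _)
    obtain ⟨a, ha⟩ := ih (LinearMap.ker f) hK hKproj
    -- (S ⊗ K) × S^a is finite free, hence ≃ S^b
    have hfin : Module.Finite S ((S ⊗[R] (LinearMap.ker f)) × (Fin a → S)) := inferInstance
    let b := Module.finrank S ((S ⊗[R] (LinearMap.ker f)) × (Fin a → S))
    let eb : ((S ⊗[R] (LinearMap.ker f)) × (Fin a → S)) ≃ₗ[S] (Fin b → S) :=
      (Module.finBasis S _).equivFun
    refine ⟨b, ?_⟩
    -- (S⊗M) × S^b ≃ (S⊗M) × ((S⊗K) × S^a) ≃ ((S⊗K) × (S⊗M)) × S^a ≃ (S ⊗ R^k) × S^a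
    let e1 : ((S ⊗[R] M) × (Fin b → S)) ≃ₗ[S]
        ((S ⊗[R] (Fin k → R)) × (Fin a → S)) :=
      (LinearEquiv.prodCongr (LinearEquiv.refl S _) eb.symm) ≪≫ₗ
      (LinearEquiv.prodAssoc S _ _ _).symm ≪≫ₗ
      (LinearEquiv.prodCongr (LinearEquiv.prodComm S _ _ ≪≫ₗ e.symm) (LinearEquiv.refl S _))
    exact Module.Free.of_equiv e1.symm

end StablyFree

section Aux

/-- For a flat algebra, `S ⊗ I ≅ I S`. -/
theorem nonempty_tensor_equiv_map {R S : Type u} [CommRing R] [CommRing S] [Algebra R S]
    [Module.Flat R S] (I : Ideal R) :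
    Nonempty ((S ⊗[R] ↥I) ≃ₗ[S] ↥(I.map (algebraMap R S))) := by
  let g : S ⊗[R] ↥I →ₗ[S] S :=
    (AlgebraTensorModule.rid R S S).toLinearMap ∘ₗ (I.subtype.baseChange S)
  have hg : Function.Injective g := by
    refine (AlgebraTensorModule.rid R S S).injective.comp ?_
    exact Module.Flat.lTensor_preserves_injective_linearMap _ (Submodule.injective_subtype _)
  have hgt : ∀ (s : S) (i : ↥I), g (s ⊗ₜ[R] i) = s * algebraMap R S (i : R) := by
    intro s i
    change (AlgebraTensorModule.rid R S S) (s ⊗ₜ[R] (i : R)) = _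
    rw [AlgebraTensorModule.rid_tmul, Algebra.smul_def, mul_comm]
  have hrange : LinearMap.range g = I.map (algebraMap R S) := by
    apply le_antisymm
    · rintro _ ⟨t, rfl⟩
      induction t using TensorProduct.induction_on with
      | zero => rw [map_zero]; exact Submodule.zero_mem _
      | tmul s i =>
        rw [hgt]
        exact Ideal.mul_mem_left _ _ (Ideal.mem_map_of_mem _ i.2)
      | add x y hx hy => rw [map_add]; exact Submodule.add_mem _ hx hy
    · change Ideal.map (algebraMap R S) I ≤ LinearMap.range g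
      rw [Ideal.map, Ideal.span_le]
      rintro _ ⟨i, hi, rfl⟩
      exact ⟨1 ⊗ₜ[R] ⟨i, hi⟩, by rw [hgt, one_mul]⟩
  exact ⟨(LinearEquiv.ofInjective g hg).trans (LinearEquiv.ofEq _ _ hrange)⟩

/-- In a UFD, a prime minimal over a nonzero principal ideal is principal. -/
theorem isPrincipal_of_mem_minimalPrimes {S : Type u} [CommRing S] [IsDomain S]
    [UniqueFactorizationMonoid S] (s : S) (hs : s ≠ 0) (P : Ideal S)
    (hP : P ∈ (Ideal.span {s}).minimalPrimes) : P.IsPrincipal := by
  have hPprime : P.IsPrime := hP.1.1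
  have hsP : s ∈ P := hP.1.2 (Ideal.subset_span rfl)
  have hPne : P ≠ ⊥ := by
    rintro rfl
    exact hs ((Submodule.mem_bot S).1 hsP)
  -- s has a prime factor in P
  obtain ⟨f, hf, hfs⟩ := UniqueFactorizationMonoid.exists_prime_factors s hs
  have hprod : f.prod ∈ P := by
    obtain ⟨u, hu⟩ := hfs
    have : f.prod = s * ↑u⁻¹ := by rw [← hu]; simp [mul_assoc]
    rw [this]
    exact Ideal.mul_mem_right _ _ hsP
  obtain ⟨π, hπf, hπP⟩ : ∃ π ∈ f, π ∈ P := by
    exact (Ideal.IsPrime.multiset_prod_mem_iff_exists_mem hPprime f).1 hprod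
  have hπprime : Prime π := hf π hπf
  have hπs : π ∣ s := by
    have h1 : π ∣ f.prod := Multiset.dvd_prod hπf
    exact h1.trans hfs.dvd
  have hle : Ideal.span {s} ≤ Ideal.span {π} := by
    rw [Ideal.span_singleton_le_span_singleton]
    exact hπs
  have hπle : Ideal.span {π} ≤ P := by
    rw [Ideal.span_singleton_le_iff_mem]; exact hπP
  have hπspanprime : (Ideal.span {π}).IsPrime :=
    (Ideal.span_singleton_prime hπprime.ne_zero).2 hπprime
  have := hP.2 ⟨hπspanprime, hle⟩ hπle
  exact ⟨⟨π, le_antisymm this hπle⟩⟩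

/-- A principal ideal of a domain is a free module. -/
theorem free_of_isPrincipal {S : Type u} [CommRing S] [IsDomain S] (P : Ideal S)
    (hP : P.IsPrincipal) : Module.Free S ↥P := by
  obtain ⟨⟨g, rfl⟩⟩ := hP
  by_cases hg : g = 0
  · subst hg
    have : Subsingleton ↥(Submodule.span S ({0} : Set S)) := by
      rw [Submodule.span_zero_singleton]
      infer_instance
    infer_instance
  · let φ : S →ₗ[S] ↥(Submodule.span S ({g} : Set S)) :=
      LinearMap.toSpanSingleton S _ ⟨g, Submodule.mem_span_singleton_self g⟩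
    have hφ : Function.Bijective φ := by
      constructor
      · rw [injective_iff_map_eq_zero]
        intro t ht
        have := congrArg Subtype.val ht
        change t * g = 0 at this
        exact (mul_eq_zero.1 this).resolve_right hg
      · rintro ⟨y, hy⟩
        obtain ⟨t, rfl⟩ := Submodule.mem_span_singleton.1 hy
        exact ⟨t, Subtype.ext rfl⟩
    exact Module.Free.of_equiv (LinearEquiv.ofBijective φ hφ)

end Aux

end Groth.Agent.Lib.Helper94.RegularUFD
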