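import Mathlib
import Groth.Agent.Lib.Helper94.RegularUFD
import Groth.Agent.Lib.Helper77.RegularLocalization
import Groth.Agent.Lib.Helper76.RegularLocal
import Groth.Agent.Lib.Helper76.RegularLocalGlDim
import Groth.Agent.S11278

set_option autoImplicit false
universe u

namespace Groth.Agent.Lib.Helper94.RegularUFD

open CategoryTheory TensorProduct IsLocalRing

section Main

/-- The induction hypothesis: regular local domains of dimension `< d` are UFDs. -/
def IH (d : ℕ) : Prop :=
  ∀ e < d, ∀ (R' : Type u) [CommRing R'] [IsRegularLocalRing R'] [IsDomain R'],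
    ringKrullDim R' = e → UniqueFactorizationMonoid R'

variable {R : Type u} [CommRing R] [IsRegularLocalRing R] [IsDomain R]

omit [IsDomain R] in
theorem exists_dim_localization_lt {d : ℕ} (hd : ringKrullDim R = d) (q : Ideal R) [q.IsPrime]
    (hq : q ≠ maximalIdeal R) :
    ∃ e < d, ringKrullDim (Localization.AtPrime q) = e := by
  have hlt : q < maximalIdeal R := lt_of_le_of_ne (le_maximalIdeal Ideal.IsPrime.ne_top') hq
  have h1 : q.height < (maximalIdeal R).height := Ideal.height_strict_mono_of_isPrime hlt
  have h2 : ((maximalIdeal R).height : WithBot ℕ∞) = d := by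
    rw [IsLocalRing.maximalIdeal_height_eq_ringKrullDim, hd]
  have h3 : (maximalIdeal R).height = d := by exact_mod_cast h2
  rw [h3] at h1
  obtain ⟨e, he⟩ := ENat.ne_top_iff_exists.1 (ne_top_of_lt h1)
  refine ⟨e, ?_, ?_⟩
  · rw [← he] at h1; exact_mod_cast h1
  · rw [IsLocalization.AtPrime.ringKrullDim_eq_height q (Localization.AtPrime q), ← he]
    rfl

theorem ufd_localization_atPrime {d : ℕ} (hd : ringKrullDim R = d) (ih : IH.{u} d)
    (q : Ideal R) [q.IsPrime] (hq : q ≠ maximalIdeal R) :
    UniqueFactorizationMonoid (Localization.AtPrime q) := by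
  obtain ⟨e, he, hdim⟩ := exists_dim_localization_lt hd q hq
  haveI : IsRegularLocalRing (Localization.AtPrime q) :=
    Groth.Agent.Lib.Helper77.RegularLocalization.localization_regular R q
  exact ih e he (Localization.AtPrime q) hdim

/-- Localizations of `R_x` at primes are UFDs. -/
theorem ufd_localization_away_atPrime {d : ℕ} (hd : ringKrullDim R = d) (ih : IH.{u} d)
    (x : R) (hx : x ∈ maximalIdeal R) (Q : Ideal (Localization.Away x)) [Q.IsPrime] :
    UniqueFactorizationMonoid (Localization.AtPrime Q) := by
  have hq : Q.comap (algebraMap R (Localization.Away x)) ≠ maximalIdeal R := by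
    intro h
    have hxQ : algebraMap R (Localization.Away x) x ∈ Q := by
      have : x ∈ Q.comap (algebraMap R (Localization.Away x)) := h ▸ hx
      exact this
    have hunit : IsUnit (algebraMap R (Localization.Away x) x) :=
      IsLocalization.Away.algebraMap_isUnit x
    exact Ideal.IsPrime.ne_top' (Ideal.eq_top_of_isUnit_mem _ hxQ hunit)
  have h1 := ufd_localization_atPrime hd ih (Q.comap (algebraMap R (Localization.Away x))) hq
  let e := IsLocalization.localizationLocalizationAtPrimeIsoLocalization (Submonoid.powers x) Q
  exact MulEquiv.uniqueFactorizationMonoid e.toRingEquiv.toMulEquiv h1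

/-- A prime of `R_x` minimal over a nonzero principal ideal is projective. -/
theorem projective_of_mem_minimalPrimes {d : ℕ} (hd : ringKrullDim R = d) (ih : IH.{u} d)
    (x : R) (hx : x ∈ maximalIdeal R) (hx0 : x ≠ 0) (s : Localization.Away x) (hs : s ≠ 0)
    (P : Ideal (Localization.Away x)) (hP : P ∈ (Ideal.span {s}).minimalPrimes) :
    Module.Projective (Localization.Away x) ↥P := by
  haveI : IsDomain (Localization.Away x) :=
    IsLocalization.isDomain_of_le_nonZeroDivisors _
      (powers_le_nonZeroDivisors_of_noZeroDivisors hx0)
  haveI : IsNoetherianRing (Localization.Away x) :=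
    IsLocalization.isNoetherianRing (Submonoid.powers x) _ inferInstance
  haveI : Module.FinitePresentation (Localization.Away x) ↥P :=
    Module.finitePresentation_of_finite _ _
  refine Module.projective_of_localization_maximal'
    (Rₚ := fun Q _ => Localization.AtPrime Q)
    (Mₚ := fun Q _ => ↥(Submodule.localized' (Localization.AtPrime Q) Q.primeCompl
      (Algebra.linearMap (Localization.Away x) (Localization.AtPrime Q)) P))
    (f := fun Q _ => Submodule.toLocalized' (Localization.AtPrime Q) Q.primeCompl
      (Algebra.linearMap (Localization.Away x) (Localization.AtPrime Q)) P) ?_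
  intro Q hQ
  haveI : IsDomain (Localization.AtPrime Q) :=
    IsLocalization.isDomain_of_le_nonZeroDivisors _ Q.primeCompl_le_nonZeroDivisors
  haveI : UniqueFactorizationMonoid (Localization.AtPrime Q) :=
    ufd_localization_away_atPrime hd ih x hx Q
  have hmap : Submodule.localized' (Localization.AtPrime Q) Q.primeCompl
      (Algebra.linearMap (Localization.Away x) (Localization.AtPrime Q)) P =
      P.map (algebraMap (Localization.Away x) (Localization.AtPrime Q)) :=
    Ideal.localized'_eq_map _ _ _
  rw [hmap]
  have hprinc : (P.map (algebraMap (Localization.Away x) (Localization.AtPrime Q))).IsPrincipal := by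
    by_cases hPQ : P ≤ Q
    · apply isPrincipal_of_mem_minimalPrimes (algebraMap (Localization.Away x) (Localization.AtPrime Q) s)
      · intro h0
        apply hs
        have hinj : Function.Injective (algebraMap (Localization.Away x) (Localization.AtPrime Q)) :=
          IsLocalization.injective _ Q.primeCompl_le_nonZeroDivisors
        exact hinj (h0.trans (map_zero _).symm)
      · have := IsLocalization.minimalPrimes_map Q.primeCompl (Localization.AtPrime Q)
          (Ideal.span {s})
        rw [Ideal.map_span, Set.image_singleton] at this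
        rw [this, Set.mem_preimage]
        have hdisj : Disjoint (Q.primeCompl : Set (Localization.Away x)) (P : Set _) := by
          rw [Set.disjoint_left]
          intro y hy hyP
          exact hy (hPQ hyP)
        have hPprime : P.IsPrime := hP.1.1
        have hcm := IsLocalization.under_map_of_isPrime_disjoint Q.primeCompl
          (Localization.AtPrime Q) hPprime hdisj
        change Ideal.under (Localization.Away x) (Ideal.map _ P) ∈ _
        rw [hcm]
        exact hP
    · have htop : P.map (algebraMap (Localization.Away x) (Localization.AtPrime Q)) = ⊤ := by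
        obtain ⟨y, hyP, hyQ⟩ := Set.not_subset.1 hPQ
        apply Ideal.eq_top_of_isUnit_mem _ (Ideal.mem_map_of_mem _ hyP)
        exact IsLocalization.map_units (Localization.AtPrime Q) (⟨y, hyQ⟩ : Q.primeCompl)
      rw [htop]
      exact ⟨⟨1, by rw [Ideal.submodule_span_eq, Ideal.span_singleton_one]⟩⟩
  haveI := free_of_isPrincipal _ hprinc
  infer_instance

theorem isPrincipal_of_mem_minimalPrimes_away {d : ℕ} (hd : ringKrullDim R = d) (ih : IH.{u} d)
    (x : R) (hx : x ∈ maximalIdeal R) (hx0 : x ≠ 0) (s : Localization.Away x) (hs : s ≠ 0)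
    (P : Ideal (Localization.Away x)) (hP : P ∈ (Ideal.span {s}).minimalPrimes) :
    P.IsPrincipal := by
  haveI : IsDomain (Localization.Away x) :=
    IsLocalization.isDomain_of_le_nonZeroDivisors _
      (powers_le_nonZeroDivisors_of_noZeroDivisors hx0)
  haveI : Module.Flat R (Localization.Away x) := IsLocalization.flat _ (Submonoid.powers x)
  have hPne : P ≠ ⊥ := by
    rintro rfl
    exact hs ((Submodule.mem_bot _).1 (hP.1.2 (Ideal.subset_span rfl)))
  have hproj := projective_of_mem_minimalPrimes hd ih x hx hx0 s hs P hP
  set p : Ideal R := P.comap (algebraMap R (Localization.Away x)) with hp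
  have hmap : p.map (algebraMap R (Localization.Away x)) = P :=
    IsLocalization.map_under (Submonoid.powers x) _ P
  obtain ⟨e⟩ := nonempty_tensor_equiv_map (R := R) (S := Localization.Away x) p
  let e' : (Localization.Away x ⊗[R] ↥p) ≃ₗ[Localization.Away x] ↥P :=
    e.trans (LinearEquiv.ofEq _ _ hmap)
  have hproj' : Module.Projective (Localization.Away x) (Localization.Away x ⊗[R] ↥p) :=
    Module.Projective.of_equiv e'.symm
  have hpd := Groth.Agent.Lib.Helper76.hasProjectiveDimensionLT_of_isRegularLocalRing R d hd ↥p
  obtain ⟨a, ha⟩ := stablyFree_of_hasProjectiveDimensionLT (Localization.Away x) d ↥p hpd hproj'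
  haveI : IsNoetherianRing (Localization.Away x) :=
    IsLocalization.isNoetherianRing (Submonoid.powers x) _ inferInstance
  haveI : Module.Free (Localization.Away x) (↥P × (Fin a → Localization.Away x)) :=
    Module.Free.of_equiv (LinearEquiv.prodCongr e' (LinearEquiv.refl _ _))
  let θ : (↥P × (Fin a → Localization.Away x)) ≃ₗ[Localization.Away x]
      (Fin (Module.finrank (Localization.Away x) (↥P × (Fin a → Localization.Away x))) →
        Localization.Away x) :=
    (Module.finBasis (Localization.Away x) _).equivFun
  exact isPrincipal_of_stablyFree P hPne θ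

theorem ufd_aux (d : ℕ) : ∀ (R : Type u) [CommRing R] [IsRegularLocalRing R] [IsDomain R],
    ringKrullDim R = d → UniqueFactorizationMonoid R := by
  induction d using Nat.strong_induction_on with
  | _ d ih =>
    intro R _ _ _ hd
    have ih' : IH.{u} d := fun e he R' _ _ _ hR' => ih e he R' hR'
    by_cases hm : maximalIdeal R = ⊥
    · rw [UniqueFactorizationMonoid.iff_exists_prime_mem_of_isPrime]
      intro I hI hIp
      exfalso
      apply hI
      rw [eq_bot_iff, ← hm]
      exact le_maximalIdeal hIp.ne_top
    · have hnle : ¬ maximalIdeal R ≤ maximalIdeal R ^ 2 := by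
        intro hle
        apply hm
        apply Submodule.eq_bot_of_le_smul_of_le_jacobson_bot (maximalIdeal R) (maximalIdeal R)
          (IsNoetherian.noetherian _)
        · rw [smul_eq_mul, ← pow_two]; exact hle
        · rw [IsLocalRing.jacobson_eq_maximalIdeal ⊥ bot_ne_top]
      obtain ⟨x, hx, hx2⟩ := SetLike.not_le_iff_exists.1 hnle
      have hx0 : x ≠ 0 := by
        rintro rfl
        exact hx2 (Ideal.zero_mem _)
      obtain ⟨hreg, -⟩ := Groth.Agent.Lib.Helper76.isRegularLocalRing_quotient_of_notMem_sq R x hx hx2
      haveI := hreg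
      haveI : IsDomain (R ⧸ Ideal.span ({x} : Set R)) :=
        Groth.Agent.Lib.Helper76.isDomain_of_isRegularLocalRing _
      have hprime_ideal : (Ideal.span ({x} : Set R)).IsPrime :=
        (Ideal.Quotient.isDomain_iff_prime _).1 inferInstance
      have hprime : Prime x := (Ideal.span_singleton_prime hx0).1 hprime_ideal
      apply Groth.Agent.S11278.nagata x hprime
      haveI : IsDomain (Localization.Away x) :=
        IsLocalization.isDomain_of_le_nonZeroDivisors _
          (powers_le_nonZeroDivisors_of_noZeroDivisors hx0)
      rw [UniqueFactorizationMonoid.iff_exists_prime_mem_of_isPrime]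
      intro Q hQ0 hQp
      obtain ⟨s, hsQ, hs0⟩ := Submodule.exists_mem_ne_zero_of_ne_bot hQ0
      have hle : Ideal.span {s} ≤ Q := by
        rw [Ideal.span_singleton_le_iff_mem]; exact hsQ
      obtain ⟨P, hPmin, hPQ⟩ := Ideal.exists_minimalPrimes_le hle
      obtain ⟨⟨g, hg⟩⟩ := isPrincipal_of_mem_minimalPrimes_away hd ih' x hx hx0 s hs0 P hPmin
      have hPprime : P.IsPrime := hPmin.1.1
      have hg0 : g ≠ 0 := by
        rintro rfl
        have hsP : s ∈ P := hPmin.1.2 (Ideal.subset_span rfl)
        rw [hg, Ideal.submodule_span_eq, Ideal.span_singleton_zero] at hsP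
        exact hs0 hsP
      have hgP : g ∈ P := by
        rw [hg]; exact Submodule.mem_span_singleton_self g
      refine ⟨g, hPQ hgP, ?_⟩
      rw [← Ideal.span_singleton_prime hg0]
      rw [hg] at hPprime
      exact hPprime

/-- **Auslander–Buchsbaum**: a regular local ring is a unique factorization domain. -/
theorem uniqueFactorizationMonoid_of_isRegularLocalRing (R : Type u) [CommRing R]
    [IsRegularLocalRing R] [IsDomain R] : UniqueFactorizationMonoid R := by
  have hne : ringKrullDim R ≠ ⊥ := ringKrullDim_ne_bot
  have hne' : ringKrullDim R ≠ ⊤ := ringKrullDim_ne_top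
  cases h : ringKrullDim R with
  | bot => exact absurd h hne
  | coe a =>
    cases a with
    | top => exact absurd h hne'
    | coe n => exact ufd_aux n R h

end Main

end Groth.Agent.Lib.Helper94.RegularUFD
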