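import Mathlib
import Groth.Agent.S1661
import Groth.Agent.Lib.Helper64.SubschemeStalk
import Groth.Agent.Lib.Helper94.RegSpread

/-!
# Regular closed immersions near a point (locally Noetherian schemes)

`regular near z` ⟺ the kernel of the stalk map at `z` is generated by a regular sequence.
-/

set_option autoImplicit false
universe u

namespace Groth.Agent.Lib.Helper94.RegImmPt

open CategoryTheory AlgebraicGeometry RingTheory.Sequence Ideal

/-- The kernel of the stalk map of a closed immersion is the extension of the kernel on any affine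
open containing the image point. -/
theorem ker_stalkMap {Z X : Scheme.{u}} (i : Z ⟶ X) [IsClosedImmersion i] (z : Z) (U : X.Opens)
    (hU : IsAffineOpen U) (hz : i z ∈ U) :
    RingHom.ker (i.stalkMap z).hom =
      (RingHom.ker (i.app U).hom).map (X.presheaf.germ U (i z) hz).hom := by
  let W : Z.Opens := i ⁻¹ᵁ U
  have hW : IsAffineOpen W := hU.preimage i
  have hzW : z ∈ W := hz
  letI : Algebra Γ(X, U) (X.presheaf.stalk (i z)) :=
    TopCat.Presheaf.algebra_section_stalk X.presheaf (⟨i z, hz⟩ : U)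
  letI : Algebra Γ(Z, W) (Z.presheaf.stalk z) :=
    TopCat.Presheaf.algebra_section_stalk Z.presheaf (⟨z, hzW⟩ : W)
  haveI h1 : IsLocalization.AtPrime (X.presheaf.stalk (i z)) (hU.primeIdealOf ⟨i z, hz⟩).asIdeal :=
    hU.isLocalization_stalk ⟨i z, hz⟩
  haveI h2 : IsLocalization.AtPrime (Z.presheaf.stalk z) (hW.primeIdealOf ⟨z, hzW⟩).asIdeal :=
    hW.isLocalization_stalk ⟨z, hzW⟩
  exact Groth.Agent.Lib.Helper64.SubschemeStalk.ker_eq_map_ker_of_surjective
    (hU.primeIdealOf ⟨i z, hz⟩).asIdeal (hW.primeIdealOf ⟨z, hzW⟩).asIdeal (i.app U).hom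
    (i.app_surjective U hU) (i.stalkMap z).hom
    (fun a => Scheme.Hom.germ_stalkMap_apply i U z hz a)

/-- "Regular at `z`" in terms of sections on an affine open of the ambient scheme. -/
def RegAt {Z X : Scheme.{u}} (i : Z ⟶ X) (z : Z) : Prop :=
  ∃ (U : X.Opens) (_ : IsAffineOpen U), i z ∈ U ∧ ∃ rs : List Γ(X, U),
    IsRegular Γ(X, U) rs ∧ RingHom.ker (i.app U).hom = ofList rs

theorem ker_comp_iso {A B C : CommRingCat.{u}} (f : A ⟶ B) (g : B ⟶ C) [IsIso g] :
    RingHom.ker (f ≫ g).hom = RingHom.ker f.hom := by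
  rw [CommRingCat.hom_comp]
  exact RingHom.ker_comp_of_injective _ (ConcreteCategory.bijective_of_isIso g).1

theorem regAt_of_restrict {Z X : Scheme.{u}} (i : Z ⟶ X) [IsClosedImmersion i] (z : Z)
    (V : X.Opens) (hzV : i z ∈ V) (h : Mor2.IsRegularClosedImmersion (i ∣_ V)) : RegAt i z := by
  obtain ⟨hcl, h⟩ := h
  obtain ⟨U', hU', hzU', rs, hrs, hker⟩ := h ⟨z, hzV⟩
  refine ⟨V.ι ''ᵁ U', hU'.image_of_isOpenImmersion V.ι, ?_, rs, hrs, ?_⟩
  · refine ⟨(i ∣_ V) ⟨z, hzV⟩, hzU', ?_⟩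
    exact morphismRestrict_base_coe i V ⟨z, hzV⟩
  · rw [Scheme.Hom.ker_apply] at hker
    have h1 : RingHom.ker ((i ∣_ V).app U').hom = RingHom.ker (i.app (V.ι ''ᵁ U')).hom := by
      rw [morphismRestrict_app]
      have hiso : IsIso (Z.presheaf.map (eqToHom (image_morphismRestrict_preimage i V U')).op) :=
        inferInstance
      exact @ker_comp_iso _ _ _ (i.app (V.ι ''ᵁ U')) _ hiso
    exact h1.symm.trans hker

theorem exists_of_eq {Z X : Scheme.{u}} (i : Z ⟶ X) (W W' : X.Opens) (h : W = W')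
    (rs : List Γ(X, W)) (hrs : IsRegular Γ(X, W) rs) (hker : RingHom.ker (i.app W).hom = ofList rs) :
    ∃ rs' : List Γ(X, W'), IsRegular Γ(X, W') rs' ∧ RingHom.ker (i.app W').hom = ofList rs' := by
  subst h
  exact ⟨rs, hrs, hker⟩

theorem restrict_of_affine {Z X : Scheme.{u}} (i : Z ⟶ X) [IsClosedImmersion i]
    (V : X.Opens) (hV : IsAffineOpen V) (rs : List Γ(X, V)) (hrs : IsRegular Γ(X, V) rs)
    (hker : RingHom.ker (i.app V).hom = ofList rs) : Mor2.IsRegularClosedImmersion (i ∣_ V) := by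
  refine ⟨inferInstance, fun z' => ?_⟩
  haveI : IsAffine V := hV
  have htop : IsAffineOpen (⊤ : (V : Scheme.{u}).Opens) := isAffineOpen_top _
  obtain ⟨rs', hrs', hker'⟩ := exists_of_eq i V (V.ι ''ᵁ ⊤) (Scheme.Opens.ι_image_top V).symm rs hrs hker
  refine ⟨⊤, htop, trivial, rs', hrs', ?_⟩
  rw [Scheme.Hom.ker_apply]
  have h1 : RingHom.ker ((i ∣_ V).app ⊤).hom = RingHom.ker (i.app (V.ι ''ᵁ ⊤)).hom := by
    rw [morphismRestrict_app]
    have hiso : IsIso (Z.presheaf.map (eqToHom (image_morphismRestrict_preimage i V ⊤)).op) :=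
      inferInstance
    exact @ker_comp_iso _ _ _ (i.app (V.ι ''ᵁ ⊤)) _ hiso
  exact h1.trans hker'

theorem ker_stalkMap_ne_top {Z X : Scheme.{u}} (i : Z ⟶ X) (z : Z) :
    RingHom.ker (i.stalkMap z).hom ≠ ⊤ := by
  intro h
  have h1 : (1 : X.presheaf.stalk (i z)) ∈ RingHom.ker (i.stalkMap z).hom := by rw [h]; trivial
  rw [RingHom.mem_ker, map_one] at h1
  exact one_ne_zero h1

theorem stalk_of_regAt {Z X : Scheme.{u}} (i : Z ⟶ X) [IsClosedImmersion i] (z : Z)
    (h : RegAt i z) :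
    ∃ rs : List ↑(X.presheaf.stalk (i z)), IsRegular ↑(X.presheaf.stalk (i z)) rs ∧
      RingHom.ker (i.stalkMap z).hom = ofList rs := by
  obtain ⟨U, hU, hzU, rs, hrs, hker⟩ := h
  have hk := ker_stalkMap i z U hU hzU
  rw [hker, Ideal.map_ofList] at hk
  refine ⟨rs.map (X.presheaf.germ U (i z) hzU).hom, ?_, hk⟩
  letI : Algebra Γ(X, U) (X.presheaf.stalk (i z)) :=
    TopCat.Presheaf.algebra_section_stalk X.presheaf (⟨i z, hzU⟩ : U)
  haveI h1 : IsLocalization.AtPrime (X.presheaf.stalk (i z)) (hU.primeIdealOf ⟨i z, hzU⟩).asIdeal :=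
    hU.isLocalization_stalk ⟨i z, hzU⟩
  have hflat : (X.presheaf.germ U (i z) hzU).hom.Flat := by
    change Module.Flat Γ(X, U) (X.presheaf.stalk (i z))
    exact IsLocalization.flat _ (hU.primeIdealOf ⟨i z, hzU⟩).asIdeal.primeCompl
  refine Groth.Agent.S1661.isRegular_map_of_flat _ hflat rs hrs ?_
  rw [Ideal.map_ofList, ← hk]
  exact ker_stalkMap_ne_top i z

theorem exists_affine_of_stalk {Z X : Scheme.{u}} [IsLocallyNoetherian X] (i : Z ⟶ X)
    [IsClosedImmersion i] (z : Z) (rs : List ↑(X.presheaf.stalk (i z)))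
    (hrs : IsRegular ↑(X.presheaf.stalk (i z)) rs)
    (hker : RingHom.ker (i.stalkMap z).hom = ofList rs) :
    ∃ (V : X.Opens) (_ : IsAffineOpen V), i z ∈ V ∧ ∃ bs : List Γ(X, V),
      IsRegular Γ(X, V) bs ∧ RingHom.ker (i.app V).hom = ofList bs ∧ bs.length = rs.length := by
  obtain ⟨_, ⟨U, hU, rfl⟩, hzU, -⟩ :=
    X.isBasis_affineOpens.exists_subset_of_mem_open (Set.mem_univ (i z)) isOpen_univ
  replace hzU : i z ∈ U := hzU
  have hN : IsNoetherianRing Γ(X, U) := IsLocallyNoetherian.component_noetherian ⟨U, hU⟩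
  letI : Algebra Γ(X, U) (X.presheaf.stalk (i z)) :=
    TopCat.Presheaf.algebra_section_stalk X.presheaf (⟨i z, hzU⟩ : U)
  haveI h1 : IsLocalization.AtPrime (X.presheaf.stalk (i z)) (hU.primeIdealOf ⟨i z, hzU⟩).asIdeal :=
    hU.isLocalization_stalk ⟨i z, hzU⟩
  have hk := ker_stalkMap i z U hU hzU
  rw [hker] at hk
  obtain ⟨g₀, bs, hg₀, hlen, hspread⟩ := Groth.Agent.Lib.Helper94.RegSpread.exists_spread
    (hU.primeIdealOf ⟨i z, hzU⟩).asIdeal (X.presheaf.stalk (i z)) (RingHom.ker (i.app U).hom) rs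
    hrs.toIsWeaklyRegular hk.symm
  have hV : IsAffineOpen (X.basicOpen g₀) := hU.basicOpen g₀
  have hzV : i z ∈ X.basicOpen g₀ := by
    rw [Scheme.mem_basicOpen _ _ _ hzU]
    have : IsUnit (algebraMap Γ(X, U) (X.presheaf.stalk (i z)) g₀) :=
      (IsLocalization.AtPrime.isUnit_to_map_iff (X.presheaf.stalk (i z))
        (hU.primeIdealOf ⟨i z, hzU⟩).asIdeal g₀).mpr hg₀
    exact this
  have := hU.isLocalization_basicOpen g₀
  obtain ⟨hw, hmap⟩ := hspread g₀ dvd_rfl Γ(X, X.basicOpen g₀)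
  have hkV : RingHom.ker (i.app (X.basicOpen g₀)).hom =
      ofList (bs.map (algebraMap Γ(X, U) Γ(X, X.basicOpen g₀))) := by
    rw [← hmap]
    have h1 := i.ker.map_ideal (U := ⟨X.basicOpen g₀, hV⟩) (V := ⟨U, hU⟩) (X.basicOpen_le g₀)
    rw [Scheme.Hom.ker_apply, Scheme.Hom.ker_apply] at h1
    exact h1.symm
  refine ⟨X.basicOpen g₀, hV, hzV, bs.map (algebraMap Γ(X, U) Γ(X, X.basicOpen g₀)),
    ⟨hw, ?_⟩, hkV, by rw [List.length_map, hlen]⟩
  rw [smul_eq_mul, Ideal.mul_top, ← hkV]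
  exact (Groth.Agent.S1661.ker_ne_top i _ z hzV).symm

/-- Over a locally Noetherian scheme: a closed immersion is a regular closed immersion over some
open neighbourhood of `i z` iff the kernel of the stalk map at `z` is generated by a regular
sequence. -/
theorem regular_near_iff {Z X : Scheme.{u}} [IsLocallyNoetherian X] (i : Z ⟶ X)
    [IsClosedImmersion i] (z : Z) :
    (∃ V : X.Opens, i z ∈ V ∧ Mor2.IsRegularClosedImmersion (i ∣_ V)) ↔
      ∃ rs : List ↑(X.presheaf.stalk (i z)), IsRegular ↑(X.presheaf.stalk (i z)) rs ∧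
        RingHom.ker (i.stalkMap z).hom = ofList rs := by
  constructor
  · rintro ⟨V, hzV, h⟩
    exact stalk_of_regAt i z (regAt_of_restrict i z V hzV h)
  · rintro ⟨rs, hrs, hker⟩
    obtain ⟨V, hV, hzV, bs, hbs, hkV, -⟩ := exists_affine_of_stalk i z rs hrs hker
    exact ⟨V, hzV, restrict_of_affine i V hV bs hbs hkV⟩

end Groth.Agent.Lib.Helper94.RegImmPt
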