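import Mathlib
import Groth.Prelude.Def_Disc

set_option autoImplicit false
universe u v
open TensorProduct

namespace Groth.Agent.Lib.Helper94.DiscDual

section
variable {A : Type u} {B : Type v} [CommRing A] [CommRing B] [Algebra A B]

/-- `l ⊗ id : B ⊗ B → B`. -/
noncomputable abbrev T (l : Disc.Omega A B) : B ⊗[A] B →ₗ[A] B :=
  TensorProduct.lift ((LinearMap.lsmul A B).comp l.toLinearMap)

theorem T_tmul (l : Disc.Omega A B) (x y : B) : T l (x ⊗ₜ[A] y) = l.toLinearMap x • y := by
  simp [T]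

theorem T_mul_left (l : Disc.Omega A B) (b : B) (ξ : B ⊗[A] B) :
    T l (ξ * (b ⊗ₜ[A] 1)) = T (b • l) ξ := by
  induction ξ using TensorProduct.induction_on with
  | zero => simp
  | tmul x y =>
    rw [Algebra.TensorProduct.tmul_mul_tmul, T_tmul, T_tmul, mul_one,
      Disc.Omega.smul_toLinearMap_apply, mul_comm]
  | add x y hx hy => rw [add_mul, map_add, map_add, hx, hy]

theorem T_mul_right (l : Disc.Omega A B) (b : B) (ξ : B ⊗[A] B) :
    T l (ξ * (1 ⊗ₜ[A] b)) = b * T l ξ := by
  induction ξ using TensorProduct.induction_on with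
  | zero => simp
  | tmul x y =>
    rw [Algebra.TensorProduct.tmul_mul_tmul, T_tmul, T_tmul, mul_one, mul_smul_comm, mul_comm]
  | add x y hx hy => rw [add_mul, map_add, map_add, hx, hy, mul_add]

/-- The underlying functional as an additive map. -/
def toLin : Disc.Omega A B →+ (B →ₗ[A] A) where
  toFun := Disc.Omega.toLinearMap
  map_zero' := rfl
  map_add' _ _ := rfl

@[simp] theorem toLin_apply (l : Disc.Omega A B) : toLin l = l.toLinearMap := rfl

theorem T_add (l l' : Disc.Omega A B) (ξ : B ⊗[A] B) : T (l + l') ξ = T l ξ + T l' ξ := by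
  induction ξ using TensorProduct.induction_on with
  | zero => simp
  | tmul x y => simp
  | add x y hx hy => rw [map_add, map_add, map_add, hx, hy]; abel

theorem T_zero (ξ : B ⊗[A] B) : T (0 : Disc.Omega A B) ξ = 0 := by
  induction ξ using TensorProduct.induction_on with
  | zero => simp
  | tmul x y => simp
  | add x y hx hy => rw [map_add, hx, hy, add_zero]

/-- For `ξ` in the annihilator of the kernel of multiplication, `l ↦ (l ⊗ id) ξ` is `B`-linear. -/
theorem T_smul_of_mem {ξ : B ⊗[A] B}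
    (hξ : ξ ∈ Submodule.annihilator (RingHom.ker (Algebra.TensorProduct.lmul' (S := B) A)))
    (b : B) (l : Disc.Omega A B) : T (b • l) ξ = b * T l ξ := by
  rw [← T_mul_left, ← T_mul_right]
  congr 1
  rw [Submodule.mem_annihilator] at hξ
  have hmem : (1 : B) ⊗ₜ[A] b - b ⊗ₜ[A] (1 : B) ∈
      RingHom.ker (Algebra.TensorProduct.lmul' (S := B) A) := by
    rw [RingHom.mem_ker]; simp
  have := hξ _ hmem
  rw [smul_eq_mul, mul_sub, sub_eq_zero] at this
  exact this.symm

/-- The `B`-linear map `ω → B` attached to an element of the annihilator. -/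
noncomputable def pairing (ξ : B ⊗[A] B)
    (hξ : ξ ∈ Submodule.annihilator (RingHom.ker (Algebra.TensorProduct.lmul' (S := B) A))) :
    Disc.Omega A B →ₗ[B] B where
  toFun l := T l ξ
  map_add' l l' := T_add l l' ξ
  map_smul' b l := by
    rw [RingHom.id_apply, smul_eq_mul]
    exact T_smul_of_mem hξ b l

theorem expand {ι : Type*} [Fintype ι] [DecidableEq ι] (𝓑 : Module.Basis ι A B) (ξ : B ⊗[A] B) :
    ξ = ∑ i, (𝓑 i) ⊗ₜ[A] T ⟨𝓑.coord i⟩ ξ := by
  induction ξ using TensorProduct.induction_on with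
  | zero => simp
  | tmul x y =>
    simp only [T_tmul, Module.Basis.coord_apply]
    simp only [TensorProduct.tmul_smul, TensorProduct.smul_tmul']
    rw [← TensorProduct.sum_tmul, Module.Basis.sum_repr]
  | add x y hx hy =>
    simp only [map_add, TensorProduct.tmul_add, Finset.sum_add_distrib]
    rw [← hx, ← hy]

/-- The trace is `∑ bᵢ • bᵢ^*`. -/
theorem trace_eq_sum {ι : Type*} [Fintype ι] [DecidableEq ι] (𝓑 : Module.Basis ι A B)
    [Module.Free A B] [Module.Finite A B] :
    Disc.Omega.trace A B = ∑ i, (𝓑 i) • (⟨𝓑.coord i⟩ : Disc.Omega A B) := by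
  apply Disc.Omega.toLinearMap_injective
  apply LinearMap.ext
  intro x
  change Algebra.trace A B x = toLin (∑ i, (𝓑 i) • (⟨𝓑.coord i⟩ : Disc.Omega A B)) x
  rw [map_sum, LinearMap.sum_apply]
  simp only [toLin_apply, Disc.Omega.smul_toLinearMap_apply, Module.Basis.coord_apply]
  rw [Algebra.trace_eq_matrix_trace 𝓑, Matrix.trace]
  refine Finset.sum_congr rfl fun i _ => ?_
  rw [Matrix.diag_apply, Algebra.leftMulMatrix_eq_repr_mul, mul_comm]

/-- `(Tr ⊗ id) ξ = μ ξ` for `ξ` in the annihilator of the kernel of multiplication. -/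
theorem T_trace_of_mem [Module.Free A B] [Module.Finite A B] {ξ : B ⊗[A] B}
    (hξ : ξ ∈ Submodule.annihilator (RingHom.ker (Algebra.TensorProduct.lmul' (S := B) A))) :
    T (Disc.Omega.trace A B) ξ = Algebra.TensorProduct.lmul' (S := B) A ξ := by
  classical
  let 𝓑 := Module.Free.chooseBasis A B
  haveI : Fintype (Module.Free.ChooseBasisIndex A B) := Module.Free.ChooseBasisIndex.fintype A B
  rw [trace_eq_sum 𝓑]
  change pairing ξ hξ (∑ i, (𝓑 i) • (⟨𝓑.coord i⟩ : Disc.Omega A B)) = _
  rw [map_sum]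
  conv_rhs => rw [expand 𝓑 ξ]
  rw [map_sum]
  refine Finset.sum_congr rfl fun i _ => ?_
  rw [map_smul, smul_eq_mul, Algebra.TensorProduct.lmul'_apply_tmul]
  rfl

/-- Every `B`-linear map `ω → B` comes from an element of the annihilator. -/
theorem exists_pairing [Module.Free A B] [Module.Finite A B] (Φ : Disc.Omega A B →ₗ[B] B) :
    ∃ (ξ : B ⊗[A] B)
      (hξ : ξ ∈ Submodule.annihilator (RingHom.ker (Algebra.TensorProduct.lmul' (S := B) A))),
      Φ = pairing ξ hξ := by
  classical
  let 𝓑 := Module.Free.chooseBasis A B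
  haveI : Fintype (Module.Free.ChooseBasisIndex A B) := Module.Free.ChooseBasisIndex.fintype A B
  let ξ₀ : B ⊗[A] B := ∑ i, 𝓑 i ⊗ₜ[A] Φ ⟨𝓑.coord i⟩
  have hform : ∀ l : Disc.Omega A B, Φ l = T l ξ₀ := by
    intro l
    simp only [ξ₀, map_sum, T_tmul]
    have h1 : l = ∑ i, (algebraMap A B (l.toLinearMap (𝓑 i))) • (⟨𝓑.coord i⟩ : Disc.Omega A B) := by
      apply Disc.Omega.toLinearMap_injective
      apply 𝓑.ext
      intro j
      change l.toLinearMap (𝓑 j) = toLin (∑ i, (algebraMap A B (l.toLinearMap (𝓑 i))) •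
        (⟨𝓑.coord i⟩ : Disc.Omega A B)) (𝓑 j)
      rw [map_sum, LinearMap.sum_apply]
      simp only [toLin_apply, Disc.Omega.smul_toLinearMap_apply, ← Algebra.smul_def, map_smul,
        Module.Basis.coord_apply, Module.Basis.repr_self, smul_eq_mul]
      rw [Finset.sum_eq_single j]
      · simp
      · intro i _ hij
        simp [hij.symm]
      · intro h; exact absurd (Finset.mem_univ j) h
    conv_lhs => rw [h1]
    rw [map_sum]
    refine Finset.sum_congr rfl fun i _ => ?_
    rw [map_smul, smul_eq_mul, ← Algebra.smul_def]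
  have hinj : ∀ ξ ξ' : B ⊗[A] B, (∀ l : Disc.Omega A B, T l ξ = T l ξ') → ξ = ξ' := by
    intro ξ ξ' h
    rw [expand 𝓑 ξ, expand 𝓑 ξ']
    exact Finset.sum_congr rfl fun i _ => by rw [h]
  have hmem : ξ₀ ∈ Submodule.annihilator (RingHom.ker (Algebra.TensorProduct.lmul' (S := B) A)) := by
    rw [Submodule.mem_annihilator]
    intro x hx
    have hx' : x ∈ KaehlerDifferential.ideal A B := hx
    rw [← KaehlerDifferential.span_range_eq_ideal] at hx'
    rw [smul_eq_mul]
    refine Submodule.span_induction ?_ ?_ ?_ ?_ hx'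
    · rintro _ ⟨b, rfl⟩
      apply hinj
      intro l
      beta_reduce
      rw [map_zero, mul_sub, map_sub, T_mul_right, T_mul_left, ← hform, ← hform,
        map_smul, smul_eq_mul, sub_self]
    · rw [mul_zero]
    · intro x y _ _ hx hy
      rw [mul_add, hx, hy, add_zero]
    · intro a x _ hx
      rw [smul_eq_mul, mul_left_comm, hx, mul_zero]
  exact ⟨ξ₀, hmem, LinearMap.ext hform⟩

/-- The Noether different of a finite free algebra is `{φ τ | φ : ω → B}`. -/
theorem noetherDifferent_eq_range [Module.Free A B] [Module.Finite A B] :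
    (Disc.noetherDifferent A B : Set B) =
      Set.range (fun φ : Disc.Omega A B →ₗ[B] B => φ (Disc.Omega.trace A B)) := by
  have hsurj : Function.Surjective (Algebra.TensorProduct.lmul' (S := B) A) :=
    fun b => ⟨b ⊗ₜ 1, by simp⟩
  ext b
  constructor
  · intro hb
    obtain ⟨ξ, hξ, rfl⟩ := (Ideal.mem_map_iff_of_surjective _ hsurj).1 hb
    exact ⟨pairing ξ hξ, T_trace_of_mem hξ⟩
  · rintro ⟨φ, rfl⟩
    obtain ⟨ξ, hξ, rfl⟩ := exists_pairing φ
    change T (Disc.Omega.trace A B) ξ ∈ Disc.noetherDifferent A B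
    rw [T_trace_of_mem hξ]
    exact Ideal.mem_map_of_mem _ hξ

end

section
variable {A : Type u} {B : Type v} [CommRing A] [CommRing B] [Algebra A B]
variable {ι : Type*} [Fintype ι] [DecidableEq ι] (𝓑 : Module.Basis ι A B)

omit [DecidableEq ι] in
/-- Expansion of a functional in the dual basis. -/
theorem omega_eq_sum (l : Disc.Omega A B) :
    l = ∑ i, (algebraMap A B (l.toLinearMap (𝓑 i))) • (⟨𝓑.coord i⟩ : Disc.Omega A B) := by
  apply Disc.Omega.toLinearMap_injective
  apply 𝓑.ext
  intro j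
  change l.toLinearMap (𝓑 j) = toLin (∑ i, (algebraMap A B (l.toLinearMap (𝓑 i))) •
    (⟨𝓑.coord i⟩ : Disc.Omega A B)) (𝓑 j)
  rw [map_sum, LinearMap.sum_apply]
  simp only [toLin_apply, Disc.Omega.smul_toLinearMap_apply, ← Algebra.smul_def, map_smul,
    Module.Basis.coord_apply, Module.Basis.repr_self, smul_eq_mul]
  rw [Finset.sum_eq_single j]
  · simp
  · intro i _ hij
    simp [hij.symm]
  · intro h; exact absurd (Finset.mem_univ j) h

/-- The matrix of a `B`-linear map `ω → B` in the dual basis and the basis. -/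
noncomputable def dualMatrix (Φ : Disc.Omega A B →ₗ[B] B) : Matrix ι ι A :=
  fun i j => 𝓑.repr (Φ ⟨𝓑.coord j⟩) i

theorem repr_apply_eq (Φ : Disc.Omega A B →ₗ[B] B) (l : Disc.Omega A B) (i : ι) :
    𝓑.repr (Φ l) i = ∑ k, dualMatrix 𝓑 Φ i k * l.toLinearMap (𝓑 k) := by
  conv_lhs => rw [omega_eq_sum 𝓑 l]
  rw [map_sum, map_sum, Finsupp.coe_finsetSum, Finset.sum_apply]
  refine Finset.sum_congr rfl fun k _ => ?_
  rw [map_smul, smul_eq_mul, ← Algebra.smul_def, map_smul, Finsupp.smul_apply, smul_eq_mul,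
    mul_comm]
  rfl

theorem leftMulMatrix_apply_trace [Module.Free A B] [Module.Finite A B]
    (Φ : Disc.Omega A B →ₗ[B] B) :
    Algebra.leftMulMatrix 𝓑 (Φ (Disc.Omega.trace A B)) =
      dualMatrix 𝓑 Φ * Algebra.traceMatrix A 𝓑 := by
  ext i j
  rw [Algebra.leftMulMatrix_eq_repr_mul, Matrix.mul_apply, mul_comm, ← smul_eq_mul, ← map_smul,
    repr_apply_eq]
  refine Finset.sum_congr rfl fun k _ => ?_
  rw [Algebra.traceMatrix_apply, Algebra.traceForm_apply, Disc.Omega.smul_toLinearMap_apply,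
    mul_comm (𝓑 j)]
  rfl

theorem norm_apply_trace [Module.Free A B] [Module.Finite A B]
    (Φ : Disc.Omega A B →ₗ[B] B) :
    Algebra.norm A (Φ (Disc.Omega.trace A B)) = (dualMatrix 𝓑 Φ).det * Algebra.discr A 𝓑 := by
  rw [Algebra.norm_eq_matrix_det 𝓑, leftMulMatrix_apply_trace, Matrix.det_mul, Algebra.discr_def]

theorem repr_mem_of_mem_map (m : Ideal A) {x : B} (hx : x ∈ m.map (algebraMap A B)) (i : ι) :
    𝓑.repr x i ∈ m := by
  have hx' : x ∈ (m • ⊤ : Submodule A B) := by
    rw [Ideal.smul_top_eq_map]; exact hx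
  refine Submodule.smul_induction_on (p := fun x => 𝓑.repr x i ∈ m) hx' ?_ ?_
  · intro a ha y _
    rw [map_smul, Finsupp.smul_apply, smul_eq_mul]
    exact Ideal.mul_mem_right _ _ ha
  · intro y z hy hz
    rw [map_add, Finsupp.add_apply]
    exact Ideal.add_mem _ hy hz

/-- If `Φ` is surjective modulo a proper ideal `m`, its determinant is not in `m`. -/
theorem det_dualMatrix_notMem (m : Ideal A) (hm : m ≠ ⊤) (Φ : Disc.Omega A B →ₗ[B] B)
    (hΦ : ∀ y : B, ∃ l : Disc.Omega A B, y - Φ l ∈ m.map (algebraMap A B)) :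
    (dualMatrix 𝓑 Φ).det ∉ m := by
  intro hdet
  choose l hl using fun j => hΦ (𝓑 j)
  let V : Matrix ι ι A := fun k j => (l j).toLinearMap (𝓑 k)
  have h1 : ∀ i j, (1 - dualMatrix 𝓑 Φ * V) i j ∈ m := by
    intro i j
    have := repr_mem_of_mem_map 𝓑 m (hl j) i
    rw [map_sub, Finsupp.sub_apply, repr_apply_eq, Module.Basis.repr_self] at this
    rw [Matrix.sub_apply, Matrix.mul_apply, Matrix.one_apply]
    convert this using 2
    rw [Finsupp.single_apply]
    by_cases h : i = j
    · simp [h]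
    · rw [if_neg h, if_neg (Ne.symm h)]
  have h2 : (Ideal.Quotient.mk m).mapMatrix (dualMatrix 𝓑 Φ * V) = 1 := by
    ext i j
    have := h1 i j
    rw [← Ideal.Quotient.eq_zero_iff_mem, Matrix.sub_apply, map_sub, sub_eq_zero] at this
    rw [RingHom.mapMatrix_apply, Matrix.map_apply, ← this, Matrix.one_apply, Matrix.one_apply]
    split_ifs <;> simp
  have h3 := congrArg Matrix.det h2
  rw [← RingHom.map_det, Matrix.det_mul, map_mul, Matrix.det_one,
    Ideal.Quotient.eq_zero_iff_mem.2 hdet, zero_mul] at h3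
  have : (1 : A) ∈ m := by
    rw [← Ideal.Quotient.eq_zero_iff_mem, map_one]; exact h3.symm
  exact hm ((Ideal.eq_top_iff_one m).2 this)

end

section
variable {A B : Type u} [CommRing A] [CommRing B] [Algebra A B]

/-- For an invertible dualizing module, there is a `B`-linear map `ω → B` surjective modulo `m`. -/
theorem exists_dual_surj_mod (m : Ideal A) [m.IsMaximal] [Module.Finite A B]
    [Module.Invertible B (Disc.Omega A B)] :
    ∃ Φ : Disc.Omega A B →ₗ[B] B, ∀ y : B, ∃ l : Disc.Omega A B,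
      y - Φ l ∈ m.map (algebraMap A B) := by
  set I : Ideal B := m.map (algebraMap A B) with hI
  letI : Field (A ⧸ m) := Ideal.Quotient.field m
  haveI : Module.Finite A (B ⧸ I) := inferInstance
  haveI : Module.Finite (A ⧸ m) (B ⧸ I) := Module.Finite.of_restrictScalars_finite A (A ⧸ m) (B ⧸ I)
  haveI : IsArtinianRing (B ⧸ I) := IsArtinianRing.of_finite (A ⧸ m) (B ⧸ I)
  haveI : Module.Free (B ⧸ I) ((B ⧸ I) ⊗[B] Disc.Omega A B) := inferInstance
  obtain ⟨e⟩ := Module.Invertible.free_iff_linearEquiv.mp this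
  let Φbar : Disc.Omega A B →ₗ[B] (B ⧸ I) :=
    (e.toLinearMap.restrictScalars B) ∘ₗ (TensorProduct.mk B (B ⧸ I) (Disc.Omega A B) 1)
  have hz : ∀ z : (B ⧸ I) ⊗[B] Disc.Omega A B, ∃ l : Disc.Omega A B, z = (1 : B ⧸ I) ⊗ₜ[B] l := by
    intro z
    induction z using TensorProduct.induction_on with
    | zero => exact ⟨0, by simp⟩
    | tmul c l =>
      obtain ⟨c, rfl⟩ := Ideal.Quotient.mk_surjective c
      refine ⟨c • l, ?_⟩
      rw [← TensorProduct.smul_tmul]
      congr 1
      rw [Algebra.smul_def, mul_one]; rfl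
    | add z w hz hw =>
      obtain ⟨l, rfl⟩ := hz
      obtain ⟨l', rfl⟩ := hw
      exact ⟨l + l', by rw [TensorProduct.tmul_add]⟩
  obtain ⟨Φ, hΦ⟩ := Module.projective_lifting_property (Submodule.mkQ I) Φbar
    (Submodule.mkQ_surjective I)
  refine ⟨Φ, fun y => ?_⟩
  obtain ⟨l, hl⟩ := hz (e.symm (Ideal.Quotient.mk I y))
  refine ⟨l, ?_⟩
  have h1 : Φbar l = Ideal.Quotient.mk I y := by
    change e ((1 : B ⧸ I) ⊗ₜ[B] l) = _
    rw [← hl, LinearEquiv.apply_symm_apply]
  have h2 : Ideal.Quotient.mk I (Φ l) = Φbar l := by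
    rw [← hΦ]; rfl
  rw [← Ideal.Quotient.eq, h2, h1]

end

section
variable {A : Type u} {B : Type v} [CommRing A] [CommRing B] [Algebra A B]

theorem mem_differentSet_iff [Module.Free A B] [Module.Finite A B] (b : B) :
    b ∈ Disc.differentSet A B ↔
      ∀ l : Disc.Omega A B, ∃ c : B, b • l = c • Disc.Omega.trace A B := by
  constructor
  · intro hb l
    obtain ⟨c, hc⟩ := hb l.toLinearMap
    refine ⟨c, ?_⟩
    apply Disc.Omega.toLinearMap_injective
    apply LinearMap.ext
    intro x
    exact hc x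
  · intro hb φ
    obtain ⟨c, hc⟩ := hb ⟨φ⟩
    refine ⟨c, fun x => ?_⟩
    have := congrArg (fun l : Disc.Omega A B => l.toLinearMap x) hc
    exact this

/-- `ω` is a faithful `B`-module. -/
theorem eq_zero_of_smul_omega [Module.Free A B] [Module.Finite A B] (c : B)
    (hc : ∀ l : Disc.Omega A B, c • l = 0) : c = 0 := by
  classical
  let 𝓑 := Module.Free.chooseBasis A B
  apply 𝓑.repr.injective
  ext i
  have := congrArg (fun l : Disc.Omega A B => l.toLinearMap 1) (hc ⟨𝓑.coord i⟩)
  simp only [Disc.Omega.smul_toLinearMap_apply, mul_one, Module.Basis.coord_apply,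
    Disc.Omega.zero_toLinearMap, LinearMap.zero_apply] at this
  rw [this]; simp

/-- Key symmetry: `Φ(τ) • l = Φ(l) • τ` for `B`-linear `Φ : ω → B`. -/
theorem apply_trace_smul [Module.Free A B] [Module.Finite A B]
    (Φ : Disc.Omega A B →ₗ[B] B) (l : Disc.Omega A B) :
    Φ (Disc.Omega.trace A B) • l = Φ l • Disc.Omega.trace A B := by
  classical
  let 𝓑 := Module.Free.chooseBasis A B
  haveI : Fintype (Module.Free.ChooseBasisIndex A B) := Module.Free.ChooseBasisIndex.fintype A B
  apply Disc.Omega.toLinearMap_injective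
  apply LinearMap.ext
  intro x
  rw [Disc.Omega.smul_toLinearMap_apply, Disc.Omega.smul_toLinearMap_apply]
  change _ = Algebra.trace A B (Φ l * x)
  -- RHS
  have hR : Algebra.trace A B (Φ l * x) =
      ∑ i, ∑ k, dualMatrix 𝓑 Φ i k * l.toLinearMap (x * 𝓑 i * 𝓑 k) := by
    rw [Algebra.trace_eq_matrix_trace 𝓑, Matrix.trace]
    refine Finset.sum_congr rfl fun i _ => ?_
    rw [Matrix.diag_apply, Algebra.leftMulMatrix_eq_repr_mul, mul_assoc, mul_comm (Φ l),
      ← smul_eq_mul (x * 𝓑 i), ← map_smul, repr_apply_eq]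
    rfl
  -- LHS
  have hL : l.toLinearMap (Φ (Disc.Omega.trace A B) * x) =
      ∑ i, ∑ k, dualMatrix 𝓑 Φ k i * l.toLinearMap (x * 𝓑 k * 𝓑 i) := by
    rw [trace_eq_sum 𝓑, map_sum, Finset.sum_mul, map_sum]
    refine Finset.sum_congr rfl fun i _ => ?_
    rw [map_smul, smul_eq_mul]
    conv_lhs => rw [← 𝓑.sum_repr (Φ ⟨𝓑.coord i⟩)]
    rw [Finset.mul_sum, Finset.sum_mul, map_sum]
    refine Finset.sum_congr rfl fun k _ => ?_
    rw [mul_smul_comm, smul_mul_assoc, map_smul, smul_eq_mul]
    congr 1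
    · congr 1; ring
  rw [hL, hR, Finset.sum_comm]

/-- The Noether different is contained in the different. -/
theorem noetherDifferent_subset_differentSet [Module.Free A B] [Module.Finite A B] :
    (Disc.noetherDifferent A B : Set B) ⊆ Disc.differentSet A B := by
  rw [noetherDifferent_eq_range]
  rintro _ ⟨Φ, rfl⟩
  rw [mem_differentSet_iff]
  intro l
  exact ⟨Φ l, apply_trace_smul Φ l⟩

/-- The square of an element of the different lies in the Noether different. -/
theorem sq_mem_noetherDifferent [Module.Free A B] [Module.Finite A B] {d : B}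
    (hd : d ∈ Disc.differentSet A B) : d ^ 2 ∈ Disc.noetherDifferent A B := by
  rw [mem_differentSet_iff] at hd
  choose c hc using hd
  have hann : ∀ e : B, e • Disc.Omega.trace A B = 0 → d * e = 0 := by
    intro e he
    apply eq_zero_of_smul_omega (A := A)
    intro l
    rw [mul_comm, mul_smul, hc l, smul_comm, he, smul_zero]
  let Φ : Disc.Omega A B →ₗ[B] B :=
    { toFun := fun l => d * c l
      map_add' := by
        intro l l'
        rw [← mul_add, ← sub_eq_zero, ← mul_sub]
        apply hann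
        rw [sub_smul, add_smul, ← hc, ← hc, ← hc, smul_add, sub_self]
      map_smul' := by
        intro b l
        rw [RingHom.id_apply, smul_eq_mul, mul_left_comm, ← sub_eq_zero, ← mul_sub]
        apply hann
        rw [sub_smul, mul_smul, ← hc, ← hc, smul_comm, sub_self] }
  have hΦ : Φ (Disc.Omega.trace A B) = d ^ 2 := by
    change d * c (Disc.Omega.trace A B) = d ^ 2
    rw [pow_two, ← sub_eq_zero, ← mul_sub]
    apply hann
    rw [sub_smul, ← hc, sub_self]
  have := noetherDifferent_eq_range (A := A) (B := B)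
  rw [← hΦ]
  change _ ∈ (Disc.noetherDifferent A B : Set B)
  rw [this]
  exact ⟨Φ, rfl⟩

/-- A prime contains the different iff it contains the Noether different. -/
theorem differentSet_subset_iff [Module.Free A B] [Module.Finite A B] (q : Ideal B) [q.IsPrime] :
    Disc.differentSet A B ⊆ q ↔ Disc.noetherDifferent A B ≤ q := by
  constructor
  · intro h
    exact fun x hx => h (noetherDifferent_subset_differentSet hx)
  · intro h d hd
    exact Ideal.IsPrime.mem_of_pow_mem inferInstance 2 (h (sq_mem_noetherDifferent hd))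

end

end Groth.Agent.Lib.Helper94.DiscDual
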