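import Mathlib
import Groth.Prelude.Def_Disc

/-!
# The Noether different

`V(𝔡) = Supp Ω_{B/A}` for the Noether different `𝔡` of a finite type algebra.
-/

set_option autoImplicit false
universe u v

open TensorProduct

namespace Groth.Agent.Lib.Helper94.NoetherDiff

variable (A : Type u) (B : Type v) [CommRing A] [CommRing B] [Algebra A B]

/-- The Noether different kills the Kähler differentials. -/
theorem noetherDifferent_le_annihilator :
    Disc.noetherDifferent A B ≤ Module.annihilator B Ω[B⁄A] := by
  intro b hb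
  obtain ⟨x, hx, rfl⟩ := (Ideal.mem_map_iff_of_surjective
    (Algebra.TensorProduct.lmul' (S := B) A)
    (fun b => ⟨b ⊗ₜ 1, by simp⟩)).1 hb
  rw [Module.mem_annihilator]
  intro ω
  obtain ⟨y, rfl⟩ := KaehlerDifferential.fromIdeal_surjective A B ω
  have hxy : x • y = 0 := by
    rw [Submodule.mem_annihilator] at hx
    apply Subtype.ext
    exact hx y y.2
  have hmem : x - algebraMap B (B ⊗[A] B) (Algebra.TensorProduct.lmul' (S := B) A x) ∈
      KaehlerDifferential.ideal A B := by
    rw [RingHom.mem_ker, map_sub, sub_eq_zero]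
    simp
  have h2 : (x - algebraMap B (B ⊗[A] B) (Algebra.TensorProduct.lmul' (S := B) A x)) •
      KaehlerDifferential.fromIdeal A B y = 0 := by
    rw [← map_smul]
    change (KaehlerDifferential.ideal A B).toCotangent _ = 0
    rw [Ideal.toCotangent_eq_zero, Submodule.coe_smul, smul_eq_mul, pow_two]
    exact Ideal.mul_mem_mul hmem y.2
  rw [sub_smul, ← map_smul, hxy, map_zero, zero_sub, neg_eq_zero, algebraMap_smul] at h2
  exact h2


open Polynomial in
/-- A power of every element killing the Kähler differentials lies in the Noether different, if the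
kernel of the multiplication map is finitely generated. -/
theorem exists_pow_mem_noetherDifferent (hfg : (KaehlerDifferential.ideal A B).FG)
    (b : B) (hb : b ∈ Module.annihilator B Ω[B⁄A]) :
    ∃ n : ℕ, b ^ n ∈ Disc.noetherDifferent A B := by
  haveI : Module.Finite (B ⊗[A] B) ↥(KaehlerDifferential.ideal A B) :=
    Module.Finite.iff_fg.2 hfg
  set t : B ⊗[A] B := algebraMap B (B ⊗[A] B) b with ht
  have hμt : Algebra.TensorProduct.lmul' (S := B) A t = b := by simp [ht]
  -- multiplication by `t` maps `I` into `I • I`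
  have hrange : LinearMap.range (algebraMap (B ⊗[A] B)
      (Module.End (B ⊗[A] B) ↥(KaehlerDifferential.ideal A B)) t) ≤
      (KaehlerDifferential.ideal A B) • ⊤ := by
    rintro _ ⟨y, rfl⟩
    rw [Module.algebraMap_end_apply, Submodule.mem_smul_top_iff, smul_eq_mul, ← pow_two]
    have h1 : b • KaehlerDifferential.fromIdeal A B y = 0 := Module.mem_annihilator.1 hb _
    rw [← algebraMap_smul (B ⊗[A] B) b, ← map_smul] at h1
    exact (Ideal.toCotangent_eq_zero _ _).1 h1
  obtain ⟨p, hmonic, -, hcoeff, hp⟩ :=
    LinearMap.exists_monic_and_natDegree_eq_and_coeff_mem_pow_and_aeval_eq_zero (B ⊗[A] B)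
      (algebraMap (B ⊗[A] B) (Module.End (B ⊗[A] B) ↥(KaehlerDifferential.ideal A B)) t)
      (KaehlerDifferential.ideal A B) hrange
  rw [Polynomial.aeval_algebraMap_apply] at hp
  refine ⟨p.natDegree, ?_⟩
  have hann : aeval t p ∈ Submodule.annihilator (KaehlerDifferential.ideal A B) := by
    rw [Submodule.mem_annihilator]
    intro y hy
    have := LinearMap.congr_fun hp ⟨y, hy⟩
    rw [Module.algebraMap_end_apply] at this
    exact congrArg Subtype.val this
  have hμ : Algebra.TensorProduct.lmul' (S := B) A (aeval t p) = b ^ p.natDegree := by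
    have hmap : p.map (Algebra.TensorProduct.lmul' (S := B) A : B ⊗[A] B →+* B) =
        X ^ p.natDegree := by
      ext k
      rw [coeff_map, coeff_X_pow]
      split_ifs with hk
      · rw [hk, hmonic.coeff_natDegree, map_one]
      · rcases lt_or_gt_of_ne hk with hlt | hgt
        · have hmem := hcoeff k
          have hle : KaehlerDifferential.ideal A B ^ (p.natDegree - k) ≤
              KaehlerDifferential.ideal A B := Ideal.pow_le_self (by omega)
          exact hle hmem
        · rw [coeff_eq_zero_of_natDegree_lt hgt, map_zero]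
    have h3 : Algebra.TensorProduct.lmul' (S := B) A (aeval t p) =
        (p.map (Algebra.TensorProduct.lmul' (S := B) A : B ⊗[A] B →+* B)).eval
          (Algebra.TensorProduct.lmul' (S := B) A t) := by
      rw [aeval_def, eval_map, ← RingHom.coe_coe, hom_eval₂]
      simp
    rw [h3, hmap, hμt, eval_pow, eval_X]
  rw [← hμ]
  exact Ideal.mem_map_of_mem _ hann


/-- `V(𝔡) = Supp Ω` when the kernel of the multiplication map is finitely generated. -/
theorem noetherDifferent_le_iff (hfg : (KaehlerDifferential.ideal A B).FG) (q : Ideal B) [q.IsPrime] :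
    Disc.noetherDifferent A B ≤ q ↔ Module.annihilator B Ω[B⁄A] ≤ q := by
  constructor
  · intro h b hb
    obtain ⟨n, hn⟩ := exists_pow_mem_noetherDifferent A B hfg b hb
    exact Ideal.IsPrime.mem_of_pow_mem inferInstance n (h hn)
  · intro h
    exact (noetherDifferent_le_annihilator A B).trans h

theorem zeroLocus_noetherDifferent [Algebra.FiniteType A B] :
    {q : PrimeSpectrum B | Disc.noetherDifferent A B ≤ q.asIdeal} =
      (Algebra.unramifiedLocus A B)ᶜ := by
  rw [Algebra.unramifiedLocus_eq_compl_support, compl_compl, Module.support_eq_zeroLocus]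
  ext q
  rw [Set.mem_ofPred_eq, PrimeSpectrum.mem_zeroLocus, SetLike.coe_subset_coe]
  exact noetherDifferent_le_iff A B (KaehlerDifferential.ideal_fg A B) q.asIdeal


/-- The annihilator of a finitely generated ideal commutes with flat base change. -/
theorem annihilator_map_of_flat {T T' : Type*} [CommRing T] [CommRing T'] [Algebra T T']
    [Module.Flat T T'] (I : Ideal T) (hI : I.FG) :
    Submodule.annihilator (I.map (algebraMap T T')) =
      (Submodule.annihilator I).map (algebraMap T T') := by
  classical
  apply le_antisymm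
  · obtain ⟨s, hs⟩ := hI
    let g : T →ₗ[T] (↥s → T) := LinearMap.pi (fun i => LinearMap.mulRight T (i : T))
    have hg : ∀ t : T, g t = fun i : ↥s => t * (i : T) := fun t => rfl
    have hker : ∀ t ∈ LinearMap.ker g, t ∈ Submodule.annihilator I := by
      intro t ht
      rw [Submodule.mem_annihilator]
      intro y hy
      rw [← hs] at hy
      induction hy using Submodule.span_induction with
      | mem z hz =>
        have := congrFun (LinearMap.mem_ker.1 ht) ⟨z, hz⟩
        exact this
      | zero => exact smul_zero t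
      | add z w _ _ hz hw => rw [smul_add, hz, hw, add_zero]
      | smul a z _ hz => rw [smul_comm, hz, smul_zero]
    intro t' ht'
    rw [Submodule.mem_annihilator] at ht'
    have hmem : t' ⊗ₜ[T] (1 : T) ∈ LinearMap.ker (AlgebraTensorModule.lTensor T' T' g) := by
      rw [LinearMap.mem_ker, AlgebraTensorModule.lTensor_tmul]
      apply (TensorProduct.piRight T T T' (fun _ : ↥s => T)).injective
      rw [map_zero]
      funext i
      rw [TensorProduct.piRight_apply, TensorProduct.piRightHom_tmul, hg]
      change t' ⊗ₜ[T] ((1 : T) * (i : T)) = 0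
      rw [one_mul]
      have h1 : t' ⊗ₜ[T] ((i : T)) = ((i : T) • t') ⊗ₜ[T] (1 : T) := by
        rw [TensorProduct.smul_tmul, smul_eq_mul, mul_one]
      rw [h1, Algebra.smul_def, mul_comm]
      have h2 : t' * algebraMap T T' (i : T) = 0 := by
        have := ht' (algebraMap T T' (i : T))
          (Ideal.mem_map_of_mem _ (hs ▸ Ideal.subset_span i.2))
        exact this
      rw [h2, TensorProduct.zero_tmul]
    rw [Module.Flat.ker_lTensor_eq] at hmem
    obtain ⟨z, hz⟩ := hmem
    have key : ∀ z : T' ⊗[T] ↥(LinearMap.ker g),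
        (TensorProduct.rid T T') (AlgebraTensorModule.lTensor T' T' (LinearMap.ker g).subtype z) ∈
          (Submodule.annihilator I).map (algebraMap T T') := by
      intro z
      induction z using TensorProduct.induction_on with
      | zero => simp
      | tmul a k =>
        rw [AlgebraTensorModule.lTensor_tmul, TensorProduct.rid_tmul, Submodule.subtype_apply,
          Algebra.smul_def]
        exact Ideal.mul_mem_right _ _ (Ideal.mem_map_of_mem _ (hker k k.2))
      | add a b ha hb =>
        rw [map_add, map_add]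
        exact Ideal.add_mem _ ha hb
    have := key z
    rw [hz, TensorProduct.rid_tmul, one_smul] at this
    exact this
  · rw [Ideal.map_le_iff_le_comap]
    intro t ht
    rw [Ideal.mem_comap, Submodule.mem_annihilator]
    rw [Submodule.mem_annihilator] at ht
    intro y hy
    induction hy using Submodule.span_induction with
    | mem z hz =>
      obtain ⟨x, hx, rfl⟩ := hz
      rw [smul_eq_mul, ← map_mul]
      have := ht x hx
      rw [smul_eq_mul] at this
      rw [this, map_zero]
    | zero => exact smul_zero _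
    | add z w _ _ hz hw => rw [smul_add, hz, hw, add_zero]
    | smul a z _ hz => rw [smul_comm, hz, smul_zero]


/-- General base change criterion for the Noether different. -/
theorem noetherDifferent_eq_map_of_flat {A B A' B' : Type*} [CommRing A] [CommRing B]
    [CommRing A'] [CommRing B'] [Algebra A B] [Algebra A' B']
    (β : B →+* B') (φ : B ⊗[A] B →+* B' ⊗[A'] B')
    (hφ : ∀ x y : B, φ (x ⊗ₜ[A] y) = β x ⊗ₜ[A'] β y) (hflat : φ.Flat)
    (hfg : (RingHom.ker (Algebra.TensorProduct.lmul' (S := B) A)).FG)
    (hker : RingHom.ker (Algebra.TensorProduct.lmul' (S := B') A') ≤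
      Ideal.map φ (RingHom.ker (Algebra.TensorProduct.lmul' (S := B) A))) :
    Disc.noetherDifferent A' B' = (Disc.noetherDifferent A B).map β := by
  have hcomm : (Algebra.TensorProduct.lmul' (S := B') A' : B' ⊗[A'] B' →+* B').comp φ =
      β.comp (Algebra.TensorProduct.lmul' (S := B) A : B ⊗[A] B →+* B) := by
    apply RingHom.ext
    intro t
    induction t using TensorProduct.induction_on with
    | zero => simp
    | tmul x y =>
      simp only [RingHom.comp_apply, hφ, RingHom.coe_coe, Algebra.TensorProduct.lmul'_apply_tmul,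
        map_mul]
    | add x y hx hy =>
      rw [map_add, map_add, hx, hy]
  have hker' : RingHom.ker (Algebra.TensorProduct.lmul' (S := B') A') =
      Ideal.map φ (RingHom.ker (Algebra.TensorProduct.lmul' (S := B) A)) := by
    apply le_antisymm hker
    rw [Ideal.map_le_iff_le_comap]
    intro t ht
    rw [Ideal.mem_comap, RingHom.mem_ker]
    have := congrArg (fun f => f t) hcomm
    simp only [RingHom.comp_apply] at this
    rw [RingHom.mem_ker] at ht
    have ht' : (Algebra.TensorProduct.lmul' (S := B) A : B ⊗[A] B →+* B) t = 0 := ht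
    rw [ht', map_zero] at this
    exact this
  unfold Disc.noetherDifferent
  rw [hker']
  letI := φ.toAlgebra
  haveI : Module.Flat (B ⊗[A] B) (B' ⊗[A'] B') := hflat
  have h1 := annihilator_map_of_flat (T := B ⊗[A] B) (T' := B' ⊗[A'] B') _ hfg
  have h2 : algebraMap (B ⊗[A] B) (B' ⊗[A'] B') = φ := rfl
  rw [h2] at h1
  rw [h1]
  have e1 := Ideal.map_map (I := Submodule.annihilator
    (RingHom.ker (Algebra.TensorProduct.lmul' (S := B) A))) φ
    (Algebra.TensorProduct.lmul' (S := B') A' : B' ⊗[A'] B' →+* B')
  have e2 := Ideal.map_map (I := Submodule.annihilator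
    (RingHom.ker (Algebra.TensorProduct.lmul' (S := B) A)))
    (Algebra.TensorProduct.lmul' (S := B) A : B ⊗[A] B →+* B) β
  rw [hcomm] at e1
  exact e1.trans e2.symm


section BC

variable {A B A' B' : Type u} [CommRing A] [CommRing B]
    [CommRing A'] [CommRing B'] [Algebra A B] [Algebra A A'] [Algebra A B'] [Algebra B B']
    [Algebra A' B'] [IsScalarTower A B B'] [IsScalarTower A A' B']

variable (A B A' B') in
/-- The canonical map `B ⊗[A] B → B' ⊗[A'] B'`. -/
noncomputable def tensorMap : B ⊗[A] B →ₐ[A] B' ⊗[A'] B' :=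
  Algebra.TensorProduct.productMap
    ((Algebra.TensorProduct.includeLeft (R := A') (S := A) (A := B') (B := B')).comp
      (IsScalarTower.toAlgHom A B B'))
    (((Algebra.TensorProduct.includeRight (R := A') (A := B') (B := B')).restrictScalars A).comp
      (IsScalarTower.toAlgHom A B B'))

theorem tensorMap_tmul (x y : B) :
    tensorMap A B A' B' (x ⊗ₜ[A] y) = algebraMap B B' x ⊗ₜ[A'] algebraMap B B' y := by
  simp [tensorMap]

theorem isBaseChange_tensorMap [Algebra.IsPushout A B A' B'] :
    IsBaseChange A' (tensorMap A B A' B').toLinearMap := by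
  have hB : IsBaseChange A' (IsScalarTower.toAlgHom A B B').toLinearMap :=
    (Algebra.IsPushout.symm (inferInstance : Algebra.IsPushout A B A' B')).out
  let e : A' ⊗[A] (B ⊗[A] B) ≃ₗ[A'] B' ⊗[A'] B' :=
    (AlgebraTensorModule.distribBaseChange A A' B B) ≪≫ₗ TensorProduct.congr hB.equiv hB.equiv
  apply IsBaseChange.of_equiv e
  intro t
  induction t using TensorProduct.induction_on with
  | zero => simp
  | tmul x y =>
    change (TensorProduct.congr hB.equiv hB.equiv)
      (AlgebraTensorModule.distribBaseChange A A' B B ((1 : A') ⊗ₜ[A] (x ⊗ₜ[A] y))) = _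
    rw [AlgebraTensorModule.distribBaseChange_tmul, TensorProduct.congr_tmul,
      IsBaseChange.equiv_tmul, IsBaseChange.equiv_tmul, one_smul, one_smul]
    change _ = tensorMap A B A' B' (x ⊗ₜ[A] y)
    rw [tensorMap_tmul]
    rfl
  | add x y hx hy =>
    rw [TensorProduct.tmul_add, map_add, map_add, hx, hy]

theorem flat_tensorMap [Algebra.IsPushout A B A' B'] [Module.Flat A A'] :
    (tensorMap A B A' B').toRingHom.Flat := by
  letI : Algebra (B ⊗[A] B) (B' ⊗[A'] B') := (tensorMap A B A' B').toRingHom.toAlgebra
  haveI : IsScalarTower A (B ⊗[A] B) (B' ⊗[A'] B') :=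
    IsScalarTower.of_algebraMap_eq' (tensorMap A B A' B').comp_algebraMap.symm
  have h1 : Algebra.IsPushout A A' (B ⊗[A] B) (B' ⊗[A'] B') := by
    constructor
    have := isBaseChange_tensorMap (A := A) (B := B) (A' := A') (B' := B')
    convert this using 1
    · rfl
    · exact LinearMap.ext fun _ => rfl
  have h2 := h1.symm.out
  exact Module.Flat.isBaseChange A (B ⊗[A] B) A' (B' ⊗[A'] B') h2

theorem ker_le_map_tensorMap [Algebra.IsPushout A B A' B'] :
    RingHom.ker (Algebra.TensorProduct.lmul' (S := B') A') ≤
      Ideal.map (tensorMap A B A' B').toRingHom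
        (RingHom.ker (Algebra.TensorProduct.lmul' (S := B) A)) := by
  have hB : IsBaseChange A' (IsScalarTower.toAlgHom A B B').toLinearMap :=
    (Algebra.IsPushout.symm (inferInstance : Algebra.IsPushout A B A' B')).out
  have h0 := KaehlerDifferential.span_range_eq_ideal A' B'
  unfold KaehlerDifferential.ideal at h0
  rw [← h0, Ideal.span_le]
  rintro _ ⟨b', rfl⟩
  change (1 : B') ⊗ₜ[A'] b' - b' ⊗ₜ[A'] (1 : B') ∈ Ideal.map (tensorMap A B A' B').toRingHom
        (RingHom.ker (Algebra.TensorProduct.lmul' (S := B) A))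
  induction b' using hB.inductionOn with
  | zero => simp
  | tmul b =>
    have : (1 : B') ⊗ₜ[A'] (IsScalarTower.toAlgHom A B B').toLinearMap b -
        (IsScalarTower.toAlgHom A B B').toLinearMap b ⊗ₜ[A'] (1 : B') =
        (tensorMap A B A' B').toRingHom ((1 : B) ⊗ₜ[A] b - b ⊗ₜ[A] (1 : B)) := by
      rw [map_sub]
      change _ = tensorMap A B A' B' _ - tensorMap A B A' B' _
      rw [tensorMap_tmul, tensorMap_tmul, map_one]
      rfl
    rw [this]
    apply Ideal.mem_map_of_mem
    rw [RingHom.mem_ker]
    simp
  | smul a' n hn =>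
    have : (1 : B') ⊗ₜ[A'] (a' • n) - (a' • n) ⊗ₜ[A'] (1 : B') =
        algebraMap A' (B' ⊗[A'] B') a' * ((1 : B') ⊗ₜ[A'] n - n ⊗ₜ[A'] (1 : B')) := by
      rw [← Algebra.smul_def, smul_sub, TensorProduct.tmul_smul, ← TensorProduct.smul_tmul' a' n]
    rw [this]
    exact Ideal.mul_mem_left _ _ hn
  | add n m hn hm =>
    have : (1 : B') ⊗ₜ[A'] (n + m) - (n + m) ⊗ₜ[A'] (1 : B') =
        ((1 : B') ⊗ₜ[A'] n - n ⊗ₜ[A'] (1 : B')) + ((1 : B') ⊗ₜ[A'] m - m ⊗ₜ[A'] (1 : B')) := by
      rw [TensorProduct.tmul_add, TensorProduct.add_tmul]; abel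
    rw [this]
    exact Ideal.add_mem _ hn hm

theorem noetherDifferent_flat_baseChange [Algebra.IsPushout A B A' B'] [Algebra.FiniteType A B]
    [Module.Flat A A'] :
    Disc.noetherDifferent A' B' = (Disc.noetherDifferent A B).map (algebraMap B B') :=
  noetherDifferent_eq_map_of_flat (algebraMap B B') (tensorMap A B A' B').toRingHom
    (fun x y => tensorMap_tmul x y) flat_tensorMap (KaehlerDifferential.ideal_fg A B)
    ker_le_map_tensorMap

end BC


section OpenImm

open AlgebraicGeometry CategoryTheory

theorem isEpi_of_isOpenImmersion {R S : Type u} [CommRing R] [CommRing S] [Algebra R S]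
    (h : IsOpenImmersion (Spec.map (CommRingCat.ofHom (algebraMap R S)))) :
    Algebra.IsEpi R S := by
  rw [← CommRingCat.epi_iff_epi]
  have h1 : Mono (Spec.map (CommRingCat.ofHom (algebraMap R S))) := inferInstance
  have h2 : Mono (Scheme.Spec.map (CommRingCat.ofHom (algebraMap R S)).op) := h1
  have h3 := Scheme.Spec.mono_of_mono_map h2
  exact unop_epi_of_mono (CommRingCat.ofHom (algebraMap R S)).op

theorem flat_of_isOpenImmersion {R S : Type u} [CommRing R] [CommRing S] [Algebra R S]
    (h : IsOpenImmersion (Spec.map (CommRingCat.ofHom (algebraMap R S)))) :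
    Module.Flat R S := by
  have h1 : AlgebraicGeometry.Flat (Spec.map (CommRingCat.ofHom (algebraMap R S))) := inferInstance
  rw [AlgebraicGeometry.Flat.SpecMap_iff] at h1
  exact RingHom.flat_algebraMap_iff.mp h1

/-- For a flat epimorphism `B' → B` of `A`-algebras with `B'` of finite type, the Noether different
of `B` is the extension of that of `B'`. -/
theorem noetherDifferent_of_flat_epi {A B' B : Type*} [CommRing A] [CommRing B']
    [CommRing B] [Algebra A B'] [Algebra A B] [Algebra B' B] [IsScalarTower A B' B]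
    [Algebra.FiniteType A B'] [Module.Flat B' B] [Algebra.IsEpi B' B] :
    Disc.noetherDifferent A B = (Disc.noetherDifferent A B').map (algebraMap B' B) := by
  let f : B' →ₐ[A] B := IsScalarTower.toAlgHom A B' B
  have hf : f.toRingHom.Flat := RingHom.flat_algebraMap_iff.mpr inferInstance
  refine noetherDifferent_eq_map_of_flat (algebraMap B' B) (Algebra.TensorProduct.map f f).toRingHom
    (fun x y => ?_) (RingHom.Flat.tensorProductMap hf hf) (KaehlerDifferential.ideal_fg A B') ?_
  · simp [f]
  · have h0 := KaehlerDifferential.span_range_eq_ideal A B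
    unfold KaehlerDifferential.ideal at h0
    rw [← h0, Ideal.span_le]
    rintro _ ⟨b, rfl⟩
    set J : Ideal (B ⊗[A] B) := Ideal.map (Algebra.TensorProduct.map f f).toRingHom
        (RingHom.ker (Algebra.TensorProduct.lmul' (S := B') A)) with hJ
    change (1 : B) ⊗ₜ[A] b - b ⊗ₜ[A] (1 : B) ∈ J
    have hmem : (1 : B) ⊗ₜ[A] b - b ⊗ₜ[A] (1 : B) ∈
        LinearMap.ker (TensorProduct.mapOfCompatibleSMul B' A B' B B) := by
      rw [LinearMap.mem_ker, map_sub, TensorProduct.mapOfCompatibleSMul_tmul,
        TensorProduct.mapOfCompatibleSMul_tmul, sub_eq_zero]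
      exact (Algebra.isEpi_iff_forall_one_tmul_eq B' B).mp inferInstance b
    rw [TensorProduct.AlgebraTensorModule.ker_mapOfCompatibleSMul] at hmem
    have hle : Submodule.span B' {x : B ⊗[A] B | ∃ (a : B') (m : B) (n : B),
        (a • m) ⊗ₜ[A] n - m ⊗ₜ[A] (a • n) = x} ≤ J.restrictScalars B' := by
      rw [Submodule.span_le]
      rintro _ ⟨a, m, n, rfl⟩
      change (a • m) ⊗ₜ[A] n - m ⊗ₜ[A] (a • n) ∈ J
      have e1 : (a • m) ⊗ₜ[A] n - m ⊗ₜ[A] (a • n) =
          (m ⊗ₜ[A] n) * (Algebra.TensorProduct.map f f).toRingHom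
            (a ⊗ₜ[A] (1 : B') - (1 : B') ⊗ₜ[A] a) := by
        rw [map_sub]
        change _ = (m ⊗ₜ[A] n) * (Algebra.TensorProduct.map f f (a ⊗ₜ[A] (1 : B')) -
          Algebra.TensorProduct.map f f ((1 : B') ⊗ₜ[A] a))
        rw [Algebra.TensorProduct.map_tmul, Algebra.TensorProduct.map_tmul, map_one, mul_sub,
          Algebra.TensorProduct.tmul_mul_tmul, Algebra.TensorProduct.tmul_mul_tmul, mul_one,
          mul_one]
        simp only [f, IsScalarTower.coe_toAlgHom', Algebra.smul_def, mul_comm]
      rw [e1]
      apply Ideal.mul_mem_left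
      apply Ideal.mem_map_of_mem
      rw [RingHom.mem_ker]
      simp [mul_comm]
    exact hle hmem

end OpenImm

end Groth.Agent.Lib.Helper94.NoetherDiff
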