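import Mathlib
import Groth.Prelude.Def_QFDual
import Groth.Agent.Lib.Helper94.NoetherDiff
import Groth.Agent.Lib.Helper94.DiscDual
import Groth.Agent.S6284

/-!
# Helper library for the QFDual rows (different of a finite free algebra, Dedekind different)

* perfectness of the trace pairing for a finite free formally unramified algebra over any ring
-/

set_option autoImplicit false
universe u v

open TensorProduct

namespace Groth.Agent.Lib.Helper94.QFDualLib

open Groth.Agent.Lib.Helper94

section Perfect

variable {K : Type u} {L : Type v} [CommRing K] [CommRing L] [Algebra K L]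
  [Module.Free K L] [Module.Finite K L]

/-- The Noether different of a finite formally unramified algebra is the unit ideal. -/
theorem noetherDifferent_eq_top [Algebra.FormallyUnramified K L] :
    Disc.noetherDifferent K L = ⊤ := by
  by_contra hne
  obtain ⟨m, hm, hle⟩ := Ideal.exists_le_maximal _ hne
  have h1 : (⟨m, hm.isPrime⟩ : PrimeSpectrum L) ∈
      {q : PrimeSpectrum L | Disc.noetherDifferent K L ≤ q.asIdeal} := hle
  rw [NoetherDiff.zeroLocus_noetherDifferent K L] at h1
  apply h1
  rw [Algebra.unramifiedLocus_eq_univ_iff.mpr inferInstance]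
  trivial

/-- The trace generates `Hom_K(L, K)` as an `L`-module. -/
theorem exists_eq_smul_trace [Algebra.FormallyUnramified K L] (l : Disc.Omega K L) :
    ∃ x : L, l = x • Disc.Omega.trace K L := by
  have h1 : (1 : L) ∈ Disc.differentSet K L := by
    apply DiscDual.noetherDifferent_subset_differentSet
    rw [noetherDifferent_eq_top]
    trivial
  rw [DiscDual.mem_differentSet_iff] at h1
  obtain ⟨c, hc⟩ := h1 l
  exact ⟨c, by rw [← hc, one_smul]⟩

theorem eq_zero_of_smul_trace [Algebra.FormallyUnramified K L] (x : L)
    (hx : x • Disc.Omega.trace K L = 0) : x = 0 := by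
  apply DiscDual.eq_zero_of_smul_omega (A := K)
  intro l
  obtain ⟨c, rfl⟩ := exists_eq_smul_trace l
  rw [smul_comm, hx, smul_zero]

/-- Nondegeneracy of the trace form. -/
theorem eq_zero_of_trace_mul [Algebra.FormallyUnramified K L] (x : L)
    (hx : ∀ y : L, Algebra.trace K L (x * y) = 0) : x = 0 := by
  apply eq_zero_of_smul_trace (K := K)
  apply Disc.Omega.toLinearMap_injective
  apply LinearMap.ext
  intro y
  exact hx y

/-- Every linear form is a trace form. -/
theorem exists_trace_mul_eq [Algebra.FormallyUnramified K L] (φ : L →ₗ[K] K) :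
    ∃ x : L, ∀ y : L, φ y = Algebra.trace K L (x * y) := by
  obtain ⟨x, hx⟩ := exists_eq_smul_trace (⟨φ⟩ : Disc.Omega K L)
  refine ⟨x, fun y => ?_⟩
  have := congrArg (fun l : Disc.Omega K L => l.toLinearMap y) hx
  exact this

end Perfect

section TraceCoords

variable {K : Type u} {L : Type v} [CommRing K] [AddCommGroup L] [Module K L]
  [Module.Free K L] [Module.Finite K L]

/-- Trace via a (not necessarily independent) coordinate system. -/
theorem trace_eq_sum_coords {n : ℕ} (f : Fin n → L) (g : Fin n → (L →ₗ[K] K))
    (hfg : ∀ x : L, ∑ i, g i x • f i = x) (φ : L →ₗ[K] L) :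
    LinearMap.trace K L φ = ∑ i, g i (φ (f i)) := by
  have h1 : φ = ∑ i, dualTensorHom K L L (g i ⊗ₜ[K] φ (f i)) := by
    apply LinearMap.ext
    intro x
    rw [LinearMap.sum_apply]
    simp only [dualTensorHom_apply]
    conv_lhs => rw [← hfg x]
    rw [map_sum]
    simp only [map_smul]
  conv_lhs => rw [h1]
  rw [map_sum]
  apply Finset.sum_congr rfl
  intro i _
  rw [LinearMap.trace_eq_contract_apply, contractLeft_apply]

end TraceCoords

section Dedekind

variable {A K B L : Type u} [CommRing A] [CommRing K] [CommRing B] [CommRing L]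
  [Algebra A K] [Algebra A B] [Algebra B L] [Algebra K L] [Algebra A L]
  [IsScalarTower A K L] [IsScalarTower A B L]

theorem isBaseChange_of_isDedekindDefined (h : QFDual.IsDedekindDefined A K B L) :
    IsBaseChange K (IsScalarTower.toAlgHom A B L).toLinearMap := by
  haveI := h.isFractionRing
  haveI := h.isLocalization
  exact IsLocalizedModule.isBaseChange (nonZeroDivisors A) K _

theorem formallyUnramified_of_isDedekindDefined (h : QFDual.IsDedekindDefined A K B L) :
    Algebra.FormallyUnramified K L := by
  haveI := h.etale
  infer_instance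

theorem algebraMap_injective_of_isDedekindDefined (h : QFDual.IsDedekindDefined A K B L) :
    Function.Injective (algebraMap A K) := by
  haveI := h.isFractionRing
  exact IsFractionRing.injective A K

/-- The trace of an element of `B` lies in `A` when `B` is projective over `A`. -/
theorem trace_mem_range_of_projective (h : QFDual.IsDedekindDefined A K B L)
    [Module.Projective A B] (b : B) :
    Algebra.trace K L (algebraMap B L b) ∈ (algebraMap A K).range := by
  haveI := h.finite
  haveI := h.free
  haveI := h.finiteKL
  have hbc := isBaseChange_of_isDedekindDefined h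
  obtain ⟨n, f₀, g₀, -, -, hfg⟩ := Module.Finite.exists_comp_eq_id_of_projective A B
  let f : Fin n → L := fun i => algebraMap B L (f₀ (Pi.single i 1))
  let g : Fin n → (L →ₗ[K] K) := fun i =>
    hbc.lift ((Algebra.linearMap A K).comp ((LinearMap.proj i).comp g₀))
  have hg : ∀ i (b : B), g i (algebraMap B L b) = algebraMap A K (g₀ b i) := by
    intro i b
    exact hbc.lift_eq _ b
  have hsum : ∀ x : L, ∑ i, g i x • f i = x := by
    intro x
    induction x using hbc.inductionOn with
    | zero => simp
    | tmul b =>
      change ∑ i, g i (algebraMap B L b) • f i = algebraMap B L b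
      simp only [hg, f]
      have h2 : b = ∑ i, g₀ b i • f₀ (Pi.single i 1) := by
        have h3 := LinearMap.congr_fun hfg b
        rw [LinearMap.comp_apply, LinearMap.id_apply] at h3
        conv_lhs => rw [← h3]
        conv_lhs => rw [← Finset.univ_sum_single (g₀ b)]
        rw [map_sum]
        apply Finset.sum_congr rfl
        intro i _
        rw [← map_smul]
        congr 1
        ext j
        simp [Pi.single_apply]
      conv_rhs => rw [h2]
      rw [map_sum]
      apply Finset.sum_congr rfl
      intro i _
      rw [Algebra.smul_def, Algebra.smul_def, map_mul, ← IsScalarTower.algebraMap_apply,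
        ← IsScalarTower.algebraMap_apply]
    | smul k x hx =>
      simp only [map_smul, smul_assoc]
      rw [← Finset.smul_sum, hx]
    | add x y hx hy =>
      simp only [map_add, add_smul, Finset.sum_add_distrib]
      rw [hx, hy]
  have htr := trace_eq_sum_coords f g hsum (LinearMap.mulLeft K (algebraMap B L b))
  change Algebra.trace K L (algebraMap B L b) = _ at htr
  rw [htr]
  apply Subring.sum_mem
  intro i _
  change g i (algebraMap B L b * algebraMap B L (f₀ (Pi.single i 1))) ∈ _
  rw [← map_mul, hg]
  exact ⟨_, rfl⟩

/-- For `x` in the complementary module, the `A`-linear form `b ↦ Tr(x b) ∈ A`. -/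
noncomputable def compForm (h : QFDual.IsDedekindDefined A K B L)
    (x : QFDual.complementary A K B L) : B →ₗ[A] A :=
  (LinearEquiv.ofInjective (Algebra.linearMap A K)
    (algebraMap_injective_of_isDedekindDefined h)).symm.toLinearMap.comp
    (LinearMap.codRestrict (LinearMap.range (Algebra.linearMap A K))
      (((Algebra.trace K L).restrictScalars A).comp ((LinearMap.mulLeft A (x : L)).comp
        (IsScalarTower.toAlgHom A B L).toLinearMap))
      (fun b => by
        obtain ⟨a, ha⟩ := x.2 b
        exact ⟨a, ha⟩))

theorem algebraMap_compForm (h : QFDual.IsDedekindDefined A K B L)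
    (x : QFDual.complementary A K B L) (b : B) :
    algebraMap A K (compForm h x b) = Algebra.trace K L ((x : L) * algebraMap B L b) := by
  unfold compForm
  rw [LinearMap.comp_apply]
  set y := (LinearMap.codRestrict (LinearMap.range (Algebra.linearMap A K))
      (((Algebra.trace K L).restrictScalars A).comp ((LinearMap.mulLeft A (x : L)).comp
        (IsScalarTower.toAlgHom A B L).toLinearMap)) _) b with hy
  have h1 := congrArg Subtype.val ((LinearEquiv.ofInjective (Algebra.linearMap A K)
    (algebraMap_injective_of_isDedekindDefined h)).apply_symm_apply y)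
  rw [LinearEquiv.ofInjective_apply] at h1
  change algebraMap A K _ = _
  rw [LinearEquiv.coe_coe]
  exact h1

/-- The `B`-linear map from the complementary module to `Hom_A(B, A)`. -/
noncomputable def compMap (h : QFDual.IsDedekindDefined A K B L) :
    QFDual.complementary A K B L →ₗ[B] Disc.Omega A B where
  toFun x := ⟨compForm h x⟩
  map_add' x y := by
    apply Disc.Omega.toLinearMap_injective
    apply LinearMap.ext
    intro b
    apply algebraMap_injective_of_isDedekindDefined h
    change algebraMap A K (compForm h (x + y) b) =
      algebraMap A K (compForm h x b + compForm h y b)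
    rw [map_add, algebraMap_compForm, algebraMap_compForm, algebraMap_compForm,
      Submodule.coe_add, add_mul, map_add]
  map_smul' c x := by
    apply Disc.Omega.toLinearMap_injective
    apply LinearMap.ext
    intro b
    apply algebraMap_injective_of_isDedekindDefined h
    change algebraMap A K (compForm h (c • x) b) = algebraMap A K (compForm h x (c * b))
    rw [algebraMap_compForm, algebraMap_compForm, Submodule.coe_smul, Algebra.smul_def,
      (algebraMap B L).map_mul]
    congr 1
    ring

theorem algebraMap_compMap (h : QFDual.IsDedekindDefined A K B L)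
    (x : QFDual.complementary A K B L) (b : B) :
    algebraMap A K ((compMap h x).toLinearMap b) =
      Algebra.trace K L ((x : L) * algebraMap B L b) :=
  algebraMap_compForm h x b

theorem compMap_bijective (h : QFDual.IsDedekindDefined A K B L) :
    Function.Bijective (compMap h) := by
  haveI := h.free
  haveI := h.finiteKL
  haveI := formallyUnramified_of_isDedekindDefined h
  have hbc := isBaseChange_of_isDedekindDefined h
  constructor
  · rw [← LinearMap.ker_eq_bot, LinearMap.ker_eq_bot']
    intro x hx
    have h0 : ∀ b : B, Algebra.trace K L ((x : L) * algebraMap B L b) = 0 := by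
      intro b
      rw [← algebraMap_compMap h x b, hx]
      simp
    have h1 : ∀ y : L, Algebra.trace K L ((x : L) * y) = 0 := by
      intro y
      induction y using hbc.inductionOn with
      | zero => simp
      | tmul b => exact h0 b
      | smul k y hy => rw [mul_smul_comm, map_smul, hy, smul_zero]
      | add y z hy hz => rw [mul_add, map_add, hy, hz, add_zero]
    apply Subtype.ext
    exact eq_zero_of_trace_mul (K := K) (x : L) h1
  · intro l
    obtain ⟨x, hx⟩ := exists_trace_mul_eq (K := K) (L := L)
      (hbc.lift ((Algebra.linearMap A K).comp l.toLinearMap))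
    have hx' : ∀ b : B, Algebra.trace K L (x * algebraMap B L b) =
        algebraMap A K (l.toLinearMap b) := by
      intro b
      rw [← hx]
      exact hbc.lift_eq _ b
    refine ⟨⟨x, fun b => ⟨l.toLinearMap b, (hx' b).symm⟩⟩, ?_⟩
    apply Disc.Omega.toLinearMap_injective
    apply LinearMap.ext
    intro b
    apply algebraMap_injective_of_isDedekindDefined h
    rw [algebraMap_compMap]
    exact hx' b

/-- The `B`-linear equivalence between the complementary module and `Hom_A(B, A)`. -/
noncomputable def compEquiv (h : QFDual.IsDedekindDefined A K B L) :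
    QFDual.complementary A K B L ≃ₗ[B] Disc.Omega A B :=
  LinearEquiv.ofBijective (compMap h) (compMap_bijective h)

theorem algebraMap_compEquiv (h : QFDual.IsDedekindDefined A K B L)
    (x : QFDual.complementary A K B L) (b : B) :
    algebraMap A K ((compEquiv h x).toLinearMap b) =
      Algebra.trace K L ((x : L) * algebraMap B L b) :=
  algebraMap_compForm h x b

theorem one_mem_complementary (h : QFDual.IsDedekindDefined A K B L) [Module.Projective A B] :
    (1 : L) ∈ QFDual.complementary A K B L := by
  intro b
  rw [one_mul]
  exact trace_mem_range_of_projective h b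

theorem compEquiv_one (h : QFDual.IsDedekindDefined A K B L) [Module.Finite A B]
    [Module.Free A B] :
    compEquiv h ⟨1, one_mem_complementary h⟩ = Disc.Omega.trace A B := by
  haveI := h.isFractionRing
  haveI := h.isLocalization
  apply Disc.Omega.toLinearMap_injective
  apply LinearMap.ext
  intro b
  apply algebraMap_injective_of_isDedekindDefined h
  rw [algebraMap_compEquiv]
  change Algebra.trace K L ((1 : L) * algebraMap B L b) = algebraMap A K (Algebra.trace A B b)
  rw [one_mul]
  exact Algebra.trace_localization A (nonZeroDivisors A) b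

/-- For `B` finite free over `A`, the Dedekind different is the image of the different. -/
theorem dedekindDifferent_eq_map (h : QFDual.IsDedekindDefined A K B L) [Module.Finite A B]
    [Module.Free A B] :
    QFDual.dedekindDifferent A K B L =
      Submodule.map (Algebra.linearMap B L) (QFDual.different B (Disc.Omega.trace A B)) := by
  have hone := one_mem_complementary h
  apply le_antisymm
  · intro x hx
    obtain ⟨b, hb⟩ := hx 1 hone
    rw [mul_one] at hb
    refine ⟨b, ?_, hb⟩
    change b ∈ QFDual.different B (Disc.Omega.trace A B)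
    rw [QFDual.mem_different_iff]
    intro m
    obtain ⟨c, hc⟩ := hx ((compEquiv h).symm m : L) ((compEquiv h).symm m).2
    refine ⟨c, ?_⟩
    have h1 : c • (⟨1, hone⟩ : QFDual.complementary A K B L) = b • (compEquiv h).symm m := by
      apply Subtype.ext
      rw [Submodule.coe_smul, Submodule.coe_smul, Algebra.smul_def, Algebra.smul_def, mul_one,
        hc, hb]
    have h2 := congrArg (compEquiv h) h1
    rw [map_smul, map_smul, compEquiv_one, LinearEquiv.apply_symm_apply] at h2
    exact h2
  · rintro _ ⟨b, hb, rfl⟩ y hy
    change b ∈ QFDual.different B (Disc.Omega.trace A B) at hb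
    rw [QFDual.mem_different_iff] at hb
    obtain ⟨c, hc⟩ := hb (compEquiv h ⟨y, hy⟩)
    rw [← compEquiv_one h, ← map_smul, ← map_smul] at hc
    have h1 := (compEquiv h).injective hc
    have h2 := congrArg Subtype.val h1
    rw [Submodule.coe_smul, Submodule.coe_smul, Algebra.smul_def, Algebra.smul_def, mul_one]
      at h2
    exact ⟨c, h2⟩

end Dedekind

section OmegaBC

variable {A B' A₁ B'₁ : Type u} [CommRing A] [CommRing B'] [CommRing A₁] [CommRing B'₁]
  [Algebra A B'] [Algebra A A₁] [Algebra B' B'₁] [Algebra A₁ B'₁] [Algebra A B'₁]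
  [IsScalarTower A A₁ B'₁] [IsScalarTower A B' B'₁]

/-- The `A`-module structure on `Hom_A(B', A)` induced by its `B'`-module structure. -/
@[instance_reducible]
noncomputable def omegaModule : Module A (Disc.Omega A B') :=
  Module.compHom _ (algebraMap A B')

attribute [local instance 10] omegaModule

theorem omega_smul_def (a : A) (ω : Disc.Omega A B') : a • ω = algebraMap A B' a • ω := rfl

instance omega_isScalarTower : IsScalarTower A B' (Disc.Omega A B') :=
  ⟨fun a b ω => by rw [omega_smul_def, Algebra.smul_def, mul_smul]⟩

/-- `Hom_A(B', A)` as an `A`-module is the dual. -/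
noncomputable def omegaToDual : Disc.Omega A B' ≃ₗ[A] Module.Dual A B' where
  toFun ω := ω.toLinearMap
  invFun φ := ⟨φ⟩
  map_add' _ _ := rfl
  map_smul' a ω := by
    apply LinearMap.ext
    intro x
    change ω.toLinearMap (algebraMap A B' a * x) = a • ω.toLinearMap x
    rw [← Algebra.smul_def, map_smul]
  left_inv _ := rfl
  right_inv _ := rfl

theorem omegaBC_self_eq (h : Algebra.IsPushout A A₁ B' B'₁)
    (z : A₁ ⊗[A] Module.Dual A B') (hd : IsBaseChange A₁ h.out.toDual) :
    QFDual.omegaBC (B₁ := B'₁) h
      ((Algebra.IsPushout.cancelBaseChange A A₁ B' B'₁ (Disc.Omega A B')).symm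
        (LinearMap.lTensor A₁ (omegaToDual (A := A) (B' := B')).symm.toLinearMap z)) =
      (1 : B'₁) ⊗ₜ[B'₁] (⟨hd.equiv z⟩ : Disc.Omega A₁ B'₁) := by
  induction z using TensorProduct.induction_on with
  | zero =>
    simp only [map_zero]
    have : (⟨0⟩ : Disc.Omega A₁ B'₁) = 0 := rfl
    rw [this, tmul_zero]
  | tmul a φ =>
    rw [LinearMap.lTensor_tmul, Algebra.IsPushout.cancelBaseChange_symm_tmul,
      QFDual.omegaBC_tmul, hd.equiv_tmul]
    have h1 : algebraMap A₁ B'₁ a = algebraMap A₁ B'₁ a • (1 : B'₁) := by
      rw [smul_eq_mul, mul_one]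
    rw [h1, TensorProduct.smul_tmul]
    congr 1
    apply Disc.Omega.toLinearMap_injective
    apply LinearMap.ext
    intro x
    change (QFDual.bcFin h ((omegaToDual (A := A) (B' := B')).symm φ)).toLinearMap
      (algebraMap A₁ B'₁ a * x) = a • (h.out.toDual φ x)
    rw [← Algebra.smul_def, map_smul]
    rfl
  | add x y hx hy =>
    simp only [map_add]
    rw [hx, hy, ← tmul_add]
    rfl

theorem omegaBC_self_bijective (h : Algebra.IsPushout A A₁ B' B'₁)
    (hd : IsBaseChange A₁ h.out.toDual) :
    Function.Bijective (QFDual.omegaBC (B₁ := B'₁) h) := by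
  set e1 := (Algebra.IsPushout.cancelBaseChange A A₁ B' B'₁ (Disc.Omega A B')) with he1
  set e2 := LinearEquiv.lTensor A₁ (omegaToDual (A := A) (B' := B')).symm with he2
  let F : A₁ ⊗[A] Module.Dual A B' → B'₁ ⊗[B'₁] Disc.Omega A₁ B'₁ :=
    fun z => (1 : B'₁) ⊗ₜ[B'₁] (⟨hd.equiv z⟩ : Disc.Omega A₁ B'₁)
  have hF : Function.Bijective F := by
    have h2 : F = (fun ω : Disc.Omega A₁ B'₁ => (1 : B'₁) ⊗ₜ[B'₁] ω) ∘
        (fun φ : Module.Dual A₁ B'₁ => (⟨φ⟩ : Disc.Omega A₁ B'₁)) ∘ hd.equiv := rfl
    rw [h2]
    refine Function.Bijective.comp ?_ (Function.Bijective.comp ?_ hd.equiv.bijective)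
    · exact (TensorProduct.lid B'₁ (Disc.Omega A₁ B'₁)).symm.bijective
    · exact ⟨fun a b hab => congrArg Disc.Omega.toLinearMap hab, fun ω => ⟨ω.toLinearMap, rfl⟩⟩
  have hcomp : (QFDual.omegaBC (B₁ := B'₁) h) ∘ (e1.symm ∘ e2) = F := by
    funext z
    exact omegaBC_self_eq h z hd
  have h3 : Function.Bijective (e1.symm ∘ e2) := e1.symm.bijective.comp e2.bijective
  rw [← Function.Bijective.of_comp_iff _ h3, hcomp]
  exact hF

theorem omegaBC_bijective (h : Algebra.IsPushout A A₁ B' B'₁)
    (hd : IsBaseChange A₁ h.out.toDual) (B₁ : Type u) [CommRing B₁] [Algebra B'₁ B₁]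
    [Algebra B' B₁] [IsScalarTower B' B'₁ B₁] :
    Function.Bijective (QFDual.omegaBC (B₁ := B₁) h) := by
  let β₀ := LinearEquiv.ofBijective (QFDual.omegaBC (B₁ := B'₁) h) (omegaBC_self_bijective h hd)
  let c1 := AlgebraTensorModule.cancelBaseChange B' B'₁ B₁ B₁ (Disc.Omega A B')
  let c2 := AlgebraTensorModule.cancelBaseChange B'₁ B'₁ B₁ B₁ (Disc.Omega A₁ B'₁)
  let mid := LinearEquiv.lTensor B₁ β₀
  have hcomp : (QFDual.omegaBC (B₁ := B₁) h) ∘ c1 = c2 ∘ mid := by
    funext z
    induction z using TensorProduct.induction_on with
    | zero => simp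
    | tmul b₁ y =>
      induction y using TensorProduct.induction_on with
      | zero => simp
      | tmul b φ =>
        simp only [Function.comp_apply]
        rw [AlgebraTensorModule.cancelBaseChange_tmul, QFDual.omegaBC_tmul]
        change _ = c2 (b₁ ⊗ₜ[B'₁] (QFDual.omegaBC (B₁ := B'₁) h (b ⊗ₜ[B'] φ)))
        rw [QFDual.omegaBC_tmul, AlgebraTensorModule.cancelBaseChange_tmul]
      | add x y hx hy =>
        simp only [Function.comp_apply] at hx hy ⊢
        rw [tmul_add, map_add, map_add, hx, hy, map_add, map_add]
    | add x y hx hy =>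
      simp only [Function.comp_apply] at hx hy ⊢
      rw [map_add, map_add, hx, hy, map_add, map_add]
  rw [← Function.Bijective.of_comp_iff _ c1.bijective, hcomp]
  exact c2.bijective.comp mid.bijective

theorem isBaseChange_toDual_of_flat (h : Algebra.IsPushout A A₁ B' B'₁) [Module.Flat A A₁]
    [Module.FinitePresentation A B'] : IsBaseChange A₁ h.out.toDual := by
  have h1 := Module.FinitePresentation.isBaseChange_map A B' A A₁
  let E : (A₁ ⊗[A] B' →ₗ[A₁] A₁ ⊗[A] A) ≃ₗ[A₁] (B'₁ →ₗ[A₁] A₁) :=
    LinearEquiv.arrowCongr h.out.equiv (AlgebraTensorModule.rid A A₁ A₁)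
  have h2 := h1.comp (IsBaseChange.ofEquiv E)
  convert h2 using 1
  apply LinearMap.ext
  intro φ
  apply h.out.algHom_ext
  intro b
  rw [IsBaseChange.toDual_comp_apply]
  change _ = E (LinearMap.baseChangeHom A A₁ B' A φ) _
  rw [LinearEquiv.arrowCongr_apply, IsBaseChange.equiv_symm_apply]
  simp [Algebra.algebraMap_eq_smul_one]

end OmegaBC

section Ann

/-- The annihilator of a finitely generated module commutes with flat base change. -/
theorem annihilator_baseChange_of_flat {T T' N : Type*} [CommRing T] [CommRing T'] [Algebra T T']
    [Module.Flat T T'] [AddCommGroup N] [Module T N] [Module.Finite T N] :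
    Module.annihilator T' (T' ⊗[T] N) = (Module.annihilator T N).map (algebraMap T T') := by
  classical
  apply le_antisymm
  · obtain ⟨s, hs⟩ := (Module.finite_def.1 (inferInstance : Module.Finite T N))
    let g : T →ₗ[T] (↥s → N) := LinearMap.pi (fun i => LinearMap.toSpanSingleton T N (i : N))
    have hg : ∀ t : T, g t = fun i : ↥s => t • (i : N) := fun t => rfl
    have hker : ∀ t ∈ LinearMap.ker g, t ∈ Module.annihilator T N := by
      intro t ht
      rw [Module.mem_annihilator]
      intro y
      have hy : y ∈ Submodule.span T (s : Set N) := by rw [hs]; trivial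
      induction hy using Submodule.span_induction with
      | mem z hz =>
        have := congrFun (LinearMap.mem_ker.1 ht) ⟨z, hz⟩
        exact this
      | zero => exact smul_zero t
      | add z w _ _ hz hw => rw [smul_add, hz, hw, add_zero]
      | smul a z _ hz => rw [smul_comm, hz, smul_zero]
    intro t' ht'
    rw [Module.mem_annihilator] at ht'
    have hmem : t' ⊗ₜ[T] (1 : T) ∈ LinearMap.ker (AlgebraTensorModule.lTensor T' T' g) := by
      rw [LinearMap.mem_ker, AlgebraTensorModule.lTensor_tmul]
      apply (TensorProduct.piRight T T T' (fun _ : ↥s => N)).injective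
      rw [map_zero]
      funext i
      rw [TensorProduct.piRight_apply, TensorProduct.piRightHom_tmul, hg]
      change t' ⊗ₜ[T] ((1 : T) • (i : N)) = 0
      rw [one_smul]
      have := ht' ((1 : T') ⊗ₜ[T] (i : N))
      rwa [TensorProduct.smul_tmul', smul_eq_mul, mul_one] at this
    rw [Module.Flat.ker_lTensor_eq] at hmem
    obtain ⟨z, hz⟩ := hmem
    have key : ∀ z : T' ⊗[T] ↥(LinearMap.ker g),
        (TensorProduct.rid T T') (AlgebraTensorModule.lTensor T' T' (LinearMap.ker g).subtype z) ∈
          (Module.annihilator T N).map (algebraMap T T') := by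
      intro z
      induction z using TensorProduct.induction_on with
      | zero => simp
      | tmul a k =>
        rw [AlgebraTensorModule.lTensor_tmul, TensorProduct.rid_tmul, Submodule.subtype_apply,
          Algebra.smul_def]
        exact Ideal.mul_mem_right _ _ (Ideal.mem_map_of_mem _ (hker k k.2))
      | add a b ha hb =>
        rw [map_add, map_add]
        exact Ideal.add_mem _ ha hb
    have := key z
    rw [hz, TensorProduct.rid_tmul, one_smul] at this
    exact this
  · rw [Ideal.map_le_iff_le_comap]
    intro t ht
    rw [Ideal.mem_comap, Module.mem_annihilator]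
    rw [Module.mem_annihilator] at ht
    intro y
    induction y using TensorProduct.induction_on with
    | zero => exact smul_zero _
    | tmul a n =>
      rw [algebraMap_smul, TensorProduct.smul_tmul', TensorProduct.smul_tmul, ht n, tmul_zero]
    | add z w hz hw => rw [smul_add, hz, hw, add_zero]

end Ann

section QuotBC

variable {T T' M M' : Type*} [CommRing T] [CommRing T'] [Algebra T T'] [AddCommGroup M]
  [Module T M] [AddCommGroup M'] [Module T' M'] [Module T M'] [IsScalarTower T T' M']

/-- The map induced on the quotients by the lines through `τ` and `f τ`. -/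
noncomputable def quotMap (f : M →ₗ[T] M') (τ : M) :
    (M ⧸ Submodule.span T {τ}) →ₗ[T] (M' ⧸ Submodule.span T' {f τ}) :=
  Submodule.liftQ _ (((Submodule.span T' {f τ}).mkQ.restrictScalars T).comp f) (by
    rw [Submodule.span_le]
    intro x hx
    rw [Set.mem_singleton_iff] at hx
    subst hx
    rw [SetLike.mem_coe, LinearMap.mem_ker, LinearMap.comp_apply]
    change (Submodule.span T' {f x}).mkQ (f x) = 0
    rw [Submodule.mkQ_apply, Submodule.Quotient.mk_eq_zero]
    exact Submodule.mem_span_singleton_self _)

theorem quotMap_mk (f : M →ₗ[T] M') (τ : M) (m : M) :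
    quotMap (T' := T') f τ (Submodule.Quotient.mk m) = Submodule.Quotient.mk (f m) := rfl

theorem isBaseChange_quotMap (f : M →ₗ[T] M') (hf : IsBaseChange T' f) (τ : M) :
    IsBaseChange T' (quotMap (T' := T') f τ) := by
  refine IsBaseChange.of_right_exact T' (Algebra.linearMap T T') f (quotMap f τ)
    (f := LinearMap.toSpanSingleton T M τ) (g := (Submodule.span T {τ}).mkQ)
    (f' := LinearMap.toSpanSingleton T' M' (f τ)) (g' := (Submodule.span T' {f τ}).mkQ)
    ?_ ?_ (IsBaseChange.linearMap T T') hf ?_ (Submodule.mkQ_surjective _) ?_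
    (Submodule.mkQ_surjective _)
  · apply LinearMap.ext
    intro t
    simp only [LinearMap.comp_apply, LinearMap.toSpanSingleton_apply, map_smul,
      LinearMap.restrictScalars_apply, Algebra.linearMap_apply, algebraMap_smul]
  · apply LinearMap.ext
    intro m
    rfl
  · rw [LinearMap.exact_iff, Submodule.ker_mkQ, LinearMap.span_singleton_eq_range]
  · rw [LinearMap.exact_iff, Submodule.ker_mkQ, LinearMap.span_singleton_eq_range]

end QuotBC

section Inv

variable {T : Type*} [CommRing T] {M : Type*} [AddCommGroup M] [Module T M]

/-- Rank one: `φ x • y = φ y • x` in an invertible module. -/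
theorem invertible_swap [Module.Invertible T M] (φ : Module.Dual T M) (x y : M) :
    φ x • y = φ y • x := by
  have h := congrArg (TensorProduct.lift ((LinearMap.lsmul T M).comp φ))
    (Module.Invertible.tmul_comm (R := T) (m₁ := x) (m₂ := y))
  simpa using h

/-- The ideal of values at `τ` of linear forms. -/
def evalIdeal (τ : M) : Ideal T := LinearMap.range (LinearMap.applyₗ (R := T) τ : Module.Dual T M →ₗ[T] T)

theorem mem_evalIdeal {τ : M} {r : T} : r ∈ evalIdeal τ ↔ ∃ φ : Module.Dual T M, φ τ = r := by
  unfold evalIdeal
  rw [LinearMap.mem_range]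
  rfl

theorem annihilator_quotient_eq_evalIdeal [Module.Invertible T M] (τ : M) :
    Module.annihilator T (M ⧸ Submodule.span T {τ}) = evalIdeal τ := by
  apply le_antisymm
  · intro r hr
    rw [Submodule.annihilator_quotient, Submodule.mem_colon] at hr
    have key : ∀ z : Module.Dual T M ⊗[T] M, r * contractLeft T M z ∈ evalIdeal τ := by
      intro z
      induction z using TensorProduct.induction_on with
      | zero => simp
      | tmul φ m =>
        rw [contractLeft_apply]
        obtain ⟨c, hc⟩ := Submodule.mem_span_singleton.1 (hr m (Set.mem_univ m))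
        rw [mem_evalIdeal]
        refine ⟨c • φ, ?_⟩
        rw [LinearMap.smul_apply, smul_eq_mul, ← smul_eq_mul, ← map_smul, hc, map_smul, smul_eq_mul]
      | add x y hx hy =>
        rw [map_add, mul_add]
        exact Ideal.add_mem _ hx hy
    have h1 := key ((Module.Invertible.linearEquiv T M).symm 1)
    have h2 : contractLeft T M ((Module.Invertible.linearEquiv T M).symm 1) = 1 :=
      (Module.Invertible.linearEquiv T M).apply_symm_apply 1
    rwa [h2, mul_one] at h1
  · intro r hr
    rw [mem_evalIdeal] at hr
    obtain ⟨φ, rfl⟩ := hr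
    rw [Submodule.annihilator_quotient, Submodule.mem_colon]
    intro m _
    rw [invertible_swap]
    exact Submodule.smul_mem _ _ (Submodule.mem_span_singleton_self _)

variable {T' : Type*} [CommRing T'] [Algebra T T'] {M' : Type*} [AddCommGroup M'] [Module T' M']
  [Module T M'] [IsScalarTower T T' M']

theorem evalIdeal_baseChange [Module.Invertible T M] [Module.Invertible T' M']
    (f : M →ₗ[T] M') (hf : IsBaseChange T' f) (τ : M) :
    evalIdeal (T := T') (f τ) = (evalIdeal τ).map (algebraMap T T') := by
  apply le_antisymm
  · intro r hr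
    rw [mem_evalIdeal] at hr
    obtain ⟨ψ, rfl⟩ := hr
    have key : ∀ z : Module.Dual T M ⊗[T] M,
        algebraMap T T' (contractLeft T M z) * ψ (f τ) ∈ (evalIdeal τ).map (algebraMap T T') := by
      intro z
      induction z using TensorProduct.induction_on with
      | zero => simp
      | tmul φ m =>
        rw [contractLeft_apply]
        let φ' : Module.Dual T' M' := hf.lift ((Algebra.linearMap T T').comp φ)
        have hφ' : ∀ x, φ' (f x) = algebraMap T T' (φ x) := fun x => hf.lift_eq _ x
        rw [← hφ', ← smul_eq_mul, ← map_smul, invertible_swap, map_smul, smul_eq_mul, hφ']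
        exact Ideal.mul_mem_right _ _ (Ideal.mem_map_of_mem _ (mem_evalIdeal.2 ⟨φ, rfl⟩))
      | add x y hx hy =>
        rw [map_add, map_add, add_mul]
        exact Ideal.add_mem _ hx hy
    have h1 := key ((Module.Invertible.linearEquiv T M).symm 1)
    have h2 : contractLeft T M ((Module.Invertible.linearEquiv T M).symm 1) = 1 :=
      (Module.Invertible.linearEquiv T M).apply_symm_apply 1
    rwa [h2, map_one, one_mul] at h1
  · rw [Ideal.map_le_iff_le_comap]
    intro r hr
    rw [mem_evalIdeal] at hr
    obtain ⟨φ, rfl⟩ := hr
    rw [Ideal.mem_comap, mem_evalIdeal]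
    exact ⟨hf.lift ((Algebra.linearMap T T').comp φ), hf.lift_eq _ τ⟩

end Inv

section GenBC

variable {T T' N N' : Type u} [CommRing T] [CommRing T'] [Algebra T T'] [AddCommGroup N]
  [Module T N] [AddCommGroup N'] [Module T' N'] [Module T N'] [IsScalarTower T T' N']

theorem annihilator_map_le_of_isBaseChange (g : N →ₗ[T] N') (hg : IsBaseChange T' g) :
    (Module.annihilator T N).map (algebraMap T T') ≤ Module.annihilator T' N' := by
  rw [Ideal.map_le_iff_le_comap]
  intro t ht
  rw [Module.mem_annihilator] at ht
  rw [Ideal.mem_comap, Module.mem_annihilator]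
  intro n'
  induction n' using hg.inductionOn with
  | zero => exact smul_zero _
  | tmul n => rw [algebraMap_smul, ← map_smul, ht, map_zero]
  | smul a n hn => rw [smul_comm, hn, smul_zero]
  | add x y hx hy => rw [smul_add, hx, hy, add_zero]

theorem annihilator_eq_map_of_isBaseChange_of_flat [Module.Flat T T'] [Module.Finite T N]
    (g : N →ₗ[T] N') (hg : IsBaseChange T' g) :
    Module.annihilator T' N' = (Module.annihilator T N).map (algebraMap T T') := by
  rw [← annihilator_baseChange_of_flat (T := T) (T' := T') (N := N)]
  exact (hg.equiv.annihilator_eq).symm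

theorem radical_annihilator_of_isBaseChange [Module.Finite T N]
    (g : N →ₗ[T] N') (hg : IsBaseChange T' g) :
    (Module.annihilator T' N').radical =
      ((Module.annihilator T N).map (algebraMap T T')).radical := by
  haveI : Module.Finite T' N' := Module.Finite.equiv hg.equiv
  rw [← PrimeSpectrum.vanishingIdeal_zeroLocus_eq_radical,
    ← PrimeSpectrum.vanishingIdeal_zeroLocus_eq_radical]
  congr 1
  rw [← Module.support_eq_zeroLocus, ← hg.equiv.support_eq, Groth.Agent.S6284.result,
    Module.support_eq_zeroLocus, PrimeSpectrum.preimage_comap_zeroLocus, Ideal.map,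
    PrimeSpectrum.zeroLocus_span]

end GenBC

section FiniteFree

variable {A B A' B' : Type u} [CommRing A] [CommRing B] [CommRing A'] [CommRing B']
  [Algebra A B] [Algebra A A'] [Algebra B B'] [Algebra A' B'] [Algebra A B']
  [IsScalarTower A A' B'] [IsScalarTower A B B']

theorem trace_algebraMap_of_isPushout (hB : Algebra.IsPushout A A' B B') [Module.Free A B]
    [Module.Finite A B] [Module.Free A' B'] [Module.Finite A' B'] (x : B) :
    Algebra.trace A' B' (algebraMap B B' x) = algebraMap A A' (Algebra.trace A B x) := by
  classical
  let b := Module.Free.chooseBasis A B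
  rw [Algebra.trace_eq_matrix_trace (hB.out.basis b), Algebra.trace_eq_matrix_trace b,
    Matrix.trace, Matrix.trace, map_sum]
  apply Finset.sum_congr rfl
  intro i _
  rw [Matrix.diag_apply, Matrix.diag_apply, Algebra.leftMulMatrix_eq_repr_mul,
    Algebra.leftMulMatrix_eq_repr_mul, IsBaseChange.basis_apply]
  have h1 : algebraMap B B' x * (IsScalarTower.toAlgHom A B B').toLinearMap (b i) =
      (IsScalarTower.toAlgHom A B B').toLinearMap (x * b i) := by
    simp
  rw [h1, IsBaseChange.basis_repr_comp_apply]

theorem bcFin_trace (hB : Algebra.IsPushout A A' B B') [Module.Free A B]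
    [Module.Finite A B] [Module.Free A' B'] [Module.Finite A' B'] :
    QFDual.bcFin hB (Disc.Omega.trace A B) = Disc.Omega.trace A' B' := by
  apply Disc.Omega.toLinearMap_injective
  apply hB.out.algHom_ext
  intro x
  change (QFDual.bcFin hB (Disc.Omega.trace A B)).toLinearMap (algebraMap B B' x) =
    Algebra.trace A' B' (algebraMap B B' x)
  rw [QFDual.bcFin_apply_algebraMap, trace_algebraMap_of_isPushout hB]
  rfl

/-- The `B`-module structure on `Hom_{A'}(B', A')` through `B → B'`. -/
@[instance_reducible]
noncomputable def omegaModule' : Module B (Disc.Omega A' B') :=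
  Module.compHom _ (algebraMap B B')

attribute [local instance 10] omegaModule'

theorem omega_smul_def' (b : B) (ω : Disc.Omega A' B') : b • ω = algebraMap B B' b • ω := rfl

instance omega_isScalarTower' : IsScalarTower B B' (Disc.Omega A' B') :=
  ⟨fun a b ω => by
    change (a • b) • ω = algebraMap B B' a • (b • ω)
    rw [Algebra.smul_def, mul_smul]⟩

/-- `bcFin` as a `B`-linear map. -/
noncomputable def bcLin (hB : Algebra.IsPushout A A' B B') :
    Disc.Omega A B →ₗ[B] Disc.Omega A' B' where
  toFun := QFDual.bcFin hB
  map_add' := map_add _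
  map_smul' b ω := (QFDual.bcFin hB).map_smulₛₗ b ω

theorem isBaseChange_bcLin (hB : Algebra.IsPushout A A' B B')
    (hd : IsBaseChange A' hB.out.toDual) : IsBaseChange B' (bcLin hB) := by
  refine IsBaseChange.of_equiv ((LinearEquiv.ofBijective (QFDual.omegaBC (B₁ := B') hB)
    (omegaBC_self_bijective hB hd)) ≪≫ₗ TensorProduct.lid B' _) ?_
  intro x
  rw [LinearEquiv.trans_apply, LinearEquiv.ofBijective_apply, QFDual.omegaBC_tmul,
    TensorProduct.lid_tmul, one_smul]
  rfl

end FiniteFree

section FiniteFree2

variable {A B A' B' : Type u} [CommRing A] [CommRing B] [CommRing A'] [CommRing B']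
  [Algebra A B] [Algebra A A'] [Algebra B B'] [Algebra A' B'] [Algebra A B']
  [IsScalarTower A A' B'] [IsScalarTower A B B']

attribute [local instance 10] omegaModule'

theorem different_eq_annihilator (R : Type*) [CommRing R] {M : Type*} [AddCommGroup M]
    [Module R M] (τ : M) :
    QFDual.different R τ = Module.annihilator R (M ⧸ Submodule.span R {τ}) :=
  Submodule.annihilator_quotient.symm

instance finite_omega [Module.Free A B] [Module.Finite A B] :
    Module.Finite B (Disc.Omega A B) := by
  classical
  let 𝓑 := Module.Free.chooseBasis A B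
  refine ⟨⟨Finset.univ.image (fun i => (⟨𝓑.coord i⟩ : Disc.Omega A B)), ?_⟩⟩
  rw [eq_top_iff]
  intro l _
  rw [DiscDual.omega_eq_sum 𝓑 l]
  apply Submodule.sum_mem
  intro i _
  apply Submodule.smul_mem
  apply Submodule.subset_span
  rw [Finset.coe_image]
  exact ⟨i, by simp, rfl⟩

theorem bcLin_apply (hB : Algebra.IsPushout A A' B B') (ω : Disc.Omega A B) :
    bcLin hB ω = QFDual.bcFin hB ω := rfl

variable (hB : Algebra.IsPushout A A' B B') [Module.Free A B] [Module.Finite A B]
  [Module.Free A' B'] [Module.Finite A' B']

include hB

theorem different_map_le :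
    (QFDual.different B (Disc.Omega.trace A B)).map (algebraMap B B') ≤
      QFDual.different B' (Disc.Omega.trace A' B') := by
  rw [← bcFin_trace hB, ← bcLin_apply, different_eq_annihilator, different_eq_annihilator]
  exact annihilator_map_le_of_isBaseChange _
    (isBaseChange_quotMap (bcLin hB) (isBaseChange_bcLin hB hB.out.dual) _)

theorem different_radical_eq :
    ((QFDual.different B (Disc.Omega.trace A B)).map (algebraMap B B')).radical =
      (QFDual.different B' (Disc.Omega.trace A' B')).radical := by
  rw [← bcFin_trace hB, ← bcLin_apply, different_eq_annihilator, different_eq_annihilator]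
  exact (radical_annihilator_of_isBaseChange _
    (isBaseChange_quotMap (bcLin hB) (isBaseChange_bcLin hB hB.out.dual) _)).symm

theorem flat_of_isPushout [Module.Flat A A'] : Module.Flat B B' :=
  Module.Flat.isBaseChange A B A' B' hB.symm.out

theorem different_map_eq_of_flat [Module.Flat A A'] :
    (QFDual.different B (Disc.Omega.trace A B)).map (algebraMap B B') =
      QFDual.different B' (Disc.Omega.trace A' B') := by
  haveI := flat_of_isPushout hB
  rw [← bcFin_trace hB, ← bcLin_apply, different_eq_annihilator, different_eq_annihilator]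
  exact (annihilator_eq_map_of_isBaseChange_of_flat _
    (isBaseChange_quotMap (bcLin hB) (isBaseChange_bcLin hB hB.out.dual) _)).symm

theorem different_map_eq_of_invertible [Module.Invertible B (Disc.Omega A B)] :
    (QFDual.different B (Disc.Omega.trace A B)).map (algebraMap B B') =
      QFDual.different B' (Disc.Omega.trace A' B') := by
  have hf := isBaseChange_bcLin hB hB.out.dual
  haveI : Module.Invertible B' (Disc.Omega A' B') := Module.Invertible.congr hf.equiv
  rw [← bcFin_trace hB, ← bcLin_apply, different_eq_annihilator, different_eq_annihilator,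
    annihilator_quotient_eq_evalIdeal, annihilator_quotient_eq_evalIdeal]
  exact (evalIdeal_baseChange (bcLin hB) hf _).symm

end FiniteFree2

end Groth.Agent.Lib.Helper94.QFDualLib
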