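import Mathlib
import Groth.Agent.Lib.Helper94.RegSpread

/-!
# Syntomic cluster, part A: descent of weak regularity along faithfully flat maps,
field extensions of polynomial rings.
-/

set_option autoImplicit false
universe u

namespace Groth.Agent.Lib.Helper94.SyntA

open RingTheory.Sequence Ideal Groth.Agent.Lib.Helper94.RegSpread

/-- Weak regularity descends along faithfully flat ring maps. -/
theorem isWeaklyRegular_of_faithfullyFlat {A B : Type*} [CommRing A] [CommRing B] [Algebra A B]
    [Module.FaithfullyFlat A B] (rs : List A)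
    (h : IsWeaklyRegular B (rs.map (algebraMap A B))) : IsWeaklyRegular A rs := by
  rw [isWeaklyRegular_iff_forall_mem] at h ⊢
  intro i hi x hx
  have h1 := h i (by rw [List.length_map]; exact hi) (algebraMap A B x)
  rw [← List.map_take, ← Ideal.map_ofList, List.getElem_map, ← map_mul] at h1
  have h2 := h1 (Ideal.mem_map_of_mem _ hx)
  have h3 : x ∈ ((ofList (rs.take i)).map (algebraMap A B)).comap (algebraMap A B) := h2
  rwa [Ideal.comap_map_eq_self_of_faithfullyFlat] at h3

/-- Weak regularity ascends along flat ring maps (ring version). -/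
theorem isWeaklyRegular_map_of_flat {A B : Type*} [CommRing A] [CommRing B] [Algebra A B]
    [Module.Flat A B] (rs : List A) (h : IsWeaklyRegular A rs) :
    IsWeaklyRegular B (rs.map (algebraMap A B)) :=
  h.of_flat

attribute [local instance] MvPolynomial.algebraMvPolynomial in
theorem flat_mvPolynomial_map {σ : Type*} {K₁ K : Type*} [CommRing K₁] [CommRing K] [Algebra K₁ K]
    [Module.Flat K₁ K] : Module.Flat (MvPolynomial σ K₁) (MvPolynomial σ K) := by
  have h : Algebra.IsPushout K₁ (MvPolynomial σ K₁) K (MvPolynomial σ K) := inferInstance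
  exact Module.Flat.isBaseChange K₁ (MvPolynomial σ K₁) K (MvPolynomial σ K) h.out

theorem flat_ringHom_mvPolynomial_map {σ : Type*} {K₁ K : Type*} [CommRing K₁] [CommRing K]
    (ι : K₁ →+* K) (hι : ι.Flat) : (MvPolynomial.map (σ := σ) ι).Flat := by
  letI := ι.toAlgebra
  haveI : Module.Flat K₁ K := hι
  have := flat_mvPolynomial_map (σ := σ) (K₁ := K₁) (K := K)
  exact this

/-- Descent of weak regularity from `K[x]_Q` to `K₁[x]_{Q₁}` for a flat map `K₁ → K`. -/
theorem isWeaklyRegular_localization_of_flat {A B : Type*} [CommRing A] [CommRing B] (f : A →+* B)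
    (hf : f.Flat) (Q : Ideal B) [Q.IsPrime] (Q₁ : Ideal A) [Q₁.IsPrime] (hQ : Q₁ = Q.comap f)
    (rs : List A)
    (h : IsWeaklyRegular (Localization.AtPrime Q)
      ((rs.map f).map (algebraMap B (Localization.AtPrime Q)))) :
    IsWeaklyRegular (Localization.AtPrime Q₁)
      (rs.map (algebraMap A (Localization.AtPrime Q₁))) := by
  have hfl := hf.localRingHom Q Q₁ hQ
  letI := (Localization.localRingHom Q₁ Q f hQ).toAlgebra
  haveI : Module.Flat (Localization.AtPrime Q₁) (Localization.AtPrime Q) := hfl
  haveI : IsLocalHom (algebraMap (Localization.AtPrime Q₁) (Localization.AtPrime Q)) :=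
    Localization.isLocalHom_localRingHom Q₁ Q f hQ
  haveI : Module.FaithfullyFlat (Localization.AtPrime Q₁) (Localization.AtPrime Q) :=
    Module.FaithfullyFlat.of_flat_of_isLocalHom
  have e : (rs.map (algebraMap A (Localization.AtPrime Q₁))).map
      (algebraMap (Localization.AtPrime Q₁) (Localization.AtPrime Q)) =
      (rs.map f).map (algebraMap B (Localization.AtPrime Q)) := by
    rw [List.map_map, List.map_map]
    refine List.map_congr_left fun a _ => ?_
    simp only [Function.comp_apply, RingHom.algebraMap_toAlgebra]
    exact Localization.localRingHom_to_map Q₁ Q f hQ a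
  apply isWeaklyRegular_of_faithfullyFlat (B := Localization.AtPrime Q)
  rw [e]
  exact h

end Groth.Agent.Lib.Helper94.SyntA
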