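import Mathlib
import Groth.Agent.Lib.Helper94.RegSpread

/-!
# Syntomic cluster, part B: the local ring of the fibre of a polynomial ring

For a prime `q'` of `P = R[x]` over `p`, `P_{q'}/pP_{q'} ≅ κ(p)[x]_Q` where `Q` is the prime of
`κ(p)[x]` corresponding to `q'`.
-/

set_option autoImplicit false
universe u

namespace Groth.Agent.Lib.Helper94.SyntB

open RingTheory.Sequence Ideal MvPolynomial

section

variable {R : Type u} [CommRing R] {n : ℕ}

/-- The base change map `R[x] → κ(p)[x]`. -/
noncomputable abbrev psi (p : Ideal R) [p.IsPrime] :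
    MvPolynomial (Fin n) R →+* MvPolynomial (Fin n) p.ResidueField :=
  MvPolynomial.map (algebraMap R p.ResidueField)

theorem ker_psi (p : Ideal R) [p.IsPrime] :
    RingHom.ker (psi (n := n) p) = p.map (C : R →+* MvPolynomial (Fin n) R) := by
  rw [psi, MvPolynomial.ker_map, Ideal.ker_algebraMap_residueField]

/-- Existence of the prime of the fibre corresponding to `q'`. -/
theorem exists_prime_fibre (q' : Ideal (MvPolynomial (Fin n) R)) [q'.IsPrime] (p : Ideal R)
    [p.IsPrime] (hp : p = q'.comap (C : R →+* MvPolynomial (Fin n) R)) :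
    ∃ Q : Ideal (MvPolynomial (Fin n) p.ResidueField), Q.IsPrime ∧ q' = Q.comap (psi p) := by
  let ι : p.ResidueField →+* q'.ResidueField := Ideal.ResidueField.map p q' C hp
  let θ : MvPolynomial (Fin n) p.ResidueField →+* q'.ResidueField :=
    MvPolynomial.eval₂Hom ι (fun i => algebraMap (MvPolynomial (Fin n) R) q'.ResidueField (X i))
  refine ⟨RingHom.ker θ, RingHom.ker_isPrime θ, ?_⟩
  rw [RingHom.comap_ker]
  have h : θ.comp (psi p) = algebraMap (MvPolynomial (Fin n) R) q'.ResidueField := by
    apply MvPolynomial.ringHom_ext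
    · intro r
      simp only [RingHom.comp_apply, psi, MvPolynomial.map_C, θ, MvPolynomial.coe_eval₂Hom,
        MvPolynomial.eval₂_C, ι]
      rw [Ideal.ResidueField.map_algebraMap]
    · intro i
      simp only [RingHom.comp_apply, psi, MvPolynomial.map_X, θ, MvPolynomial.coe_eval₂Hom,
        MvPolynomial.eval₂_X]
  rw [h, Ideal.ker_algebraMap_residueField]

/-- Clearing denominators in `κ(p)[x]`. -/
theorem exists_denom (p : Ideal R) [p.IsPrime] (g : MvPolynomial (Fin n) p.ResidueField) :
    ∃ r : R, r ∉ p ∧ ∃ g₀ : MvPolynomial (Fin n) R,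
      psi p g₀ = C (algebraMap R p.ResidueField r) * g := by
  induction g using MvPolynomial.induction_on with
  | C a =>
    obtain ⟨x, rfl⟩ := IsLocalRing.residue_surjective (R := Localization.AtPrime p) a
    obtain ⟨⟨a₀, r⟩, har⟩ := IsLocalization.surj p.primeCompl x
    refine ⟨r.1, r.2, C a₀, ?_⟩
    simp only [psi, MvPolynomial.map_C, ← map_mul]
    congr 1
    rw [IsScalarTower.algebraMap_apply R (Localization.AtPrime p) p.ResidueField,
      IsScalarTower.algebraMap_apply R (Localization.AtPrime p) p.ResidueField,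
      IsLocalRing.ResidueField.algebraMap_eq, ← map_mul, mul_comm]
    exact congrArg _ har.symm
  | add g h hg hh =>
    obtain ⟨r, hr, g₀, hg₀⟩ := hg
    obtain ⟨r', hr', h₀, hh₀⟩ := hh
    refine ⟨r * r', fun hmem => (Ideal.IsPrime.mem_or_mem inferInstance hmem).elim hr hr',
      C r' * g₀ + C r * h₀, ?_⟩
    simp only [map_add, map_mul, psi, MvPolynomial.map_C] at hg₀ hh₀ ⊢
    rw [hg₀, hh₀]
    ring
  | mul_X g i hg =>
    obtain ⟨r, hr, g₀, hg₀⟩ := hg
    refine ⟨r, hr, g₀ * X i, ?_⟩
    simp only [map_mul, psi, MvPolynomial.map_X] at hg₀ ⊢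
    rw [hg₀]
    ring

variable (q' : Ideal (MvPolynomial (Fin n) R)) [q'.IsPrime] (p : Ideal R) [p.IsPrime]
  (hp : p = q'.comap (C : R →+* MvPolynomial (Fin n) R))
  (Q : Ideal (MvPolynomial (Fin n) p.ResidueField)) [Q.IsPrime] (hQ : q' = Q.comap (psi p))

/-- The comparison map `R[x]_{q'} → κ(p)[x]_Q`. -/
noncomputable abbrev lam : Localization.AtPrime q' →+* Localization.AtPrime Q :=
  Localization.localRingHom q' Q (psi p) hQ

omit [q'.IsPrime] [p.IsPrime] in
include hp in
theorem C_notMem {r : R} (hr : r ∉ p) : (C r : MvPolynomial (Fin n) R) ∉ q' := by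
  intro h
  apply hr
  rw [hp]
  exact h

theorem ker_lam : RingHom.ker (lam q' p Q hQ) =
    p.map (algebraMap R (Localization.AtPrime q')) := by
  apply le_antisymm
  · intro b hb
    obtain ⟨g, s, rfl⟩ := IsLocalization.exists_mk'_eq q'.primeCompl b
    rw [RingHom.mem_ker, lam, Localization.localRingHom_mk', IsLocalization.mk'_eq_zero_iff] at hb
    obtain ⟨m, hm⟩ := hb
    have hm0 : (m : MvPolynomial (Fin n) p.ResidueField) ≠ 0 := by
      intro h0
      exact m.2 (h0 ▸ Q.zero_mem)
    have hg : psi p g = 0 := (mul_eq_zero.mp hm).resolve_left hm0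
    have hg' : g ∈ p.map (C : R →+* MvPolynomial (Fin n) R) := by
      rw [← ker_psi]; exact hg
    have h1 : algebraMap _ (Localization.AtPrime q') g ∈
        p.map (algebraMap R (Localization.AtPrime q')) := by
      have := Ideal.mem_map_of_mem (algebraMap (MvPolynomial (Fin n) R) (Localization.AtPrime q')) hg'
      rw [Ideal.map_map] at this
      have e : (algebraMap (MvPolynomial (Fin n) R) (Localization.AtPrime q')).comp C =
          algebraMap R (Localization.AtPrime q') := by
        ext r
        simp [IsScalarTower.algebraMap_apply R (MvPolynomial (Fin n) R) (Localization.AtPrime q')]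
      rwa [e] at this
    rw [← IsLocalization.mk'_spec (Localization.AtPrime q') g s] at h1
    have hu : IsUnit (algebraMap (MvPolynomial (Fin n) R) (Localization.AtPrime q') s) :=
      IsLocalization.map_units _ s
    exact (Ideal.mul_unit_mem_iff_mem _ hu).mp h1
  · rw [Ideal.map_le_iff_le_comap]
    intro a ha
    rw [Ideal.mem_comap, RingHom.mem_ker,
      IsScalarTower.algebraMap_apply R (MvPolynomial (Fin n) R) (Localization.AtPrime q'),
      lam, Localization.localRingHom_to_map, MvPolynomial.algebraMap_eq, psi, MvPolynomial.map_C,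
      (Ideal.algebraMap_residueField_eq_zero).mpr ha, map_zero, map_zero]

include hp in
theorem lam_surjective : Function.Surjective (lam q' p Q hQ) := by
  intro y
  obtain ⟨g, s, rfl⟩ := IsLocalization.exists_mk'_eq Q.primeCompl y
  obtain ⟨r, hr, g₀, hg₀⟩ := exists_denom p g
  obtain ⟨r', hr', s₀, hs₀e⟩ := exists_denom p (s : MvPolynomial (Fin n) p.ResidueField)
  have hCr : (C r : MvPolynomial (Fin n) R) ∉ q' := C_notMem q' p hp hr
  have hCr' : (C r' : MvPolynomial (Fin n) R) ∉ q' := C_notMem q' p hp hr'
  have hψC : ∀ a : R, psi (n := n) p (C a) = C (algebraMap R p.ResidueField a) := fun a => by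
    simp [psi]
  have hs₀ : s₀ ∉ q' := by
    intro h
    rw [hQ, Ideal.mem_comap, hs₀e] at h
    rcases Ideal.IsPrime.mem_or_mem inferInstance h with h | h
    · apply hCr'
      rw [hQ, Ideal.mem_comap, hψC]
      exact h
    · exact s.2 h
  have hmem : s₀ * C r ∈ q'.primeCompl := Submonoid.mul_mem _ hs₀ hCr
  refine ⟨IsLocalization.mk' (Localization.AtPrime q') (g₀ * C r')
    (⟨s₀ * C r, hmem⟩ : q'.primeCompl), ?_⟩
  · rw [lam, Localization.localRingHom_mk', IsLocalization.mk'_eq_iff_eq]
    congr 1
    simp only [map_mul, hψC, hg₀, hs₀e]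
    ring

include hp hQ in
/-- Transfer of weak regularity from the fibre local ring `κ(p)[x]_Q` to `R[x]_{q'}/pR[x]_{q'}`. -/
theorem isWeaklyRegular_quotient_of_fibre (Fs : List (MvPolynomial (Fin n) R))
    (h : IsWeaklyRegular (Localization.AtPrime Q)
      ((Fs.map (psi p)).map (algebraMap _ (Localization.AtPrime Q)))) :
    IsWeaklyRegular (Localization.AtPrime q' ⧸
        (p.map (algebraMap R (Localization.AtPrime q')) • ⊤ :
          Submodule (Localization.AtPrime q') (Localization.AtPrime q')))
      (Fs.map (algebraMap _ (Localization.AtPrime q'))) := by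
  letI := (lam q' p Q hQ).toAlgebra
  let f : Localization.AtPrime q' →ₗ[Localization.AtPrime q'] Localization.AtPrime Q :=
    Algebra.linearMap _ _
  have hf : Function.Surjective f := lam_surjective q' p hp Q hQ
  have hker : (p.map (algebraMap R (Localization.AtPrime q')) • ⊤ :
      Submodule (Localization.AtPrime q') (Localization.AtPrime q')) = LinearMap.ker f := by
    rw [smul_eq_mul, Ideal.mul_top, ← ker_lam q' p Q hQ]
    rfl
  let e : (Localization.AtPrime q' ⧸
        (p.map (algebraMap R (Localization.AtPrime q')) • ⊤ :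
          Submodule (Localization.AtPrime q') (Localization.AtPrime q'))) ≃ₗ[Localization.AtPrime q']
      Localization.AtPrime Q :=
    (Submodule.quotEquivOfEq _ _ hker).trans (f.quotKerEquivOfSurjective hf)
  rw [e.isWeaklyRegular_congr,
    ← isWeaklyRegular_map_algebraMap_iff (Localization.AtPrime Q) (Localization.AtPrime Q)]
  have e2 : (Fs.map (algebraMap _ (Localization.AtPrime q'))).map
      (algebraMap (Localization.AtPrime q') (Localization.AtPrime Q)) =
      (Fs.map (psi p)).map (algebraMap _ (Localization.AtPrime Q)) := by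
    rw [List.map_map, List.map_map]
    refine List.map_congr_left fun a _ => ?_
    simp only [Function.comp_apply, RingHom.algebraMap_toAlgebra]
    exact Localization.localRingHom_to_map q' Q (psi p) hQ a
  rw [e2]
  exact h

end

end Groth.Agent.Lib.Helper94.SyntB
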