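import Mathlib
import Groth.Agent.S5774
import Groth.Agent.Lib.Helper94.SyntB

/-!
# Syntomic cluster, part C: the Noetherian local criterion for polynomial rings
-/

set_option autoImplicit false
universe u

namespace Groth.Agent.Lib.Helper94.SyntC

open RingTheory.Sequence Ideal MvPolynomial

/-- Transversal regularity of a list of polynomials at a prime `q'` of `R[x]`: the images form a
weakly regular sequence in `R[x]_{q'}` and all successive quotients are flat over `R`. -/
def TransRegAt (R : Type u) [CommRing R] {n : ℕ} (Fs : List (MvPolynomial (Fin n) R))
    (q' : Ideal (MvPolynomial (Fin n) R)) [q'.IsPrime] : Prop :=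
  IsWeaklyRegular (Localization.AtPrime q') (Fs.map (algebraMap _ (Localization.AtPrime q'))) ∧
    ∀ i ≤ Fs.length, Module.Flat R (Localization.AtPrime q' ⧸
      ofList ((Fs.take i).map (algebraMap _ (Localization.AtPrime q'))))

theorem transRegAt_of_noetherian {R : Type u} [CommRing R] [IsNoetherianRing R] {n : ℕ}
    (q' : Ideal (MvPolynomial (Fin n) R)) [q'.IsPrime] (p : Ideal R) [p.IsPrime]
    (hp : p = q'.comap (C : R →+* MvPolynomial (Fin n) R))
    (Fs : List (MvPolynomial (Fin n) R))
    (h : IsWeaklyRegular (Localization.AtPrime q' ⧸
        (p.map (algebraMap R (Localization.AtPrime q')) • ⊤ :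
          Submodule (Localization.AtPrime q') (Localization.AtPrime q')))
      (Fs.map (algebraMap _ (Localization.AtPrime q')))) :
    TransRegAt R Fs q' := by
  letI alg : Algebra (Localization.AtPrime p) (Localization.AtPrime q') :=
    (Localization.localRingHom p q' C hp).toAlgebra
  haveI tower : IsScalarTower R (Localization.AtPrime p) (Localization.AtPrime q') := by
    refine IsScalarTower.of_algebraMap_eq fun x => ?_
    rw [RingHom.algebraMap_toAlgebra, Localization.localRingHom_to_map,
      IsScalarTower.algebraMap_apply R (MvPolynomial (Fin n) R) (Localization.AtPrime q'),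
      MvPolynomial.algebraMap_eq]
  haveI : IsLocalHom (algebraMap (Localization.AtPrime p) (Localization.AtPrime q')) :=
    Localization.isLocalHom_localRingHom p q' C hp
  haveI flR : Module.Flat R (Localization.AtPrime q') :=
    Module.Flat.trans R (MvPolynomial (Fin n) R) (Localization.AtPrime q')
  haveI flA : Module.Flat (Localization.AtPrime p) (Localization.AtPrime q') :=
    (Module.flat_iff_of_isLocalization (Localization.AtPrime p) p.primeCompl
      (Localization.AtPrime q')).mpr flR
  have hmax : (IsLocalRing.maximalIdeal (Localization.AtPrime p)).map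
      (algebraMap (Localization.AtPrime p) (Localization.AtPrime q')) =
      p.map (algebraMap R (Localization.AtPrime q')) := by
    rw [← Localization.AtPrime.map_eq_maximalIdeal, Ideal.map_map,
      ← IsScalarTower.algebraMap_eq]
  have key := Groth.Agent.S5774.result (Localization.AtPrime p) (Localization.AtPrime q')
    (Localization.AtPrime q') (Fs.map (algebraMap _ (Localization.AtPrime q')))
    (by rw [hmax]; exact h)
  refine ⟨key.1, fun i hi => ?_⟩
  have h1 := key.2 i (by rw [List.length_map]; exact hi)
  rw [← List.map_take] at h1
  haveI := h1
  have h2 : Module.Flat R (Localization.AtPrime q' ⧸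
      (ofList ((Fs.take i).map (algebraMap _ (Localization.AtPrime q'))) • ⊤ :
        Submodule (Localization.AtPrime q') (Localization.AtPrime q'))) :=
    Module.Flat.trans R (Localization.AtPrime p) _
  have heq : (ofList ((Fs.take i).map (algebraMap _ (Localization.AtPrime q'))) • ⊤ :
        Submodule (Localization.AtPrime q') (Localization.AtPrime q')) =
      ofList ((Fs.take i).map (algebraMap _ (Localization.AtPrime q'))) := by
    rw [smul_eq_mul, Ideal.mul_top]
  exact Module.Flat.of_linearEquiv
    ((Submodule.quotEquivOfEq _ _ heq).restrictScalars R).symm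

end Groth.Agent.Lib.Helper94.SyntC
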