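import Mathlib
import Groth.Agent.S5806
import Groth.Agent.Lib.Helper94.SyntC
import Groth.Agent.Lib.Helper94.RegSpread

/-!
# Syntomic cluster, part D: base change, localization and ascent of transversal regularity
-/


set_option autoImplicit false
universe u

namespace Groth.Agent.Lib.Helper94.SyntD

open RingTheory.Sequence Ideal TensorProduct
open Groth.Agent.Lib.Helper94.RegSpread

/-- Transversally regular sequences of a ring `B` relative to `A`. -/
def TransReg (A B : Type u) [CommRing A] [CommRing B] [Algebra A B] (rs : List B) : Prop :=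
  IsWeaklyRegular B rs ∧ ∀ j : ℕ, j ≤ rs.length → Module.Flat A (B ⧸ Ideal.ofList (rs.take j))

/-- multiplication by `1 ⊗ f` on `A' ⊗ (B ⧸ J)` is injective -/
theorem mul_tmul_injective (A B : Type u) [CommRing A] [CommRing B] [Algebra A B]
    (rs : List B) (h : TransReg A B rs) (A' : Type u) [CommRing A'] [Algebra A A']
    (i : ℕ) (hi : i < rs.length) (z : A' ⊗[A] (B ⧸ ofList (rs.take i)))
    (hz : ((1 : A') ⊗ₜ[A] (Ideal.Quotient.mk (ofList (rs.take i)) rs[i])) * z = 0) : z = 0 := by
  have heq : ∀ j, (ofList (rs.take j) • ⊤ : Submodule B B) = ofList (rs.take j) := fun j => by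
    rw [smul_eq_mul, Ideal.mul_top]
  have key := (Groth.Agent.S5806.result A B B rs h.1 (fun j hj => by
    haveI := h.2 j hj
    exact Module.Flat.of_linearEquiv
      ((Submodule.quotEquivOfEq _ _ (heq j)).restrictScalars A)) A' ⟨i, hi⟩).1
  let e : (B ⧸ (ofList (rs.take i) • ⊤ : Submodule B B)) ≃ₗ[B] (B ⧸ ofList (rs.take i)) :=
    Submodule.quotEquivOfEq _ _ (heq i)
  let ê : A' ⊗[A] (B ⧸ (ofList (rs.take i) • ⊤ : Submodule B B)) ≃ₗ[A]
      A' ⊗[A] (B ⧸ ofList (rs.take i)) := (e.restrictScalars A).lTensor A'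
  obtain ⟨w, rfl⟩ := ê.surjective z
  have hcomm : ∀ w, ((1 : A') ⊗ₜ[A] (Ideal.Quotient.mk (ofList (rs.take i)) rs[i])) * ê w =
      ê (LinearMap.lTensor A' (((LinearMap.lsmul B (B ⧸ (ofList (rs.take i) • ⊤ : Submodule B B)))
        (rs.get ⟨i, hi⟩)).restrictScalars A) w) := by
    intro w
    induction w using TensorProduct.induction_on with
    | zero => simp
    | add x y hx hy => simp only [map_add, mul_add, hx, hy]
    | tmul a m =>
      obtain ⟨m, rfl⟩ := Submodule.Quotient.mk_surjective _ m
      simp only [ê, LinearEquiv.lTensor_tmul, LinearMap.lTensor_tmul,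
        Algebra.TensorProduct.tmul_mul_tmul, one_mul]
      congr 1
  rw [hcomm] at hz
  have h0 : w = 0 := key (by rw [map_zero]; exact ê.injective (by rw [hz, map_zero]))
  rw [h0, map_zero]

/-- L1: base change preserves transversal regularity. -/
theorem transReg_baseChange (A B : Type u) [CommRing A] [CommRing B] [Algebra A B]
    (rs : List B) (h : TransReg A B rs) (A' : Type u) [CommRing A'] [Algebra A A'] :
    TransReg A' (A' ⊗[A] B)
      (rs.map (Algebra.TensorProduct.includeRight : B →ₐ[A] A' ⊗[A] B)) := by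
  have hmap : ∀ j, ofList ((rs.map (Algebra.TensorProduct.includeRight : B →ₐ[A] A' ⊗[A] B)).take j)
      = (ofList (rs.take j)).map (Algebra.TensorProduct.includeRight : B →ₐ[A] A' ⊗[A] B) := by
    intro j
    rw [← List.map_take, ← Ideal.map_coe, Ideal.map_ofList]
    rfl
  constructor
  · rw [isWeaklyRegular_iff_forall_mem]
    intro i hi x hx
    rw [List.length_map] at hi
    rw [hmap] at hx ⊢
    rw [List.getElem_map] at hx
    let E := Algebra.TensorProduct.tensorQuotientEquiv (R := A) A' B A' (ofList (rs.take i))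
    have h1 : E.symm (Ideal.Quotient.mk _ x) = 0 := by
      apply mul_tmul_injective A B rs h A' i hi
      have h2 : ((1 : A') ⊗ₜ[A] (Ideal.Quotient.mk (ofList (rs.take i)) rs[i])) =
          E.symm (Ideal.Quotient.mk _ ((1 : A') ⊗ₜ[A] rs[i])) := rfl
      rw [h2, ← map_mul, ← map_mul]
      have hx' : Ideal.Quotient.mk ((ofList (rs.take i)).map
          (Algebra.TensorProduct.includeRight : B →ₐ[A] A' ⊗[A] B)) ((1 : A') ⊗ₜ[A] rs[i] * x) = 0 :=
        Ideal.Quotient.eq_zero_iff_mem.mpr hx
      rw [hx', map_zero]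
    rw [← Ideal.Quotient.eq_zero_iff_mem]
    exact E.symm.injective (by rw [h1, map_zero])
  · intro j hj
    rw [List.length_map] at hj
    rw [hmap]
    haveI := h.2 j hj
    let E := Algebra.TensorProduct.tensorQuotientEquiv (R := A) A' B A' (ofList (rs.take j))
    exact Module.Flat.of_linearEquiv E.symm.toLinearEquiv

/-- L2: localization preserves transversal regularity. -/
theorem transReg_localization (R T B : Type u) [CommRing R] [CommRing T] [CommRing B]
    [Algebra R T] [Algebra T B] [Algebra R B] [IsScalarTower R T B] (N : Submonoid T)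
    [IsLocalization N B] (rs : List T) (h : TransReg R T rs) :
    TransReg R B (rs.map (algebraMap T B)) := by
  haveI : Module.Flat T B := IsLocalization.flat B N
  refine ⟨h.1.of_flat, fun j hj => ?_⟩
  rw [List.length_map] at hj
  rw [← List.map_take, ← Ideal.map_ofList]
  haveI := h.2 j hj
  haveI : Module.Flat (T ⧸ ofList (rs.take j)) (B ⧸ (ofList (rs.take j)).map (algebraMap T B)) :=
    IsLocalization.flat _ (Algebra.algebraMapSubmonoid (T ⧸ ofList (rs.take j)) N)
  haveI : IsScalarTower R (T ⧸ ofList (rs.take j))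
      (B ⧸ (ofList (rs.take j)).map (algebraMap T B)) := by
    refine IsScalarTower.of_algebraMap_eq fun x => ?_
    rw [IsScalarTower.algebraMap_apply R T (T ⧸ ofList (rs.take j)),
      IsScalarTower.algebraMap_apply R B (B ⧸ (ofList (rs.take j)).map (algebraMap T B)),
      IsScalarTower.algebraMap_apply R T B]
    rfl
  exact Module.Flat.trans R (T ⧸ ofList (rs.take j)) _


open MvPolynomial Groth.Agent.Lib.Helper94.SyntC in
/-- Ascent of transversal regularity at a prime of a polynomial ring along a base change. -/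
theorem transRegAt_ascent {R₁ R : Type u} [CommRing R₁] [CommRing R] [Algebra R₁ R] {n : ℕ}
    (q' : Ideal (MvPolynomial (Fin n) R)) [q'.IsPrime]
    (q₁' : Ideal (MvPolynomial (Fin n) R₁)) [q₁'.IsPrime]
    (hq : q₁' = q'.comap (MvPolynomial.map (algebraMap R₁ R)))
    (F₁ : List (MvPolynomial (Fin n) R₁)) (h : TransRegAt R₁ F₁ q₁') :
    TransRegAt R (F₁.map (MvPolynomial.map (algebraMap R₁ R))) q' := by
  let P₁ := MvPolynomial (Fin n) R₁
  let P := MvPolynomial (Fin n) R
  let B₁ := Localization.AtPrime q₁'
  let B := Localization.AtPrime q'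
  let T' := R ⊗[R₁] B₁
  let P' := R ⊗[R₁] P₁
  letI algP'T' : Algebra P' T' :=
    (Algebra.TensorProduct.map (AlgHom.id R₁ R) (IsScalarTower.toAlgHom R₁ P₁ B₁)).toAlgebra
  have halg : ∀ (r : R) (p : P₁), algebraMap P' T' (r ⊗ₜ p) = r ⊗ₜ algebraMap P₁ B₁ p := by
    intro r p
    rfl
  haveI : IsScalarTower R P' T' := by
    refine IsScalarTower.of_algebraMap_eq (R := R) (S := P') (A := T') ?_
    intro x
    rw [Algebra.TensorProduct.algebraMap_apply, Algebra.TensorProduct.algebraMap_apply, halg, map_one]
  haveI locP' : IsLocalization (q₁'.primeCompl.map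
      (Algebra.TensorProduct.includeRight (R := R₁) (A := R))) T' :=
    IsLocalization.tensorProduct_tensorProduct_right R₁ R q₁'.primeCompl B₁
      (RingHom.ext fun x => by
        simp only [RingHom.comp_apply, AlgHom.toRingHom_eq_coe, RingHom.coe_coe, Algebra.TensorProduct.includeRight_apply]
        rw [halg])
  let e : P' ≃ₐ[R] P := MvPolynomial.algebraTensorAlgEquiv R₁ R
  letI algPT' : Algebra P T' :=
    ((algebraMap P' T').comp e.toRingEquiv.symm.toRingHom).toAlgebra
  let M : Submonoid P := (q₁'.primeCompl.map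
      (Algebra.TensorProduct.includeRight (R := R₁) (A := R))).map e.toRingEquiv
  haveI locP : IsLocalization M T' :=
    IsLocalization.isLocalization_of_base_ringEquiv _ T' e.toRingEquiv
  have hle : M ≤ q'.primeCompl := by
    rintro _ ⟨_, ⟨s, hs, rfl⟩, rfl⟩
    show e ((1 : R) ⊗ₜ s) ∉ q'
    rw [MvPolynomial.algebraTensorAlgEquiv_tmul, one_smul]
    intro h
    apply hs
    rw [hq]
    exact h
  letI algT'B : Algebra T' B := (IsLocalization.lift (M := M) (g := algebraMap P B)
    (fun y => IsLocalization.map_units B ⟨y.1, hle y.2⟩)).toAlgebra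
  haveI : IsScalarTower P T' B :=
    .of_algebraMap_eq (fun x => (IsLocalization.lift_eq _ x).symm)
  haveI locT' : IsLocalization (q'.primeCompl.map (algebraMap P T')) B :=
    IsLocalization.isLocalization_of_submonoid_le T' B M q'.primeCompl hle
  have hPT' : ∀ f : P₁, algebraMap P T' (MvPolynomial.map (algebraMap R₁ R) f) =
      (1 : R) ⊗ₜ algebraMap P₁ B₁ f := by
    intro f
    show algebraMap P' T' (e.symm (MvPolynomial.map (algebraMap R₁ R) f)) = _
    rw [MvPolynomial.algebraTensorAlgEquiv_symm_map, halg]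
  have hC : ∀ r : R, algebraMap P T' (MvPolynomial.C r) = algebraMap R T' r := by
    intro r
    show algebraMap P' T' (e.symm (MvPolynomial.C r)) = _
    rw [← MvPolynomial.algebraMap_eq, AlgEquiv.commutes, ← IsScalarTower.algebraMap_apply]
  haveI : IsScalarTower R T' B := by
    refine IsScalarTower.of_algebraMap_eq (R := R) (S := T') (A := B) ?_
    intro r
    rw [← hC, ← IsScalarTower.algebraMap_apply P T' B,
      IsScalarTower.algebraMap_apply R P B, MvPolynomial.algebraMap_eq]
  have h1 : TransReg R₁ B₁ (F₁.map (algebraMap P₁ B₁)) := by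
    refine ⟨h.1, fun j hj => ?_⟩
    rw [List.length_map] at hj
    rw [← List.map_take]
    exact h.2 j hj
  have h2 := transReg_baseChange R₁ B₁ _ h1 R
  have h3 := transReg_localization R T' B (q'.primeCompl.map (algebraMap P T')) _ h2
  have hlist : ((F₁.map (algebraMap P₁ B₁)).map
      (Algebra.TensorProduct.includeRight : B₁ →ₐ[R₁] R ⊗[R₁] B₁)).map (algebraMap T' B) =
      (F₁.map (MvPolynomial.map (algebraMap R₁ R))).map (algebraMap P B) := by
    rw [List.map_map, List.map_map, List.map_map]
    refine List.map_congr_left fun f _ => ?_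
    simp only [Function.comp_apply, Algebra.TensorProduct.includeRight_apply]
    rw [← hPT', ← IsScalarTower.algebraMap_apply P T' B]
  rw [hlist] at h3
  refine ⟨h3.1, fun j hj => ?_⟩
  have := h3.2 j (by rw [List.length_map]; exact hj)
  rw [← List.map_take] at this
  exact this

end Groth.Agent.Lib.Helper94.SyntD
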