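import Mathlib
import Groth.Agent.Lib.Helper94.SyntA
import Groth.Agent.Lib.Helper94.SyntD

/-!
# Syntomic cluster, part E: regularity on the fibre implies transversal regularity (any base ring)
-/

set_option autoImplicit false
universe u

namespace Groth.Agent.Lib.Helper94.SyntE

open RingTheory.Sequence Ideal MvPolynomial
open Groth.Agent.Lib.Helper94.SyntA Groth.Agent.Lib.Helper94.SyntB Groth.Agent.Lib.Helper94.SyntC
  Groth.Agent.Lib.Helper94.SyntD

/-- Descent of the fibre criterion to a Noetherian approximation `R₁ → R`. -/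
theorem transRegAt_noetherian_of_fibre {R₁ R : Type u} [CommRing R₁] [CommRing R]
    [Algebra R₁ R] [IsNoetherianRing R₁] {n : ℕ}
    (q' : Ideal (MvPolynomial (Fin n) R)) [q'.IsPrime] (p : Ideal R) [p.IsPrime]
    (hp : p = q'.comap (C : R →+* MvPolynomial (Fin n) R))
    (Q : Ideal (MvPolynomial (Fin n) p.ResidueField)) [Q.IsPrime] (hQ : q' = Q.comap (psi p))
    (F₁ : List (MvPolynomial (Fin n) R₁))
    (h : IsWeaklyRegular (Localization.AtPrime Q)
      (((F₁.map (MvPolynomial.map (algebraMap R₁ R))).map (psi p)).map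
        (algebraMap _ (Localization.AtPrime Q)))) :
    TransRegAt R₁ F₁ (q'.comap (MvPolynomial.map (algebraMap R₁ R))) := by
  let μ : MvPolynomial (Fin n) R₁ →+* MvPolynomial (Fin n) R := MvPolynomial.map (algebraMap R₁ R)
  let q₁' : Ideal (MvPolynomial (Fin n) R₁) := q'.comap μ
  haveI : q₁'.IsPrime := Ideal.comap_isPrime μ q'
  let p₁ : Ideal R₁ := p.comap (algebraMap R₁ R)
  haveI : p₁.IsPrime := Ideal.comap_isPrime _ p
  have hp₁ : p₁ = q₁'.comap (C : R₁ →+* MvPolynomial (Fin n) R₁) := by
    ext r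
    simp only [p₁, q₁', μ, Ideal.mem_comap, MvPolynomial.map_C, hp]
  let ι : p₁.ResidueField →+* p.ResidueField :=
    Ideal.ResidueField.map p₁ p (algebraMap R₁ R) rfl
  have hι : ι.comp (algebraMap R₁ p₁.ResidueField) =
      (algebraMap R p.ResidueField).comp (algebraMap R₁ R) := by
    ext r
    simp [ι]
  have hcomp : (MvPolynomial.map ι).comp (psi (n := n) p₁) = (psi p).comp μ := by
    refine RingHom.ext fun a => ?_
    simp only [psi, μ, RingHom.comp_apply, MvPolynomial.map_map, hι]
  let Q₁ : Ideal (MvPolynomial (Fin n) p₁.ResidueField) := Q.comap (MvPolynomial.map ι)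
  haveI : Q₁.IsPrime := Ideal.comap_isPrime _ Q
  have hQ₁ : q₁' = Q₁.comap (psi p₁) := by
    simp only [Q₁, q₁', Ideal.comap_comap, hcomp]
    rw [← Ideal.comap_comap, ← hQ]
  have hflat : (MvPolynomial.map (σ := Fin n) ι).Flat := by
    apply flat_ringHom_mvPolynomial_map
    letI := ι.toAlgebra
    show Module.Flat p₁.ResidueField p.ResidueField
    infer_instance
  have hlist : ((F₁.map (psi p₁)).map (MvPolynomial.map ι)) = (F₁.map μ).map (psi p) := by
    rw [List.map_map, List.map_map]
    refine List.map_congr_left fun a _ => ?_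
    exact RingHom.congr_fun hcomp a
  have h1 : IsWeaklyRegular (Localization.AtPrime Q₁)
      ((F₁.map (psi p₁)).map (algebraMap _ (Localization.AtPrime Q₁))) := by
    apply isWeaklyRegular_localization_of_flat (MvPolynomial.map ι) hflat Q Q₁ rfl
    rw [hlist]
    exact h
  have h2 := isWeaklyRegular_quotient_of_fibre q₁' p₁ hp₁ Q₁ hQ₁ F₁ h1
  exact transRegAt_of_noetherian q₁' p₁ hp₁ F₁ h2

/-- Fibre criterion with Noetherian approximation `R₁ → R`. -/
theorem transRegAt_of_fibre_of_noetherian {R₁ R : Type u} [CommRing R₁] [CommRing R]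
    [Algebra R₁ R] [IsNoetherianRing R₁] {n : ℕ}
    (q' : Ideal (MvPolynomial (Fin n) R)) [q'.IsPrime] (p : Ideal R) [p.IsPrime]
    (hp : p = q'.comap (C : R →+* MvPolynomial (Fin n) R))
    (Q : Ideal (MvPolynomial (Fin n) p.ResidueField)) [Q.IsPrime] (hQ : q' = Q.comap (psi p))
    (F₁ : List (MvPolynomial (Fin n) R₁))
    (h : IsWeaklyRegular (Localization.AtPrime Q)
      (((F₁.map (MvPolynomial.map (algebraMap R₁ R))).map (psi p)).map
        (algebraMap _ (Localization.AtPrime Q)))) :
    TransRegAt R (F₁.map (MvPolynomial.map (algebraMap R₁ R))) q' := by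
  haveI : (q'.comap (MvPolynomial.map (algebraMap R₁ R))).IsPrime := Ideal.comap_isPrime _ q'
  exact transRegAt_ascent q' _ rfl F₁ (transRegAt_noetherian_of_fibre q' p hp Q hQ F₁ h)

end Groth.Agent.Lib.Helper94.SyntE
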