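import Mathlib
import Groth.Prelude.Def_RegImm
import Groth.Agent.Lib.Helper94.CILoc
import Groth.Agent.Lib.Helper94.SyntE

/-!
# Syntomic cluster, part F: relative global complete intersections are transversally regular
-/

set_option autoImplicit false
universe u

namespace Groth.Agent.Lib.Helper94.SyntF

open RingTheory.Sequence Ideal MvPolynomial TensorProduct
open Groth.Agent.Lib.Helper94.SyntB Groth.Agent.Lib.Helper94.SyntC

/-- Coefficient subring. -/
theorem exists_subalgebra (R : Type u) [CommRing R] {n c : ℕ} (F : Fin c → MvPolynomial (Fin n) R)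
    (t : Set R) (ht : t.Finite) :
    ∃ (R₀ : Subalgebra ℤ R) (F₀ : Fin c → MvPolynomial (Fin n) R₀), Algebra.FiniteType ℤ R₀ ∧
      t ⊆ R₀ ∧ ∀ i, MvPolynomial.map (algebraMap R₀ R) (F₀ i) = F i := by
  classical
  let s : Set R := t ∪ ⋃ i, ((F i).coeffs : Set R)
  have hs : s.Finite := ht.union (Set.finite_iUnion fun i => (F i).coeffs.finite_toSet)
  let R₀ : Subalgebra ℤ R := Algebra.adjoin ℤ s
  have hF : ∀ i, F i ∈ Set.range (MvPolynomial.map (σ := Fin n) (algebraMap R₀ R)) := by
    intro i
    rw [MvPolynomial.mem_range_map_iff_coeffs_subset]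
    intro x hx
    have : x ∈ R₀ := Algebra.subset_adjoin (Or.inr (Set.mem_iUnion.mpr ⟨i, hx⟩))
    exact ⟨⟨x, this⟩, rfl⟩
  choose F₀ hF₀ using hF
  exact ⟨R₀, F₀, .adjoin_of_finite hs, fun x hx => Algebra.subset_adjoin (Or.inl hx), hF₀⟩

section Fibre

variable (R : Type u) [CommRing R] (n c : ℕ) (F : Fin c → MvPolynomial (Fin n) R)
  (p : Ideal R) [p.IsPrime]

/-- The fibre of a presented algebra is the presented algebra over the residue field. -/
noncomputable def fibreEquiv :
    p.Fiber (Synt.RelGCIRing R n c F) ≃ₐ[p.ResidueField]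
      MvPolynomial (Fin n) p.ResidueField ⧸ Ideal.span (Set.range fun i => psi p (F i)) :=
  (Algebra.TensorProduct.tensorQuotientEquiv (R := R) p.ResidueField (MvPolynomial (Fin n) R)
    p.ResidueField (Ideal.span (Set.range F))).trans
  (Ideal.quotientEquivAlg _ _ (MvPolynomial.algebraTensorAlgEquiv R p.ResidueField) (by
    rw [← Ideal.map_coe (Algebra.TensorProduct.includeRight), Ideal.map_map, Ideal.map_span,
      ← Set.range_comp]
    congr 2
    ext i : 1
    simp [psi]))

end Fibre

section B4

variable {k : Type u} [Field k] {n c : ℕ} (r : Fin c → MvPolynomial (Fin n) k)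

theorem isRegular_aux {S : Type u} [CommRing S] [Algebra k S]
    (φ : MvPolynomial (Fin n) k →ₐ[k] S) (hφ : Function.Surjective φ)
    (hker : RingHom.ker φ.toRingHom = Ideal.span (Set.range r)) (hc : c ≤ n)
    (hdim : ringKrullDim S = ((n - c : ℕ) : WithBot ℕ∞)) (q : Ideal S) [q.IsPrime]
    (Q : Ideal (MvPolynomial (Fin n) k)) [Q.IsPrime] (hQ : Q = q.comap φ.toRingHom) :
    IsRegular (Localization.AtPrime Q)
      (List.ofFn fun i => algebraMap _ (Localization.AtPrime Q) (r i)) := by
  subst hQ
  have hc' := Groth.Agent.Lib.Helper94.CIDim.gci_height_eq φ hφ c r hker hc hdim q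
  refine Groth.Agent.Lib.Helper94.CILoc.isRegular_ofFn_of_span_eq φ hφ q c hc' _ ?_
  rw [hker, Ideal.map_span, ← Set.range_comp]
  rfl

/-- B4: the relations of a global complete intersection form a regular sequence at every prime
containing them. -/
theorem isRegular_of_dim (hc : c ≤ n)
    (hdim : ringKrullDim (MvPolynomial (Fin n) k ⧸ Ideal.span (Set.range r)) =
      ((n - c : ℕ) : WithBot ℕ∞))
    (Q : Ideal (MvPolynomial (Fin n) k)) [Q.IsPrime] (hQ : Ideal.span (Set.range r) ≤ Q) :
    IsRegular (Localization.AtPrime Q)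
      (List.ofFn fun i => algebraMap _ (Localization.AtPrime Q) (r i)) := by
  let φ : MvPolynomial (Fin n) k →ₐ[k] (MvPolynomial (Fin n) k ⧸ Ideal.span (Set.range r)) :=
    Ideal.Quotient.mkₐ k _
  have hφ : Function.Surjective φ := Ideal.Quotient.mkₐ_surjective k _
  have hker : RingHom.ker φ.toRingHom = Ideal.span (Set.range r) := Ideal.mk_ker
  have hker' : RingHom.ker φ.toRingHom ≤ Q := hker.le.trans hQ
  haveI : (Q.map φ.toRingHom).IsPrime := Ideal.map_isPrime_of_surjective hφ hker'
  have hcm : Q = (Q.map φ.toRingHom).comap φ.toRingHom := by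
    have hφ' : Function.Surjective φ.toRingHom := hφ
    rw [Ideal.comap_map_of_surjective φ.toRingHom hφ', left_eq_sup]
    rw [← RingHom.ker_eq_comap_bot]
    exact hker'
  exact isRegular_aux r φ hφ hker hc hdim (Q.map φ.toRingHom) Q hcm

end B4

section Core

variable (R : Type u) [CommRing R] (n c : ℕ) (F : Fin c → MvPolynomial (Fin n) R)

/-- data at a prime `q'` of the polynomial ring containing the relations, given the dimension of
the fibre over the prime below. -/
theorem fibre_data' (q' : Ideal (MvPolynomial (Fin n) R)) [q'.IsPrime]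
    (hq' : Ideal.span (Set.range F) ≤ q') (p : Ideal R) [p.IsPrime]
    (hc : c ≤ n) (hdim : ringKrullDim (p.Fiber (Synt.RelGCIRing R n c F)) =
      ((n - c : ℕ) : WithBot ℕ∞))
    (Q : Ideal (MvPolynomial (Fin n) p.ResidueField)) [Q.IsPrime] (hQ : q' = Q.comap (psi p)) :
    IsRegular (Localization.AtPrime Q)
      (List.ofFn fun i => algebraMap _ (Localization.AtPrime Q) (psi p (F i))) := by
  have hle : Ideal.span (Set.range fun i => psi p (F i)) ≤ Q := by
    rw [Ideal.span_le]
    rintro _ ⟨i, rfl⟩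
    have : F i ∈ q' := hq' (Ideal.subset_span ⟨i, rfl⟩)
    rw [hQ] at this
    exact this
  have hdim' : ringKrullDim (MvPolynomial (Fin n) p.ResidueField ⧸
      Ideal.span (Set.range fun i => psi p (F i))) = ((n - c : ℕ) : WithBot ℕ∞) := by
    rw [← hdim]
    exact (ringKrullDim_eq_of_ringEquiv (fibreEquiv R n c F p).toRingEquiv).symm
  exact isRegular_of_dim (fun i => psi p (F i)) hc hdim' Q hle

/-- data at a prime `q'` of the polynomial ring containing the relations -/
theorem fibre_data (h : Synt.IsRelGCI R n c F) (q' : Ideal (MvPolynomial (Fin n) R)) [q'.IsPrime]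
    (hq' : Ideal.span (Set.range F) ≤ q') (p : Ideal R) [p.IsPrime]
    (Q : Ideal (MvPolynomial (Fin n) p.ResidueField)) [Q.IsPrime] (hQ : q' = Q.comap (psi p)) :
    c ≤ n ∧ IsRegular (Localization.AtPrime Q)
      (List.ofFn fun i => algebraMap _ (Localization.AtPrime Q) (psi p (F i))) := by
  have hle : Ideal.span (Set.range fun i => psi p (F i)) ≤ Q := by
    rw [Ideal.span_le]
    rintro _ ⟨i, rfl⟩
    have : F i ∈ q' := hq' (Ideal.subset_span ⟨i, rfl⟩)
    rw [hQ] at this
    exact this
  haveI : Nontrivial (MvPolynomial (Fin n) p.ResidueField ⧸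
      Ideal.span (Set.range fun i => psi p (F i))) := by
    rw [Ideal.Quotient.nontrivial_iff]
    rintro h1
    exact (inferInstance : Q.IsPrime).ne_top (top_le_iff.mp (h1 ▸ hle))
  have hnt : Nontrivial (p.Fiber (Synt.RelGCIRing R n c F)) :=
    (fibreEquiv R n c F p).toEquiv.nontrivial
  obtain ⟨hc, hdim⟩ := h ⟨p, inferInstance⟩ hnt
  exact ⟨hc, fibre_data' R n c F q' hq' p hc hdim Q hQ⟩

/-- (E1) regularity on the fibre implies transversal regularity, over any base ring. -/
theorem transRegAt_of_fibre (q' : Ideal (MvPolynomial (Fin n) R)) [q'.IsPrime]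
    (p : Ideal R) [p.IsPrime] (hp : p = q'.comap (C : R →+* MvPolynomial (Fin n) R))
    (Q : Ideal (MvPolynomial (Fin n) p.ResidueField)) [Q.IsPrime] (hQ : q' = Q.comap (psi p))
    (hreg : IsWeaklyRegular (Localization.AtPrime Q)
      (List.ofFn fun i => algebraMap _ (Localization.AtPrime Q) (psi p (F i)))) :
    TransRegAt R (List.ofFn F) q' := by
  obtain ⟨R₀, F₀, hFT, -, hF₀⟩ := exists_subalgebra R F ∅ Set.finite_empty
  haveI : IsNoetherianRing R₀ := Algebra.FiniteType.isNoetherianRing ℤ R₀
  have hlist : (List.ofFn F₀).map (MvPolynomial.map (algebraMap R₀ R)) = List.ofFn F := by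
    rw [List.map_ofFn]
    congr 1
    funext i
    exact hF₀ i
  rw [← hlist]
  apply Groth.Agent.Lib.Helper94.SyntE.transRegAt_of_fibre_of_noetherian q' p hp Q hQ
  rw [hlist, List.map_ofFn, List.map_ofFn]
  exact hreg

/-- transversal regularity at primes over `p` when the fibre over `p` has dimension `n - c`. -/
theorem transRegAt_of_fibre_dim (q' : Ideal (MvPolynomial (Fin n) R)) [q'.IsPrime]
    (hq' : Ideal.span (Set.range F) ≤ q') (p : Ideal R) [p.IsPrime]
    (hp : p = q'.comap (C : R →+* MvPolynomial (Fin n) R))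
    (hc : c ≤ n) (hdim : ringKrullDim (p.Fiber (Synt.RelGCIRing R n c F)) =
      ((n - c : ℕ) : WithBot ℕ∞)) : TransRegAt R (List.ofFn F) q' := by
  obtain ⟨Q, hQp, hQ⟩ := exists_prime_fibre q' p hp
  haveI := hQp
  exact transRegAt_of_fibre R n c F q' p hp Q hQ
    (fibre_data' R n c F q' hq' p hc hdim Q hQ).toIsWeaklyRegular

/-- **Core theorem**: a relative global complete intersection is transversally regular at every
prime of the polynomial ring containing the relations. -/
theorem transRegAt_of_isRelGCI (h : Synt.IsRelGCI R n c F)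
    (q' : Ideal (MvPolynomial (Fin n) R)) [q'.IsPrime]
    (hq' : Ideal.span (Set.range F) ≤ q') : c ≤ n ∧ TransRegAt R (List.ofFn F) q' := by
  let p : Ideal R := q'.comap (C : R →+* MvPolynomial (Fin n) R)
  haveI : p.IsPrime := Ideal.comap_isPrime _ q'
  obtain ⟨Q, hQp, hQ⟩ := exists_prime_fibre q' p rfl
  haveI := hQp
  obtain ⟨hc, hreg⟩ := fibre_data R n c F h q' hq' p Q hQ
  exact ⟨hc, transRegAt_of_fibre R n c F q' p rfl Q hQ hreg.toIsWeaklyRegular⟩

end Core

end Groth.Agent.Lib.Helper94.SyntF
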