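import Groth.Agent.Lib.Helper94.CILoc

/-!
# Complete intersections over a field: main equivalences (helper94)
-/

set_option autoImplicit false

namespace Groth.Agent.Lib.Helper94.CIMain

open IsLocalRing Groth.Agent.Lib.Helper94.CILocal Groth.Agent.Lib.Helper94.CIDim
  Groth.Agent.Lib.Helper94.CIPres Groth.Agent.Lib.Helper94.CILoc

universe u

section

variable {k : Type u} [Field k]

/-- L2: `IsCIOver` is invariant under isomorphism. -/
theorem isCIOver_of_algEquiv {T T' : Type u} [CommRing T] [CommRing T'] [IsLocalRing T]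
    [IsLocalRing T'] [Algebra k T] [Algebra k T'] (e : T ≃ₐ[k] T') (h : Synt.IsCIOver k T) :
    Synt.IsCIOver k T' := by
  obtain ⟨R, i1, i2, i3, hE, rs, hrs, hreg, ⟨e'⟩⟩ := h
  exact ⟨R, i1, i2, i3, hE, rs, hrs, hreg, ⟨e.symm.trans e'⟩⟩

/-- L1: for a surjection `π : R → T` from a regular local ring essentially of finite type,
`T` is a complete intersection over `k` iff `ker π` is generated by a regular sequence. -/
theorem isCIOver_iff_isRegularIdeal_ker {R T : Type u} [CommRing R] [CommRing T] [IsLocalRing T]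
    [IsRegularLocalRing R] [Algebra k R] [Algebra k T] [Algebra.EssFiniteType k R]
    (π : R →ₐ[k] T) (hπ : Function.Surjective π) :
    Synt.IsCIOver k T ↔ CInt.IsRegularIdeal (RingHom.ker π.toRingHom) := by
  constructor
  · rintro ⟨R₀, i1, i2, i3, hE, rs, hrs, hreg, ⟨e⟩⟩
    let π₀ : R₀ →ₐ[k] T := e.symm.toAlgHom.comp (Ideal.Quotient.mkₐ k (Ideal.ofList rs))
    have hπ₀ : Function.Surjective π₀ :=
      e.symm.surjective.comp (Ideal.Quotient.mkₐ_surjective k _)
    have hker : RingHom.ker π₀.toRingHom = Ideal.ofList rs := by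
      ext x
      simp only [RingHom.mem_ker]
      change e.symm (Ideal.Quotient.mk _ x) = 0 ↔ _
      rw [EmbeddingLike.map_eq_zero_iff, Ideal.Quotient.eq_zero_iff_mem]
    have h0 : CInt.IsRegularIdeal (RingHom.ker π₀.toRingHom) := ⟨rs, hreg, hker.symm⟩
    exact (Groth.Agent.Lib.Helper94.CIInd.isRegularIdeal_ker_iff π₀ π hπ₀ hπ).mp h0
  · rintro ⟨rs, hreg, hrs⟩
    have hKm : RingHom.ker π.toRingHom ≤ maximalIdeal R := le_maximalIdeal (RingHom.ker_ne_top _)
    refine ⟨R, inferInstance, inferInstance, inferInstance, inferInstance, rs, ?_, hreg, ⟨?_⟩⟩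
    · intro r hr
      apply hKm
      rw [← hrs]
      exact Ideal.subset_span hr
    · exact (Ideal.quotientKerAlgEquivOfSurjective hπ).symm.trans
        (Ideal.quotientEquivAlgOfEq k hrs.symm)

end

section FT

variable {k : Type u} [Field k] {n : ℕ} {S : Type u} [CommRing S] [Algebra k S]
  (φ : MvPolynomial (Fin n) k →ₐ[k] S) (hφ : Function.Surjective φ)

include hφ

/-- L3 -/
theorem exists_isGlobalCI_away_of_isRegularIdeal (q : Ideal S) [q.IsPrime]
    (h : CInt.IsRegularIdeal ((RingHom.ker φ.toRingHom).map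
        (algebraMap _ (Localization.AtPrime (q.comap φ.toRingHom))))) :
    ∃ g : S, g ∉ q ∧ Synt.IsGlobalCI k (Localization.Away g) := by
  classical
  have hφ' : Function.Surjective φ.toRingHom := hφ
  have hFT : Algebra.FiniteType k S := finiteType_of_surjective φ hφ
  have hN : IsNoetherianRing S := Algebra.FiniteType.isNoetherianRing k S
  have hKm := map_ker_le_maximalIdeal φ.toRingHom hφ' _ q rfl
  have h' := h
  rw [isRegularIdeal_iff_dim _ _ hKm, ringKrullDim_quotient_map_ker φ.toRingHom hφ' _ q rfl,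
    IsLocalization.AtPrime.ringKrullDim_eq_height (q.comap φ.toRingHom)] at h'
  obtain ⟨a₀, ha₀⟩ := ENat.ne_top_iff_exists.mp (Ideal.height_ne_top_of_isPrime (I := q))
  obtain ⟨b₀, hb₀⟩ := ENat.ne_top_iff_exists.mp
    (Ideal.height_ne_top_of_isPrime (I := q.comap φ.toRingHom))
  set c := Submodule.spanFinrank ((RingHom.ker φ.toRingHom).map
        (algebraMap _ (Localization.AtPrime (q.comap φ.toRingHom)))) with hcdef
  have hc : (c : ℕ∞) + q.height = (q.comap φ.toRingHom).height := by
    rw [← ha₀, ← hb₀] at h' ⊢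
    have : a₀ + c = b₀ := by exact_mod_cast h'
    have : c + a₀ = b₀ := by omega
    exact_mod_cast this
  obtain ⟨s, hs, hspan⟩ := (isRegularIdeal_iff_exists_finset φ hφ q c hc).mp h
  exact exists_isGlobalCI_away φ hφ q c hc s hs hspan

/-- L4 -/
theorem isCIOver_atPrime_iff (q : Ideal S) [q.IsPrime] :
    Synt.IsCIOver k (Localization.AtPrime q) ↔
      ∃ g : S, g ∉ q ∧ Synt.IsGlobalCI k (Localization.Away g) := by
  rw [isCIOver_iff_isRegularIdeal_ker (stdHom φ q) (stdHom_surjective φ hφ q), ker_stdHom φ hφ]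
  constructor
  · exact exists_isGlobalCI_away_of_isRegularIdeal φ hφ q
  · rintro ⟨g, hg, hGCI⟩
    exact isRegularIdeal_of_isGlobalCI_away φ hφ q g hg hGCI

end FT

section

variable {k : Type u} [Field k] {S : Type u} [CommRing S] [Algebra k S]

/-- L6 -/
theorem isLCIOver_of_isGlobalCI [Algebra.FiniteType k S] (h : Synt.IsGlobalCI k S) :
    Synt.IsLCIOver k S :=
  ⟨inferInstance, fun p => ⟨1, fun h1 => p.2.ne_top ((Ideal.eq_top_iff_one _).mpr h1),
    isGlobalCI_away 1 h⟩⟩

/-- L5 -/
theorem exists_isGlobalCI_away_of_isLCIOver_away (q : Ideal S) [q.IsPrime] (g : S) (hg : g ∉ q)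
    (h : Synt.IsLCIOver k (Localization.Away g)) :
    ∃ g' : S, g' ∉ q ∧ Synt.IsGlobalCI k (Localization.Away g') := by
  have hP := isPrime_map_away g q hg
  obtain ⟨h₀, hh₀, hGCI⟩ := h.2 ⟨q.map (algebraMap S (Localization.Away g)), hP⟩
  obtain ⟨⟨s, ⟨_, j, rfl⟩⟩, hs⟩ := IsLocalization.surj (Submonoid.powers g) h₀
  simp only at hs
  -- hs : h₀ * algebraMap (g^j) = algebraMap s
  have hu : IsUnit (algebraMap S (Localization.Away g) (g ^ j)) := by
    rw [map_pow]
    exact (IsLocalization.Away.algebraMap_isUnit g).pow j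
  have hassoc : Associated (algebraMap S (Localization.Away g) s) h₀ := by
    refine ⟨hu.unit⁻¹, ?_⟩
    rw [← hs, mul_assoc, IsUnit.mul_val_inv, mul_one]
  have hsq : s ∉ q := by
    intro hmem
    apply hh₀
    change h₀ ∈ q.map (algebraMap S (Localization.Away g))
    have : h₀ = algebraMap S (Localization.Away g) s * ↑hu.unit⁻¹ := by
      rw [← hs, mul_assoc, IsUnit.mul_val_inv, mul_one]
    rw [this]
    exact Ideal.mul_mem_right _ _ (Ideal.mem_map_of_mem _ hmem)
  refine ⟨g * s, fun hmem => (Ideal.IsPrime.mem_or_mem inferInstance hmem).elim hg hsq, ?_⟩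
  have i1 : IsLocalization.Away (g * s) (Localization.Away h₀) :=
    IsLocalization.Away.mul_of_associated g s h₀ hassoc
  let e : Localization.Away h₀ ≃ₐ[S] Localization.Away (g * s) :=
    IsLocalization.algEquiv (Submonoid.powers (g * s)) _ _
  exact isGlobalCI_of_algEquiv (e.restrictScalars k) hGCI

end


section Final

variable (k S : Type u) [Field k] [CommRing S] [Algebra k S] [Algebra.FiniteType k S]

theorem isCIOver_atPrime_iff_exists_isGlobalCI (q : Ideal S) [q.IsPrime] :
    Synt.IsCIOver k (Localization.AtPrime q) ↔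
      ∃ g : S, g ∉ q ∧ Synt.IsGlobalCI k (Localization.Away g) := by
  obtain ⟨n, φ, hφ⟩ := Algebra.FiniteType.iff_quotient_mvPolynomial''.mp
    (inferInstance : Algebra.FiniteType k S)
  exact isCIOver_atPrime_iff φ hφ q

theorem isCIOver_atPrime_iff_exists_isLCIOver (q : Ideal S) [q.IsPrime] :
    Synt.IsCIOver k (Localization.AtPrime q) ↔
      ∃ g : S, g ∉ q ∧ Synt.IsLCIOver k (Localization.Away g) := by
  rw [isCIOver_atPrime_iff_exists_isGlobalCI]
  constructor
  · rintro ⟨g, hg, h⟩
    exact ⟨g, hg, isLCIOver_of_isGlobalCI h⟩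
  · rintro ⟨g, hg, h⟩
    exact exists_isGlobalCI_away_of_isLCIOver_away q g hg h

theorem isLCIOver_iff_forall_prime :
    Synt.IsLCIOver k S ↔ ∀ p : PrimeSpectrum S, Synt.IsCIOver k (Localization.AtPrime p.asIdeal) := by
  constructor
  · intro h p
    rw [isCIOver_atPrime_iff_exists_isGlobalCI]
    exact h.2 p
  · intro h
    refine ⟨inferInstance, fun p => ?_⟩
    exact (isCIOver_atPrime_iff_exists_isGlobalCI k S p.asIdeal).mp (h p)

theorem isLCIOver_iff_forall_maximal :
    Synt.IsLCIOver k S ↔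
      ∀ m : MaximalSpectrum S, Synt.IsCIOver k (Localization.AtPrime m.asIdeal) := by
  constructor
  · intro h m
    exact (isLCIOver_iff_forall_prime k S).mp h ⟨m.asIdeal, m.isMaximal.isPrime⟩
  · intro h
    refine ⟨inferInstance, fun p => ?_⟩
    obtain ⟨m, hm, hle⟩ := Ideal.exists_le_maximal p.asIdeal p.2.ne_top
    obtain ⟨g, hg, hGCI⟩ := (isCIOver_atPrime_iff_exists_isGlobalCI k S m).mp (h ⟨m, hm⟩)
    exact ⟨g, fun hmem => hg (hle hmem), hGCI⟩

end Final

end Groth.Agent.Lib.Helper94.CIMain
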