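import Mathlib
import Groth.Prelude.Def_RegImm
import Groth.Agent.Lib.Helper94.CIField
import Groth.Agent.Lib.Helper94.CIMain
import Groth.Agent.Lib.Helper94.SyntF

/-!
# Syntomic cluster, part H: relative global complete intersections are syntomic
-/

set_option autoImplicit false
universe u

namespace Groth.Agent.Lib.Helper94.SyntH

open RingTheory.Sequence Ideal MvPolynomial TensorProduct
open Groth.Agent.Lib.Helper94.SyntB Groth.Agent.Lib.Helper94.SyntC

/-- scalar tower for quotient of a localization -/
instance isScalarTower_quot (A P B : Type*) [CommRing A] [CommRing P] [CommRing B] [Algebra A P]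
    [Algebra P B] [Algebra A B] [IsScalarTower A P B] (I : Ideal P) :
    IsScalarTower A (P ⧸ I) (B ⧸ I.map (algebraMap P B)) := by
  refine IsScalarTower.of_algebraMap_eq fun x => ?_
  rw [IsScalarTower.algebraMap_apply A P (P ⧸ I),
    IsScalarTower.algebraMap_apply A B (B ⧸ I.map (algebraMap P B)),
    IsScalarTower.algebraMap_apply A P B]
  rfl

/-- Flatness of a quotient can be checked on the local rings of the ambient ring. -/
theorem flat_quotient_of_local (A P : Type u) [CommRing A] [CommRing P] [Algebra A P] (I : Ideal P)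
    (H : ∀ (m : Ideal P) [m.IsMaximal], I ≤ m →
      Module.Flat A (Localization.AtPrime m ⧸ I.map (algebraMap P (Localization.AtPrime m)))) :
    Module.Flat A (P ⧸ I) := by
  apply Module.flat_of_isLocalized_maximal (P ⧸ I) (P ⧸ I) (fun M _ => Localization.AtPrime M)
    (fun M _ => Algebra.linearMap (P ⧸ I) (Localization.AtPrime M))
  intro M hM
  let m : Ideal P := M.comap (Ideal.Quotient.mk I)
  haveI : m.IsMaximal := Ideal.comap_isMaximal_of_surjective _ Ideal.Quotient.mk_surjective
  have hIm : I ≤ m := by
    intro x hx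
    show Ideal.Quotient.mk I x ∈ M
    rw [Ideal.Quotient.eq_zero_iff_mem.mpr hx]
    exact M.zero_mem
  haveI := H m hIm
  haveI : IsLocalization.AtPrime
      (Localization.AtPrime m ⧸ I.map (algebraMap P (Localization.AtPrime m))) M :=
    Groth.Agent.Lib.Helper94.CIField.isLocalization_quotient_atPrime I M (Localization.AtPrime m)
  let e : (Localization.AtPrime m ⧸ I.map (algebraMap P (Localization.AtPrime m))) ≃ₐ[P ⧸ I]
      Localization.AtPrime M := IsLocalization.algEquiv M.primeCompl _ _
  exact Module.Flat.of_linearEquiv (e.symm.toLinearEquiv.restrictScalars A)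

section Main

variable (R : Type u) [CommRing R] (n c : ℕ) (F : Fin c → MvPolynomial (Fin n) R)

theorem flat_of_isRelGCI (h : Synt.IsRelGCI R n c F) :
    Module.Flat R (Synt.RelGCIRing R n c F) := by
  apply flat_quotient_of_local
  intro m hm hIm
  have h1 := (Groth.Agent.Lib.Helper94.SyntF.transRegAt_of_isRelGCI R n c F h m hIm).2.2 c
    (by rw [List.length_ofFn])
  have h2 : (List.ofFn F).take c = List.ofFn F :=
    List.take_of_length_le (by rw [List.length_ofFn])
  rw [h2, ← Ideal.map_ofList, Groth.Agent.Lib.Helper94.CIField.ofList_ofFn] at h1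
  exact h1

/-- The fibres of a relative global complete intersection are global complete intersections. -/
theorem isGlobalCI_fibre (h : Synt.IsRelGCI R n c F) (p : Ideal R) [p.IsPrime] :
    Synt.IsGlobalCI p.ResidueField (p.Fiber (Synt.RelGCIRing R n c F)) := by
  by_cases hnt : Nontrivial (p.Fiber (Synt.RelGCIRing R n c F))
  · obtain ⟨hc, hdim⟩ := h ⟨p, inferInstance⟩ hnt
    right
    let e := Groth.Agent.Lib.Helper94.SyntF.fibreEquiv R n c F p
    refine ⟨n, c, hc, e.symm.toAlgHom.comp (Ideal.Quotient.mkₐ p.ResidueField _),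
      fun i => psi p (F i), ?_, ?_, hdim⟩
    · exact e.symm.surjective.comp (Ideal.Quotient.mkₐ_surjective p.ResidueField _)
    · ext x
      simp only [RingHom.mem_ker]
      show e.symm (Ideal.Quotient.mk _ x) = 0 ↔ _
      rw [map_eq_zero_iff _ e.symm.injective, Ideal.Quotient.eq_zero_iff_mem]
  · left
    exact not_nontrivial_iff_subsingleton.mp hnt

theorem isSyntomic_of_isRelGCI (h : Synt.IsRelGCI R n c F) :
    Synt.IsSyntomic R (Synt.RelGCIRing R n c F) := by
  refine ⟨flat_of_isRelGCI R n c F h, ?_, fun p => ?_⟩
  · exact Algebra.FinitePresentation.quotient (Submodule.fg_span (Set.finite_range F))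
  · exact Groth.Agent.Lib.Helper94.CIMain.isLCIOver_of_isGlobalCI
      (isGlobalCI_fibre R n c F h p.asIdeal)

end Main

end Groth.Agent.Lib.Helper94.SyntH
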