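import Groth.Agent.Lib.Helper94.CIMain

/-!
# Complete intersections over a field: essentially of finite type local algebras (helper94)
-/

set_option autoImplicit false

namespace Groth.Agent.Lib.Helper94.CIMain

open IsLocalRing Groth.Agent.Lib.Helper94.CILocal Groth.Agent.Lib.Helper94.CIDim
  Groth.Agent.Lib.Helper94.CIPres Groth.Agent.Lib.Helper94.CILoc

universe u

section Ess

variable (k S : Type u) [Field k] [CommRing S] [Algebra k S]
  [Algebra.EssFiniteType k S]

/-- L7: an essentially surjective map from a polynomial ring. -/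
theorem exists_ess_surj : ∃ (n : ℕ) (ψ : MvPolynomial (Fin n) k →ₐ[k] S),
    ∀ r : S, ∃ a b : MvPolynomial (Fin n) k, IsUnit (ψ b) ∧ r * ψ b = ψ a := by
  classical
  obtain ⟨σ, hσ⟩ := (Algebra.essFiniteType_iff k S).mp inferInstance
  refine ⟨σ.card, MvPolynomial.aeval (fun i => (σ.equivFin.symm i : S)), ?_⟩
  refine Groth.Agent.Lib.Helper94.CIInd.ess_surj σ hσ _ fun s hs => ?_
  exact ⟨MvPolynomial.X (σ.equivFin ⟨s, hs⟩), by simp⟩

variable [IsLocalRing S]

/-- existence of a regular local presentation -/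
theorem exists_regular_presentation :
    ∃ (R : Type u) (_ : CommRing R) (_ : IsRegularLocalRing R) (_ : Algebra k R),
      Algebra.EssFiniteType k R ∧ ∃ π : R →ₐ[k] S, Function.Surjective π := by
  obtain ⟨n, ψ, hψ⟩ := exists_ess_surj k S
  have hp : ((maximalIdeal S).comap ψ.toRingHom).IsPrime := Ideal.comap_isPrime _ _
  obtain ⟨ρ, hρ, -⟩ := Groth.Agent.Lib.Helper94.CIInd.exists_algHom_localization ψ
    ((maximalIdeal S).comap ψ.toRingHom) rfl hψ
  exact ⟨Localization.AtPrime ((maximalIdeal S).comap ψ.toRingHom), inferInstance, inferInstance,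
    inferInstance, inferInstance, ρ, hρ⟩

/-- L8: `S` is the localization of a finite type algebra at a prime. -/
theorem exists_algEquiv_localization_atPrime :
    ∃ (n : ℕ) (I : Ideal (MvPolynomial (Fin n) k)) (q : Ideal (MvPolynomial (Fin n) k ⧸ I))
      (_ : q.IsPrime), Nonempty (S ≃ₐ[k] Localization.AtPrime q) := by
  obtain ⟨n, ψ, hψ⟩ := exists_ess_surj k S
  let I := RingHom.ker ψ.toRingHom
  let ψb : (MvPolynomial (Fin n) k ⧸ I) →ₐ[k] S := Ideal.kerLiftAlg ψ
  have hinj : Function.Injective ψb := Ideal.kerLiftAlg_injective ψ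
  have hψb : ∀ x, ψb (Ideal.Quotient.mk I x) = ψ x := fun x => rfl
  let q : Ideal (MvPolynomial (Fin n) k ⧸ I) := (maximalIdeal S).comap ψb.toRingHom
  have hq : q.IsPrime := Ideal.comap_isPrime _ _
  letI : Algebra (MvPolynomial (Fin n) k ⧸ I) S := ψb.toRingHom.toAlgebra
  have halg : ∀ x, algebraMap (MvPolynomial (Fin n) k ⧸ I) S x = ψb x := fun x => rfl
  haveI : IsScalarTower k (MvPolynomial (Fin n) k ⧸ I) S := IsScalarTower.of_algHom ψb
  have hloc : IsLocalization q.primeCompl S := by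
    refine ⟨⟨?_, ?_, ?_⟩⟩
    · intro y
      have hy : (y : MvPolynomial (Fin n) k ⧸ I) ∉ q := y.2
      rw [halg]
      by_contra h
      exact hy (Ideal.mem_comap.mpr ((mem_maximalIdeal _).mpr h))
    · intro z
      obtain ⟨a, b, hb, hab⟩ := hψ z
      have hbq : Ideal.Quotient.mk I b ∈ q.primeCompl := by
        change Ideal.Quotient.mk I b ∉ q
        intro h
        have h2 : ψb (Ideal.Quotient.mk I b) ∈ maximalIdeal S := h
        rw [hψb] at h2
        exact (mem_maximalIdeal _).mp h2 hb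
      refine ⟨(Ideal.Quotient.mk I a, ⟨Ideal.Quotient.mk I b, hbq⟩), ?_⟩
      simp only [halg, hψb]
      exact hab
    · intro x y hxy
      rw [halg, halg] at hxy
      exact ⟨1, by rw [hinj hxy]⟩
  exact ⟨n, I, q, hq, ⟨(IsLocalization.algEquiv q.primeCompl S
    (Localization.AtPrime q)).restrictScalars k⟩⟩

/-- Stacks 10.135.8 (1) ⇔ (2) -/
theorem isCIOver_iff_forall :
    Synt.IsCIOver k S ↔
      ∀ (R : Type u) [CommRing R] [IsRegularLocalRing R] [Algebra k R], Algebra.EssFiniteType k R →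
        ∀ π : R →ₐ[k] S, Function.Surjective π →
          ∃ rs : List R, RingTheory.Sequence.IsRegular R rs ∧
            RingHom.ker π.toRingHom = Ideal.ofList rs := by
  constructor
  · intro h R _ _ _ hE π hπ
    obtain ⟨rs, hreg, hrs⟩ := (isCIOver_iff_isRegularIdeal_ker π hπ).mp h
    exact ⟨rs, hreg, hrs.symm⟩
  · intro h
    obtain ⟨R, i1, i2, i3, hE, π, hπ⟩ := exists_regular_presentation k S
    obtain ⟨rs, hreg, hrs⟩ := h R hE π hπ
    exact (isCIOver_iff_isRegularIdeal_ker π hπ).mpr ⟨rs, hreg, hrs.symm⟩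

/-- Stacks 10.135.8 (1) ⇔ (3) -/
theorem isCIOver_iff_exists_dim :
    Synt.IsCIOver k S ↔
      ∃ (R : Type u) (_ : CommRing R) (_ : IsRegularLocalRing R) (_ : Algebra k R),
        Algebra.EssFiniteType k R ∧ ∃ π : R →ₐ[k] S, Function.Surjective π ∧
          ∃ rs : List R, RingHom.ker π.toRingHom = Ideal.ofList rs ∧
            ringKrullDim R = ringKrullDim S + (rs.length : WithBot ℕ∞) := by
  constructor
  · rintro ⟨R₀, i1, i2, i3, hE, rs, hrs, hreg, ⟨e⟩⟩
    let π₀ : R₀ →ₐ[k] S := e.symm.toAlgHom.comp (Ideal.Quotient.mkₐ k (Ideal.ofList rs))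
    have hπ₀ : Function.Surjective π₀ :=
      e.symm.surjective.comp (Ideal.Quotient.mkₐ_surjective k _)
    have hker : RingHom.ker π₀.toRingHom = Ideal.ofList rs := by
      ext x
      simp only [RingHom.mem_ker]
      change e.symm (Ideal.Quotient.mk _ x) = 0 ↔ _
      rw [EmbeddingLike.map_eq_zero_iff, Ideal.Quotient.eq_zero_iff_mem]
    refine ⟨R₀, i1, i2, i3, hE, π₀, hπ₀, rs, hker, ?_⟩
    rw [← ringKrullDim_add_length_eq_ringKrullDim_of_isRegular rs hreg,
      ringKrullDim_eq_of_ringEquiv e.toRingEquiv]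
  · rintro ⟨R, i1, i2, i3, hE, π, hπ, rs, hker, hdim⟩
    rw [isCIOver_iff_isRegularIdeal_ker π hπ]
    have hKm : RingHom.ker π.toRingHom ≤ maximalIdeal R := le_maximalIdeal (RingHom.ker_ne_top _)
    refine ⟨rs, ?_, hker.symm⟩
    apply Groth.Agent.Lib.Helper94.CIField.isRegular_of_ringKrullDim_quotient
    · intro r hr
      apply hKm
      rw [hker]
      exact Ideal.subset_span hr
    · rw [hdim]
      congr 1
      rw [← hker]
      exact ringKrullDim_eq_of_ringEquiv (RingHom.quotientKerEquivOfSurjective hπ)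

/-- Stacks 10.135.8 (1) ⇔ (4) -/
theorem isCIOver_iff_exists_gci :
    Synt.IsCIOver k S ↔
      ∃ (A : Type u) (_ : CommRing A) (_ : Algebra k A) (a : Ideal A) (_ : a.IsPrime),
        Algebra.FiniteType k A ∧ Synt.IsGlobalCI k A ∧ Nonempty (S ≃ₐ[k] Localization.AtPrime a) := by
  constructor
  · intro h
    obtain ⟨n, I, q, hq, ⟨e⟩⟩ := exists_algEquiv_localization_atPrime k S
    have h1 : Synt.IsCIOver k (Localization.AtPrime q) := isCIOver_of_algEquiv e h
    obtain ⟨g, hg, hGCI⟩ := (isCIOver_atPrime_iff_exists_isGlobalCI k _ q).mp h1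
    have hP := isPrime_map_away g q hg
    exact ⟨Localization.Away g, inferInstance, inferInstance,
      q.map (algebraMap _ (Localization.Away g)), hP, inferInstance, hGCI,
      ⟨e.trans (atPrimeAwayEquiv g q hg)⟩⟩
  · rintro ⟨A, i1, i2, a, ha, hFT, hGCI, ⟨e⟩⟩
    have h1 : Synt.IsCIOver k (Localization.AtPrime a) :=
      (isCIOver_atPrime_iff_exists_isGlobalCI k A a).mpr
        ⟨1, fun h1 => ha.ne_top ((Ideal.eq_top_iff_one _).mpr h1), isGlobalCI_away 1 hGCI⟩
    exact isCIOver_of_algEquiv e.symm h1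

/-- Stacks 10.135.8 (1) ⇔ (5) -/
theorem isCIOver_iff_exists_lci :
    Synt.IsCIOver k S ↔
      ∃ (A : Type u) (_ : CommRing A) (_ : Algebra k A) (a : Ideal A) (_ : a.IsPrime),
        Synt.IsLCIOver k A ∧ Nonempty (S ≃ₐ[k] Localization.AtPrime a) := by
  constructor
  · intro h
    obtain ⟨A, i1, i2, a, ha, hFT, hGCI, he⟩ := (isCIOver_iff_exists_gci k S).mp h
    exact ⟨A, i1, i2, a, ha, isLCIOver_of_isGlobalCI hGCI, he⟩
  · rintro ⟨A, i1, i2, a, ha, hLCI, ⟨e⟩⟩
    have hFT : Algebra.FiniteType k A := hLCI.1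
    have h1 : Synt.IsCIOver k (Localization.AtPrime a) :=
      (isLCIOver_iff_forall_prime k A).mp hLCI ⟨a, ha⟩
    exact isCIOver_of_algEquiv e.symm h1

end Ess

end Groth.Agent.Lib.Helper94.CIMain
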