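import Mathlib
import Groth.Prelude.Def_RegImm
import Groth.Prelude.Def_Pi1
import Groth.Agent.Lib.Helper94.CIMain2
import Groth.Agent.Lib.Helper76.CITransport
import Groth.Agent.S2166

/-!
# Bridge between the two notions of complete intersection local ring (helper94)

For a local ring `T` essentially of finite type over a field `k`:
`Synt.IsCIOver k T ↔ Pi1.IsCompleteIntersection T`.
-/

set_option autoImplicit false
universe u

namespace Groth.Agent.Lib.Helper94.CIBridge

open IsLocalRing Groth.Agent.Lib.Helper94.CIMain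

/-- `Pi1.IsCompleteIntersection` for a quotient of a regular local ring. -/
theorem pi1_iff_isRegularIdeal_ker {R T : Type u} [CommRing R] [CommRing T] [IsLocalRing T]
    [IsRegularLocalRing R] (π : R →+* T) (hπ : Function.Surjective π) :
    Pi1.IsCompleteIntersection T ↔ CInt.IsRegularIdeal (RingHom.ker π) := by
  have hne : RingHom.ker π ≠ ⊤ := RingHom.ker_ne_top π
  let e : R ⧸ RingHom.ker π ≃+* T := RingHom.quotientKerEquivOfSurjective hπ
  haveI : IsLocalRing (R ⧸ RingHom.ker π) :=
    haveI : Nontrivial (R ⧸ RingHom.ker π) := Ideal.Quotient.nontrivial_iff.mpr hne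
    IsLocalRing.of_surjective' (Ideal.Quotient.mk (RingHom.ker π)) Ideal.Quotient.mk_surjective
  have h1 : Pi1.IsCompleteIntersection T ↔ Pi1.IsCompleteIntersection (R ⧸ RingHom.ker π) :=
    ⟨Groth.Agent.Lib.Helper76.CITransport.isCompleteIntersection_of_ringEquiv e.symm,
      Groth.Agent.Lib.Helper76.CITransport.isCompleteIntersection_of_ringEquiv e⟩
  rw [h1, Groth.Agent.S2166.result (RingHom.ker π) hne]
  constructor
  · rintro ⟨rs, hrs, hreg⟩
    exact ⟨rs, hreg, hrs⟩
  · rintro ⟨rs, hreg, hrs⟩
    exact ⟨rs, hrs, hreg⟩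

/-- The bridge: for a local ring essentially of finite type over a field, the two notions of
complete intersection agree. -/
theorem isCIOver_iff_pi1 (k T : Type u) [Field k] [CommRing T] [Algebra k T]
    [Algebra.EssFiniteType k T] [IsLocalRing T] :
    Synt.IsCIOver k T ↔ Pi1.IsCompleteIntersection T := by
  obtain ⟨R, i1, i2, i3, hE, π, hπ⟩ := exists_regular_presentation k T
  rw [isCIOver_iff_isRegularIdeal_ker π hπ, pi1_iff_isRegularIdeal_ker π.toRingHom hπ]

end Groth.Agent.Lib.Helper94.CIBridge
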