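import Groth.Prelude.Def_ArtFun5
import Mathlib

/-!
# Helper lemmas on functors of Artin rings (`ArtFun`)
-/

set_option autoImplicit false
universe u v
open CategoryTheory
open ArtFun

namespace Groth.Agent.Lib.Helper94

variable {Λ k : Type u} [CommRing Λ] [Field k] [Algebra Λ k]

section CRingBasics

variable (R : CRing Λ k)

lemma truncHom_apply (n : ℕ) (a : R.carrier) :
    (R.truncHom n).1 a = Ideal.Quotient.mk (R.mpow n) a := rfl

lemma truncHom_eq_iff (n : ℕ) (a b : R.carrier) :
    (R.truncHom n).1 a = (R.truncHom n).1 b ↔ a - b ∈ R.mpow n := Ideal.Quotient.eq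

lemma truncHom_surjective (n : ℕ) : Function.Surjective (R.truncHom n).1 :=
  Ideal.Quotient.mk_surjective

/-- separatedness of a coefficient ring -/
lemma eq_of_forall_truncHom_eq (a b : R.carrier)
    (h : ∀ n, (R.truncHom n).1 a = (R.truncHom n).1 b) : a = b := by
  have hH : IsHausdorff (IsLocalRing.maximalIdeal R.carrier) R.carrier :=
    R.isAdicComplete.toIsHausdorff
  have := hH.haus (a - b) (fun n => by
    rw [SModEq.zero, smul_eq_mul, Ideal.mul_top]
    rcases n with _ | n
    · simp
    · exact (truncHom_eq_iff R n a b).1 (h n))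
  exact sub_eq_zero.1 this

lemma algHom_ext_of_truncHom {R' : Type u} [CommRing R'] [Algebra Λ R']
    (g₁ g₂ : R' →ₐ[Λ] R.carrier)
    (h : ∀ n, (R.truncHom n).1.comp g₁ = (R.truncHom n).1.comp g₂) : g₁ = g₂ := by
  apply AlgHom.ext
  intro x
  exact eq_of_forall_truncHom_eq R _ _ (fun n => congrArg (fun f => f x) (h n))

end CRingBasics

section TruncNilp

variable (R : CRing Λ k)

lemma maximalIdeal_trunc_pow (n : ℕ) :
    IsLocalRing.maximalIdeal (R.trunc n : Type u) ^ (n + 1) = ⊥ := by
  rw [← le_bot_iff]
  calc IsLocalRing.maximalIdeal (R.carrier ⧸ R.mpow n) ^ (n + 1)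
      ≤ ((IsLocalRing.maximalIdeal R.carrier).map (Ideal.Quotient.mk (R.mpow n))) ^ (n + 1) :=
        Ideal.pow_right_mono (CRing.maximalIdeal_quot_le R n) _
    _ = (R.mpow n).map (Ideal.Quotient.mk (R.mpow n)) := by rw [← Ideal.map_pow]
    _ = ⊥ := Ideal.map_quotient_self _
    _ ≤ ⊥ := le_rfl

end TruncNilp

section OverField

variable {K : Type u} [Field K]

/-- For an object `A` of `Art K K` whose maximal ideal has square zero and a `K`-linear
functional `l` on `A`, the augmented algebra map `x ↦ res x + l (x - res x) ε`. -/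
noncomputable def toDualOfFunctional (A : Art K K)
    (hA : IsLocalRing.maximalIdeal (A : Type u) ^ 2 = ⊥) (l : (A : Type u) →ₗ[K] K) :
    A ⟶ Art.dual K K :=
  have hm : ∀ x : A, x - algebraMap K A (A.res x) ∈ IsLocalRing.maximalIdeal (A : Type u) := by
    intro x
    rw [Art.mem_maximalIdeal_iff, map_sub, AlgHom.commutes]
    simp
  Art.homMk
    { toFun := fun x => ((A.res x, l (x - algebraMap K A (A.res x))) : TrivSqZeroExt K K)
      map_one' := by
        refine TrivSqZeroExt.ext ?_ ?_
        · show A.res 1 = 1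
          simp
        · show l (1 - algebraMap K A (A.res 1)) = 0
          simp
      map_mul' := by
        intro x y
        refine TrivSqZeroExt.ext ?_ ?_
        · show A.res (x * y) = A.res x * A.res y
          simp
        · show l (x * y - algebraMap K A (A.res (x * y))) =
            A.res x • l (y - algebraMap K A (A.res y)) +
              MulOpposite.op (A.res y) • l (x - algebraMap K A (A.res x))
          have hxy : (x - algebraMap K A (A.res x)) * (y - algebraMap K A (A.res y)) = 0 := by
            have : (x - algebraMap K A (A.res x)) * (y - algebraMap K A (A.res y)) ∈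
                IsLocalRing.maximalIdeal (A : Type u) ^ 2 := by
              rw [pow_two]
              exact Ideal.mul_mem_mul (hm x) (hm y)
            rw [hA] at this
            exact this
          have e : x * y - algebraMap K A (A.res (x * y)) =
              A.res x • (y - algebraMap K A (A.res y)) + A.res y • (x - algebraMap K A (A.res x)) +
                (x - algebraMap K A (A.res x)) * (y - algebraMap K A (A.res y)) := by
            rw [map_mul, map_mul, Algebra.smul_def, Algebra.smul_def]
            ring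
          rw [e, hxy, add_zero, map_add, map_smul, map_smul, op_smul_eq_smul]
      map_zero' := by
        refine TrivSqZeroExt.ext ?_ ?_
        · show A.res 0 = 0
          simp
        · show l (0 - algebraMap K A (A.res 0)) = 0
          simp
      map_add' := by
        intro x y
        refine TrivSqZeroExt.ext ?_ ?_
        · show A.res (x + y) = A.res x + A.res y
          simp
        · show l (x + y - algebraMap K A (A.res (x + y))) =
            l (x - algebraMap K A (A.res x)) + l (y - algebraMap K A (A.res y))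
          rw [← map_add]
          congr 1
          rw [map_add, map_add]
          ring
      commutes' := by
        intro c
        refine TrivSqZeroExt.ext ?_ ?_
        · show A.res (algebraMap K A c) = c
          simp
        · show l (algebraMap K A c - algebraMap K A (A.res (algebraMap K A c))) = 0
          simp }
    (AlgHom.ext fun _ => rfl)

lemma toDualOfFunctional_apply (A : Art K K)
    (hA : IsLocalRing.maximalIdeal (A : Type u) ^ 2 = ⊥) (l : (A : Type u) →ₗ[K] K) (x : A) :
    (toDualOfFunctional A hA l) x =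
      ((A.res x, l (x - algebraMap K A (A.res x))) : TrivSqZeroExt K K) := rfl

/-- maps to `K[ε]` separate the points of an object with square-zero maximal ideal, fibrewise over
the augmentation -/
lemma eq_of_forall_toDual_eq (A : Art K K)
    (hA : IsLocalRing.maximalIdeal (A : Type u) ^ 2 = ⊥) (x y : A)
    (h : ∀ p : A ⟶ Art.dual K K, p x = p y) : x = y := by
  have hres : A.res x = A.res y := by
    have := h (toDualOfFunctional A hA 0)
    rw [toDualOfFunctional_apply, toDualOfFunctional_apply] at this
    exact congrArg TrivSqZeroExt.fst this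
  rw [← sub_eq_zero, ← Module.forall_dual_apply_eq_zero_iff K]
  intro l
  have := h (toDualOfFunctional A hA l)
  rw [toDualOfFunctional_apply, toDualOfFunctional_apply] at this
  have h2 : l (x - algebraMap K A (A.res x)) = l (y - algebraMap K A (A.res y)) :=
    congrArg TrivSqZeroExt.snd this
  rw [hres] at h2
  have h3 : l (x - y) = l (x - algebraMap K A (A.res y)) - l (y - algebraMap K A (A.res y)) := by
    rw [← map_sub]
    congr 1
    ring
  rw [h3, h2, sub_self]

end OverField

section FibreProdLift

open Art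

variable {B A A' A'' : Art Λ k} {p' : B ⟶ A'} {p'' : B ⟶ A''} {f' : A' ⟶ A} {f'' : A'' ⟶ A}
variable {R : Type u} [CommRing R] [Algebra Λ R] {resR : R →ₐ[Λ] k}

lemma homSet_ext {A : Art Λ k} {φ ψ : HomSet R resR A} (h : ∀ r, φ.1 r = ψ.1 r) : φ = ψ :=
  Subtype.ext (AlgHom.ext h)

lemma homSet_map_apply {A B : Art Λ k} (f : A ⟶ B) (φ : HomSet R resR A) (r : R) :
    (HomSet.map f φ).1 r = f (φ.1 r) := rfl

/-- `h_R` sends pinned fibre products to fibre products: existence of the induced map. -/
theorem IsFibreProd.exists_lift (h : IsFibreProd p' p'' f' f'')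
    (φ' : HomSet R resR A') (φ'' : HomSet R resR A'')
    (hφ : HomSet.map f' φ' = HomSet.map f'' φ'') :
    ∃ ψ : HomSet R resR B, HomSet.map p' ψ = φ' ∧ HomSet.map p'' ψ = φ'' := by
  obtain ⟨a', ha'⟩ := φ'
  obtain ⟨a'', ha''⟩ := φ''
  have hφr : ∀ r, f' (a' r) = f'' (a'' r) := fun r =>
    congrArg (fun t : HomSet R resR A => t.1 r) hφ
  choose g hg' hg'' using fun r => h.surj (a' r) (a'' r) (hφr r)
  have key : ∀ (b : B) (r : R), p' b = a' r → p'' b = a'' r → g r = b := by
    intro b r h1 h2
    exact (h.inj _ _ (h1.trans (hg' r).symm) (h2.trans (hg'' r).symm)).symm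
  let ψ : R →ₐ[Λ] B :=
    { toFun := g
      map_one' := by
        apply key
        · exact (map_one p'.toAlgHom).trans (map_one a').symm
        · exact (map_one p''.toAlgHom).trans (map_one a'').symm
      map_mul' := by
        intro r s
        apply key
        · refine (map_mul p'.toAlgHom _ _).trans ?_
          rw [hg' r, hg' s, map_mul]
        · refine (map_mul p''.toAlgHom _ _).trans ?_
          rw [hg'' r, hg'' s, map_mul]
      map_zero' := by
        apply key
        · exact (map_zero p'.toAlgHom).trans (map_zero a').symm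
        · exact (map_zero p''.toAlgHom).trans (map_zero a'').symm
      map_add' := by
        intro r s
        apply key
        · refine (map_add p'.toAlgHom _ _).trans ?_
          rw [hg' r, hg' s, map_add]
        · refine (map_add p''.toAlgHom _ _).trans ?_
          rw [hg'' r, hg'' s, map_add]
      commutes' := by
        intro c
        apply key
        · exact (p'.toAlgHom.commutes c).trans (a'.commutes c).symm
        · exact (p''.toAlgHom.commutes c).trans (a''.commutes c).symm }
  have hψ : B.res.comp ψ = resR := by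
    apply AlgHom.ext
    intro r
    show B.res (g r) = resR r
    rw [← Art.res_app p' (g r), hg' r]
    exact congrArg (fun t => t r) ha'
  exact ⟨⟨ψ, hψ⟩, homSet_ext (fun r => hg' r), homSet_ext (fun r => hg'' r)⟩

theorem IsFibreProd.lift_unique (h : IsFibreProd p' p'' f' f'')
    (ψ₁ ψ₂ : HomSet R resR B) (h' : HomSet.map p' ψ₁ = HomSet.map p' ψ₂)
    (h'' : HomSet.map p'' ψ₁ = HomSet.map p'' ψ₂) : ψ₁ = ψ₂ :=
  homSet_ext (fun r => h.inj _ _ (congrArg (fun t : HomSet R resR A' => t.1 r) h')
    (congrArg (fun t : HomSet R resR A'' => t.1 r) h''))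

end FibreProdLift

section Factorization

open Art

variable (R : CRing Λ k)

lemma res_truncHom (n : ℕ) (a : R.carrier) : (R.trunc n).res ((R.truncHom n).1 a) = R.res a := rfl

lemma mem_maximalIdeal_of_homSet {R' : Type u} [CommRing R'] [Algebra Λ R'] {resR' : R' →ₐ[Λ] k}
    {A : Art Λ k} (u : HomSet R' resR' A) {a : R'} (ha : resR' a = 0) :
    u.1 a ∈ IsLocalRing.maximalIdeal (A : Type u) := by
  rw [Art.mem_maximalIdeal_iff]
  have := congrArg (fun t => t a) u.2
  exact this.trans ha

lemma exists_maximalIdeal_pow_eq_bot (A : Art Λ k) :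
    ∃ n : ℕ, IsLocalRing.maximalIdeal (A : Type u) ^ (n + 1) = ⊥ := by
  obtain ⟨n, hn⟩ := (isArtinianRing_iff_isNilpotent_maximalIdeal (A : Type u)).1 inferInstance
  refine ⟨n, ?_⟩
  rw [pow_succ, hn]
  simp

/-- every augmented map from a coefficient ring to an Artinian object kills a power of the
maximal ideal -/
lemma map_mpow_eq_zero_of_pow_eq_bot {A : Art Λ k} (u : HomSet R.carrier R.res A) (n : ℕ)
    (hn : IsLocalRing.maximalIdeal (A : Type u) ^ (n + 1) = ⊥) {a : R.carrier} (ha : a ∈ R.mpow n) :
    u.1 a = 0 := by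
  have h1 : (IsLocalRing.maximalIdeal R.carrier).map u.1 ≤ IsLocalRing.maximalIdeal (A : Type u) := by
    rw [Ideal.map_le_iff_le_comap]
    intro x hx
    exact mem_maximalIdeal_of_homSet u ((CRing.mem_maximalIdeal_iff R x).1 hx)
  have h2 : (R.mpow n).map u.1 ≤ ⊥ := by
    rw [← hn]
    show Ideal.map u.1 (IsLocalRing.maximalIdeal R.carrier ^ (n + 1)) ≤ _
    rw [Ideal.map_pow]
    exact Ideal.pow_right_mono h1 _
  have := h2 (Ideal.mem_map_of_mem _ ha)
  simpa using this

/-- factorization of an element of `h_R(A)` through a truncation, for any sufficiently large `n` -/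
noncomputable def factorTrunc {A : Art Λ k} (u : HomSet R.carrier R.res A) (n : ℕ)
    (hn : IsLocalRing.maximalIdeal (A : Type u) ^ (n + 1) = ⊥) : R.trunc n ⟶ A :=
  Art.homMk (Ideal.Quotient.liftₐ (R.mpow n) u.1
      (fun a ha => map_mpow_eq_zero_of_pow_eq_bot R u n hn ha)) (by
    apply AlgHom.ext
    intro x
    obtain ⟨a, rfl⟩ := Ideal.Quotient.mk_surjective x
    exact congrArg (fun t => t a) u.2)

lemma map_factorTrunc {A : Art Λ k} (u : HomSet R.carrier R.res A) (n : ℕ)
    (hn : IsLocalRing.maximalIdeal (A : Type u) ^ (n + 1) = ⊥) :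
    HomSet.map (factorTrunc R u n hn) (R.truncHom n) = u :=
  Subtype.ext (AlgHom.ext fun _ => rfl)

theorem exists_factorTrunc {A : Art Λ k} (u : HomSet R.carrier R.res A) :
    ∃ (n : ℕ) (ubar : R.trunc n ⟶ A), HomSet.map ubar (R.truncHom n) = u := by
  obtain ⟨n, hn⟩ := exists_maximalIdeal_pow_eq_bot A
  exact ⟨n, factorTrunc R u n hn, map_factorTrunc R u n hn⟩

/-- A family over a coefficient ring is determined by its formal element. -/
theorem family_app_eq_of_factor {F : Art Λ k ⥤ Type v} (ξ : Family R.carrier R.res F)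
    {A : Art Λ k} (u : HomSet R.carrier R.res A) (n : ℕ) (ubar : R.trunc n ⟶ A)
    (h : HomSet.map ubar (R.truncHom n) = u) :
    ξ.app A u = F.map ubar (ξ.toFormalElt.elt n) := by
  rw [← h, ξ.natural]
  rfl

end Factorization

section Gluing

open Art

variable (R : CRing Λ k) {R' : Type u} [CommRing R'] [Algebra Λ R'] {resR' : R' →ₐ[Λ] k}

lemma truncMap_mk (n : ℕ) (a : R.carrier) :
    (R.truncMap n) (Ideal.Quotient.mk (R.mpow (n + 1)) a) = Ideal.Quotient.mk (R.mpow n) a := rfl

/-- compatibility of a successive-compatible system for all `m ≤ n` -/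
lemma compat_le (φ : ∀ n, HomSet R' resR' (R.trunc n))
    (hφ : ∀ n, HomSet.map (R.truncMap n) (φ (n + 1)) = φ n) {m n : ℕ} (hmn : m ≤ n) (x : R') :
    Ideal.Quotient.factor (Ideal.pow_le_pow_right (Nat.succ_le_succ hmn)) ((φ n).1 x) =
      (φ m).1 x := by
  induction n, hmn using Nat.le_induction with
  | base =>
    obtain ⟨a, ha⟩ := Ideal.Quotient.mk_surjective ((φ m).1 x)
    rw [← ha]
    rfl
  | succ n hmn ih =>
    rw [← ih]
    have h1 : (φ n).1 x = (R.truncMap n) ((φ (n + 1)).1 x) :=
      (congrArg (fun t : HomSet R' resR' (R.trunc n) => t.1 x) (hφ n)).symm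
    rw [h1]
    obtain ⟨a, ha⟩ := Ideal.Quotient.mk_surjective ((φ (n + 1)).1 x)
    rw [← ha]
    rfl

/-- Gluing a compatible system of maps to the truncations of a coefficient ring. -/
theorem exists_glue (φ : ∀ n, HomSet R' resR' (R.trunc n))
    (hφ : ∀ n, HomSet.map (R.truncMap n) (φ (n + 1)) = φ n) :
    ∃ (g : R' →ₐ[Λ] R.carrier) (_ : R.res.comp g = resR'),
      ∀ n, (R.truncHom n).1.comp g = (φ n).1 := by
  have := R.isAdicComplete
  obtain ⟨ψ, hψdef⟩ : ∃ ψ : ∀ n, R' →ₐ[Λ] (R.carrier ⧸ R.mpow n), ∀ n, ψ n = (φ n).1 :=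
    ⟨_, fun n => rfl⟩
  have hψ : ∀ {m n : ℕ} (hmn : m ≤ n) (x : R'),
      Ideal.Quotient.factor (Ideal.pow_le_pow_right (Nat.succ_le_succ hmn)) (ψ n x) = ψ m x := by
    intro m n hmn x
    rw [hψdef, hψdef]
    exact compat_le R φ hφ hmn x
  let f : (n : ℕ) → R' →ₐ[Λ] R.carrier ⧸ IsLocalRing.maximalIdeal R.carrier ^ n := fun n =>
    (Ideal.Quotient.factorₐ Λ (Ideal.pow_le_pow_right (Nat.le_succ n))).comp (ψ n)
  have hfx : ∀ (n : ℕ) (x : R') (a : R.carrier), Ideal.Quotient.mk (R.mpow n) a = ψ n x →
      f n x = Ideal.Quotient.mk (IsLocalRing.maximalIdeal R.carrier ^ n) a := by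
    intro n x a ha
    show (Ideal.Quotient.factorₐ Λ (Ideal.pow_le_pow_right (Nat.le_succ n))) (ψ n x) = _
    rw [← ha]
    rfl
  have hf : ∀ {m n : ℕ} (hle : m ≤ n),
      (Ideal.Quotient.factorₐ Λ (Ideal.pow_le_pow_right hle)).comp (f n) = f m := by
    intro m n hle
    apply AlgHom.ext
    intro x
    obtain ⟨a, ha⟩ := Ideal.Quotient.mk_surjective (ψ n x)
    have hm : Ideal.Quotient.mk (R.mpow m) a = ψ m x := by
      rw [← hψ hle x, ← ha]
      rfl
    rw [AlgHom.comp_apply, hfx n x a ha, hfx m x a hm]
    rfl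
  let g := IsAdicComplete.liftAlgHom (IsLocalRing.maximalIdeal R.carrier) f hf
  have hg : ∀ n, (R.truncHom n).1.comp g = ψ n := by
    intro n
    apply AlgHom.ext
    intro x
    have h1 := IsAdicComplete.mk_liftAlgHom (IsLocalRing.maximalIdeal R.carrier) f hf (n + 1) x
    show Ideal.Quotient.mk (R.mpow n) (g x) = ψ n x
    refine h1.trans ?_
    exact hψ (Nat.le_succ n) x
  refine ⟨g, ?_, fun n => (hg n).trans (hψdef n)⟩
  apply AlgHom.ext
  intro x
  have h0 := congrArg (fun t => t x) ((hg 0).trans (hψdef 0))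
  have h1 := congrArg (fun t => t x) (φ 0).2
  show R.res (g x) = resR' x
  rw [← res_truncHom R 0 (g x)]
  exact (congrArg (R.trunc 0).res h0).trans h1

end Gluing

section ArtinianRestrict

theorem isArtinian_restrict_aux
    {P A : Type*} [CommRing P] [CommRing A] [IsLocalRing A] [Algebra P A]
    (hres : ∀ a : A, ∃ p : P, a - algebraMap P A p ∈ IsLocalRing.maximalIdeal A)
    (M : Type*) [AddCommGroup M] [Module A M]
    (hM : IsFiniteLength A M) : ∀ [Module P M] [IsScalarTower P A M], IsArtinian P M := by
  induction hM with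
  | of_subsingleton => intro _ _; infer_instance
  | @of_simple_quotient M _ _ N _ _ ih =>
    intro _ _
    have hN : IsArtinian P N := ih
    -- the simple quotient
    have hS : IsArtinian P (M ⧸ N) := by
      have hann : ∀ (a : A) (s : M ⧸ N), a ∈ IsLocalRing.maximalIdeal A → a • s = 0 := by
        intro a s ha
        have hmax : (Module.annihilator A (M ⧸ N)).IsMaximal :=
          IsSimpleModule.annihilator_isMaximal
        have : Module.annihilator A (M ⧸ N) = IsLocalRing.maximalIdeal A :=
          IsLocalRing.eq_maximalIdeal hmax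
        rw [← this] at ha
        exact Module.mem_annihilator.1 ha s
      apply (OrderEmbedding.wellFoundedLT (β := Submodule A (M ⧸ N)))
      refine ⟨⟨?_, ?_⟩, ?_⟩
      · intro T
        refine { toAddSubmonoid := T.toAddSubmonoid, smul_mem' := ?_ }
        intro a x hx
        obtain ⟨p, hp⟩ := hres a
        have h1 : a • x = p • x := by
          have := hann _ x hp
          rw [sub_smul, sub_eq_zero] at this
          rw [this, algebraMap_smul]
        rw [h1]
        exact T.smul_mem _ hx
      · intro N1 N2 h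
        rwa [Submodule.ext_iff] at h ⊢
      · intro N1 N2
        rfl
    exact isArtinian_of_range_eq_ker (N.subtype.restrictScalars P) (N.mkQ.restrictScalars P)
      (by
        ext x
        simp)

theorem isArtinian_restrict_of_residue_surjective
    {P A : Type*} [CommRing P] [CommRing A] [IsLocalRing A] [IsArtinianRing A] [Algebra P A]
    (hres : ∀ a : A, ∃ p : P, a - algebraMap P A p ∈ IsLocalRing.maximalIdeal A) :
    IsArtinian P A :=
  isArtinian_restrict_aux hres A (isFiniteLength_iff_isNoetherian_isArtinian.2 ⟨inferInstance, inferInstance⟩)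

end ArtinianRestrict

section FibreProdObj

open Art

variable {A A' A'' : Art Λ k}

/-- The pullback of two morphisms of `Art Λ k`, the second surjective, is an Artinian ring. -/
theorem isArtinianRing_pullback (f' : A' ⟶ A) (f'' : A'' ⟶ A) (hf'' : Function.Surjective f'') :
    IsArtinianRing (AlgHom.pullback f'.toAlgHom f''.toAlgHom) := by
  let P := AlgHom.pullback f'.toAlgHom f''.toAlgHom
  let π₁ : P →+* A' := (AlgHom.pullbackFst f'.toAlgHom f''.toAlgHom).toRingHom
  let π₂ : P →+* A'' := (AlgHom.pullbackSnd f'.toAlgHom f''.toAlgHom).toRingHom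
  have hπ₁ : Function.Surjective π₁ :=
    AlgHom.surjective_pullbackFst_of_surjective f'.toAlgHom f''.toAlgHom hf''
  let i₁ : Algebra P A' := π₁.toAlgebra
  let i₂ : Algebra P A'' := π₂.toAlgebra
  have h1 : IsArtinian P A' := isArtinian_of_surjective_algebraMap (R := (A' : Type u)) hπ₁
  have h2 : IsArtinian P A'' := by
    apply isArtinian_restrict_of_residue_surjective
    intro a''
    obtain ⟨a', ha'⟩ := A'.res_surjective (A''.res a'')
    obtain ⟨x, hx⟩ := hπ₁ a'
    refine ⟨x, ?_⟩
    rw [Art.mem_maximalIdeal_iff, map_sub, sub_eq_zero]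
    have e1 : A''.res (π₂ x) = A.res (f'' (π₂ x)) := (Art.res_app f'' _).symm
    have e2 : f'' (π₂ x) = f' (π₁ x) := x.2.symm
    have e3 : A.res (f' (π₁ x)) = A'.res (π₁ x) := Art.res_app f' _
    show A''.res a'' = A''.res (π₂ x)
    rw [e1, e2, e3, hx, ha']
  have h3 : IsArtinian P (A'.carrier × A''.carrier) := isArtinian_prod
  let l : P →ₗ[P] (A'.carrier × A''.carrier) :=
    (Algebra.linearMap P A'.carrier).prod (Algebra.linearMap P A''.carrier)
  have hl : Function.Injective l := by
    intro x y hxy
    apply Subtype.ext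
    exact hxy
  exact isArtinian_of_injective l hl

/-- The fibre product `A' ×_A A''` in `Art Λ k` for `A'' → A` surjective. -/
noncomputable def fibreProd (f' : A' ⟶ A) (f'' : A'' ⟶ A) (hf'' : Function.Surjective f'') :
    Art Λ k :=
  have : IsLocalHom f''.toAlgHom := Art.isLocalHom f''
  { carrier := AlgHom.pullback f'.toAlgHom f''.toAlgHom
    isLocalRing := AlgHom.isLocalRing_pullback f'.toAlgHom f''.toAlgHom
    isArtinianRing := isArtinianRing_pullback f' f'' hf''
    res := A'.res.comp (AlgHom.pullbackFst f'.toAlgHom f''.toAlgHom)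
    res_surjective := A'.res_surjective.comp
      (AlgHom.surjective_pullbackFst_of_surjective f'.toAlgHom f''.toAlgHom hf'') }

/-- first projection -/
noncomputable def fibreProdFst (f' : A' ⟶ A) (f'' : A'' ⟶ A) (hf'' : Function.Surjective f'') :
    fibreProd f' f'' hf'' ⟶ A' :=
  Art.homMk (AlgHom.pullbackFst f'.toAlgHom f''.toAlgHom) rfl

/-- second projection -/
noncomputable def fibreProdSnd (f' : A' ⟶ A) (f'' : A'' ⟶ A) (hf'' : Function.Surjective f'') :
    fibreProd f' f'' hf'' ⟶ A'' :=
  Art.homMk (AlgHom.pullbackSnd f'.toAlgHom f''.toAlgHom) (by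
    apply AlgHom.ext
    intro x
    show A''.res x.1.2 = A'.res x.1.1
    have e1 : A''.res x.1.2 = A.res (f'' x.1.2) := (Art.res_app f'' _).symm
    have e2 : f'' x.1.2 = f' x.1.1 := x.2.symm
    rw [e1, e2]
    exact Art.res_app f' _)

theorem isFibreProd_fibreProd (f' : A' ⟶ A) (f'' : A'' ⟶ A) (hf'' : Function.Surjective f'') :
    IsFibreProd (fibreProdFst f' f'' hf'') (fibreProdSnd f' f'' hf'') f' f'' where
  w := Art.hom_ext (AlgHom.ext fun x => x.2)
  inj _ _ h₁ h₂ := Subtype.ext (Prod.ext h₁ h₂)
  surj a' a'' h := ⟨⟨(a', a''), h⟩, rfl, rfl⟩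

lemma fibreProdFst_surjective (f' : A' ⟶ A) (f'' : A'' ⟶ A) (hf'' : Function.Surjective f'') :
    Function.Surjective (fibreProdFst f' f'' hf'') :=
  AlgHom.surjective_pullbackFst_of_surjective f'.toAlgHom f''.toAlgHom hf''

end FibreProdObj

section SmallExtCoef

open Art

variable {A B : Art Λ k}

/-- For a small extension `μ : B → A`, a generator `t` of the kernel together with the facts
used below. -/
lemma smallExt_exists_generator {μ : B ⟶ A} (h : IsSmallExt μ) :
    ∃ t : B, t ≠ 0 ∧ RingHom.ker μ.toAlgHom = Ideal.span {t} ∧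
      ∀ b : B, b ∈ IsLocalRing.maximalIdeal (B : Type u) → b * t = 0 := by
  obtain ⟨hsurj, hne, ⟨t, ht⟩, hm⟩ := h
  have ht' : RingHom.ker μ.toAlgHom = Ideal.span {t} := ht
  refine ⟨t, ?_, ht', ?_⟩
  · rintro rfl
    apply hne
    rw [ht']
    simp
  · intro b hb
    have h1 : b * t ∈ IsLocalRing.maximalIdeal (B : Type u) * RingHom.ker μ.toAlgHom := by
      apply Ideal.mul_mem_mul hb
      rw [ht']
      exact Ideal.subset_span rfl
    rw [hm] at h1
    exact h1

lemma mul_generator_eq_zero_iff {t : B} (ht0 : t ≠ 0)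
    (hm : ∀ b : B, b ∈ IsLocalRing.maximalIdeal (B : Type u) → b * t = 0) (c : B) :
    c * t = 0 ↔ B.res c = 0 := by
  rw [← Art.mem_maximalIdeal_iff]
  constructor
  · intro h
    by_contra hc
    have hu : IsUnit c := by
      by_contra hnu
      exact hc ((IsLocalRing.mem_maximalIdeal c).2 hnu)
    exact ht0 ((hu.mul_right_eq_zero).1 h)
  · exact hm c

/-- the coefficient map `ker μ → k`, `c • t ↦ res c` -/
theorem smallExt_exists_coef {μ : B ⟶ A} (h : IsSmallExt μ) :
    ∃ coef : B → k, (∀ x y : B, μ x = μ y → ∀ x' y' : B, μ x' = μ y' →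
        coef ((y + y') - (x + x')) = coef (y - x) + coef (y' - x')) ∧
      (∀ x y b : B, μ x = μ y → coef (b * (y - x)) = B.res b * coef (y - x)) ∧
      (∀ x y : B, μ x = μ y → coef (y - x) = 0 → x = y) ∧
      (∀ (x : B) (c : k), ∃ y : B, μ x = μ y ∧ coef (y - x) = c) ∧ coef 0 = 0 := by
  obtain ⟨t, ht0, hker, hm⟩ := smallExt_exists_generator h
  have hmem : ∀ x : B, x ∈ RingHom.ker μ.toAlgHom → ∃ c : B, x = c * t := by
    intro x hx
    rw [hker, Ideal.mem_span_singleton'] at hx
    obtain ⟨c, hc⟩ := hx
    exact ⟨c, hc.symm⟩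
  classical
  let coef : B → k := fun x =>
    if hx : x ∈ RingHom.ker μ.toAlgHom then B.res (Classical.choose (hmem x hx)) else 0
  have hcoef : ∀ c : B, coef (c * t) = B.res c := by
    intro c
    have hx : c * t ∈ RingHom.ker μ.toAlgHom := by
      rw [hker]
      exact Ideal.mul_mem_left _ _ (Ideal.subset_span rfl)
    simp only [coef, dif_pos hx]
    have hspec := Classical.choose_spec (hmem _ hx)
    have h0 : (Classical.choose (hmem _ hx) - c) * t = 0 := by
      rw [sub_mul, ← hspec, sub_self]
    have := (mul_generator_eq_zero_iff ht0 hm _).1 h0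
    rw [map_sub, sub_eq_zero] at this
    exact this
  have hdiff : ∀ x y : B, μ x = μ y → ∃ c : B, y - x = c * t := by
    intro x y hxy
    apply hmem
    rw [RingHom.mem_ker]
    show μ.toAlgHom (y - x) = 0
    rw [map_sub, sub_eq_zero]
    exact hxy.symm
  refine ⟨coef, ?_, ?_, ?_, ?_, ?_⟩
  · intro x y hxy x' y' hxy'
    obtain ⟨c, hc⟩ := hdiff x y hxy
    obtain ⟨c', hc'⟩ := hdiff x' y' hxy'
    have : (y + y') - (x + x') = (c + c') * t := by
      rw [add_mul, ← hc, ← hc']
      ring
    rw [this, hc, hc', hcoef, hcoef, hcoef, map_add]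
  · intro x y b hxy
    obtain ⟨c, hc⟩ := hdiff x y hxy
    rw [hc, ← mul_assoc, hcoef, hcoef, map_mul]
  · intro x y hxy h0
    obtain ⟨c, hc⟩ := hdiff x y hxy
    rw [hc, hcoef] at h0
    have := (mul_generator_eq_zero_iff ht0 hm c).2 h0
    rw [← hc, sub_eq_zero] at this
    exact this.symm
  · intro x c
    obtain ⟨c', hc'⟩ := B.res_surjective c
    refine ⟨x + c' * t, ?_, ?_⟩
    · have h1 : μ.toAlgHom (c' * t) = 0 := by
        rw [← RingHom.mem_ker, hker]
        exact Ideal.mul_mem_left _ _ (Ideal.subset_span rfl)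
      show μ.toAlgHom x = μ.toAlgHom (x + c' * t)
      rw [map_add, h1, add_zero]
    · rw [add_sub_cancel_left, hcoef, hc']
  · have := hcoef 0
    rw [zero_mul, map_zero] at this
    exact this

end SmallExtCoef

end Groth.Agent.Lib.Helper94
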