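import Groth.Agent.Lib.Helper94.ArtFun
import Groth.Prelude.Def_ArtFun3

/-!
# Functors of Artin rings, part 2: `B ×_A B ≅ B ×_k k[ε]` for small extensions, induction
-/

set_option autoImplicit false
universe u v
open CategoryTheory
open ArtFun

namespace Groth.Agent.Lib.Helper94

variable {Λ k : Type u} [CommRing Λ] [Field k] [Algebra Λ k]

section Lifts

open Art

variable {B A A' A'' : Art Λ k} {p' : B ⟶ A'} {p'' : B ⟶ A''} {f' : A' ⟶ A} {f'' : A'' ⟶ A}

/-- an `Art` morphism as an element of `h_R` -/
def homToHomSet {R A : Art Λ k} (f : R ⟶ A) : HomSet R.carrier R.res A := ⟨f.toAlgHom, f.res_comp⟩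

/-- and back -/
def homSetToHom {R A : Art Λ k} (φ : HomSet R.carrier R.res A) : R ⟶ A := ⟨φ.1, φ.2⟩

/-- maps into a pinned fibre product -/
theorem IsFibreProd.exists_lift_hom (h : IsFibreProd p' p'' f' f'') {R : Art Λ k}
    (g' : R ⟶ A') (g'' : R ⟶ A'') (hg : g' ≫ f' = g'' ≫ f'') :
    ∃ g : R ⟶ B, g ≫ p' = g' ∧ g ≫ p'' = g'' := by
  obtain ⟨ψ, h1, h2⟩ := IsFibreProd.exists_lift h (homToHomSet g') (homToHomSet g'')
    (Subtype.ext (congrArg Art.Hom.toAlgHom hg))
  refine ⟨homSetToHom ψ, ?_, ?_⟩
  · exact Art.hom_ext (congrArg Subtype.val h1)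
  · exact Art.hom_ext (congrArg Subtype.val h2)

theorem IsFibreProd.hom_ext (h : IsFibreProd p' p'' f' f'') {R : Art Λ k}
    (g₁ g₂ : R ⟶ B) (h' : g₁ ≫ p' = g₂ ≫ p') (h'' : g₁ ≫ p'' = g₂ ≫ p'') : g₁ = g₂ := by
  apply Art.hom_ext
  apply AlgHom.ext
  intro r
  exact h.inj _ _ (congrArg (fun t : R ⟶ A' => t r) h') (congrArg (fun t : R ⟶ A'' => t r) h'')

end Lifts

section SmallExtDual

open Art

variable {A B : Art Λ k}

/-- For a small extension `μ : B → A`, the object `B ×_A B` is also `B ×_k k[ε]`. -/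
theorem smallExt_exists_dual {μ : B ⟶ A} (h : IsSmallExt μ) :
    ∃ q : fibreProd μ μ h.1 ⟶ dual Λ k,
      IsFibreProd (fibreProdFst μ μ h.1) q (toBase B) (toBase (dual Λ k)) ∧
      ∀ (g : B ⟶ fibreProd μ μ h.1), g ≫ fibreProdFst μ μ h.1 = g ≫ fibreProdSnd μ μ h.1 →
        g ≫ q = g ≫ fibreProdFst μ μ h.1 ≫ toBase B ≫ baseToDual := by
  obtain ⟨coef, hadd, hmul, hinj, hsurj, hzero⟩ := smallExt_exists_coef h
  let P := fibreProd μ μ h.1
  have hP : ∀ x : P, μ x.1.1 = μ x.1.2 := fun x => x.2
  let q₀ : P.carrier →ₐ[Λ] DualNumber k :=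
    { toFun := fun x => ((B.res x.1.1, coef (x.1.2 - x.1.1)) : TrivSqZeroExt k k)
      map_one' := by
        refine TrivSqZeroExt.ext ?_ ?_
        · show B.res 1 = 1
          simp
        · show coef ((1 : B) - 1) = 0
          rw [sub_self, hzero]
      map_mul' := by
        intro x y
        refine TrivSqZeroExt.ext ?_ ?_
        · show B.res (x.1.1 * y.1.1) = B.res x.1.1 * B.res y.1.1
          simp
        · show coef (x.1.2 * y.1.2 - x.1.1 * y.1.1) =
            B.res x.1.1 • coef (y.1.2 - y.1.1) + MulOpposite.op (B.res y.1.1) • coef (x.1.2 - x.1.1)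
          have e : x.1.2 * y.1.2 - x.1.1 * y.1.1 =
              (x.1.2 * y.1.2 + y.1.1 * x.1.2) - (x.1.2 * y.1.1 + y.1.1 * x.1.1) := by ring
          have h1 : μ (x.1.2 * y.1.1) = μ (x.1.2 * y.1.2) := by
            show μ.toAlgHom (x.1.2 * y.1.1) = μ.toAlgHom (x.1.2 * y.1.2)
            rw [map_mul, map_mul]
            congr 1
            exact hP y
          have h2 : μ (y.1.1 * x.1.1) = μ (y.1.1 * x.1.2) := by
            show μ.toAlgHom (y.1.1 * x.1.1) = μ.toAlgHom (y.1.1 * x.1.2)
            rw [map_mul, map_mul]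
            congr 1
            exact hP x
          rw [e, hadd _ _ h1 _ _ h2, ← mul_sub, ← mul_sub, hmul _ _ _ (hP y), hmul _ _ _ (hP x),
            op_smul_eq_smul, smul_eq_mul, smul_eq_mul]
          congr 2
          have e1 : B.res x.1.2 = A.res (μ x.1.2) := (Art.res_app μ _).symm
          have e2 : B.res x.1.1 = A.res (μ x.1.1) := (Art.res_app μ _).symm
          rw [e1, e2, hP x]
      map_zero' := by
        refine TrivSqZeroExt.ext ?_ ?_
        · show B.res 0 = 0
          simp
        · show coef ((0 : B) - 0) = 0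
          rw [sub_self, hzero]
      map_add' := by
        intro x y
        refine TrivSqZeroExt.ext ?_ ?_
        · show B.res (x.1.1 + y.1.1) = B.res x.1.1 + B.res y.1.1
          simp
        · show coef ((x.1.2 + y.1.2) - (x.1.1 + y.1.1)) =
            coef (x.1.2 - x.1.1) + coef (y.1.2 - y.1.1)
          exact hadd _ _ (hP x) _ _ (hP y)
      commutes' := by
        intro c
        refine TrivSqZeroExt.ext ?_ ?_
        · show B.res (algebraMap Λ B c) = _
          rw [AlgHom.commutes, TrivSqZeroExt.algebraMap_eq_inl']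
          rfl
        · show coef (algebraMap Λ B c - algebraMap Λ B c) = _
          rw [sub_self, hzero, TrivSqZeroExt.algebraMap_eq_inl']
          rfl }
  let q : P ⟶ dual Λ k := Art.homMk q₀ (AlgHom.ext fun _ => rfl)
  refine ⟨q, ⟨?_, ?_, ?_⟩, ?_⟩
  · rw [eq_toBase (fibreProdFst μ μ h.1 ≫ toBase _), eq_toBase (q ≫ toBase _)]
  · intro b₁ b₂ h1 h2
    have h1' : b₁.1.1 = b₂.1.1 := h1
    have h2' : coef (b₁.1.2 - b₁.1.1) = coef (b₂.1.2 - b₂.1.1) :=
      congrArg TrivSqZeroExt.snd h2
    apply Subtype.ext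
    apply Prod.ext h1'
    have h3 : μ b₂.1.2 = μ b₁.1.2 := by
      rw [← hP b₂, ← hP b₁, h1']
    have h5 := hinj b₂.1.2 b₁.1.2 h3
    apply (h5 ?_).symm
    have h6 := hadd _ _ (hP b₂) _ _ h3
    -- coef ((b₂.2 + b₁.2) - (b₂.1 + b₂.2)) = coef (b₂.2 - b₂.1) + coef (b₁.2 - b₂.2)
    have e2 : b₂.1.2 + b₁.1.2 - (b₂.1.1 + b₂.1.2) = b₁.1.2 - b₁.1.1 := by
      rw [h1']
      ring
    rw [e2, h2'] at h6
    exact (add_eq_left.1 h6.symm)
  · intro b d hbd
    have hbd' : B.res b = d.fst := hbd
    obtain ⟨y, hy1, hy2⟩ := hsurj b d.snd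
    refine ⟨⟨(b, y), hy1⟩, rfl, ?_⟩
    exact TrivSqZeroExt.ext hbd' hy2
  · intro g hg
    apply Art.hom_ext
    apply AlgHom.ext
    intro b
    have hgb : (g b).1.1 = (g b).1.2 := congrArg (fun t : B ⟶ B => t b) hg
    refine TrivSqZeroExt.ext rfl ?_
    show coef ((g b).1.2 - (g b).1.1) = 0
    rw [hgb, sub_self, hzero]

end SmallExtDual

section Induction

open Art

/-- Induction along small extensions: a property of objects of `Art Λ k` that holds for
objects whose augmentation is bijective and is inherited along small extensions holds for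
every object. -/
theorem art_induction_smallExt (P : Art Λ k → Prop)
    (hbase : ∀ A : Art Λ k, Function.Bijective (toBase A) → P A)
    (hstep : ∀ (B A : Art Λ k) (μ : B ⟶ A), IsSmallExt μ → P A → P B) (A : Art Λ k) : P A := by
  -- claim on ideals of `A`
  have claim : ∀ I : Ideal (A : Type u), I ≤ IsLocalRing.maximalIdeal (A : Type u) →
      ∀ (B : Art Λ k) (φ : A ⟶ B), Function.Surjective φ → RingHom.ker φ.toAlgHom = I → P B := by
    intro I
    induction I using WellFoundedGT.induction with
    | ind I ih =>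
    intro hI B φ hφ hker
    by_cases hIm : I = IsLocalRing.maximalIdeal (A : Type u)
    · -- base case
      apply hbase
      constructor
      · intro b₁ b₂ hb
        obtain ⟨a₁, rfl⟩ := hφ b₁
        obtain ⟨a₂, rfl⟩ := hφ b₂
        have h1 : B.res (φ a₁) = B.res (φ a₂) := hb
        rw [Art.res_app, Art.res_app, ← sub_eq_zero, ← map_sub, ← Art.mem_maximalIdeal_iff,
          ← hIm, ← hker, RingHom.mem_ker] at h1
        have h2 : φ.toAlgHom (a₁ - a₂) = 0 := h1
        rw [map_sub, sub_eq_zero] at h2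
        exact h2
      · exact B.res_surjective
    · -- find `t ∈ m \ I` with `m t ⊆ I`
      have hlt : I < IsLocalRing.maximalIdeal (A : Type u) := lt_of_le_of_ne hI hIm
      obtain ⟨n, hn⟩ := exists_maximalIdeal_pow_eq_bot A
      -- least `j` with `m^(j+1) ≤ I`
      have hex : ∃ j, IsLocalRing.maximalIdeal (A : Type u) ^ (j + 1) ≤ I := ⟨n, by rw [hn]; exact bot_le⟩
      classical
      let j := Nat.find hex
      have hj : IsLocalRing.maximalIdeal (A : Type u) ^ (j + 1) ≤ I := Nat.find_spec hex
      have hj0 : j ≠ 0 := by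
        intro h0
        rw [h0, zero_add, pow_one] at hj
        exact hIm (le_antisymm hI hj)
      obtain ⟨j', hj'⟩ := Nat.exists_eq_succ_of_ne_zero hj0
      have hnot : ¬ IsLocalRing.maximalIdeal (A : Type u) ^ (j' + 1) ≤ I := by
        have := Nat.find_min hex (m := j') (by omega)
        exact this
      obtain ⟨t, htm, htI0⟩ := Set.not_subset.1 hnot
      have htI : t ∉ I := htI0
      have htm : t ∈ IsLocalRing.maximalIdeal (A : Type u) ^ (j' + 1) := htm
      have htmax : t ∈ IsLocalRing.maximalIdeal (A : Type u) :=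
        Ideal.pow_le_self (Nat.succ_ne_zero j') htm
      have hmt : ∀ a ∈ IsLocalRing.maximalIdeal (A : Type u), a * t ∈ I := by
        intro a ha
        apply hj
        rw [hj', pow_succ' _ (j' + 1)]
        exact Ideal.mul_mem_mul ha htm
      -- the quotient of `B` by `φ t`
      let K : Ideal (B : Type u) := Ideal.span {φ t}
      have hφt : φ t ∈ IsLocalRing.maximalIdeal (B : Type u) := by
        rw [Art.mem_maximalIdeal_iff, Art.res_app, ← Art.mem_maximalIdeal_iff]
        exact htmax
      have hK : K ≤ IsLocalRing.maximalIdeal (B : Type u) := by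
        rw [Ideal.span_le, Set.singleton_subset_iff]
        exact hφt
      have hφt0 : φ t ≠ 0 := by
        intro h0
        apply htI
        rw [← hker]
        exact (RingHom.mem_ker).2 h0
      have hkerq : RingHom.ker (quotMk B K hK).toAlgHom = K := by
        ext x
        rw [RingHom.mem_ker]
        show Ideal.Quotient.mk K x = 0 ↔ _
        exact Ideal.Quotient.eq_zero_iff_mem
      have hsmall : IsSmallExt (quotMk B K hK) := by
        refine ⟨quotMk_surjective B K hK, ?_, ?_, ?_⟩
        · rw [hkerq]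
          intro hbot
          apply hφt0
          have : φ t ∈ K := Ideal.subset_span rfl
          rw [hbot] at this
          exact this
        · rw [hkerq]
          exact ⟨⟨φ t, rfl⟩⟩
        · rw [hkerq, ← le_bot_iff, Ideal.mul_le]
          intro b hb x hx
          obtain ⟨c, rfl⟩ := Ideal.mem_span_singleton'.1 hx
          obtain ⟨a, rfl⟩ := hφ b
          have ha : a ∈ IsLocalRing.maximalIdeal (A : Type u) := by
            rw [Art.mem_maximalIdeal_iff, ← Art.res_app φ, ← Art.mem_maximalIdeal_iff]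
            exact hb
          have h1 : φ.toAlgHom (a * t) = 0 := by
            rw [← RingHom.mem_ker, hker]
            exact hmt a ha
          rw [map_mul] at h1
          show φ.toAlgHom a * (c * φ.toAlgHom t) = 0
          rw [mul_left_comm, h1, mul_zero]
      apply hstep _ _ _ hsmall
      -- the composite `A → B → B/K`
      let J : Ideal (A : Type u) := I ⊔ Ideal.span {t}
      have hJker : RingHom.ker (φ ≫ quotMk B K hK).toAlgHom = J := by
        ext x
        rw [RingHom.mem_ker]
        show Ideal.Quotient.mk K (φ x) = 0 ↔ _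
        rw [Ideal.Quotient.eq_zero_iff_mem, Ideal.mem_span_singleton']
        constructor
        · rintro ⟨b, hb⟩
          obtain ⟨a, rfl⟩ := hφ b
          have h1 : φ.toAlgHom (x - a * t) = 0 := by
            rw [map_sub, map_mul, sub_eq_zero]
            exact hb.symm
          rw [← RingHom.mem_ker, hker] at h1
          have : x = (x - a * t) + a * t := by ring
          rw [this]
          exact Ideal.add_mem _ (Ideal.mem_sup_left h1)
            (Ideal.mem_sup_right (Ideal.mul_mem_left _ _ (Ideal.subset_span rfl)))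
        · intro hx
          obtain ⟨y, hy, z, hz, rfl⟩ := Submodule.mem_sup.1 hx
          obtain ⟨c, rfl⟩ := Ideal.mem_span_singleton'.1 hz
          refine ⟨φ c, ?_⟩
          have h1 : φ.toAlgHom y = 0 := by
            rw [← RingHom.mem_ker, hker]
            exact hy
          show φ.toAlgHom c * φ.toAlgHom t = φ.toAlgHom (y + c * t)
          rw [map_add, map_mul, h1, zero_add]
      have hJgt : I < J := by
        refine lt_of_le_of_ne le_sup_left ?_
        intro hIJ
        apply htI
        rw [hIJ]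
        exact Ideal.mem_sup_right (Ideal.subset_span rfl)
      have hJm : J ≤ IsLocalRing.maximalIdeal (A : Type u) := by
        apply sup_le hI
        rw [Ideal.span_le, Set.singleton_subset_iff]
        exact htmax
      exact ih J hJgt hJm _ (φ ≫ quotMk B K hK)
        ((quotMk_surjective B K hK).comp hφ) hJker
  refine claim ⊥ bot_le A (𝟙 A) Function.surjective_id ?_
  ext x
  rw [RingHom.mem_ker]
  rfl

end Induction

section DualSmall

open Art

lemma dualNumber_smallExt_aux :
    Function.Surjective (TrivSqZeroExt.fstHom Λ k k) ∧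
      RingHom.ker (TrivSqZeroExt.fstHom Λ k k) ≠ ⊥ ∧
      (RingHom.ker (TrivSqZeroExt.fstHom Λ k k)).IsPrincipal ∧
      IsLocalRing.maximalIdeal (DualNumber k) * RingHom.ker (TrivSqZeroExt.fstHom Λ k k) = ⊥ := by
  have hmem : ∀ x : DualNumber k, x ∈ RingHom.ker (TrivSqZeroExt.fstHom Λ k k) ↔
      TrivSqZeroExt.fst x = 0 := by
    intro x
    rw [RingHom.mem_ker]
    rfl
  have hsurj : Function.Surjective (TrivSqZeroExt.fstHom Λ k k) :=
    fun c => ⟨TrivSqZeroExt.inl c, rfl⟩
  have hmax : IsLocalRing.maximalIdeal (DualNumber k) = RingHom.ker (TrivSqZeroExt.fstHom Λ k k) := by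
    have : (RingHom.ker ((TrivSqZeroExt.fstHom Λ k k : DualNumber k →ₐ[Λ] k) : DualNumber k →+* k)).IsMaximal :=
      RingHom.ker_isMaximal_of_surjective _ hsurj
    exact (IsLocalRing.eq_maximalIdeal this).symm
  have hker : RingHom.ker (TrivSqZeroExt.fstHom Λ k k) =
      Ideal.span {(TrivSqZeroExt.inr (1 : k) : DualNumber k)} := by
    ext x
    rw [hmem, Ideal.mem_span_singleton']
    constructor
    · intro hx
      refine ⟨TrivSqZeroExt.inl x.snd, ?_⟩
      refine TrivSqZeroExt.ext ?_ ?_
      · simp [hx]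
      · simp
    · rintro ⟨c, rfl⟩
      simp
  refine ⟨hsurj, ?_, ?_, ?_⟩
  · intro hbot
    have h1 : (TrivSqZeroExt.inr (1 : k) : DualNumber k) ∈
        RingHom.ker (TrivSqZeroExt.fstHom Λ k k) := by
      rw [hmem]
      simp
    rw [hbot] at h1
    have h2 : (TrivSqZeroExt.inr (1 : k) : DualNumber k) = 0 := h1
    have h3 := congrArg TrivSqZeroExt.snd h2
    simp at h3
  · rw [hker]
    exact ⟨⟨_, rfl⟩⟩
  · rw [hmax, ← le_bot_iff, Ideal.mul_le]
    intro b hb x hx
    rw [hmem] at hb hx
    show b * x = 0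
    refine TrivSqZeroExt.ext ?_ ?_
    · simp [hb, hx]
    · simp [hb, hx]

/-- `k[ε] → k` is a small extension. -/
theorem isSmallExt_toBase_dual : IsSmallExt (toBase (dual Λ k)) := by
  have h := dualNumber_smallExt_aux (Λ := Λ) (k := k)
  exact h

end DualSmall

end Groth.Agent.Lib.Helper94
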