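import Mathlib
import Groth.Agent.Lib.Helper55.FL.NoethOpen
import Groth.Agent.Lib.Helper94.SyntF
import Groth.Agent.Lib.Helper94.SyntH

/-!
# Syntomic cluster, part J: openness of the transversally regular locus
-/

set_option autoImplicit false
universe u

namespace Groth.Agent.Lib.Helper94.SyntJ

open RingTheory.Sequence Ideal MvPolynomial TensorProduct
open Groth.Agent.Lib.Helper94.SyntB Groth.Agent.Lib.Helper94.SyntC
open Groth.Agent.Lib.Helper94.RegSpread Groth.Agent.Lib.Helper39.QSpread

/-- A1: a good denominator gives weak regularity at all primes not containing it. -/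
theorem isWeaklyRegular_atPrime_of_goodL {A : Type u} [CommRing A] (rs : List A) (g : A)
    (h : GoodL rs g) (q : Ideal A) [q.IsPrime] (hg : g ∉ q) :
    IsWeaklyRegular (Localization.AtPrime q) (rs.map (algebraMap A (Localization.AtPrime q))) := by
  rw [isWeaklyRegular_iff_forall_mem]
  intro i hi b hb
  have hi' : i < rs.length := by rwa [List.length_map] at hi
  rw [← List.map_take, ← Ideal.map_ofList] at hb ⊢
  rw [List.getElem_map] at hb
  obtain ⟨a, s, rfl⟩ := IsLocalization.exists_mk'_eq q.primeCompl b
  have h1 : algebraMap A (Localization.AtPrime q) (rs[i] * a) ∈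
      (ofList (rs.take i)).map (algebraMap A (Localization.AtPrime q)) := by
    have : algebraMap A (Localization.AtPrime q) (rs[i] * a) =
        algebraMap A (Localization.AtPrime q) s *
          (algebraMap A (Localization.AtPrime q) rs[i] * IsLocalization.mk' _ a s) := by
      rw [map_mul, mul_left_comm, IsLocalization.mk'_spec']
    rw [this]
    exact Ideal.mul_mem_left _ _ hb
  rw [IsLocalization.algebraMap_mem_map_algebraMap_iff q.primeCompl] at h1
  obtain ⟨m, hm, hma⟩ := h1
  have h2 : rs[i] * (m * a) ∈ ofList (rs.take i) := by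
    have : rs[i] * (m * a) = m * (rs[i] * a) := by ring
    rw [this]
    exact hma
  have h3 := h i hi' _ h2
  have hu : IsUnit (algebraMap A (Localization.AtPrime q) (g * m)) :=
    IsLocalization.map_units (Localization.AtPrime q)
      (⟨g * m, fun hmem => (Ideal.IsPrime.mem_or_mem inferInstance hmem).elim hg hm⟩ :
        q.primeCompl)
  have h4 : algebraMap A (Localization.AtPrime q) (g * m) * IsLocalization.mk' _ a s ∈
      (ofList (rs.take i)).map (algebraMap A (Localization.AtPrime q)) := by
    have : algebraMap A (Localization.AtPrime q) (g * m) * IsLocalization.mk' _ a s =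
        IsLocalization.mk' _ (1 : A) s * algebraMap A (Localization.AtPrime q) (g * (m * a)) := by
      rw [mul_comm (IsLocalization.mk' _ (1 : A) s), IsLocalization.mul_mk'_eq_mk'_of_mul,
        IsLocalization.mul_mk'_eq_mk'_of_mul, mul_one, mul_assoc]
    rw [this]
    exact Ideal.mul_mem_left _ _ (Ideal.mem_map_of_mem _ h3)
  exact (Ideal.unit_mul_mem_iff_mem _ hu).mp h4

/-- A2: the locus where the quotient of the local ring by an extended ideal is flat over a
Noetherian base is open. -/
theorem isOpen_flat_quotient (R S : Type u) [CommRing R] [CommRing S] [Algebra R S]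
    [IsNoetherianRing R] [Algebra.FiniteType R S] (J : Ideal S) :
    IsOpen {q : PrimeSpectrum S | Module.Flat R (Localization.AtPrime q.asIdeal ⧸
      J.map (algebraMap S (Localization.AtPrime q.asIdeal)))} := by
  set W := {q : PrimeSpectrum S | Module.Flat R (Localization.AtPrime q.asIdeal ⧸
      J.map (algebraMap S (Localization.AtPrime q.asIdeal)))} with hW
  let f : PrimeSpectrum (S ⧸ J) → PrimeSpectrum S := PrimeSpectrum.comap (Ideal.Quotient.mk J)
  have hf : Topology.IsClosedEmbedding f :=
    PrimeSpectrum.isClosedEmbedding_comap_of_surjective _ _ Ideal.Quotient.mk_surjective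
  have hU := Groth.Agent.Lib.Helper55.FL.isOpen_flatLocus R (S ⧸ J)
  set U := {q : PrimeSpectrum (S ⧸ J) | Module.Flat R (Localization.AtPrime q.asIdeal)} with hUdef
  have hiff : ∀ y : PrimeSpectrum (S ⧸ J), f y ∈ W ↔ y ∈ U := by
    intro y
    haveI i0 : IsLocalization.AtPrime (Localization.AtPrime (f y).asIdeal)
        (Ideal.comap (Ideal.Quotient.mk J) y.asIdeal) :=
      (inferInstance : IsLocalization.AtPrime (Localization.AtPrime (f y).asIdeal) (f y).asIdeal)
    haveI : IsLocalization.AtPrime
        (Localization.AtPrime (f y).asIdeal ⧸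
          J.map (algebraMap S (Localization.AtPrime (f y).asIdeal))) y.asIdeal :=
      Groth.Agent.Lib.Helper94.CIField.isLocalization_quotient_atPrime J y.asIdeal
        (Localization.AtPrime (f y).asIdeal)
    let e : (Localization.AtPrime (f y).asIdeal ⧸
          J.map (algebraMap S (Localization.AtPrime (f y).asIdeal))) ≃ₐ[S ⧸ J]
        Localization.AtPrime y.asIdeal := IsLocalization.algEquiv y.asIdeal.primeCompl _ _
    constructor
    · intro h
      haveI : Module.Flat R (Localization.AtPrime (f y).asIdeal ⧸
          J.map (algebraMap S (Localization.AtPrime (f y).asIdeal))) := h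
      exact Module.Flat.of_linearEquiv (e.symm.toLinearEquiv.restrictScalars R)
    · intro h
      haveI : Module.Flat R (Localization.AtPrime y.asIdeal) := h
      exact Module.Flat.of_linearEquiv (e.toLinearEquiv.restrictScalars R)
  have hcompl : Wᶜ = f '' Uᶜ := by
    ext x
    constructor
    · intro hx
      by_cases hJx : J ≤ x.asIdeal
      · have hxr : x ∈ Set.range f := by
          rw [_root_.range_comap_of_surjective _ _ Ideal.Quotient.mk_surjective,
            Ideal.mk_ker]
          exact hJx
        obtain ⟨y, rfl⟩ := hxr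
        exact ⟨y, fun hy => hx ((hiff y).mpr hy), rfl⟩
      · exfalso
        apply hx
        obtain ⟨a, haJ, hax⟩ := Set.not_subset.mp hJx
        have htop : J.map (algebraMap S (Localization.AtPrime x.asIdeal)) = ⊤ := by
          apply Ideal.eq_top_of_isUnit_mem _ (Ideal.mem_map_of_mem _ haJ)
          exact IsLocalization.map_units (Localization.AtPrime x.asIdeal)
            (⟨a, hax⟩ : x.asIdeal.primeCompl)
        haveI : Subsingleton (Localization.AtPrime x.asIdeal ⧸
            J.map (algebraMap S (Localization.AtPrime x.asIdeal))) :=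
          Ideal.Quotient.subsingleton_iff.mpr htop
        show Module.Flat R _
        infer_instance
    · rintro ⟨y, hy, rfl⟩
      exact fun h => hy ((hiff y).mp h)
  rw [← isClosed_compl_iff, hcompl]
  exact hf.isClosedMap _ hU.isClosed_compl

/-- A3: over a Noetherian base the transversally regular locus is open. -/
theorem isOpen_transRegAt (R : Type u) [CommRing R] [IsNoetherianRing R] {n : ℕ}
    (Fs : List (MvPolynomial (Fin n) R)) :
    IsOpen {q : PrimeSpectrum (MvPolynomial (Fin n) R) | TransRegAt R Fs q.asIdeal} := by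
  have h1 : IsOpen {q : PrimeSpectrum (MvPolynomial (Fin n) R) |
      IsWeaklyRegular (Localization.AtPrime q.asIdeal)
        (Fs.map (algebraMap _ (Localization.AtPrime q.asIdeal)))} := by
    rw [isOpen_iff_forall_mem_open]
    intro q hq
    obtain ⟨g, hg, hgood⟩ := exists_goodL q.asIdeal (Localization.AtPrime q.asIdeal) Fs hq
    refine ⟨PrimeSpectrum.basicOpen g, ?_, (PrimeSpectrum.basicOpen g).isOpen, hg⟩
    intro q' hq'
    exact isWeaklyRegular_atPrime_of_goodL Fs g hgood q'.asIdeal hq'
  have h2 : ∀ i : ℕ, IsOpen {q : PrimeSpectrum (MvPolynomial (Fin n) R) |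
      Module.Flat R (Localization.AtPrime q.asIdeal ⧸
        ofList ((Fs.take i).map (algebraMap _ (Localization.AtPrime q.asIdeal))))} := by
    intro i
    have := isOpen_flat_quotient R (MvPolynomial (Fin n) R) (ofList (Fs.take i))
    have heq : ∀ q : PrimeSpectrum (MvPolynomial (Fin n) R),
        (ofList (Fs.take i)).map (algebraMap _ (Localization.AtPrime q.asIdeal)) =
        ofList ((Fs.take i).map (algebraMap _ (Localization.AtPrime q.asIdeal))) :=
      fun q => Ideal.map_ofList _ _
    convert this using 3 with q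
    rw [heq q]
  have h3 : {q : PrimeSpectrum (MvPolynomial (Fin n) R) | TransRegAt R Fs q.asIdeal} =
      {q : PrimeSpectrum (MvPolynomial (Fin n) R) |
        IsWeaklyRegular (Localization.AtPrime q.asIdeal)
          (Fs.map (algebraMap _ (Localization.AtPrime q.asIdeal)))} ∩
      ⋂ i ∈ Finset.range (Fs.length + 1), {q : PrimeSpectrum (MvPolynomial (Fin n) R) |
        Module.Flat R (Localization.AtPrime q.asIdeal ⧸
          ofList ((Fs.take i).map (algebraMap _ (Localization.AtPrime q.asIdeal))))} := by
    ext q
    simp only [TransRegAt, Set.mem_ofPred_eq, Set.mem_inter_iff, Set.mem_iInter, Finset.mem_range,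
      Nat.lt_succ_iff]
  rw [h3]
  exact h1.inter (isOpen_biInter_finset fun i _ => h2 i)

/-- E3/E4: transversal regularity at a prime can be tested on a Noetherian approximation. -/
theorem transRegAt_iff_of_noetherian {R₀ R : Type u} [CommRing R₀] [CommRing R] [Algebra R₀ R]
    [IsNoetherianRing R₀] {n : ℕ} (q' : Ideal (MvPolynomial (Fin n) R)) [q'.IsPrime]
    (q₀' : Ideal (MvPolynomial (Fin n) R₀)) [q₀'.IsPrime]
    (hq : q₀' = q'.comap (MvPolynomial.map (algebraMap R₀ R)))
    (F₀ : List (MvPolynomial (Fin n) R₀)) :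
    TransRegAt R (F₀.map (MvPolynomial.map (algebraMap R₀ R))) q' ↔ TransRegAt R₀ F₀ q₀' := by
  constructor
  · intro hT
    let p : Ideal R := q'.comap (C : R →+* MvPolynomial (Fin n) R)
    haveI : p.IsPrime := Ideal.comap_isPrime _ q'
    obtain ⟨Q, hQp, hQ⟩ := exists_prime_fibre q' p rfl
    haveI := hQp
    have hA := Groth.Agent.Lib.Helper94.SyntD.transRegAt_ascent (R₁ := R) (R := p.ResidueField)
      Q q' hQ _ hT
    subst hq
    exact Groth.Agent.Lib.Helper94.SyntE.transRegAt_noetherian_of_fibre q' p rfl Q hQ F₀ hA.1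
  · intro hT
    exact Groth.Agent.Lib.Helper94.SyntD.transRegAt_ascent q' q₀' hq F₀ hT

/-- The good locus: primes at which (if they contain the relations) the relations are
transversally regular. -/
def GoodLocus (R : Type u) [CommRing R] {n c : ℕ} (F : Fin c → MvPolynomial (Fin n) R) :
    Set (PrimeSpectrum (MvPolynomial (Fin n) R)) :=
  {q | Ideal.span (Set.range F) ≤ q.asIdeal → TransRegAt R (List.ofFn F) q.asIdeal}

theorem goodLocus_eq_preimage {R₀ R : Type u} [CommRing R₀] [CommRing R] [Algebra R₀ R]
    [IsNoetherianRing R₀] {n c : ℕ} (F₀ : Fin c → MvPolynomial (Fin n) R₀)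
    (F : Fin c → MvPolynomial (Fin n) R)
    (hF : ∀ i, MvPolynomial.map (algebraMap R₀ R) (F₀ i) = F i) :
    GoodLocus R F = PrimeSpectrum.comap (MvPolynomial.map (algebraMap R₀ R)) ⁻¹' GoodLocus R₀ F₀ := by
  ext q
  have hlist : (List.ofFn F₀).map (MvPolynomial.map (algebraMap R₀ R)) = List.ofFn F := by
    rw [List.map_ofFn]
    congr 1
    funext i
    exact hF i
  have hspan : Ideal.span (Set.range F) ≤ q.asIdeal ↔
      Ideal.span (Set.range F₀) ≤ q.asIdeal.comap (MvPolynomial.map (algebraMap R₀ R)) := by
    rw [Ideal.span_le, Ideal.span_le]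
    constructor
    · rintro h _ ⟨i, rfl⟩
      show MvPolynomial.map (algebraMap R₀ R) (F₀ i) ∈ q.asIdeal
      rw [hF]
      exact h ⟨i, rfl⟩
    · rintro h _ ⟨i, rfl⟩
      rw [← hF]
      exact h ⟨i, rfl⟩
  simp only [GoodLocus, Set.mem_ofPred_eq, Set.mem_preimage, PrimeSpectrum.comap_asIdeal]
  rw [hspan, ← hlist, transRegAt_iff_of_noetherian q.asIdeal _ rfl]

theorem isOpen_goodLocus_of_noetherian (R : Type u) [CommRing R] [IsNoetherianRing R] {n c : ℕ}
    (F : Fin c → MvPolynomial (Fin n) R) : IsOpen (GoodLocus R F) := by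
  have h1 := isOpen_transRegAt R (List.ofFn F)
  have h2 : IsOpen (PrimeSpectrum.zeroLocus
      (Ideal.span (Set.range F) : Set (MvPolynomial (Fin n) R)))ᶜ :=
    (PrimeSpectrum.isClosed_zeroLocus _).isOpen_compl
  have : GoodLocus R F = (PrimeSpectrum.zeroLocus
      (Ideal.span (Set.range F) : Set (MvPolynomial (Fin n) R)))ᶜ ∪
      {q | TransRegAt R (List.ofFn F) q.asIdeal} := by
    ext q
    simp only [GoodLocus, Set.mem_ofPred_eq, Set.mem_union, Set.mem_compl_iff,
      PrimeSpectrum.mem_zeroLocus, SetLike.coe_subset_coe]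
    tauto
  rw [this]
  exact h2.union h1

/-- A4: the good locus is open over any base ring. -/
theorem isOpen_goodLocus (R : Type u) [CommRing R] {n c : ℕ}
    (F : Fin c → MvPolynomial (Fin n) R) : IsOpen (GoodLocus R F) := by
  obtain ⟨R₀, F₀, hFT, -, hF₀⟩ :=
    Groth.Agent.Lib.Helper94.SyntF.exists_subalgebra R F ∅ Set.finite_empty
  haveI : IsNoetherianRing R₀ := Algebra.FiniteType.isNoetherianRing ℤ R₀
  rw [goodLocus_eq_preimage F₀ F hF₀]
  exact (isOpen_goodLocus_of_noetherian R₀ F₀).preimage (PrimeSpectrum.continuous_comap _)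

end Groth.Agent.Lib.Helper94.SyntJ
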