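import Mathlib
import Groth.Agent.Lib.Helper94.CIDim
import Groth.Agent.Lib.Helper94.CIField

/-!
# Syntomic cluster, part K: dimension of a basic open of `k[x]/(r)` on which `r` is regular
-/

set_option autoImplicit false
universe u

namespace Groth.Agent.Lib.Helper94.SyntK

open RingTheory.Sequence Ideal MvPolynomial

theorem isRegular_of_isWeaklyRegular_of_le {B : Type*} [CommRing B] [IsLocalRing B] (rs : List B)
    (h : IsWeaklyRegular B rs) (hle : ofList rs ≤ IsLocalRing.maximalIdeal B) :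
    IsRegular B rs := by
  refine ⟨h, ?_⟩
  rw [smul_eq_mul, Ideal.mul_top]
  intro htop
  exact (IsLocalRing.maximalIdeal.isMaximal B).ne_top (top_le_iff.mp (htop ▸ hle))

variable {k : Type u} [Field k] {n c : ℕ} (r : Fin c → MvPolynomial (Fin n) k)

/-- `ht 𝔮 + dim A/𝔮 = n - c` at primes where the relations are regular. -/
theorem height_add_of_regular
    (𝔮 : Ideal (MvPolynomial (Fin n) k ⧸ Ideal.span (Set.range r))) [𝔮.IsPrime]
    (hreg : IsWeaklyRegular
      (Localization.AtPrime (𝔮.comap (Ideal.Quotient.mk (Ideal.span (Set.range r)))))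
      ((List.ofFn r).map (algebraMap (MvPolynomial (Fin n) k)
        (Localization.AtPrime (𝔮.comap (Ideal.Quotient.mk (Ideal.span (Set.range r)))))))) :
    c ≤ n ∧ ((𝔮.height : ℕ∞) : WithBot ℕ∞) +
      ringKrullDim ((MvPolynomial (Fin n) k ⧸ Ideal.span (Set.range r)) ⧸ 𝔮) =
      ((n - c : ℕ) : WithBot ℕ∞) := by
  let I := Ideal.span (Set.range r)
  let φ : MvPolynomial (Fin n) k →ₐ[k] (MvPolynomial (Fin n) k ⧸ I) := Ideal.Quotient.mkₐ k _
  have hφ : Function.Surjective φ := Ideal.Quotient.mkₐ_surjective k _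
  let Q : Ideal (MvPolynomial (Fin n) k) := 𝔮.comap (Ideal.Quotient.mk I)
  have hG1 := Groth.Agent.Lib.Helper94.CIDim.height_comap_add_ringKrullDim_quotient φ hφ 𝔮
  have hIQ : I ≤ Q := by
    intro x hx
    show Ideal.Quotient.mk I x ∈ 𝔮
    rw [Ideal.Quotient.eq_zero_iff_mem.mpr hx]
    exact 𝔮.zero_mem
  have hle : ofList ((List.ofFn r).map (algebraMap _ (Localization.AtPrime Q))) ≤
      IsLocalRing.maximalIdeal (Localization.AtPrime Q) := by
    rw [← Ideal.map_ofList, Groth.Agent.Lib.Helper94.CIField.ofList_ofFn,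
      ← Localization.AtPrime.map_eq_maximalIdeal]
    exact Ideal.map_mono hIQ
  have hR := isRegular_of_isWeaklyRegular_of_le _ hreg hle
  have hdim := ringKrullDim_add_length_eq_ringKrullDim_of_isRegular _ hR
  rw [List.length_map, List.length_ofFn, ← Ideal.map_ofList,
    Groth.Agent.Lib.Helper94.CIField.ofList_ofFn] at hdim
  haveI := Groth.Agent.Lib.Helper94.CIField.isLocalization_quotient_atPrime I 𝔮
    (Localization.AtPrime Q)
  rw [IsLocalization.AtPrime.ringKrullDim_eq_height 𝔮,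
    IsLocalization.AtPrime.ringKrullDim_eq_height Q] at hdim
  -- hdim : 𝔮.height + c = Q.height ; hG1 : Q.height + dim = n
  have hQφ : (Ideal.comap φ.toRingHom 𝔮) = Q := rfl
  rw [hQφ, ← hdim] at hG1
  cases hD : ringKrullDim ((MvPolynomial (Fin n) k ⧸ I) ⧸ 𝔮) with
  | bot =>
    rw [hD, WithBot.add_bot] at hG1
    exact absurd hG1 (by simp)
  | coe e =>
    rw [hD] at hG1
    have hG1' : (𝔮.height + (c : ℕ∞) + e : ℕ∞) = (n : ℕ∞) := by
      exact_mod_cast hG1
    have hfin : 𝔮.height + (c : ℕ∞) + e ≠ ⊤ := by rw [hG1']; exact ENat.natCast_ne_top n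
    obtain ⟨a, ha⟩ := ENat.ne_top_iff_exists.mp
      (ne_top_of_le_ne_top hfin (le_add_right le_self_add))
    obtain ⟨e', he'⟩ := ENat.ne_top_iff_exists.mp (ne_top_of_le_ne_top hfin le_add_self)
    rw [← ha, ← he'] at hG1'
    have hnat : a + c + e' = n := by exact_mod_cast hG1'
    refine ⟨by omega, ?_⟩
    show ((𝔮.height : ℕ∞) : WithBot ℕ∞) + ((e : ℕ∞) : WithBot ℕ∞) = _
    rw [← ha, ← he']
    have : n - c = a + e' := by omega
    rw [this]
    norm_cast

/-- (B): if the relations are regular at all primes of the basic open `D(h)` of `V(r)`, then this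
basic open (if nonempty) has dimension `n - c`. -/
theorem ringKrullDim_away_of_regular (h : MvPolynomial (Fin n) k)
    (hreg : ∀ (Q : Ideal (MvPolynomial (Fin n) k)) [Q.IsPrime],
      Ideal.span (Set.range r) ≤ Q → h ∉ Q →
        IsWeaklyRegular (Localization.AtPrime Q)
          ((List.ofFn r).map (algebraMap (MvPolynomial (Fin n) k) (Localization.AtPrime Q))))
    [Nontrivial (Localization.Away (Ideal.Quotient.mk (Ideal.span (Set.range r)) h))] :
    c ≤ n ∧ ringKrullDim (Localization.Away (Ideal.Quotient.mk (Ideal.span (Set.range r)) h)) =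
      ((n - c : ℕ) : WithBot ℕ∞) := by
  set I := Ideal.span (Set.range r) with hI
  set g := Ideal.Quotient.mk I h with hg
  haveI : Algebra.FiniteType k (MvPolynomial (Fin n) k ⧸ I) := inferInstance
  have key : ∀ (𝔮 : Ideal (MvPolynomial (Fin n) k ⧸ I)) [𝔮.IsPrime], g ∉ 𝔮 →
      c ≤ n ∧ ((𝔮.height : ℕ∞) : WithBot ℕ∞) + ringKrullDim ((MvPolynomial (Fin n) k ⧸ I) ⧸ 𝔮) =
        ((n - c : ℕ) : WithBot ℕ∞) := by
    intro 𝔮 _ hg𝔮
    apply height_add_of_regular r 𝔮
    apply hreg
    · intro x hx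
      show Ideal.Quotient.mk I x ∈ 𝔮
      rw [Ideal.Quotient.eq_zero_iff_mem.mpr hx]
      exact 𝔮.zero_mem
    · exact hg𝔮
  have hgP : ∀ (P : Ideal (Localization.Away g)) [P.IsPrime],
      g ∉ P.under (MvPolynomial (Fin n) k ⧸ I) := by
    intro P _ hmem
    have h1 : algebraMap _ (Localization.Away g) g ∈ P := hmem
    exact Ideal.IsPrime.ne_top inferInstance
      (Ideal.eq_top_of_isUnit_mem _ h1 (IsLocalization.Away.algebraMap_isUnit g))
  obtain ⟨P₀, hP₀⟩ := Ideal.exists_maximal (Localization.Away g)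
  haveI : P₀.IsPrime := hP₀.isPrime
  haveI : (P₀.under (MvPolynomial (Fin n) k ⧸ I)).IsPrime := Ideal.IsPrime.under _ P₀
  refine ⟨(key (P₀.under (MvPolynomial (Fin n) k ⧸ I)) (hgP P₀)).1, ?_⟩
  apply le_antisymm
  · rw [ringKrullDim_le_iff_height_le]
    intro P hP
    rw [← IsLocalization.height_under (Submonoid.powers g) P]
    haveI : (P.under (MvPolynomial (Fin n) k ⧸ I)).IsPrime := Ideal.IsPrime.under _ P
    have h1 := (key (P.under (MvPolynomial (Fin n) k ⧸ I)) (hgP P)).2
    have h2 : (0 : WithBot ℕ∞) ≤ ringKrullDim ((MvPolynomial (Fin n) k ⧸ I) ⧸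
        P.under (MvPolynomial (Fin n) k ⧸ I)) := ringKrullDim_nonneg_of_nontrivial
    rw [← h1]
    exact le_add_of_nonneg_right h2
  · obtain ⟨P, hP⟩ := Ideal.exists_maximal (Localization.Away g)
    haveI : P.IsPrime := hP.isPrime
    haveI : (P.under (MvPolynomial (Fin n) k ⧸ I)).IsPrime := Ideal.IsPrime.under _ P
    rw [← (key (P.under (MvPolynomial (Fin n) k ⧸ I)) (hgP P)).2]
    exact Groth.Agent.Lib.Helper94.CIDim.height_add_ringKrullDim_quotient_le_away k _ g _ (hgP P)

end Groth.Agent.Lib.Helper94.SyntK
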