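import Mathlib
import Groth.Prelude.Def_RegImm
import Groth.Agent.Lib.Helper94.CIPres

/-!
# Syntomic cluster, part L: standard presentation of a principal localization (last variable)
-/

set_option autoImplicit false
universe u

namespace Groth.Agent.Lib.Helper94.SyntL

open Ideal MvPolynomial Groth.Agent.Lib.Helper94.CIPres

variable (R : Type u) [CommRing R] (n c : ℕ) (F : Fin c → MvPolynomial (Fin n) R)
  (h : MvPolynomial (Fin n) R)

/-- the relations of the standard presentation of `S_g` -/
noncomputable abbrev rel : Fin (c + 1) → MvPolynomial (Fin (n + 1)) R :=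
  Fin.snoc (fun i => rename Fin.castSucc (F i)) (rename Fin.castSucc h * X (Fin.last n) - 1)

/-- rotation of variables -/
def rot : Fin (n + 1) → Fin (n + 1) := Fin.snoc Fin.succ 0

def rotInv : Fin (n + 1) → Fin (n + 1) := Fin.cons (Fin.last n) Fin.castSucc

theorem rot_castSucc (i : Fin n) : rot n (Fin.castSucc i) = Fin.succ i := by
  simp [rot]

theorem rot_last : rot n (Fin.last n) = 0 := by
  simp [rot]

theorem rotInv_succ (i : Fin n) : rotInv n (Fin.succ i) = Fin.castSucc i := by
  simp [rotInv]

theorem rotInv_zero : rotInv n 0 = Fin.last n := by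
  simp [rotInv]

theorem rotInv_rot (i : Fin (n + 1)) : rotInv n (rot n i) = i := by
  induction i using Fin.lastCases with
  | last => rw [rot_last, rotInv_zero]
  | cast j => rw [rot_castSucc, rotInv_succ]

theorem range_rel : Set.range (rel R n c F h) =
    insert (rename Fin.castSucc h * X (Fin.last n) - 1)
      (Set.range fun i => rename Fin.castSucc (F i)) := by
  ext x
  constructor
  · rintro ⟨i, rfl⟩
    induction i using Fin.lastCases with
    | last => left; simp [rel]
    | cast j => right; exact ⟨j, by simp [rel]⟩
  · rintro (rfl | ⟨j, rfl⟩)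
    · exact ⟨Fin.last c, by simp [rel]⟩
    · exact ⟨Fin.castSucc j, by simp [rel]⟩

/-- The presentation map `R[x_1..x_{n+1}] → (R[x]/(F))_h`. -/
noncomputable def presHom : MvPolynomial (Fin (n + 1)) R →ₐ[R]
    Localization.Away (Ideal.Quotient.mkₐ R (Ideal.span (Set.range F)) h) :=
  (awayHom (Ideal.Quotient.mkₐ R (Ideal.span (Set.range F))) h).comp (rename (rot n))

theorem presHom_surjective : Function.Surjective (presHom R n c F h) := by
  intro z
  obtain ⟨y, rfl⟩ := awayHom_surjective (Ideal.Quotient.mkₐ R (Ideal.span (Set.range F))) h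
    (Ideal.Quotient.mkₐ_surjective R _) z
  refine ⟨rename (rotInv n) y, ?_⟩
  show awayHom _ h (rename (rot n) (rename (rotInv n) y)) = _
  rw [rename_rename]
  have : rot n ∘ rotInv n = id := by
    funext i
    induction i using Fin.cases with
    | zero => simp [rotInv_zero, rot_last]
    | succ j => simp [rotInv_succ, rot_castSucc]
  rw [this, rename_id_apply]

theorem ker_presHom : RingHom.ker (presHom R n c F h).toRingHom =
    Ideal.span (Set.range (rel R n c F h)) := by
  have hker := ker_awayHom (Ideal.Quotient.mkₐ R (Ideal.span (Set.range F))) h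
    (Ideal.span (Set.range F)) (by rw [AlgHom.toRingHom_eq_coe, Ideal.Quotient.mkₐ_ker])
    (fun a ha => ⟨0, by
      rw [pow_zero, one_mul]
      rwa [AlgHom.toRingHom_eq_coe, Ideal.Quotient.mkₐ_ker] at ha⟩)
  rw [range_rel, Ideal.span_insert]
  apply le_antisymm
  · intro x hx
    have hx' : rename (rot n) x ∈ RingHom.ker
        (awayHom (Ideal.Quotient.mkₐ R (Ideal.span (Set.range F))) h).toRingHom := hx
    rw [hker] at hx'
    have hx2 : x = rename (rotInv n) (rename (rot n) x) := by
      rw [rename_rename]
      have : rotInv n ∘ rot n = id := funext (rotInv_rot n)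
      rw [this, rename_id_apply]
    rw [hx2]
    let ρI : MvPolynomial (Fin (n + 1)) R →+* MvPolynomial (Fin (n + 1)) R :=
      (rename (rotInv n) : MvPolynomial (Fin (n + 1)) R →ₐ[R] _).toRingHom
    have := Ideal.mem_map_of_mem ρI hx'
    rw [Ideal.map_sup, Ideal.map_map, Ideal.map_span, Ideal.map_span, Set.image_singleton] at this
    have hle : span (⇑(ρI.comp (ι : MvPolynomial (Fin n) R →ₐ[R] _).toRingHom) '' Set.range F) ⊔
        span {ρI (X 0 * ι h - 1 : MvPolynomial (Fin (n + 1)) R)} ≤
        span {(rename Fin.castSucc) h * X (Fin.last n) - 1} ⊔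
          span (Set.range fun i => (rename Fin.castSucc) (F i)) := ?_
    · exact hle this
    apply sup_le
    · apply le_sup_of_le_right
      rw [Ideal.span_le]
      rintro _ ⟨y, hy, rfl⟩
      have hι : ∀ y : MvPolynomial (Fin n) R, ρI (ι y) = rename Fin.castSucc y := by
        intro y
        show rename (rotInv n) (rename Fin.succ y) = _
        rw [rename_rename]
        have : rotInv n ∘ Fin.succ = Fin.castSucc := funext (rotInv_succ n)
        rw [this]
      obtain ⟨i, rfl⟩ := hy
      exact Ideal.subset_span ⟨i, (hι (F i)).symm⟩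
    · apply le_sup_of_le_left
      rw [Ideal.span_le, Set.singleton_subset_iff]
      have : ρI (X 0 * ι h - 1 : MvPolynomial (Fin (n + 1)) R) =
          rename Fin.castSucc h * X (Fin.last n) - 1 := by
        show (rename (rotInv n)) (X 0 * ι h - 1 : MvPolynomial (Fin (n + 1)) R) = _
        simp only [map_sub, map_mul, rename_X, map_one, ι, rename_rename, rotInv_zero]
        rw [mul_comm]
        congr 3
      rw [SetLike.mem_coe, this]
      exact Ideal.subset_span rfl
  · refine sup_le ?_ ?_
    · rw [Ideal.span_le, Set.singleton_subset_iff]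
      show presHom R n c F h _ = 0
      simp only [presHom, AlgHom.comp_apply, map_sub, map_mul, rename_X, map_one, rename_rename,
        rot_last]
      have : rot n ∘ Fin.castSucc = Fin.succ := funext (rot_castSucc n)
      rw [this]
      have h0 := awayHom_rel (Ideal.Quotient.mkₐ R (Ideal.span (Set.range F))) h
      rw [map_sub, map_mul, map_one] at h0
      rw [mul_comm]
      exact h0
    · rw [Ideal.span_le]
      rintro _ ⟨i, rfl⟩
      show presHom R n c F h _ = 0
      simp only [presHom, AlgHom.comp_apply, rename_rename]
      have : rot n ∘ Fin.castSucc = Fin.succ := funext (rot_castSucc n)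
      rw [this]
      rw [show (rename Fin.succ) (F i) = ι (F i) from rfl, awayHom_ι]
      have : (Ideal.Quotient.mkₐ R (Ideal.span (Set.range F))) (F i) = 0 :=
        Ideal.Quotient.eq_zero_iff_mem.mpr (Ideal.subset_span ⟨i, rfl⟩)
      rw [this, map_zero]

/-- (C): the standard presentation of a principal localization of a presented algebra. -/
theorem nonempty_algEquiv_away :
    Nonempty (Localization.Away (Ideal.Quotient.mk (Ideal.span (Set.range F)) h) ≃ₐ[R]
      Synt.RelGCIRing R (n + 1) (c + 1) (rel R n c F h)) := by
  let e1 := Ideal.quotientKerAlgEquivOfSurjective (presHom_surjective R n c F h)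
  let e2 := Ideal.quotientEquivAlgOfEq R (ker_presHom R n c F h)
  exact ⟨(e2.symm.trans e1).symm⟩

end Groth.Agent.Lib.Helper94.SyntL
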