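import Mathlib
import Groth.Agent.Lib.Helper94.SyntJ
import Groth.Agent.Lib.Helper94.SyntK
import Groth.Agent.Lib.Helper94.SyntL

/-!
# Syntomic cluster, part M: transversal regularity under arbitrary base change; localizations of
presented algebras which are relative global complete intersections
-/

set_option autoImplicit false
universe u

namespace Groth.Agent.Lib.Helper94.SyntM

open RingTheory.Sequence Ideal MvPolynomial TensorProduct
open Groth.Agent.Lib.Helper94.SyntA Groth.Agent.Lib.Helper94.SyntB Groth.Agent.Lib.Helper94.SyntC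
open Groth.Agent.Lib.Helper94.SyntJ Groth.Agent.Lib.Helper94.SyntL

/-- Transversal regularity at a prime is insensitive to base change (any ring map `R₁ → R`). -/
theorem transRegAt_iff {R₁ R : Type u} [CommRing R₁] [CommRing R] [Algebra R₁ R] {n c : ℕ}
    (q' : Ideal (MvPolynomial (Fin n) R)) [q'.IsPrime]
    (q₁' : Ideal (MvPolynomial (Fin n) R₁)) [q₁'.IsPrime]
    (hq : q₁' = q'.comap (MvPolynomial.map (algebraMap R₁ R)))
    (F₁ : Fin c → MvPolynomial (Fin n) R₁) :
    TransRegAt R ((List.ofFn F₁).map (MvPolynomial.map (algebraMap R₁ R))) q' ↔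
      TransRegAt R₁ (List.ofFn F₁) q₁' := by
  constructor
  · intro hT
    subst hq
    let p : Ideal R := q'.comap (C : R →+* MvPolynomial (Fin n) R)
    haveI : p.IsPrime := Ideal.comap_isPrime _ q'
    obtain ⟨Q, hQp, hQ⟩ := exists_prime_fibre q' p rfl
    haveI := hQp
    have hA := (Groth.Agent.Lib.Helper94.SyntD.transRegAt_ascent (R₁ := R) (R := p.ResidueField)
      Q q' hQ _ hT).1
    let μ : MvPolynomial (Fin n) R₁ →+* MvPolynomial (Fin n) R :=
      MvPolynomial.map (algebraMap R₁ R)
    let q₁' : Ideal (MvPolynomial (Fin n) R₁) := q'.comap μ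
    let p₁ : Ideal R₁ := p.comap (algebraMap R₁ R)
    haveI : p₁.IsPrime := Ideal.comap_isPrime _ p
    have hp₁ : p₁ = q₁'.comap (C : R₁ →+* MvPolynomial (Fin n) R₁) := by
      ext r
      simp only [p₁, p, q₁', μ, Ideal.mem_comap, MvPolynomial.map_C]
    let ι : p₁.ResidueField →+* p.ResidueField :=
      Ideal.ResidueField.map p₁ p (algebraMap R₁ R) rfl
    have hι : ι.comp (algebraMap R₁ p₁.ResidueField) =
        (algebraMap R p.ResidueField).comp (algebraMap R₁ R) := by
      ext r
      simp [ι]
    have hcomp : (MvPolynomial.map ι).comp (psi (n := n) p₁) = (psi p).comp μ := by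
      refine RingHom.ext fun a => ?_
      simp only [psi, μ, RingHom.comp_apply, MvPolynomial.map_map, hι]
    let Q₁ : Ideal (MvPolynomial (Fin n) p₁.ResidueField) := Q.comap (MvPolynomial.map ι)
    haveI : Q₁.IsPrime := Ideal.comap_isPrime _ Q
    have hQ₁ : q₁' = Q₁.comap (psi p₁) := by
      simp only [Q₁, q₁', Ideal.comap_comap, hcomp]
      rw [← Ideal.comap_comap, ← hQ]
    have hflat : (MvPolynomial.map (σ := Fin n) ι).Flat := by
      apply flat_ringHom_mvPolynomial_map
      letI := ι.toAlgebra
      show Module.Flat p₁.ResidueField p.ResidueField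
      infer_instance
    have hlist : (((List.ofFn F₁).map (psi p₁)).map (MvPolynomial.map ι)) =
        ((List.ofFn F₁).map μ).map (psi p) := by
      rw [List.map_map, List.map_map]
      refine List.map_congr_left fun a _ => ?_
      exact RingHom.congr_fun hcomp a
    have h1 : IsWeaklyRegular (Localization.AtPrime Q₁)
        (((List.ofFn F₁).map (psi p₁)).map (algebraMap _ (Localization.AtPrime Q₁))) := by
      apply isWeaklyRegular_localization_of_flat (MvPolynomial.map ι) hflat Q Q₁ rfl
      rw [hlist]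
      exact hA
    apply Groth.Agent.Lib.Helper94.SyntF.transRegAt_of_fibre R₁ n c F₁ q₁' p₁ hp₁ Q₁ hQ₁
    rw [List.map_ofFn, List.map_ofFn] at h1
    exact h1
  · intro hT
    exact Groth.Agent.Lib.Helper94.SyntD.transRegAt_ascent q' q₁' hq _ hT

theorem fibreEquiv_tmul (R : Type u) [CommRing R] (n c : ℕ) (F : Fin c → MvPolynomial (Fin n) R)
    (p : Ideal R) [p.IsPrime] (h : MvPolynomial (Fin n) R) :
    Groth.Agent.Lib.Helper94.SyntF.fibreEquiv R n c F p
      ((1 : p.ResidueField) ⊗ₜ[R] (Ideal.Quotient.mk (Ideal.span (Set.range F)) h)) =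
      Ideal.Quotient.mk _ (psi p h) := by
  simp only [Groth.Agent.Lib.Helper94.SyntF.fibreEquiv, AlgEquiv.trans_apply,
    Algebra.TensorProduct.tensorQuotientEquiv_apply_tmul]
  erw [Ideal.quotientEquivAlg_mk]
  simp [psi]

/-- (M1) If the relations are transversally regular on `D(h) ∩ V(F)`, then the standard
presentation of `S_h` is a relative global complete intersection. -/
theorem isRelGCI_rel (R : Type u) [CommRing R] (n c : ℕ) (F : Fin c → MvPolynomial (Fin n) R)
    (h : MvPolynomial (Fin n) R)
    (hgood : ∀ (q' : Ideal (MvPolynomial (Fin n) R)) [q'.IsPrime],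
      Ideal.span (Set.range F) ≤ q' → h ∉ q' → TransRegAt R (List.ofFn F) q') :
    Synt.IsRelGCI R (n + 1) (c + 1) (rel R n c F h) := by
  intro p' hnt
  let p : Ideal R := p'.asIdeal
  let g := Ideal.Quotient.mk (Ideal.span (Set.range F)) h
  let e0 : Synt.RelGCIRing R (n + 1) (c + 1) (rel R n c F h) ≃ₐ[R] Localization.Away g :=
    (nonempty_algEquiv_away R n c F h).some.symm
  let e1 : p.Fiber (Synt.RelGCIRing R (n + 1) (c + 1) (rel R n c F h)) ≃ₐ[p.ResidueField]
      p.ResidueField ⊗[R] Localization.Away g :=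
    Algebra.TensorProduct.congr AlgEquiv.refl e0
  let e2 : p.ResidueField ⊗[R] Localization.Away g ≃ₐ[p.ResidueField]
      Localization.Away ((1 : p.ResidueField) ⊗ₜ[R] g) :=
    IsLocalization.Away.tensorProductEquivTMulRight R p.ResidueField g (Localization.Away g)
  have H : Submonoid.map (Groth.Agent.Lib.Helper94.SyntF.fibreEquiv R n c F p)
      (Submonoid.powers ((1 : p.ResidueField) ⊗ₜ[R] g)) =
      Submonoid.powers (Ideal.Quotient.mk (Ideal.span (Set.range fun i => psi p (F i)))
        (psi p h)) := by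
    rw [Submonoid.map_powers]
    congr 1
    exact fibreEquiv_tmul R n c F p h
  let e3 : Localization.Away ((1 : p.ResidueField) ⊗ₜ[R] g) ≃ₐ[p.ResidueField]
      Localization.Away (Ideal.Quotient.mk (Ideal.span (Set.range fun i => psi p (F i)))
        (psi p h)) :=
    IsLocalization.algEquivOfAlgEquiv (A := p.ResidueField)
      (R := p.Fiber (Synt.RelGCIRing R n c F))
      (M := Submonoid.powers ((1 : p.ResidueField) ⊗ₜ[R] g))
      (Localization.Away ((1 : p.ResidueField) ⊗ₜ[R] g))
      (T := Submonoid.powers (Ideal.Quotient.mk (Ideal.span (Set.range fun i => psi p (F i)))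
        (psi p h)))
      (Localization.Away (Ideal.Quotient.mk (Ideal.span (Set.range fun i => psi p (F i)))
        (psi p h)))
      (Groth.Agent.Lib.Helper94.SyntF.fibreEquiv R n c F p) H
  let e := (e1.trans e2).trans e3
  haveI : Nontrivial (Localization.Away (Ideal.Quotient.mk
      (Ideal.span (Set.range fun i => psi p (F i))) (psi p h))) := e.symm.toEquiv.nontrivial
  obtain ⟨hc, hdim⟩ := Groth.Agent.Lib.Helper94.SyntK.ringKrullDim_away_of_regular
    (fun i => psi p (F i)) (psi p h) (by
      intro Q _ hQ hhQ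
      haveI : (Q.comap (psi p)).IsPrime := Ideal.comap_isPrime _ Q
      have h1 : Ideal.span (Set.range F) ≤ Q.comap (psi p) := by
        rw [Ideal.span_le]
        rintro _ ⟨i, rfl⟩
        exact hQ (Ideal.subset_span ⟨i, rfl⟩)
      have h2 := hgood (Q.comap (psi p)) h1 hhQ
      have h3 := (Groth.Agent.Lib.Helper94.SyntD.transRegAt_ascent (R₁ := R)
        (R := p.ResidueField) Q (Q.comap (psi p)) rfl _ h2).1
      rw [List.map_ofFn] at h3
      exact h3)
  refine ⟨by omega, ?_⟩
  rw [Nat.add_sub_add_right, ← hdim]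
  exact ringKrullDim_eq_of_ringEquiv e.toRingEquiv

end Groth.Agent.Lib.Helper94.SyntM
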