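import Mathlib
import Groth.Prelude.Def_RegImm

/-!
# Syntomic cluster, part Q: two general lemmas
* choosing a minimal generating family of an ideal of a local ring from a given generating set
* `N ∩ 𝔭M = 𝔭N` when `M/N` is flat
-/

set_option autoImplicit false
universe u

namespace Groth.Agent.Lib.Helper94.SyntQ

open IsLocalRing

/-- In a local ring, a finitely generated ideal generated by a set `s` is generated by
`spanFinrank` many elements of `s`. -/
theorem exists_generators_of_span {T : Type u} [CommRing T] [IsLocalRing T] (s : Set T)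
    (hK : (Ideal.span s).FG) :
    ∃ f : Fin (Ideal.span s).spanFinrank → T, (∀ i, f i ∈ s) ∧
      Ideal.span (Set.range f) = Ideal.span s := by
  classical
  set K : Ideal T := Ideal.span s with hKdef
  haveI : Module.Finite T K := Module.Finite.iff_fg.mpr hK
  let 𝔪 := maximalIdeal T
  let V := K ⧸ (𝔪 • ⊤ : Submodule T K)
  letI : Field (T ⧸ 𝔪) := Ideal.Quotient.field 𝔪
  have hc : K.spanFinrank = Module.finrank (T ⧸ 𝔪) V :=
    IsLocalRing.spanFinrank_eq_finrank_quotient K hK
  let mk : K →ₗ[T] V := Submodule.mkQ _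
  let s' : Set K := ((↑) : K → T) ⁻¹' s
  have hs' : Submodule.span T s' = ⊤ := Submodule.span_span_coe_preimage
  let sb : Set V := mk '' s'
  have hsbT : Submodule.span T sb = ⊤ := by
    rw [← Submodule.map_span, hs', Submodule.map_top, Submodule.range_mkQ]
  have hsurj : Function.Surjective (algebraMap T (T ⧸ 𝔪)) := Ideal.Quotient.mk_surjective
  have hsbκ : Submodule.span (T ⧸ 𝔪) sb = ⊤ := by
    apply Submodule.restrictScalars_injective T
    rw [Submodule.restrictScalars_span T (T ⧸ 𝔪) hsurj, hsbT, Submodule.restrictScalars_top]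
  obtain ⟨b, hbs, hbspan, hbli⟩ := exists_linearIndependent (T ⧸ 𝔪) sb
  rw [hsbκ] at hbspan
  let B : Module.Basis b (T ⧸ 𝔪) V := Module.Basis.mk hbli (by
    rw [Subtype.range_coe_subtype, Set.ofPred_mem_eq]; exact hbspan.ge)
  haveI : Module.Finite (T ⧸ 𝔪) V := Module.Finite.of_restrictScalars_finite T _ _
  haveI : Fintype b := FiniteDimensional.fintypeBasisIndex B
  have hcard : Fintype.card b = K.spanFinrank := by
    rw [hc, Module.finrank_eq_card_basis B]
  let e : Fin K.spanFinrank ≃ b := (Fintype.equivFinOfCardEq hcard).symm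
  have hex : ∀ i, ∃ y : K, y ∈ s' ∧ mk y = (e i : V) := fun i => hbs (e i).2
  choose y hys hy using hex
  refine ⟨fun i => (y i : T), fun i => hys i, ?_⟩
  let N : Submodule T K := Submodule.span T (Set.range y)
  have hNmap : N.map mk = ⊤ := by
    rw [Submodule.map_span, ← Set.range_comp]
    have h1 : Set.range (mk ∘ y) = b := by
      ext v
      constructor
      · rintro ⟨i, rfl⟩
        simp only [Function.comp_apply, hy]
        exact (e i).2
      · intro hv
        refine ⟨e.symm ⟨v, hv⟩, ?_⟩
        simp only [Function.comp_apply, hy, Equiv.apply_symm_apply]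
    rw [h1]
    apply Submodule.restrictScalars_injective T
    have := Submodule.restrictScalars_span T (T ⧸ 𝔪) hsurj b
    rw [hbspan] at this
    rw [← this]
    rfl
  have hN : N = ⊤ := (IsLocalRing.map_mkQ_eq_top (N := N)).mp hNmap
  have h2 : (N.map K.subtype) = K := by
    rw [hN, Submodule.map_top, Submodule.range_subtype]
  have h3 : Ideal.span (Set.range fun i => (y i : T)) = N.map K.subtype := by
    rw [Submodule.map_span, ← Set.range_comp]
    rfl
  exact h3.trans h2

/-- If `M/N` is flat then `N ∩ 𝔭M = 𝔭N`. -/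
theorem mem_smul_of_flat_quotient {R : Type*} {M : Type*} [CommRing R] [AddCommGroup M] [Module R M]
    (N : Submodule R M) [Module.Flat R (M ⧸ N)] (𝔭 : Ideal R) (x : M) (hxN : x ∈ N)
    (hxp : x ∈ (𝔭 • ⊤ : Submodule R M)) : x ∈ 𝔭 • N := by
  have hinj := LinearMap.lTensor_injective_of_exact_of_flat N.mkQ (Submodule.mkQ_surjective N)
    N.subtype N.subtype_injective (LinearMap.exact_subtype_mkQ N) (R ⧸ 𝔭)
  have h1 : TensorProduct.mk R (R ⧸ 𝔭) M 1 x = 0 := by
    rw [← LinearMap.mem_ker, LinearMap.ker_tensorProductMk]; exact hxp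
  have h2 : TensorProduct.mk R (R ⧸ 𝔭) N 1 ⟨x, hxN⟩ = 0 := hinj (by simpa using h1)
  rw [← LinearMap.mem_ker, LinearMap.ker_tensorProductMk] at h2
  have h3 := Submodule.mem_map_of_mem (f := N.subtype) h2
  rwa [Submodule.map_smul'', Submodule.map_top, Submodule.range_subtype] at h3

/-- ring version -/
theorem mem_map_mul_of_flat_quotient {R A : Type*} [CommRing R] [CommRing A] [Algebra R A]
    (K : Ideal A) [Module.Flat R (A ⧸ K)] (𝔭 : Ideal R) (x : A) (hxK : x ∈ K)
    (hxp : x ∈ 𝔭.map (algebraMap R A)) : x ∈ 𝔭.map (algebraMap R A) * K := by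
  haveI : Module.Flat R (A ⧸ K.restrictScalars R) :=
    Module.Flat.of_linearEquiv (Submodule.Quotient.restrictScalarsEquiv R K)
  have h1 : x ∈ (𝔭 • ⊤ : Submodule R A) := by
    rw [Ideal.smul_top_eq_map]; exact hxp
  have h2 := mem_smul_of_flat_quotient (K.restrictScalars R) 𝔭 x hxK h1
  have h3 : (𝔭 • K.restrictScalars R : Submodule R A) ≤
      (𝔭.map (algebraMap R A) * K).restrictScalars R := by
    rw [Submodule.smul_le]
    intro r hr k hk
    rw [Submodule.restrictScalars_mem, Algebra.smul_def]
    exact Ideal.mul_mem_mul (Ideal.mem_map_of_mem _ hr) hk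
  exact h3 h2

end Groth.Agent.Lib.Helper94.SyntQ
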