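import Mathlib
import Groth.Prelude.Def_RegImm
import Groth.Agent.Lib.Helper94.SyntQ
import Groth.Agent.Lib.Helper94.SyntM
import Groth.Agent.Lib.Helper94.CIMain

/-!
# Syntomic cluster, part R: the local structure of syntomic maps (polynomial form)
-/

set_option autoImplicit false
universe u

namespace Groth.Agent.Lib.Helper94.SyntR

open RingTheory.Sequence Ideal MvPolynomial IsLocalRing
open Groth.Agent.Lib.Helper94.SyntB Groth.Agent.Lib.Helper94.SyntC Groth.Agent.Lib.Helper94.SyntJ

variable {R : Type u} [CommRing R] {n : ℕ}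

/-- LS core in polynomial form. -/
theorem exists_good_relations (I : Ideal (MvPolynomial (Fin n) R)) (hI : I.FG)
    (q' : Ideal (MvPolynomial (Fin n) R)) [q'.IsPrime] (hIq : I ≤ q')
    (p : Ideal R) [p.IsPrime] (hp : p = q'.comap (C : R →+* MvPolynomial (Fin n) R))
    (Q : Ideal (MvPolynomial (Fin n) p.ResidueField)) [Q.IsPrime] (hQ : q' = Q.comap (psi p))
    (hflat : Module.Flat R (Localization.AtPrime q' ⧸
      I.map (algebraMap (MvPolynomial (Fin n) R) (Localization.AtPrime q'))))
    (hreg : CInt.IsRegularIdeal ((I.map (psi p)).map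
      (algebraMap (MvPolynomial (Fin n) p.ResidueField) (Localization.AtPrime Q)))) :
    ∃ (c : ℕ) (F : Fin c → MvPolynomial (Fin n) R) (h : MvPolynomial (Fin n) R),
      h ∉ q' ∧ (∀ i, F i ∈ I) ∧ (∀ a ∈ I, h * a ∈ Ideal.span (Set.range F)) ∧
      (∀ (q'' : Ideal (MvPolynomial (Fin n) R)) [q''.IsPrime],
        Ideal.span (Set.range F) ≤ q'' → h ∉ q'' → TransRegAt R (List.ofFn F) q'') := by
  classical
  let lam' : MvPolynomial (Fin n) R →+* Localization.AtPrime Q :=
    (algebraMap (MvPolynomial (Fin n) p.ResidueField) (Localization.AtPrime Q)).comp (psi p)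
  have hKspan : (I.map (psi p)).map
      (algebraMap (MvPolynomial (Fin n) p.ResidueField) (Localization.AtPrime Q)) =
      Ideal.span (lam' '' (I : Set (MvPolynomial (Fin n) R))) := by
    rw [Ideal.map_map]; rfl
  rw [hKspan] at hreg
  have hKm : Ideal.span (lam' '' (I : Set (MvPolynomial (Fin n) R))) ≤
      maximalIdeal (Localization.AtPrime Q) := by
    rw [← hKspan, ← Localization.AtPrime.map_eq_maximalIdeal]
    apply Ideal.map_mono
    rw [Ideal.map_le_iff_le_comap, ← hQ]
    exact hIq
  have hKfg : (Ideal.span (lam' '' (I : Set (MvPolynomial (Fin n) R)))).FG :=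
    IsNoetherian.noetherian _
  obtain ⟨f, hfs, hfspan⟩ :=
    Groth.Agent.Lib.Helper94.SyntQ.exists_generators_of_span _ hKfg
  have hdim := (Groth.Agent.Lib.Helper94.CILocal.isRegularIdeal_iff_dim _ _ hKm).mp hreg
  choose F hFI hFf using hfs
  have hregF : IsRegular (Localization.AtPrime Q) (List.ofFn f) := by
    apply Groth.Agent.Lib.Helper94.CIField.isRegular_of_ringKrullDim_quotient
    · intro r hr
      rw [List.mem_ofFn] at hr
      obtain ⟨i, rfl⟩ := hr
      apply hKm
      rw [← hfspan]
      exact Ideal.subset_span ⟨i, rfl⟩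
    · rw [Groth.Agent.Lib.Helper94.CIField.ofList_ofFn, hfspan, List.length_ofFn]
      exact hdim
  have hregF' : IsWeaklyRegular (Localization.AtPrime Q)
      (List.ofFn fun i => algebraMap _ (Localization.AtPrime Q) (psi p (F i))) := by
    have : (fun i => algebraMap _ (Localization.AtPrime Q) (psi p (F i))) = f := funext hFf
    rw [this]
    exact hregF.toIsWeaklyRegular
  have hT : TransRegAt R (List.ofFn F) q' :=
    Groth.Agent.Lib.Helper94.SyntF.transRegAt_of_fibre R n _ F q' p hp Q hQ hregF'
  -- step (d)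
  set J : Ideal (MvPolynomial (Fin n) R) := Ideal.span (Set.range F) with hJdef
  have hJI : J ≤ I := Ideal.span_le.mpr (by rintro _ ⟨i, rfl⟩; exact hFI i)
  set IA := I.map (algebraMap (MvPolynomial (Fin n) R) (Localization.AtPrime q')) with hIA
  set JA := J.map (algebraMap (MvPolynomial (Fin n) R) (Localization.AtPrime q')) with hJA
  have hJIA : JA ≤ IA := Ideal.map_mono hJI
  have hlam_alg : (lam q' p Q hQ).comp
      (algebraMap (MvPolynomial (Fin n) R) (Localization.AtPrime q')) = lam' := by
    refine RingHom.ext fun x => ?_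
    simp only [RingHom.comp_apply, lam, Localization.localRingHom_to_map, lam']
  have hmapI : IA.map (lam q' p Q hQ) =
      Ideal.span (lam' '' (I : Set (MvPolynomial (Fin n) R))) := by
    rw [hIA, Ideal.map_map, hlam_alg]; rfl
  have hmapJ : JA.map (lam q' p Q hQ) =
      Ideal.span (lam' '' (I : Set (MvPolynomial (Fin n) R))) := by
    rw [hJA, Ideal.map_map, hlam_alg, hJdef, Ideal.map_span, ← Set.range_comp]
    have : lam' ∘ F = f := funext hFf
    rw [this]
    exact hfspan
  have hle : IA ≤ JA ⊔ (p.map (algebraMap R (Localization.AtPrime q'))) • IA := by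
    intro x hx
    have h1 : lam q' p Q hQ x ∈ JA.map (lam q' p Q hQ) := by
      rw [hmapJ, ← hmapI]; exact Ideal.mem_map_of_mem _ hx
    obtain ⟨j, hj, hjx⟩ := (Ideal.mem_map_iff_of_surjective _
      (lam_surjective q' p hp Q hQ)).mp h1
    have h2 : x - j ∈ RingHom.ker (lam q' p Q hQ) := by
      rw [RingHom.mem_ker, map_sub, hjx, sub_self]
    rw [ker_lam] at h2
    have h3 : x - j ∈ IA := sub_mem hx (hJIA hj)
    have h4 := Groth.Agent.Lib.Helper94.SyntQ.mem_map_mul_of_flat_quotient IA p (x - j) h3 h2
    have : x = j + (x - j) := by ring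
    rw [this]
    exact Submodule.add_mem_sup hj (by rwa [smul_eq_mul])
  have hIAfg : IA.FG := hI.map _
  have hjac : p.map (algebraMap R (Localization.AtPrime q')) ≤ Ideal.jacobson ⊥ := by
    rw [IsLocalRing.jacobson_eq_maximalIdeal ⊥ bot_ne_top, ← ker_lam q' p Q hQ]
    exact le_maximalIdeal (RingHom.ker_ne_top _)
  have hIJA : IA = JA :=
    le_antisymm (Submodule.le_of_le_smul_of_le_jacobson_bot hIAfg hjac hle) hJIA
  -- step (e)
  obtain ⟨s, hs⟩ := hI
  have hex : ∀ a ∈ s, ∃ m : MvPolynomial (Fin n) R, m ∉ q' ∧ m * a ∈ J := by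
    intro a ha
    have h1 : algebraMap _ (Localization.AtPrime q') a ∈ JA := by
      rw [← hIJA]; exact Ideal.mem_map_of_mem _ (hs ▸ Ideal.subset_span ha)
    rw [hJA, IsLocalization.algebraMap_mem_map_algebraMap_iff q'.primeCompl] at h1
    obtain ⟨m, hm, hma⟩ := h1
    exact ⟨m, hm, hma⟩
  choose! m hm hma using hex
  let h₁ := ∏ a ∈ s, m a
  have hh₁ : h₁ ∉ q' := by
    intro hmem
    obtain ⟨a, ha, hma'⟩ := (Ideal.IsPrime.prod_mem_iff (hp := inferInstance)).mp hmem
    exact hm a ha hma'
  have hh₁I : ∀ a ∈ I, h₁ * a ∈ J := by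
    intro a ha
    rw [← hs] at ha
    refine Submodule.span_induction ?_ ?_ ?_ ?_ ha
    · intro b hb
      have : h₁ * b = (∏ x ∈ s.erase b, m x) * (m b * b) := by
        rw [← mul_assoc, mul_comm _ (m b), Finset.mul_prod_erase s m hb]
      rw [this]
      exact Ideal.mul_mem_left _ _ (hma b hb)
    · simp
    · intro x y _ _ hx hy
      rw [mul_add]; exact Ideal.add_mem _ hx hy
    · intro r x _ hx
      rw [smul_eq_mul, mul_left_comm]; exact Ideal.mul_mem_left _ _ hx
  -- step (f)
  have hGood : (⟨q', inferInstance⟩ : PrimeSpectrum (MvPolynomial (Fin n) R)) ∈ GoodLocus R F :=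
    fun _ => hT
  obtain ⟨U, ⟨h₂, rfl⟩, hqU, hUG⟩ :=
    PrimeSpectrum.isTopologicalBasis_basic_opens.exists_subset_of_mem_open hGood
      (isOpen_goodLocus R F)
  have hh₂ : h₂ ∉ q' := hqU
  refine ⟨_, F, h₁ * h₂, fun hmem => (Ideal.IsPrime.mem_or_mem inferInstance hmem).elim hh₁ hh₂,
    hFI, ?_, ?_⟩
  · intro a ha
    rw [mul_right_comm]
    exact Ideal.mul_mem_right _ _ (hh₁I a ha)
  · intro q'' _ hJq hh
    have h2 : h₂ ∉ q'' := fun hmem => hh (Ideal.mul_mem_left _ _ hmem)
    exact hUG (show (⟨q'', inferInstance⟩ : PrimeSpectrum _) ∈ _ from h2) hJq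


section Pres

open Groth.Agent.Lib.Helper94.CIPres Groth.Agent.Lib.Helper94.SyntL

variable {S : Type u} [CommRing S] [Algebra R S] (φ : MvPolynomial (Fin n) R →ₐ[R] S)
  {c : ℕ} (F : Fin c → MvPolynomial (Fin n) R) (h : MvPolynomial (Fin n) R)

/-- The presentation map `R[x_1..x_{n+1}] → S_{φ h}`. -/
noncomputable def presHom' : MvPolynomial (Fin (n + 1)) R →ₐ[R] Localization.Away (φ h) :=
  (awayHom φ h).comp (rename (rot n))

theorem presHom'_surjective (hφ : Function.Surjective φ) :
    Function.Surjective (presHom' φ h) := by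
  intro z
  obtain ⟨y, rfl⟩ := awayHom_surjective φ h hφ z
  refine ⟨rename (rotInv n) y, ?_⟩
  show awayHom _ h (rename (rot n) (rename (rotInv n) y)) = _
  rw [rename_rename]
  have : rot n ∘ rotInv n = id := by
    funext i
    induction i using Fin.cases with
    | zero => simp [rotInv_zero, rot_last]
    | succ j => simp [rotInv_succ, rot_castSucc]
  rw [this, rename_id_apply]

theorem ker_presHom' (hJ : Ideal.span (Set.range F) ≤ RingHom.ker φ.toRingHom)
    (hJ' : ∀ a ∈ RingHom.ker φ.toRingHom, ∃ N : ℕ, h ^ N * a ∈ Ideal.span (Set.range F)) :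
    RingHom.ker (presHom' φ h).toRingHom = Ideal.span (Set.range (rel R n c F h)) := by
  have hker := ker_awayHom φ h (Ideal.span (Set.range F)) hJ hJ'
  rw [range_rel, Ideal.span_insert]
  apply le_antisymm
  · intro x hx
    have hx' : rename (rot n) x ∈ RingHom.ker (awayHom φ h).toRingHom := hx
    rw [hker] at hx'
    have hx2 : x = rename (rotInv n) (rename (rot n) x) := by
      rw [rename_rename]
      have : rotInv n ∘ rot n = id := funext (rotInv_rot n)
      rw [this, rename_id_apply]
    rw [hx2]
    let ρI : MvPolynomial (Fin (n + 1)) R →+* MvPolynomial (Fin (n + 1)) R :=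
      (rename (rotInv n) : MvPolynomial (Fin (n + 1)) R →ₐ[R] _).toRingHom
    have := Ideal.mem_map_of_mem ρI hx'
    rw [Ideal.map_sup, Ideal.map_map, Ideal.map_span, Ideal.map_span, Set.image_singleton] at this
    have hle : span (⇑(ρI.comp (ι : MvPolynomial (Fin n) R →ₐ[R] _).toRingHom) '' Set.range F) ⊔
        span {ρI (X 0 * ι h - 1 : MvPolynomial (Fin (n + 1)) R)} ≤
        span {(rename Fin.castSucc) h * X (Fin.last n) - 1} ⊔
          span (Set.range fun i => (rename Fin.castSucc) (F i)) := ?_
    · exact hle this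
    apply sup_le
    · apply le_sup_of_le_right
      rw [Ideal.span_le]
      rintro _ ⟨y, hy, rfl⟩
      have hι : ∀ y : MvPolynomial (Fin n) R, ρI (ι y) = rename Fin.castSucc y := by
        intro y
        show rename (rotInv n) (rename Fin.succ y) = _
        rw [rename_rename]
        have : rotInv n ∘ Fin.succ = Fin.castSucc := funext (rotInv_succ n)
        rw [this]
      obtain ⟨i, rfl⟩ := hy
      exact Ideal.subset_span ⟨i, (hι (F i)).symm⟩
    · apply le_sup_of_le_left
      rw [Ideal.span_le, Set.singleton_subset_iff]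
      have : ρI (X 0 * ι h - 1 : MvPolynomial (Fin (n + 1)) R) =
          rename Fin.castSucc h * X (Fin.last n) - 1 := by
        show (rename (rotInv n)) (X 0 * ι h - 1 : MvPolynomial (Fin (n + 1)) R) = _
        simp only [map_sub, map_mul, rename_X, map_one, ι, rename_rename, rotInv_zero]
        rw [mul_comm]
        congr 3
      rw [SetLike.mem_coe, this]
      exact Ideal.subset_span rfl
  · refine sup_le ?_ ?_
    · rw [Ideal.span_le, Set.singleton_subset_iff]
      show presHom' φ h _ = 0
      simp only [presHom', AlgHom.comp_apply, map_sub, map_mul, rename_X, map_one, rename_rename,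
        rot_last]
      have : rot n ∘ Fin.castSucc = Fin.succ := funext (rot_castSucc n)
      rw [this]
      have h0 := awayHom_rel φ h
      rw [map_sub, map_mul, map_one] at h0
      rw [mul_comm]
      exact h0
    · rw [Ideal.span_le]
      rintro _ ⟨i, rfl⟩
      show presHom' φ h _ = 0
      simp only [presHom', AlgHom.comp_apply, rename_rename]
      have : rot n ∘ Fin.castSucc = Fin.succ := funext (rot_castSucc n)
      rw [this]
      rw [show (rename Fin.succ) (F i) = ι (F i) from rfl, awayHom_ι]
      have : φ (F i) = 0 := hJ (Ideal.subset_span ⟨i, rfl⟩)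
      rw [this, map_zero]

/-- the standard presentation of a principal localization of a presented algebra. -/
theorem nonempty_algEquiv_away' (hφ : Function.Surjective φ)
    (hJ : Ideal.span (Set.range F) ≤ RingHom.ker φ.toRingHom)
    (hJ' : ∀ a ∈ RingHom.ker φ.toRingHom, ∃ N : ℕ, h ^ N * a ∈ Ideal.span (Set.range F)) :
    Nonempty (Localization.Away (φ h) ≃ₐ[R]
      Synt.RelGCIRing R (n + 1) (c + 1) (rel R n c F h)) := by
  let e1 := Ideal.quotientKerAlgEquivOfSurjective (presHom'_surjective φ h hφ)
  let e2 := Ideal.quotientEquivAlgOfEq R (ker_presHom' φ F h hJ hJ')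
  exact ⟨(e2.symm.trans e1).symm⟩

end Pres


section Fibre

open TensorProduct

variable {S : Type u} [CommRing S] [Algebra R S] (φ : MvPolynomial (Fin n) R →ₐ[R] S)
  (p : Ideal R) [p.IsPrime]

/-- base change of a presentation to the fibre -/
noncomputable def fibreHom : MvPolynomial (Fin n) p.ResidueField →ₐ[p.ResidueField] p.Fiber S :=
  (Algebra.TensorProduct.map (AlgHom.id p.ResidueField p.ResidueField) φ).comp
    (MvPolynomial.algebraTensorAlgEquiv R p.ResidueField).symm.toAlgHom

theorem fibreHom_psi (a : MvPolynomial (Fin n) R) :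
    fibreHom φ p (psi p a) = (1 : p.ResidueField) ⊗ₜ[R] φ a := by
  have : (MvPolynomial.algebraTensorAlgEquiv R p.ResidueField).symm (psi p a) =
      (1 : p.ResidueField) ⊗ₜ[R] a := by
    rw [AlgEquiv.symm_apply_eq, MvPolynomial.algebraTensorAlgEquiv_tmul, one_smul]
  simp [fibreHom, this]

theorem fibreHom_surjective (hφ : Function.Surjective φ) :
    Function.Surjective (fibreHom φ p) :=
  (Algebra.TensorProduct.map_surjective _ _ Function.surjective_id hφ).comp
    (AlgEquiv.surjective _)

theorem ker_fibreHom (hφ : Function.Surjective φ) :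
    RingHom.ker (fibreHom φ p).toRingHom = (RingHom.ker φ.toRingHom).map (psi p) := by
  have h1 := Algebra.TensorProduct.lTensor_ker (A := p.ResidueField) (g := φ) hφ
  let e := MvPolynomial.algebraTensorAlgEquiv (σ := Fin n) R p.ResidueField
  have h3 : (RingHom.ker φ.toRingHom).map (psi p) =
      ((RingHom.ker φ).map (Algebra.TensorProduct.includeRight :
        MvPolynomial (Fin n) R →ₐ[R] p.ResidueField ⊗[R] MvPolynomial (Fin n) R)).map e := by
    have h4 : ((RingHom.ker φ).map (Algebra.TensorProduct.includeRight :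
        MvPolynomial (Fin n) R →ₐ[R] p.ResidueField ⊗[R] MvPolynomial (Fin n) R)).map e =
        (RingHom.ker φ.toRingHom).map ((e : _ →+* MvPolynomial (Fin n) p.ResidueField).comp
          (Algebra.TensorProduct.includeRight :
            MvPolynomial (Fin n) R →ₐ[R] p.ResidueField ⊗[R] MvPolynomial (Fin n) R).toRingHom) := by
      rw [← Ideal.map_map]; rfl
    rw [h4]
    congr 1
    refine RingHom.ext fun a => ?_
    simp [e, psi, MvPolynomial.algebraTensorAlgEquiv_tmul]
  ext x
  have hx : x ∈ RingHom.ker (fibreHom φ p).toRingHom ↔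
      e.symm x ∈ RingHom.ker (Algebra.TensorProduct.map (AlgHom.id R p.ResidueField) φ) := by
    rw [RingHom.mem_ker, RingHom.mem_ker]; rfl
  rw [hx, h1, h3, Ideal.mem_map_of_equiv]
  constructor
  · intro h
    exact ⟨e.symm x, h, e.apply_symm_apply x⟩
  · rintro ⟨y, hy, rfl⟩
    rwa [e.symm_apply_apply]

end Fibre

section Main

open TensorProduct Groth.Agent.Lib.Helper94.CILoc

/-- **Local structure of syntomic maps**: a finitely presented algebra which is flat at `q` with
complete intersection fibre local ring at `q` is, near `q`, a relative global complete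
intersection. -/
theorem exists_relGCI_away {S : Type u} [CommRing S] [Algebra R S]
    [Algebra.FinitePresentation R S]
    (p : Ideal R) [p.IsPrime] (q : Ideal S) [q.IsPrime] (hqp : q.comap (algebraMap R S) = p)
    (Q : Ideal (p.Fiber S)) [Q.IsPrime]
    (hQ : Q.comap (Algebra.TensorProduct.includeRight.toRingHom) = q)
    (hflat : Module.Flat R (Localization.AtPrime q))
    (hCI : Synt.IsCIOver p.ResidueField (Localization.AtPrime Q)) :
    ∃ g : S, g ∉ q ∧ ∃ (N C : ℕ) (G : Fin C → MvPolynomial (Fin N) R), Synt.IsRelGCI R N C G ∧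
      Nonempty (Localization.Away g ≃ₐ[R] Synt.RelGCIRing R N C G) := by
  obtain ⟨n, φ, hφ, hker⟩ := Algebra.FinitePresentation.out (R := R) (A := S)
  set q' : Ideal (MvPolynomial (Fin n) R) := q.comap φ.toRingHom with hq'
  have hp : p = q'.comap (C : R →+* MvPolynomial (Fin n) R) := by
    rw [← hqp]
    ext r
    simp only [Ideal.mem_comap, hq']
    rw [← MvPolynomial.algebraMap_eq]
    simp
  have hφp := fibreHom_surjective φ p hφ
  set Q' : Ideal (MvPolynomial (Fin n) p.ResidueField) := Q.comap (fibreHom φ p).toRingHom with hQ'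
  have hQq : q' = Q'.comap (psi p) := by
    ext a
    simp only [Ideal.mem_comap, hq', hQ']
    rw [← hQ]
    simp only [Ideal.mem_comap, AlgHom.toRingHom_eq_coe, RingHom.coe_coe, fibreHom_psi,
      Algebra.TensorProduct.includeRight_apply]
  have hflat' : Module.Flat R (Localization.AtPrime q' ⧸
      (RingHom.ker φ.toRingHom).map
        (algebraMap (MvPolynomial (Fin n) R) (Localization.AtPrime q'))) := by
    let ψ : Localization.AtPrime q' →ₐ[R] Localization.AtPrime q :=
      Localization.localAlgHom q' q φ rfl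
    have hψs : Function.Surjective ψ := localRingHom_surjective φ.toRingHom hφ q' q rfl
    have hψk : RingHom.ker ψ.toRingHom = (RingHom.ker φ.toRingHom).map (algebraMap _ _) :=
      ker_localRingHom φ.toRingHom hφ q' q rfl
    let e := (Ideal.quotientEquivAlgOfEq R hψk).symm.trans
      (Ideal.quotientKerAlgEquivOfSurjective hψs)
    exact Module.Flat.of_linearEquiv e.toLinearEquiv
  have hreg : CInt.IsRegularIdeal (((RingHom.ker φ.toRingHom).map (psi p)).map
      (algebraMap (MvPolynomial (Fin n) p.ResidueField) (Localization.AtPrime Q'))) := by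
    have := (Groth.Agent.Lib.Helper94.CIMain.isCIOver_iff_isRegularIdeal_ker
      (stdHom (fibreHom φ p) Q) (stdHom_surjective (fibreHom φ p) hφp Q)).mp hCI
    rwa [ker_stdHom (fibreHom φ p) hφp, ker_fibreHom φ p hφ] at this
  have hIq : RingHom.ker φ.toRingHom ≤ q' := fun a ha => by
    rw [hq', Ideal.mem_comap, (RingHom.mem_ker).mp ha]; exact Ideal.zero_mem _
  obtain ⟨c, F, h, hh, hFI, hhI, hgood⟩ :=
    exists_good_relations (RingHom.ker φ.toRingHom) hker q' hIq p hp Q' hQq hflat' hreg
  refine ⟨φ h, hh, n + 1, c + 1, Groth.Agent.Lib.Helper94.SyntL.rel R n c F h,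
    Groth.Agent.Lib.Helper94.SyntM.isRelGCI_rel R n c F h hgood,
    nonempty_algEquiv_away' φ F h hφ ?_ ?_⟩
  · rw [Ideal.span_le]
    rintro _ ⟨i, rfl⟩
    exact hFI i
  · intro a ha
    exact ⟨1, by rw [pow_one]; exact hhI a ha⟩

end Main

end Groth.Agent.Lib.Helper94.SyntR
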