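import Mathlib
import Groth.Prelude.Def_RegImm
import Groth.Agent.Lib.Helper94.CIMain

/-!
# Syntomic cluster, part I: invariance of local complete intersections under isomorphisms
-/

set_option autoImplicit false
universe u

namespace Groth.Agent.Lib.Helper94.SyntI

theorem isLCIOver_of_algEquiv {k : Type u} [Field k] {S S' : Type u} [CommRing S] [CommRing S']
    [Algebra k S] [Algebra k S'] (e : S ≃ₐ[k] S') (h : Synt.IsLCIOver k S) :
    Synt.IsLCIOver k S' := by
  obtain ⟨hFT, h⟩ := h
  refine ⟨Algebra.FiniteType.equiv hFT e, fun p' => ?_⟩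
  have hp : (p'.asIdeal.comap e.toRingEquiv.toRingHom).IsPrime := Ideal.comap_isPrime _ _
  obtain ⟨g, hg, hGCI⟩ := h ⟨p'.asIdeal.comap e.toRingEquiv.toRingHom, hp⟩
  refine ⟨e g, hg, ?_⟩
  have H : Submonoid.map e (Submonoid.powers g) = Submonoid.powers (e g) := by
    rw [Submonoid.map_powers]
  let e' : Localization.Away g ≃ₐ[k] Localization.Away (e g) :=
    IsLocalization.algEquivOfAlgEquiv (Localization.Away g) (Localization.Away (e g)) e H
  exact Groth.Agent.Lib.Helper94.CIPres.isGlobalCI_of_algEquiv e' hGCI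

end Groth.Agent.Lib.Helper94.SyntI
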