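import Mathlib
import Groth.Prelude.Def_RegImm
import Groth.Agent.Lib.Helper94.SyntR
import Groth.Agent.Lib.Helper94.SyntI

/-!
# Syntomic cluster, part S: transport lemmas for the local structure theorem
-/

set_option autoImplicit false
universe u

namespace Groth.Agent.Lib.Helper94.SyntS

open TensorProduct Groth.Agent.Lib.Helper94.CILoc

/-- syntomic is invariant under isomorphism -/
theorem isSyntomic_of_algEquiv {R A B : Type u} [CommRing R] [CommRing A] [CommRing B]
    [Algebra R A] [Algebra R B] (e : A ≃ₐ[R] B) (h : Synt.IsSyntomic R A) : Synt.IsSyntomic R B := by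
  obtain ⟨hfl, hfp, hfib⟩ := h
  refine ⟨Module.Flat.of_linearEquiv e.symm.toLinearEquiv,
    Algebra.FinitePresentation.equiv e, fun p => ?_⟩
  exact Groth.Agent.Lib.Helper94.SyntI.isLCIOver_of_algEquiv
    (Algebra.TensorProduct.congr AlgEquiv.refl e) (hfib p)

/-- a principal localization of a principal localization is a principal localization -/
theorem exists_away_algEquiv {R S : Type u} [CommRing R] [CommRing S] [Algebra R S]
    (q : Ideal S) [q.IsPrime] (g₀ : S) (hg₀ : g₀ ∉ q) (g' : Localization.Away g₀)
    (hg' : g' ∉ q.map (algebraMap S (Localization.Away g₀))) :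
    ∃ g : S, g ∉ q ∧ Nonempty (Localization.Away g ≃ₐ[R] Localization.Away g') := by
  obtain ⟨⟨s, ⟨_, j, rfl⟩⟩, hs⟩ := IsLocalization.surj (Submonoid.powers g₀) g'
  simp only at hs
  have hu : IsUnit (algebraMap S (Localization.Away g₀) (g₀ ^ j)) := by
    rw [map_pow]
    exact (IsLocalization.Away.algebraMap_isUnit g₀).pow j
  have hassoc : Associated (algebraMap S (Localization.Away g₀) s) g' := by
    refine ⟨hu.unit⁻¹, ?_⟩
    rw [← hs, mul_assoc, IsUnit.mul_val_inv, mul_one]
  have hsq : s ∉ q := by
    intro hmem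
    apply hg'
    have : g' = algebraMap S (Localization.Away g₀) s * ↑hu.unit⁻¹ := by
      rw [← hs, mul_assoc, IsUnit.mul_val_inv, mul_one]
    rw [this]
    exact Ideal.mul_mem_right _ _ (Ideal.mem_map_of_mem _ hmem)
  refine ⟨g₀ * s, fun hmem => (Ideal.IsPrime.mem_or_mem inferInstance hmem).elim hg₀ hsq, ?_⟩
  have i1 : IsLocalization.Away (g₀ * s) (Localization.Away g') :=
    IsLocalization.Away.mul_of_associated g₀ s g' hassoc
  let e : Localization.Away g' ≃ₐ[S] Localization.Away (g₀ * s) :=
    IsLocalization.algEquiv (Submonoid.powers (g₀ * s)) _ _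
  exact ⟨(e.restrictScalars R).symm⟩

/-- the fibre local ring is unchanged by passing to a principal open neighbourhood -/
theorem exists_fibre_away {R S : Type u} [CommRing R] [CommRing S] [Algebra R S]
    (p : Ideal R) [p.IsPrime] (q : Ideal S) [q.IsPrime]
    (Q : Ideal (p.Fiber S)) [Q.IsPrime]
    (hQ : Q.comap (Algebra.TensorProduct.includeRight.toRingHom) = q) (g : S) (hg : g ∉ q) :
    ∃ (Q₀ : Ideal (p.Fiber (Localization.Away g))) (_ : Q₀.IsPrime),
      Q₀.comap (Algebra.TensorProduct.includeRight : Localization.Away g →ₐ[R]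
        p.Fiber (Localization.Away g)).toRingHom = q.map (algebraMap S (Localization.Away g)) ∧
      Nonempty (Localization.AtPrime Q ≃ₐ[p.ResidueField] Localization.AtPrime Q₀) := by
  set t : p.Fiber S := (1 : p.ResidueField) ⊗ₜ[R] g with ht
  have htQ : t ∉ Q := by
    intro hmem
    apply hg
    rw [← hQ]
    exact hmem
  let E : p.Fiber (Localization.Away g) ≃ₐ[p.ResidueField] Localization.Away t :=
    IsLocalization.Away.tensorProductEquivTMulRight R p.ResidueField g (Localization.Away g)
  haveI hQL : (Q.map (algebraMap (p.Fiber S) (Localization.Away t))).IsPrime :=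
    isPrime_map_away t Q htQ
  have hQLc := comap_map_away t Q htQ
  let e1 : Localization.AtPrime Q ≃ₐ[p.ResidueField]
      Localization.AtPrime (Q.map (algebraMap (p.Fiber S) (Localization.Away t))) :=
    atPrimeAwayEquiv (k := p.ResidueField) t Q htQ
  set Q₀ : Ideal (p.Fiber (Localization.Away g)) :=
    (Q.map (algebraMap (p.Fiber S) (Localization.Away t))).comap E with hQ₀
  haveI hQ₀p : Q₀.IsPrime := Ideal.comap_isPrime _ _
  let e2 : Localization.AtPrime Q₀ ≃ₐ[p.ResidueField]
      Localization.AtPrime (Q.map (algebraMap (p.Fiber S) (Localization.Away t))) :=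
    Localization.localAlgEquiv Q₀ _ E rfl
  refine ⟨Q₀, hQ₀p, ?_, ⟨e1.trans e2.symm⟩⟩
  set J : Ideal (Localization.Away g) :=
    Q₀.comap (Algebra.TensorProduct.includeRight : Localization.Away g →ₐ[R]
        p.Fiber (Localization.Away g)).toRingHom with hJ
  have hJc : J.comap (algebraMap S (Localization.Away g)) = q := by
    ext x
    rw [← hQ]
    simp only [Ideal.mem_comap, hJ, hQ₀, AlgHom.toRingHom_eq_coe, RingHom.coe_coe,
      Algebra.TensorProduct.includeRight_apply]
    rw [show E ((1 : p.ResidueField) ⊗ₜ[R] algebraMap S (Localization.Away g) x) =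
      algebraMap _ _ ((1 : p.ResidueField) ⊗ₜ[R] x) from
        IsLocalization.Away.tensorProductEquivTMulRight_tmul (R := R) (S := p.ResidueField)
          (g := g) (B := Localization.Away g) (x := 1) (a := x)]
    rw [← Ideal.mem_comap, hQLc]
  rw [← IsLocalization.map_under (Submonoid.powers g) (Localization.Away g) J]
  exact congrArg _ hJc

end Groth.Agent.Lib.Helper94.SyntS
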