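import Mathlib
import Groth.Prelude.Def_RegImm
import Groth.Agent.Lib.Helper94.SyntS
import Groth.Agent.Lib.Helper94.RegSpread
import Groth.Agent.Lib.Helper94.CIPres

/-!
# Syntomic cluster, part V: clean local structure theorem; regular presentations over a
Noetherian base
-/

set_option autoImplicit false
universe u

namespace Groth.Agent.Lib.Helper94.SyntV

open TensorProduct Groth.Agent.Lib.Helper94.CILoc

/-- **Local structure theorem**, clean form: a syntomic algebra is, near every prime, a relative
global complete intersection. -/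
theorem exists_relGCI_of_isSyntomic (R S : Type u) [CommRing R] [CommRing S] [Algebra R S]
    (h : Synt.IsSyntomic R S) (q : Ideal S) [q.IsPrime] :
    ∃ g : S, g ∉ q ∧ ∃ (N C : ℕ) (G : Fin C → MvPolynomial (Fin N) R), Synt.IsRelGCI R N C G ∧
      Nonempty (Localization.Away g ≃ₐ[R] Synt.RelGCIRing R N C G) := by
  obtain ⟨hfl, hfp, hfib⟩ := h
  haveI := hfl
  haveI := hfp
  set p : Ideal R := q.comap (algebraMap R S) with hp
  haveI : p.IsPrime := Ideal.comap_isPrime _ _
  let e := PrimeSpectrum.preimageEquivFiber R S ⟨p, inferInstance⟩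
  let q₀ : PrimeSpectrum.comap (algebraMap R S) ⁻¹' {⟨p, inferInstance⟩} :=
    ⟨⟨q, inferInstance⟩, rfl⟩
  let Q : Ideal (p.Fiber S) := (e q₀).asIdeal
  haveI : Q.IsPrime := (e q₀).isPrime
  have hQ : Q.comap (Algebra.TensorProduct.includeRight.toRingHom) = q := by
    have := e.left_inv q₀
    exact congrArg (fun x => x.1.asIdeal) this
  have hflat : Module.Flat R (Localization.AtPrime q) := Module.Flat.trans R S _
  have hLCI := hfib ⟨p, inferInstance⟩
  haveI : Algebra.FiniteType p.ResidueField (p.Fiber S) := hLCI.1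
  have hCI := (Groth.Agent.Lib.Helper94.CIMain.isLCIOver_iff_forall_prime p.ResidueField
    (p.Fiber S)).mp hLCI ⟨Q, inferInstance⟩
  exact Groth.Agent.Lib.Helper94.SyntR.exists_relGCI_away p q rfl Q hQ hflat hCI

section Reg

open MvPolynomial RingTheory.Sequence Ideal Groth.Agent.Lib.Helper94.CIPres
  Groth.Agent.Lib.Helper94.RegSpread Groth.Agent.Lib.Helper39.QSpread

variable {A : Type u} [CommRing A] {n : ℕ}

theorem finSuccEquiv_ι (p : MvPolynomial (Fin n) A) :
    finSuccEquiv A n (ι p) = Polynomial.C p := by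
  have : ((finSuccEquiv A n : MvPolynomial (Fin (n + 1)) A →ₐ[A] _).comp
      (ι : MvPolynomial (Fin n) A →ₐ[A] _)) =
      (Algebra.ofId (MvPolynomial (Fin n) A) (Polynomial (MvPolynomial (Fin n) A))).restrictScalars A := by
    apply MvPolynomial.algHom_ext
    intro j
    simp [ι, finSuccEquiv_X_succ]
  exact DFunLike.congr_fun this p

/-- `x₀ h - 1` is a nonzerodivisor of the polynomial ring. -/
theorem eq_zero_of_rel_mul_eq_zero (h : MvPolynomial (Fin n) A) (x : MvPolynomial (Fin (n + 1)) A)
    (hx : (X 0 * ι h - 1) * x = 0) : x = 0 := by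
  have h1 := congrArg (finSuccEquiv A n) hx
  rw [map_mul, map_sub, map_mul, map_one, map_zero, finSuccEquiv_X_zero, finSuccEquiv_ι] at h1
  have h2 := congrArg (fun f : Polynomial (MvPolynomial (Fin n) A) =>
    (f : PowerSeries (MvPolynomial (Fin n) A))) h1
  simp only [Polynomial.coe_mul, Polynomial.coe_zero] at h2
  have hu : IsUnit ((Polynomial.X * Polynomial.C h - 1 : Polynomial (MvPolynomial (Fin n) A)) :
      PowerSeries (MvPolynomial (Fin n) A)) := by
    rw [PowerSeries.isUnit_iff_constantCoeff]
    simp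
  have h3 := hu.mul_right_eq_zero.mp h2
  have h4 : finSuccEquiv A n x = 0 := by
    exact_mod_cast h3
  exact (finSuccEquiv A n).injective (by rw [h4, map_zero])

/-- the presentation map `A[x₀, x] → A[x]_h`. -/
noncomputable abbrev psiH (h : MvPolynomial (Fin n) A) :
    MvPolynomial (Fin (n + 1)) A →ₐ[A] Localization.Away ((AlgHom.id A (MvPolynomial (Fin n) A)) h) :=
  awayHom (AlgHom.id A (MvPolynomial (Fin n) A)) h

theorem ker_psiH (h : MvPolynomial (Fin n) A) :
    RingHom.ker (psiH h).toRingHom =
      Ideal.span {(X 0 * ι h - 1 : MvPolynomial (Fin (n + 1)) A)} := by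
  have := ker_awayHom (AlgHom.id A (MvPolynomial (Fin n) A)) h ⊥ bot_le (by
    intro a ha
    refine ⟨0, ?_⟩
    have : a = 0 := ha
    rw [this, mul_zero]
    exact Ideal.zero_mem _)
  rw [this, Ideal.map_bot, bot_sup_eq]

/-- If `h` is a good denominator for `bs`, then `x₀ h - 1, bs` is a weakly regular sequence of the
polynomial ring in one more variable. -/
theorem isWeaklyRegular_cons_of_goodL (bs : List (MvPolynomial (Fin n) A))
    (h : MvPolynomial (Fin n) A) (hgood : GoodL bs h) :
    IsWeaklyRegular (MvPolynomial (Fin (n + 1)) A)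
      ((X 0 * ι h - 1) :: bs.map (ι : MvPolynomial (Fin n) A →ₐ[A] _)) := by
  rw [isWeaklyRegular_iff_forall_mem]
  intro i hi x hx
  rcases i with _ | j
  · simp only [List.take_zero, Ideal.ofList_nil, List.getElem_cons_zero, Ideal.mem_bot] at hx ⊢
    exact eq_zero_of_rel_mul_eq_zero h x hx
  · have hj : j < bs.length := by
      simpa using hi
    simp only [List.take_succ_cons, List.getElem_cons_succ, List.getElem_map, Ideal.ofList_cons,
      ← List.map_take] at hx ⊢
    set L : Ideal (MvPolynomial (Fin n) A) := Ideal.ofList (bs.take j) with hL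
    have hLmap : Ideal.ofList ((bs.take j).map (ι : MvPolynomial (Fin n) A →ₐ[A] _)) =
        L.map (ι : MvPolynomial (Fin n) A →ₐ[A] MvPolynomial (Fin (n + 1)) A).toRingHom :=
      (Ideal.map_ofList _ _).symm
    rw [hLmap] at hx ⊢
    -- apply ψ
    set ψ := psiH h with hψ
    have hψι : ∀ p : MvPolynomial (Fin n) A, ψ (ι p) = algebraMap _ _ p := fun p =>
      awayHom_ι (AlgHom.id A (MvPolynomial (Fin n) A)) h p
    have hψu : ψ (X 0 * ι h - 1) = 0 := awayHom_rel _ h
    have hψL : ∀ y ∈ Ideal.span {(X 0 * ι h - 1 : MvPolynomial (Fin (n + 1)) A)} ⊔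
        L.map (ι : MvPolynomial (Fin n) A →ₐ[A] MvPolynomial (Fin (n + 1)) A).toRingHom,
        ψ y ∈ L.map (algebraMap (MvPolynomial (Fin n) A)
          (Localization.Away ((AlgHom.id A (MvPolynomial (Fin n) A)) h))) := by
      intro y hy
      obtain ⟨y1, hy1, y2, hy2, rfl⟩ := Submodule.mem_sup.mp hy
      rw [map_add]
      refine Ideal.add_mem _ ?_ ?_
      · obtain ⟨c, rfl⟩ := Ideal.mem_span_singleton'.mp hy1
        rw [map_mul, hψu, mul_zero]
        exact Ideal.zero_mem _
      · have : (L.map (ι : MvPolynomial (Fin n) A →ₐ[A]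
            MvPolynomial (Fin (n + 1)) A).toRingHom).map ψ.toRingHom =
            L.map (algebraMap (MvPolynomial (Fin n) A)
              (Localization.Away ((AlgHom.id A (MvPolynomial (Fin n) A)) h))) := by
          rw [Ideal.map_map]
          congr 1
          exact RingHom.ext fun p => hψι p
        rw [← this]
        exact Ideal.mem_map_of_mem _ hy2
    have h1 := hψL _ hx
    rw [map_mul, hψι] at h1
    -- write ψ x as a fraction
    obtain ⟨⟨a, ⟨_, k, rfl⟩⟩, hz⟩ := IsLocalization.surj
      (Submonoid.powers ((AlgHom.id A (MvPolynomial (Fin n) A)) h)) (ψ x)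
    simp only at hz
    have hunit : ∀ k : ℕ, IsUnit (algebraMap (MvPolynomial (Fin n) A)
        (Localization.Away ((AlgHom.id A (MvPolynomial (Fin n) A)) h))
        (((AlgHom.id A (MvPolynomial (Fin n) A)) h) ^ k)) := by
      intro k
      rw [map_pow]
      exact (IsLocalization.Away.algebraMap_isUnit _).pow k
    have h2 : algebraMap (MvPolynomial (Fin n) A)
        (Localization.Away ((AlgHom.id A (MvPolynomial (Fin n) A)) h)) (bs[j] * a) ∈
        L.map (algebraMap (MvPolynomial (Fin n) A)
          (Localization.Away ((AlgHom.id A (MvPolynomial (Fin n) A)) h))) := by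
      rw [map_mul, ← hz, ← mul_assoc]
      exact Ideal.mul_mem_right _ _ h1
    rw [IsLocalization.algebraMap_mem_map_algebraMap_iff
      (Submonoid.powers ((AlgHom.id A (MvPolynomial (Fin n) A)) h))] at h2
    obtain ⟨m, ⟨k', rfl⟩, hm⟩ := h2
    have h3 : bs[j] * (((AlgHom.id A (MvPolynomial (Fin n) A)) h) ^ k' * a) ∈ L := by
      have : bs[j] * (((AlgHom.id A (MvPolynomial (Fin n) A)) h) ^ k' * a) =
          ((AlgHom.id A (MvPolynomial (Fin n) A)) h) ^ k' * (bs[j] * a) := by ring
      rw [this]
      exact hm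
    have h4 : ((AlgHom.id A (MvPolynomial (Fin n) A)) h) *
        (((AlgHom.id A (MvPolynomial (Fin n) A)) h) ^ k' * a) ∈ L := hgood j hj _ h3
    have h5 : ψ x ∈ L.map (algebraMap (MvPolynomial (Fin n) A)
          (Localization.Away ((AlgHom.id A (MvPolynomial (Fin n) A)) h))) := by
      have hu := (hunit (k + k' + 1))
      rw [← Ideal.unit_mul_mem_iff_mem _ hu]
      have : algebraMap (MvPolynomial (Fin n) A)
          (Localization.Away ((AlgHom.id A (MvPolynomial (Fin n) A)) h))
          (((AlgHom.id A (MvPolynomial (Fin n) A)) h) ^ (k + k' + 1)) * ψ x =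
          algebraMap _ _ (((AlgHom.id A (MvPolynomial (Fin n) A)) h) *
            (((AlgHom.id A (MvPolynomial (Fin n) A)) h) ^ k' * a)) := by
        rw [pow_succ, pow_add, map_mul, map_mul, map_mul, map_mul, ← hz]
        ring
      rw [this]
      exact Ideal.mem_map_of_mem _ h4
    -- lift
    have hsurj : Function.Surjective ψ := awayHom_surjective _ h Function.surjective_id
    have h6 : ψ x ∈ (L.map (ι : MvPolynomial (Fin n) A →ₐ[A]
        MvPolynomial (Fin (n + 1)) A).toRingHom).map ψ.toRingHom := by
      have : (L.map (ι : MvPolynomial (Fin n) A →ₐ[A]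
            MvPolynomial (Fin (n + 1)) A).toRingHom).map ψ.toRingHom =
            L.map (algebraMap (MvPolynomial (Fin n) A)
              (Localization.Away ((AlgHom.id A (MvPolynomial (Fin n) A)) h))) := by
        rw [Ideal.map_map]
        congr 1
        exact RingHom.ext fun p => hψι p
      rw [this]
      exact h5
    rw [Ideal.mem_map_iff_of_surjective ψ.toRingHom hsurj] at h6
    obtain ⟨z, hz1, hz2⟩ := h6
    have h7 : x - z ∈ RingHom.ker ψ.toRingHom := by
      rw [RingHom.mem_ker]
      show ψ (x - z) = 0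
      rw [map_sub]
      have : ψ z = ψ x := hz2
      rw [this, sub_self]
    rw [ker_psiH] at h7
    have : x = (x - z) + z := by ring
    rw [this]
    exact Submodule.add_mem_sup h7 hz1

end Reg

end Groth.Agent.Lib.Helper94.SyntV
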