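import Mathlib

set_option autoImplicit false
universe u

namespace Groth.Agent.Lib.Helper94.CIFlat

open IsLocalRing

/-- In a local ring, a generating family with more members than the minimal number of generators
has a redundant member. -/
theorem exists_erase_span_eq_top {R : Type*} [CommRing R] [IsLocalRing R] {M : Type*}
    [AddCommGroup M] [Module R M] [Module.Finite R M]
    {ι : Type*} [Fintype ι] [DecidableEq ι] (v : ι → M)
    (hv : Submodule.span R (Set.range v) = ⊤)
    (hlt : Module.finrank (R ⧸ maximalIdeal R) (M ⧸ (maximalIdeal R) • (⊤ : Submodule R M)) <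
      Fintype.card ι) :
    ∃ i₀ : ι, Submodule.span R (v '' {i | i ≠ i₀}) = ⊤ := by
  letI : Field (R ⧸ maximalIdeal R) := Ideal.Quotient.field _
  haveI : Module.Finite (R ⧸ maximalIdeal R) (M ⧸ (maximalIdeal R) • (⊤ : Submodule R M)) :=
    Module.Finite.of_restrictScalars_finite R _ _
  let w : ι → (M ⧸ (maximalIdeal R) • (⊤ : Submodule R M)) := fun i => Submodule.Quotient.mk (v i)
  have hnli : ¬ LinearIndependent (R ⧸ maximalIdeal R) w := fun h => by
    have := h.fintype_card_le_finrank
    omega
  obtain ⟨g, hg, i₀, hi₀⟩ := Fintype.not_linearIndependent_iff.mp hnli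
  choose r hr using fun i => Ideal.Quotient.mk_surjective (g i)
  have hunit : IsUnit (r i₀) := by
    by_contra h
    apply hi₀
    rw [← hr]
    exact Ideal.Quotient.eq_zero_iff_mem.mpr ((mem_maximalIdeal _).mpr h)
  have hsm : ∀ (a : R) (x : M ⧸ (maximalIdeal R) • (⊤ : Submodule R M)),
      (Ideal.Quotient.mk (maximalIdeal R) a) • x = a • x := by
    intro a x
    rw [← Ideal.Quotient.algebraMap_eq, algebraMap_smul]
  have hmem : ∑ i, r i • v i ∈ (maximalIdeal R) • (⊤ : Submodule R M) := by
    rw [← Submodule.Quotient.mk_eq_zero, ← hg]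
    rw [← Submodule.mkQ_apply, map_sum]
    refine Finset.sum_congr rfl fun i _ => ?_
    rw [map_smul, ← hr i, hsm]
    rfl
  rw [← hv] at hmem
  obtain ⟨a, ha, hsum⟩ := (Submodule.mem_ideal_smul_span_iff_exists_sum _ v _).mp hmem
  have hsum' : ∑ i, (r i - a i) • v i = 0 := by
    simp only [sub_smul, Finset.sum_sub_distrib]
    rw [sub_eq_zero, ← hsum, Finsupp.sum_fintype]
    intro i
    exact zero_smul _ _
  have hu : IsUnit (r i₀ - a i₀) := by
    by_contra h
    have h1 : r i₀ - a i₀ ∈ maximalIdeal R := (mem_maximalIdeal _).mpr h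
    have h2 : r i₀ ∈ maximalIdeal R := by
      have := (maximalIdeal R).add_mem h1 (ha i₀)
      rwa [sub_add_cancel] at this
    exact (mem_maximalIdeal _).mp h2 hunit
  refine ⟨i₀, ?_⟩
  rw [eq_top_iff, ← hv, Submodule.span_le]
  rintro _ ⟨i, rfl⟩
  by_cases hi : i = i₀
  · subst hi
    obtain ⟨u, hu'⟩ := hu
    have h3 : (r i - a i) • v i = - ∑ j ∈ Finset.univ.erase i, (r j - a j) • v j := by
      rw [eq_neg_iff_add_eq_zero,
        Finset.add_sum_erase Finset.univ (fun j => (r j - a j) • v j) (Finset.mem_univ i)]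
      exact hsum'
    have h4 : v i = (↑u⁻¹ : R) • ((r i - a i) • v i) := by
      rw [← hu', smul_smul, Units.inv_mul, one_smul]
    rw [SetLike.mem_coe, h4, h3]
    refine Submodule.smul_mem _ _ (Submodule.neg_mem _ (Submodule.sum_mem _ fun j hj => ?_))
    refine Submodule.smul_mem _ _ (Submodule.subset_span ⟨j, ?_, rfl⟩)
    exact Finset.ne_of_mem_erase hj
  · exact Submodule.subset_span ⟨i, hi, rfl⟩

/-- In a local ring, every finite generating set of an ideal contains a generating subset with
at most `spanFinrank` elements. -/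
theorem exists_subset_span_eq {R : Type u} [CommRing R] [IsLocalRing R] (T : Finset R) :
    ∃ T' ⊆ T, T'.card ≤ (Ideal.span (T : Set R)).spanFinrank ∧
      Ideal.span (T' : Set R) = Ideal.span (T : Set R) := by
  classical
  induction T using Finset.strongInduction with
  | H T ih =>
    by_cases h : T.card ≤ (Ideal.span (T : Set R)).spanFinrank
    · exact ⟨T, subset_rfl, h, rfl⟩
    · rw [not_le] at h
      set N : Ideal R := Ideal.span (T : Set R) with hN
      have hfg : N.FG := ⟨T, rfl⟩
      haveI : Module.Finite R N := Module.Finite.iff_fg.mpr hfg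
      let v : {x // x ∈ T} → N := fun t => ⟨t.1, Ideal.subset_span (Finset.mem_coe.mpr t.2)⟩
      have hv : Submodule.span R (Set.range v) = ⊤ := by
        apply Submodule.map_injective_of_injective N.subtype_injective
        rw [Submodule.map_span, Submodule.map_subtype_top]
        show Submodule.span R _ = Ideal.span (T : Set R)
        congr 1
        ext x
        constructor
        · rintro ⟨_, ⟨t, rfl⟩, rfl⟩
          exact t.2
        · intro hx
          exact ⟨v ⟨x, hx⟩, ⟨⟨x, hx⟩, rfl⟩, rfl⟩
      have hlt : Module.finrank (R ⧸ maximalIdeal R)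
          (N ⧸ (maximalIdeal R) • (⊤ : Submodule R N)) < Fintype.card {x // x ∈ T} := by
        rw [← IsLocalRing.spanFinrank_eq_finrank_quotient N hfg]
        simpa using h
      obtain ⟨⟨t₀, ht₀⟩, hi₀⟩ := exists_erase_span_eq_top v hv hlt
      have hspan : Ideal.span ((T.erase t₀ : Finset R) : Set R) = N := by
        have := congrArg (Submodule.map N.subtype) hi₀
        rw [Submodule.map_span, Submodule.map_subtype_top] at this
        rw [← this]
        show Ideal.span _ = Submodule.span R _
        congr 1
        ext x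
        simp only [Finset.coe_erase, Set.mem_diff, Finset.mem_coe, Set.mem_singleton_iff,
          Set.mem_image, Set.mem_setOf_eq]
        constructor
        · rintro ⟨hx, hne⟩
          exact ⟨v ⟨x, hx⟩, ⟨⟨x, hx⟩, fun h => hne (congrArg Subtype.val h), rfl⟩, rfl⟩
        · rintro ⟨_, ⟨t, hne, rfl⟩, rfl⟩
          exact ⟨t.2, fun h => hne (Subtype.ext h)⟩
      obtain ⟨T', hT', hcard, hspan'⟩ := ih (T.erase t₀) (Finset.erase_ssubset ht₀)
      rw [hspan] at hcard hspan'
      exact ⟨T', hT'.trans (Finset.erase_subset _ _), hcard, hspan'⟩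

/-- The minimal number of generators does not drop under a faithfully flat map to a local
ring. -/
theorem spanFinrank_le_spanFinrank_map {R₁ R₂ : Type u} [CommRing R₁] [CommRing R₂]
    [IsLocalRing R₂] [Algebra R₁ R₂] [Module.FaithfullyFlat R₁ R₂] (J : Ideal R₁) (hJ : J.FG) :
    J.spanFinrank ≤ (J.map (algebraMap R₁ R₂)).spanFinrank := by
  classical
  obtain ⟨s, hs, hspan⟩ := Submodule.FG.exists_span_finset_card_eq_spanFinrank hJ
  have hspan0 : Ideal.span (s : Set R₁) = J := hspan
  have hmap : J.map (algebraMap R₁ R₂) =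
      Ideal.span ((s.image (algebraMap R₁ R₂) : Finset R₂) : Set R₂) := by
    rw [← hspan0, Ideal.map_span, Finset.coe_image]
  obtain ⟨T', hT', hcard, hspan'⟩ := exists_subset_span_eq (s.image (algebraMap R₁ R₂))
  have hpre : ∀ b ∈ T', ∃ a ∈ s, algebraMap R₁ R₂ a = b := fun b hb =>
    Finset.mem_image.mp (hT' hb)
  choose! c hc1 hc2 using hpre
  have himg : ((T'.image c).image (algebraMap R₁ R₂)) = T' := by
    rw [Finset.image_image]
    conv_rhs => rw [← Finset.image_id (s := T')]
    exact Finset.image_congr fun b hb => hc2 b hb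
  have hmap' : (Ideal.span ((T'.image c : Finset R₁) : Set R₁)).map (algebraMap R₁ R₂) =
      J.map (algebraMap R₁ R₂) := by
    rw [Ideal.map_span, ← Finset.coe_image, himg, hspan', hmap]
  have heq : Ideal.span ((T'.image c : Finset R₁) : Set R₁) = J := by
    rw [← Ideal.comap_map_eq_self_of_faithfullyFlat (B := R₂) J, ← hmap',
      Ideal.comap_map_eq_self_of_faithfullyFlat]
  calc J.spanFinrank = (Ideal.span ((T'.image c : Finset R₁) : Set R₁)).spanFinrank := by rw [heq]
    _ ≤ ((T'.image c : Finset R₁) : Set R₁).ncard :=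
        Submodule.spanFinrank_span_le_ncard_of_finite (Finset.finite_toSet _)
    _ = (T'.image c).card := Set.ncard_coe_finset _
    _ ≤ T'.card := Finset.card_image_le
    _ ≤ _ := hcard
    _ = _ := by rw [hmap]

end Groth.Agent.Lib.Helper94.CIFlat
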