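import Mathlib
import Groth.Prelude.Def_CInt
import Groth.Agent.Lib.Helper94.CIFlat
import Groth.Agent.Lib.Helper94.CILocal
import Groth.Agent.Lib.Helper67.FlatDepth12

set_option autoImplicit false
set_option linter.unusedSectionVars false
universe u

namespace Groth.Agent.Lib.Helper94.CIFlat

open IsLocalRing Groth.Agent.Lib.Helper94.CILocal

section FD

variable {R₁ R₂ : Type u} [CommRing R₁] [CommRing R₂] [IsLocalRing R₁] [IsLocalRing R₂]
  [IsNoetherianRing R₁] [IsNoetherianRing R₂] [Algebra R₁ R₂] [IsLocalHom (algebraMap R₁ R₂)]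
  [Module.Flat R₁ R₂]

theorem flat_quot (J : Ideal R₁) :
    Module.Flat (R₁ ⧸ J) (R₂ ⧸ J.map (algebraMap R₁ R₂)) :=
  Module.Flat.of_linearEquiv
    (Algebra.TensorProduct.quotIdealMapEquivQuotTensor R₂ J).toLinearEquiv

theorem map_le_maximalIdeal (J : Ideal R₁) (hJ : J ≤ maximalIdeal R₁) :
    J.map (algebraMap R₁ R₂) ≤ maximalIdeal R₂ :=
  (Ideal.map_mono hJ).trans (IsLocalRing.map_maximalIdeal_le (algebraMap R₁ R₂))

/-- dimension of the quotient under a flat local homomorphism -/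
theorem ringKrullDim_quot_map (J : Ideal R₁) (hJ : J ≤ maximalIdeal R₁) :
    ringKrullDim (R₂ ⧸ J.map (algebraMap R₁ R₂)) = ringKrullDim (R₁ ⧸ J) +
      ringKrullDim (R₂ ⧸ (maximalIdeal R₁).map (algebraMap R₁ R₂)) := by
  haveI := quot_isLocalRing J hJ
  haveI := quot_isLocalRing (J.map (algebraMap R₁ R₂)) (map_le_maximalIdeal J hJ)
  haveI := flat_quot (R₂ := R₂) J
  haveI : IsLocalHom (algebraMap (R₁ ⧸ J) (R₂ ⧸ J.map (algebraMap R₁ R₂))) := by
    constructor
    intro a ha
    obtain ⟨a, rfl⟩ := Ideal.Quotient.mk_surjective a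
    have h1 : algebraMap (R₁ ⧸ J) (R₂ ⧸ J.map (algebraMap R₁ R₂)) (Ideal.Quotient.mk J a) =
        Ideal.Quotient.mk _ (algebraMap R₁ R₂ a) := rfl
    rw [h1] at ha
    haveI : IsLocalHom (Ideal.Quotient.mk (J.map (algebraMap R₁ R₂))) :=
      IsLocalHom.of_surjective _ Ideal.Quotient.mk_surjective
    have h2 : IsUnit (algebraMap R₁ R₂ a) := (isUnit_map_iff (Ideal.Quotient.mk _) _).mp ha
    have h3 : IsUnit a := (isUnit_map_iff (algebraMap R₁ R₂) a).mp h2
    exact h3.map _
  rw [Groth.Agent.Lib.Helper67.ringKrullDim_eq_add_fibre_of_flat (R := R₁ ⧸ J)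
    (S := R₂ ⧸ J.map (algebraMap R₁ R₂))]
  congr 1
  have h4 : (maximalIdeal (R₁ ⧸ J)).map (algebraMap (R₁ ⧸ J) (R₂ ⧸ J.map (algebraMap R₁ R₂))) =
      ((maximalIdeal R₁).map (algebraMap R₁ R₂)).map
        (Ideal.Quotient.mk (J.map (algebraMap R₁ R₂))) := by
    have h5 : maximalIdeal (R₁ ⧸ J) = (maximalIdeal R₁).map (Ideal.Quotient.mk J) := by
      apply le_antisymm
      · intro x hx
        obtain ⟨b, rfl⟩ := Ideal.Quotient.mk_surjective x
        apply Ideal.mem_map_of_mem
        rw [mem_maximalIdeal, mem_nonunits_iff] at *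
        exact fun hb => hx (hb.map _)
      · haveI : IsLocalHom (Ideal.Quotient.mk J) :=
          IsLocalHom.of_surjective _ Ideal.Quotient.mk_surjective
        exact IsLocalRing.map_maximalIdeal_le _
    rw [h5, Ideal.map_map, Ideal.map_map]
    rfl
  rw [h4]
  have h6 : J.map (algebraMap R₁ R₂) ⊔ (maximalIdeal R₁).map (algebraMap R₁ R₂) =
      (maximalIdeal R₁).map (algebraMap R₁ R₂) := sup_eq_right.mpr (Ideal.map_mono hJ)
  exact ringKrullDim_eq_of_ringEquiv
    ((DoubleQuot.quotQuotEquivQuotSup _ _).trans (Ideal.quotEquivOfEq h6))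

/-- the minimal number of generators is invariant under flat local homomorphisms -/
theorem spanFinrank_map_eq (J : Ideal R₁) :
    (J.map (algebraMap R₁ R₂)).spanFinrank = J.spanFinrank := by
  haveI : Module.FaithfullyFlat R₁ R₂ := Module.FaithfullyFlat.of_flat_of_isLocalHom
  exact le_antisymm (Ideal.spanFinrank_map_le_of_fg _ (IsNoetherian.noetherian J))
    (spanFinrank_le_spanFinrank_map J (IsNoetherian.noetherian J))

/-- **Flat local descent/ascent of regular ideals** between Cohen–Macaulay local rings. -/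
theorem isRegularIdeal_map_iff [LocCoh.IsCohenMacaulayLocalRing R₁]
    [LocCoh.IsCohenMacaulayLocalRing R₂] (J : Ideal R₁) (hJ : J ≤ maximalIdeal R₁) :
    CInt.IsRegularIdeal J ↔ CInt.IsRegularIdeal (J.map (algebraMap R₁ R₂)) := by
  rw [isRegularIdeal_iff_dim R₁ J hJ,
    isRegularIdeal_iff_dim R₂ _ (map_le_maximalIdeal J hJ), ringKrullDim_quot_map J hJ,
    spanFinrank_map_eq, Groth.Agent.Lib.Helper67.ringKrullDim_eq_add_fibre_of_flat (R := R₁)
    (S := R₂)]
  haveI := quot_isLocalRing J hJ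
  haveI := Groth.Agent.Lib.Helper67.isLocalRing_fibre (R := R₁) (S := R₂)
  obtain ⟨a, ha⟩ := exists_nat_ringKrullDim (R₁ ⧸ J)
  obtain ⟨b, hb⟩ := exists_nat_ringKrullDim R₁
  obtain ⟨c, hc⟩ := exists_nat_ringKrullDim (R₂ ⧸ (maximalIdeal R₁).map (algebraMap R₁ R₂))
  rw [ha, hb, hc]
  constructor
  · intro h
    have h' : a + J.spanFinrank = b := by exact_mod_cast h
    have : a + c + J.spanFinrank = b + c := by omega
    exact_mod_cast this
  · intro h
    have h' : a + c + J.spanFinrank = b + c := by exact_mod_cast h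
    have : a + J.spanFinrank = b := by omega
    exact_mod_cast this

end FD

end Groth.Agent.Lib.Helper94.CIFlat
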