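import Mathlib
import Groth.Prelude.Def_RegImm
import Groth.Agent.Lib.Helper94.CIFlat2
import Groth.Agent.Lib.Helper94.CIMain2
import Groth.Agent.Lib.Helper77.RegularCM

/-!
# Complete intersections and extension of the base field (helper94)
-/

set_option autoImplicit false
set_option linter.unusedSectionVars false
universe u

namespace Groth.Agent.Lib.Helper94.CIFieldExt

open TensorProduct MvPolynomial Groth.Agent.Lib.Helper94.CILoc

section BC

variable {k : Type u} [CommRing k] (K : Type u) [CommRing K] [Algebra k K] {n : ℕ}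
  {A : Type u} [CommRing A] [Algebra k A] (φ : MvPolynomial (Fin n) k →ₐ[k] A)

/-- the coefficient extension `k[x] → K[x]` -/
noncomputable abbrev iota : MvPolynomial (Fin n) k →+* MvPolynomial (Fin n) K :=
  MvPolynomial.map (algebraMap k K)

/-- base change of a presentation -/
noncomputable def bcHom : MvPolynomial (Fin n) K →ₐ[K] K ⊗[k] A :=
  (Algebra.TensorProduct.map (AlgHom.id K K) φ).comp
    (MvPolynomial.algebraTensorAlgEquiv k K).symm.toAlgHom

theorem bcHom_iota (a : MvPolynomial (Fin n) k) :
    bcHom K φ (iota K a) = (1 : K) ⊗ₜ[k] φ a := by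
  have : (MvPolynomial.algebraTensorAlgEquiv k K).symm (iota K a) =
      (1 : K) ⊗ₜ[k] a := by
    rw [AlgEquiv.symm_apply_eq, MvPolynomial.algebraTensorAlgEquiv_tmul, one_smul]
  simp [bcHom, this]

theorem bcHom_surjective (hφ : Function.Surjective φ) :
    Function.Surjective (bcHom K φ) :=
  (Algebra.TensorProduct.map_surjective _ _ Function.surjective_id hφ).comp
    (AlgEquiv.surjective _)

theorem ker_bcHom (hφ : Function.Surjective φ) :
    RingHom.ker (bcHom K φ).toRingHom = (RingHom.ker φ.toRingHom).map (iota K) := by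
  have h1 := Algebra.TensorProduct.lTensor_ker (A := K) (g := φ) hφ
  let e := MvPolynomial.algebraTensorAlgEquiv (σ := Fin n) k K
  have h3 : (RingHom.ker φ.toRingHom).map (iota K) =
      ((RingHom.ker φ).map (Algebra.TensorProduct.includeRight :
        MvPolynomial (Fin n) k →ₐ[k] K ⊗[k] MvPolynomial (Fin n) k)).map e := by
    have h4 : ((RingHom.ker φ).map (Algebra.TensorProduct.includeRight :
        MvPolynomial (Fin n) k →ₐ[k] K ⊗[k] MvPolynomial (Fin n) k)).map e =
        (RingHom.ker φ.toRingHom).map ((e : _ →+* MvPolynomial (Fin n) K).comp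
          (Algebra.TensorProduct.includeRight :
            MvPolynomial (Fin n) k →ₐ[k] K ⊗[k] MvPolynomial (Fin n) k).toRingHom) := by
      rw [← Ideal.map_map]; rfl
    rw [h4]
    congr 1
    refine RingHom.ext fun a => ?_
    simp [e, iota, MvPolynomial.algebraTensorAlgEquiv_tmul]
  ext x
  have hx : x ∈ RingHom.ker (bcHom K φ).toRingHom ↔
      e.symm x ∈ RingHom.ker (Algebra.TensorProduct.map (AlgHom.id k K) φ) := by
    rw [RingHom.mem_ker, RingHom.mem_ker]; rfl
  rw [hx, h1, h3, Ideal.mem_map_of_equiv]
  constructor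
  · intro h
    exact ⟨e.symm x, h, e.apply_symm_apply x⟩
  · rintro ⟨y, hy, rfl⟩
    rwa [e.symm_apply_apply]

attribute [local instance] Algebra.TensorProduct.rightAlgebra in
/-- the coefficient extension is flat when `K` is flat over `k` -/
theorem flat_iota [Module.Flat k K] : (iota (n := n) (k := k) K).Flat := by
  have h1 : Module.Flat (MvPolynomial (Fin n) k) (K ⊗[k] MvPolynomial (Fin n) k) :=
    .of_linearEquiv (Algebra.TensorProduct.commRight _ _ _).symm.toLinearEquiv
  have h2 : (algebraMap (MvPolynomial (Fin n) k) (K ⊗[k] MvPolynomial (Fin n) k)).Flat := by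
    rw [RingHom.flat_algebraMap_iff]
    exact h1
  let e := MvPolynomial.algebraTensorAlgEquiv (σ := Fin n) k K
  have h3 : iota (n := n) (k := k) K =
      (e : _ →+* MvPolynomial (Fin n) K).comp
        (algebraMap (MvPolynomial (Fin n) k) (K ⊗[k] MvPolynomial (Fin n) k)) := by
    refine RingHom.ext fun a => ?_
    have : algebraMap (MvPolynomial (Fin n) k) (K ⊗[k] MvPolynomial (Fin n) k) a =
        (1 : K) ⊗ₜ[k] a := rfl
    rw [RingHom.comp_apply, this]
    show _ = e ((1 : K) ⊗ₜ[k] a)
    rw [MvPolynomial.algebraTensorAlgEquiv_tmul, one_smul]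
  rw [h3]
  exact RingHom.Flat.comp h2 (RingHom.Flat.of_bijective e.bijective)

end BC

section Main

open Groth.Agent.Lib.Helper94.CIMain Groth.Agent.Lib.Helper94.CIFlat IsLocalRing

variable (k K : Type u) [Field k] [Field K] [Algebra k K] (A : Type u) [CommRing A] [Algebra k A]
  [Algebra.FiniteType k A]

/-- **Invariance of complete intersections under extension of the base field.** -/
theorem isCIOver_baseChange_iff (P : Ideal (K ⊗[k] A)) [P.IsPrime] (q : Ideal A) [q.IsPrime]
    (hq : P.comap (Algebra.TensorProduct.includeRight : A →ₐ[k] K ⊗[k] A).toRingHom = q) :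
    Synt.IsCIOver k (Localization.AtPrime q) ↔ Synt.IsCIOver K (Localization.AtPrime P) := by
  obtain ⟨n, φ, hφ⟩ := Algebra.FiniteType.iff_quotient_mvPolynomial''.mp ‹Algebra.FiniteType k A›
  have hΨ := bcHom_surjective K φ hφ
  rw [isCIOver_iff_isRegularIdeal_ker (stdHom φ q) (stdHom_surjective φ hφ q),
    isCIOver_iff_isRegularIdeal_ker (stdHom (bcHom K φ) P) (stdHom_surjective (bcHom K φ) hΨ P),
    ker_stdHom φ hφ, ker_stdHom (bcHom K φ) hΨ, ker_bcHom K φ hφ]
  have hPq : q.comap φ.toRingHom = (P.comap (bcHom K φ).toRingHom).comap (iota K) := by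
    ext a
    simp only [Ideal.mem_comap, AlgHom.toRingHom_eq_coe, RingHom.coe_coe, bcHom_iota]
    rw [← hq]
    simp only [Ideal.mem_comap, AlgHom.toRingHom_eq_coe, RingHom.coe_coe,
      Algebra.TensorProduct.includeRight_apply]
  letI : Algebra (Localization.AtPrime (q.comap φ.toRingHom))
      (Localization.AtPrime (P.comap (bcHom K φ).toRingHom)) :=
    (Localization.localRingHom (q.comap φ.toRingHom) (P.comap (bcHom K φ).toRingHom)
      (iota K) hPq).toAlgebra
  haveI : IsLocalHom (algebraMap (Localization.AtPrime (q.comap φ.toRingHom))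
      (Localization.AtPrime (P.comap (bcHom K φ).toRingHom))) :=
    Localization.isLocalHom_localRingHom _ _ _ hPq
  haveI : Module.Flat (Localization.AtPrime (q.comap φ.toRingHom))
      (Localization.AtPrime (P.comap (bcHom K φ).toRingHom)) :=
    (RingHom.flat_algebraMap_iff).mp (RingHom.Flat.localRingHom (flat_iota K) _ _ hPq)
  haveI := Groth.Agent.Lib.Helper77.RegularCM.isCohenMacaulayLocalRing
    (Localization.AtPrime (q.comap φ.toRingHom))
  haveI := Groth.Agent.Lib.Helper77.RegularCM.isCohenMacaulayLocalRing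
    (Localization.AtPrime (P.comap (bcHom K φ).toRingHom))
  have hJ : (RingHom.ker φ.toRingHom).map (algebraMap (MvPolynomial (Fin n) k)
      (Localization.AtPrime (q.comap φ.toRingHom))) ≤
      maximalIdeal (Localization.AtPrime (q.comap φ.toRingHom)) := by
    rw [← Localization.AtPrime.map_eq_maximalIdeal]
    apply Ideal.map_mono
    intro a ha
    rw [Ideal.mem_comap, (RingHom.mem_ker).mp ha]
    exact Ideal.zero_mem _
  rw [isRegularIdeal_map_iff (R₁ := Localization.AtPrime (q.comap φ.toRingHom))
    (R₂ := Localization.AtPrime (P.comap (bcHom K φ).toRingHom)) _ hJ, Ideal.map_map,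
    Ideal.map_map]
  have hcomm : (algebraMap (Localization.AtPrime (q.comap φ.toRingHom))
      (Localization.AtPrime (P.comap (bcHom K φ).toRingHom))).comp
      (algebraMap (MvPolynomial (Fin n) k) (Localization.AtPrime (q.comap φ.toRingHom))) =
      (algebraMap (MvPolynomial (Fin n) K)
        (Localization.AtPrime (P.comap (bcHom K φ).toRingHom))).comp (iota K) := by
    refine RingHom.ext fun a => ?_
    exact Localization.localRingHom_to_map _ _ _ hPq a
  rw [hcomm]

end Main

end Groth.Agent.Lib.Helper94.CIFieldExt
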