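import Mathlib
import Groth.Prelude.Def_RegImm
import Groth.Agent.Lib.Helper94.SyntS
import Groth.Agent.Lib.Helper94.CIPres

/-!
# Syntomic cluster, part W: transport of complete intersections along compatible isomorphisms
of the base field
-/

set_option autoImplicit false
universe u

namespace Groth.Agent.Lib.Helper94.SyntW

open MvPolynomial

section FieldIso

variable {k k' : Type u} [Field k] [Field k'] {A A' : Type u} [CommRing A] [CommRing A']
  [Algebra k A] [Algebra k' A'] (σ : k ≃+* k') (e : A ≃+* A')
  (he : ∀ a, e (algebraMap k A a) = algebraMap k' A' (σ a))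

/-- transported presentation -/
noncomputable def transHom {n : ℕ} (φ : MvPolynomial (Fin n) k →ₐ[k] A) :
    MvPolynomial (Fin n) k' →ₐ[k'] A' :=
  MvPolynomial.aeval (fun i => e (φ (X i)))

include he in
theorem transHom_map {n : ℕ} (φ : MvPolynomial (Fin n) k →ₐ[k] A) (p : MvPolynomial (Fin n) k) :
    transHom e φ (MvPolynomial.map (σ : k →+* k') p) = e (φ p) := by
  have : ((transHom e φ).toRingHom.comp (MvPolynomial.map (σ : k →+* k'))) =
      (e : A →+* A').comp φ.toRingHom := by
    apply MvPolynomial.ringHom_ext
    · intro a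
      simp only [RingHom.comp_apply, MvPolynomial.map_C, AlgHom.toRingHom_eq_coe, RingHom.coe_coe,
        transHom, MvPolynomial.aeval_C]
      rw [← MvPolynomial.algebraMap_eq, φ.commutes, he]
    · intro i
      simp [transHom]
  exact DFunLike.congr_fun this p

include he in
theorem transHom_surjective {n : ℕ} (φ : MvPolynomial (Fin n) k →ₐ[k] A)
    (hφ : Function.Surjective φ) :
    Function.Surjective (transHom e φ : MvPolynomial (Fin n) k' →ₐ[k'] A') := by
  intro y
  obtain ⟨x, rfl⟩ := e.surjective y
  obtain ⟨p, rfl⟩ := hφ x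
  exact ⟨MvPolynomial.map (σ : k →+* k') p, transHom_map σ e he φ p⟩

include he in
theorem ker_transHom {n : ℕ} (φ : MvPolynomial (Fin n) k →ₐ[k] A) :
    RingHom.ker (transHom e φ).toRingHom =
      (RingHom.ker φ.toRingHom).map (MvPolynomial.map (σ : k →+* k')) := by
  let M := MvPolynomial.mapEquiv (Fin n) σ
  have hM : ∀ p, M p = MvPolynomial.map (σ : k →+* k') p := fun p => rfl
  have : (RingHom.ker φ.toRingHom).map (MvPolynomial.map (σ : k →+* k')) =
      (RingHom.ker φ.toRingHom).map M := rfl
  rw [this]
  ext x
  rw [Ideal.mem_map_of_equiv, RingHom.mem_ker]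
  constructor
  · intro hx
    refine ⟨M.symm x, ?_, M.apply_symm_apply x⟩
    rw [RingHom.mem_ker]
    apply e.injective
    have h1 := transHom_map σ e he φ (M.symm x)
    rw [← hM, M.apply_symm_apply] at h1
    rw [map_zero]
    exact h1.symm.trans hx
  · rintro ⟨y, hy, rfl⟩
    rw [RingHom.mem_ker] at hy
    show transHom e φ (M y) = 0
    rw [hM, transHom_map σ e he φ y]
    have : φ y = 0 := hy
    rw [this, map_zero]

include he in
/-- `IsGlobalCI` transports along compatible isomorphisms. -/
theorem isGlobalCI_of_ringEquiv (h : Synt.IsGlobalCI k A) : Synt.IsGlobalCI k' A' := by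
  rcases h with hs | ⟨n, c, hc, φ, r, hφ, hker, hdim⟩
  · exact Or.inl e.symm.injective.subsingleton
  · refine Or.inr ⟨n, c, hc, transHom e φ, fun i => MvPolynomial.map (σ : k →+* k') (r i),
      transHom_surjective σ e he φ hφ, ?_, ?_⟩
    · rw [ker_transHom σ e he φ, hker, Ideal.map_span, ← Set.range_comp]
      rfl
    · rw [← hdim]
      exact ringKrullDim_eq_of_ringEquiv e.symm

include he in
/-- `IsLCIOver` transports along compatible isomorphisms. -/
theorem isLCIOver_of_ringEquiv (h : Synt.IsLCIOver k A) : Synt.IsLCIOver k' A' := by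
  obtain ⟨hft, hloc⟩ := h
  refine ⟨?_, fun P' => ?_⟩
  · obtain ⟨n, φ, hφ⟩ := Algebra.FiniteType.iff_quotient_mvPolynomial''.mp hft
    exact Algebra.FiniteType.of_surjective (transHom e φ) (transHom_surjective σ e he φ hφ)
  · let P : PrimeSpectrum A := ⟨P'.asIdeal.comap (e : A →+* A'), Ideal.comap_isPrime _ _⟩
    obtain ⟨g, hg, hG⟩ := hloc P
    refine ⟨e g, hg, ?_⟩
    let eg : Localization.Away g ≃+* Localization.Away (e g) :=
      IsLocalization.ringEquivOfRingEquiv (M := Submonoid.powers g) (T := Submonoid.powers (e g))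
        (Localization.Away g) (Localization.Away (e g)) e (by
          rw [Submonoid.map_powers]; rfl)
    refine isGlobalCI_of_ringEquiv σ eg (fun a => ?_) hG
    rw [IsScalarTower.algebraMap_apply k A (Localization.Away g),
      IsScalarTower.algebraMap_apply k' A' (Localization.Away (e g)), ← he]
    exact IsLocalization.ringEquivOfRingEquiv_eq _ _

end FieldIso

section Loc

open TensorProduct

variable {R R' : Type u} [CommRing R] [CommRing R'] [Algebra R R'] (M : Submonoid R)
  [IsLocalization M R'] (T : Type u) [CommRing T] [Algebra R' T] [Algebra R T]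
  [IsScalarTower R R' T]
  (p' : Ideal R') [p'.IsPrime] (p : Ideal R) [p.IsPrime] (hp : p = p'.comap (algebraMap R R'))

include M hp in
/-- The fibre of an algebra over a localization `R'` of `R` over a prime of `R'` is the fibre over
the corresponding prime of `R`. -/
theorem isLCIOver_fibre_iff :
    Synt.IsLCIOver p'.ResidueField (p'.Fiber T) ↔ Synt.IsLCIOver p.ResidueField (p.Fiber T) := by
  have hbij := (RingHom.surjectiveOnStalks_of_isLocalization M R').residueFieldMap_bijective
    p p' hp
  let σ : p.ResidueField ≃+* p'.ResidueField := RingEquiv.ofBijective _ hbij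
  have hσ : ∀ r : R, σ (algebraMap R p.ResidueField r) = algebraMap R p'.ResidueField r := by
    intro r
    show Ideal.ResidueField.map p p' (algebraMap R R') hp (algebraMap R _ r) = _
    rw [Ideal.ResidueField.map_algebraMap]
    exact (IsScalarTower.algebraMap_apply R R' p'.ResidueField r).symm
  let σa : p.ResidueField ≃ₐ[R] p'.ResidueField := AlgEquiv.ofRingEquiv (f := σ) hσ
  let E1 : p.ResidueField ⊗[R] T ≃ₐ[R] p'.ResidueField ⊗[R] T :=
    Algebra.TensorProduct.congr σa AlgEquiv.refl
  haveI := IsLocalization.tensorProduct_compatibleSMul M R' p'.ResidueField T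
  let E2 : p'.ResidueField ⊗[R'] T ≃ₐ[p'.ResidueField] p'.ResidueField ⊗[R] T :=
    Algebra.TensorProduct.equivOfCompatibleSMul R R' p'.ResidueField p'.ResidueField T
  have hE1 : ∀ a : p.ResidueField, E1 (algebraMap p.ResidueField (p.ResidueField ⊗[R] T) a) =
      algebraMap p'.ResidueField (p'.ResidueField ⊗[R] T) (σ a) := by
    intro a
    rw [Algebra.TensorProduct.algebraMap_apply, Algebra.TensorProduct.algebraMap_apply]
    simp only [Algebra.algebraMap_self, RingHom.id_apply]
    exact Algebra.TensorProduct.congr_apply _ _ _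
  constructor
  · intro h
    have h1 : Synt.IsLCIOver p'.ResidueField (p'.ResidueField ⊗[R] T) :=
      Groth.Agent.Lib.Helper94.SyntI.isLCIOver_of_algEquiv E2 h
    refine isLCIOver_of_ringEquiv σ.symm E1.symm.toRingEquiv (fun a => ?_) h1
    apply E1.injective
    show E1 (E1.symm _) = _
    rw [E1.apply_symm_apply, hE1, σ.apply_symm_apply]
  · intro h
    have h1 : Synt.IsLCIOver p'.ResidueField (p'.ResidueField ⊗[R] T) :=
      isLCIOver_of_ringEquiv σ E1.toRingEquiv hE1 h
    exact Groth.Agent.Lib.Helper94.SyntI.isLCIOver_of_algEquiv E2.symm h1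

end Loc

section Moves

open TensorProduct

/-- the zero ring is a local complete intersection -/
theorem isLCIOver_of_subsingleton (k A : Type u) [Field k] [CommRing A] [Algebra k A]
    [Subsingleton A] : Synt.IsLCIOver k A := by
  refine ⟨?_, fun P => ?_⟩
  · exact Algebra.FiniteType.of_surjective (Algebra.ofId k A) (fun x => ⟨0, Subsingleton.elim _ _⟩)
  · exact absurd (Subsingleton.elim (0 : A) 1 ▸ P.asIdeal.zero_mem)
      (fun h => P.2.ne_top ((Ideal.eq_top_iff_one _).mpr h))

/-- syntomic algebras: principal localizations of the target. -/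
theorem isSyntomic_away {R S : Type u} [CommRing R] [CommRing S] [Algebra R S] (g : S)
    (h : Synt.IsSyntomic R S) : Synt.IsSyntomic R (Localization.Away g) := by
  obtain ⟨hfl, hfp, hfib⟩ := h
  haveI := hfl
  haveI := hfp
  haveI : Algebra.FinitePresentation S (Localization.Away g) :=
    IsLocalization.Away.finitePresentation g
  refine ⟨Module.Flat.trans R S _, Algebra.FinitePresentation.trans R S _, fun p => ?_⟩
  let E : p.asIdeal.Fiber (Localization.Away g) ≃ₐ[p.asIdeal.ResidueField]
      Localization.Away ((1 : p.asIdeal.ResidueField) ⊗ₜ[R] g) :=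
    IsLocalization.Away.tensorProductEquivTMulRight R p.asIdeal.ResidueField g (Localization.Away g)
  exact Groth.Agent.Lib.Helper94.SyntI.isLCIOver_of_algEquiv E.symm
    (Groth.Agent.Lib.Helper94.CIPres.isLCIOver_away _ (hfib p))

variable {R R' : Type u} [CommRing R] [CommRing R'] [Algebra R R'] (M : Submonoid R)
  [IsLocalization M R'] (T : Type u) [CommRing T] [Algebra R' T] [Algebra R T]
  [IsScalarTower R R' T]

include M in
/-- syntomic over a (finitely presented) localization implies syntomic over the ring. -/
theorem isSyntomic_of_localization [Algebra.FinitePresentation R R']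
    (h : Synt.IsSyntomic R' T) : Synt.IsSyntomic R T := by
  obtain ⟨hfl, hfp, hfib⟩ := h
  haveI := hfl
  haveI := hfp
  haveI : Module.Flat R R' := IsLocalization.flat R' M
  refine ⟨Module.Flat.trans R R' T, Algebra.FinitePresentation.trans R R' T, fun p => ?_⟩
  by_cases hd : Disjoint (M : Set R) (p.asIdeal : Set R)
  · haveI hp' : (p.asIdeal.map (algebraMap R R')).IsPrime :=
      IsLocalization.isPrime_of_isPrime_disjoint M R' _ p.2 hd
    have hcomap : p.asIdeal = (p.asIdeal.map (algebraMap R R')).comap (algebraMap R R') :=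
      (IsLocalization.under_map_of_isPrime_disjoint M R' p.2 hd).symm
    exact (isLCIOver_fibre_iff M T (p.asIdeal.map (algebraMap R R')) p.asIdeal hcomap).mp
      (hfib ⟨_, hp'⟩)
  · rw [Set.not_disjoint_iff] at hd
    obtain ⟨m, hmM, hmp⟩ := hd
    haveI : Subsingleton (p.asIdeal.Fiber T) := by
      have hu : IsUnit (algebraMap R T m) := by
        rw [IsScalarTower.algebraMap_apply R R' T]
        exact (IsLocalization.map_units R' ⟨m, hmM⟩).map _
      have h0 : algebraMap R p.asIdeal.ResidueField m = 0 :=
        Ideal.algebraMap_residueField_eq_zero.mpr hmp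
      obtain ⟨v, hv⟩ := hu.exists_right_inv
      have h1 : (1 : p.asIdeal.Fiber T) = 0 := by
        rw [Algebra.TensorProduct.one_def, ← hv, ← Algebra.smul_def, ← TensorProduct.smul_tmul,
          Algebra.smul_def, h0, zero_mul, TensorProduct.zero_tmul]
      exact subsingleton_of_zero_eq_one h1.symm
    exact isLCIOver_of_subsingleton _ _

include M in
/-- syntomic over the ring implies syntomic over a localization acting on the algebra. -/
theorem isSyntomic_localization_of_isSyntomic
    (h : Synt.IsSyntomic R T) : Synt.IsSyntomic R' T := by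
  obtain ⟨hfl, hfp, hfib⟩ := h
  haveI := hfl
  haveI := hfp
  refine ⟨?_, ?_, fun p' => ?_⟩
  · exact Module.Flat.of_linearEquiv (IsLocalization.moduleLid M R' T).symm
  · exact Algebra.FinitePresentation.equiv (IsLocalization.algebraLid M R' T)
  · let p : Ideal R := p'.asIdeal.comap (algebraMap R R')
    haveI : p.IsPrime := Ideal.comap_isPrime _ _
    exact (isLCIOver_fibre_iff M T p'.asIdeal p rfl).mpr (hfib ⟨p, inferInstance⟩)

end Moves

section FieldBase

open TensorProduct

/-- Over a field, syntomic means local complete intersection. -/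
theorem isSyntomic_field_iff (k A : Type u) [Field k] [CommRing A] [Algebra k A] :
    Synt.IsSyntomic k A ↔ Synt.IsLCIOver k A := by
  have key : ∀ p : PrimeSpectrum k,
      (Synt.IsLCIOver p.asIdeal.ResidueField (p.asIdeal.Fiber A) ↔ Synt.IsLCIOver k A) := by
    intro p
    let σ' : k ≃ₐ[k] p.asIdeal.ResidueField := Ideal.algEquivResidueFieldOfField p.asIdeal
    let E : p.asIdeal.ResidueField ⊗[k] A ≃ₐ[k] A :=
      (Algebra.TensorProduct.congr σ'.symm AlgEquiv.refl).trans (Algebra.TensorProduct.lid k A)
    have hE : ∀ a : p.asIdeal.ResidueField,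
        E (algebraMap p.asIdeal.ResidueField (p.asIdeal.ResidueField ⊗[k] A) a) =
          algebraMap k A (σ'.symm a) := by
      intro a
      rw [Algebra.TensorProduct.algebraMap_apply]
      simp only [Algebra.algebraMap_self, RingHom.id_apply, E, AlgEquiv.trans_apply,
        Algebra.TensorProduct.congr_apply, Algebra.TensorProduct.map_tmul, AlgEquiv.coe_toAlgHom,
        map_one, Algebra.TensorProduct.lid_tmul]
      rw [Algebra.algebraMap_eq_smul_one]
    constructor
    · intro h
      exact isLCIOver_of_ringEquiv σ'.symm.toRingEquiv E.toRingEquiv hE h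
    · intro h
      refine isLCIOver_of_ringEquiv σ'.toRingEquiv E.symm.toRingEquiv (fun a => ?_) h
      apply E.injective
      show E (E.symm _) = _
      rw [E.apply_symm_apply]
      have := hE (σ' a)
      rw [σ'.symm_apply_apply] at this
      exact this.symm
  constructor
  · rintro ⟨-, -, hfib⟩
    exact (key ⟨⊥, Ideal.isPrime_bot⟩).mp (hfib _)
  · intro h
    haveI := h.1
    refine ⟨inferInstance, Algebra.FinitePresentation.of_finiteType.mp h.1, fun p => ?_⟩
    exact (key p).mpr h

end FieldBase

end Groth.Agent.Lib.Helper94.SyntW
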