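import Mathlib
import Groth.Prelude.Def_RegImm
import Groth.Agent.Lib.Helper94.SyntW
import Groth.Agent.S9146

/-!
# Syntomic cluster, part X: `Synt.IsSyntomic` as a local property of ring homomorphisms
-/

set_option autoImplicit false
universe u

namespace Groth.Agent.Lib.Helper94.SyntX

open Groth.Agent.Lib.Helper94.SyntW Groth.Agent.Lib.Helper94.SyntS

/-- syntomic ring homomorphisms -/
def SynHom {R S : Type u} [CommRing R] [CommRing S] (f : R →+* S) : Prop :=
  letI := f.toAlgebra
  Synt.IsSyntomic R S

theorem synHom_algebraMap_iff {R S : Type u} [CommRing R] [CommRing S] [Algebra R S] :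
    SynHom (algebraMap R S) ↔ Synt.IsSyntomic R S := by
  rw [SynHom, toAlgebra_algebraMap]

theorem synHom_of_eq_algebraMap {R S : Type u} [CommRing R] [CommRing S] [Algebra R S]
    (f : R →+* S) (hf : f = algebraMap R S) : SynHom f ↔ Synt.IsSyntomic R S := by
  subst hf
  exact synHom_algebraMap_iff

theorem respectsIso : RingHom.RespectsIso @SynHom := by
  constructor
  · intro R S T _ _ _ f e hf
    letI := f.toAlgebra
    letI := (e.toRingHom.comp f).toAlgebra
    let e' : S ≃ₐ[R] T := { e with commutes' := fun r => rfl }
    exact isSyntomic_of_algEquiv e' hf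
  · intro R S T _ _ _ f e hf
    letI := e.toRingHom.toAlgebra
    letI := f.toAlgebra
    letI := (f.comp e.toRingHom).toAlgebra
    haveI : IsScalarTower R S T := IsScalarTower.of_algebraMap_eq (fun r => rfl)
    let e' : R ≃ₐ[R] S := AlgEquiv.ofRingEquiv (f := e) (fun r => rfl)
    haveI : IsLocalization (⊥ : Submonoid R) R := IsLocalization.self bot_le
    haveI : IsLocalization (⊥ : Submonoid R) S := IsLocalization.isLocalization_of_algEquiv _ e'
    haveI : Algebra.FinitePresentation R S := Algebra.FinitePresentation.equiv e'
    exact isSyntomic_of_localization (⊥ : Submonoid R) T hf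

theorem stableUnderCompositionWithLocalizationAwayTarget :
    RingHom.StableUnderCompositionWithLocalizationAwayTarget @SynHom := by
  intro R S T _ _ _ _ s _ f hf
  letI := f.toAlgebra
  letI := ((algebraMap S T).comp f).toAlgebra
  haveI : IsScalarTower R S T := IsScalarTower.of_algebraMap_eq (fun r => rfl)
  have h1 : Synt.IsSyntomic R (Localization.Away s) := isSyntomic_away s hf
  let e : Localization.Away s ≃ₐ[S] T := IsLocalization.algEquiv (Submonoid.powers s) _ _
  exact isSyntomic_of_algEquiv (e.restrictScalars R) h1

theorem stableUnderCompositionWithLocalizationAwaySource :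
    RingHom.StableUnderCompositionWithLocalizationAwaySource @SynHom := by
  intro R S T _ _ _ _ r _ f hf
  letI := f.toAlgebra
  letI := (f.comp (algebraMap R S)).toAlgebra
  haveI : IsScalarTower R S T := IsScalarTower.of_algebraMap_eq (fun r => rfl)
  haveI : Algebra.FinitePresentation R S := IsLocalization.Away.finitePresentation r
  exact isSyntomic_of_localization (Submonoid.powers r) T hf

theorem localizationAwayPreserves : RingHom.LocalizationAwayPreserves @SynHom := by
  intro R S _ _ f r R' S' _ _ _ _ _ _ hf
  letI := f.toAlgebra
  letI := (IsLocalization.Away.map R' S' f r).toAlgebra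
  letI : Algebra R S' := ((algebraMap S S').comp f).toAlgebra
  haveI : IsScalarTower R S S' := IsScalarTower.of_algebraMap_eq (fun _ => rfl)
  haveI : IsScalarTower R R' S' := IsScalarTower.of_algebraMap_eq (fun x => by
    show algebraMap S S' (f x) = IsLocalization.Away.map R' S' f r (algebraMap R R' x)
    rw [IsLocalization.Away.map, IsLocalization.map_eq])
  have h1 : Synt.IsSyntomic R S' := by
    have h0 : Synt.IsSyntomic R (Localization.Away (f r)) := isSyntomic_away (f r) hf
    let e : Localization.Away (f r) ≃ₐ[S] S' :=
      IsLocalization.algEquiv (Submonoid.powers (f r)) _ _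
    exact isSyntomic_of_algEquiv (e.restrictScalars R) h0
  exact isSyntomic_localization_of_isSyntomic (Submonoid.powers r) S' h1

theorem ofLocalizationSpanTarget : RingHom.OfLocalizationSpanTarget @SynHom := by
  rw [RingHom.ofLocalizationSpanTarget_iff_finite]
  intro R S _ _ f s hs h
  letI := f.toAlgebra
  refine Groth.Agent.S9146.result R S s hs (fun g hg => ?_)
  have h1 := h ⟨g, hg⟩
  refine (synHom_of_eq_algebraMap _ ?_).mp h1
  rw [IsScalarTower.algebraMap_eq R S (Localization.Away g)]
  rfl

theorem propertyIsLocal : RingHom.PropertyIsLocal @SynHom where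
  localizationAwayPreserves := localizationAwayPreserves
  ofLocalizationSpanTarget := ofLocalizationSpanTarget
  ofLocalizationSpan := ofLocalizationSpanTarget.ofLocalizationSpan
    stableUnderCompositionWithLocalizationAwaySource
  StableUnderCompositionWithLocalizationAwayTarget :=
    stableUnderCompositionWithLocalizationAwayTarget

open AlgebraicGeometry CategoryTheory in
instance hasRingHomProperty : HasRingHomProperty (affineLocally @SynHom) @SynHom where
  isLocal_ringHomProperty := propertyIsLocal
  eq_affineLocally' := rfl

open AlgebraicGeometry CategoryTheory in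
/-- `Synt.IsSyntomicMor` is the morphism property associated with `SynHom`. -/
theorem isSyntomicMor_iff_affineLocally {X S : Scheme.{u}} (f : X ⟶ S) :
    Synt.IsSyntomicMor f ↔ affineLocally @SynHom f := by
  rw [HasRingHomProperty.iff_exists_appLE (P := affineLocally @SynHom) (f := f)
    stableUnderCompositionWithLocalizationAwaySource]
  constructor
  · intro hf x
    obtain ⟨U', V', e', hx, hs⟩ := hf x
    exact ⟨V', U', hx, e', hs⟩
  · intro hf x
    obtain ⟨V', U', hx, e', hs⟩ := hf x
    exact ⟨U', V', e', hx, hs⟩

end Groth.Agent.Lib.Helper94.SyntX
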