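import Mathlib
import Groth.Prelude.Def_RegImm
import Groth.Agent.Lib.Helper94.CIField
import Groth.Agent.Lib.Helper94.CILocal
import Groth.Agent.Lib.Helper94.CIDim
import Groth.Agent.Lib.Helper77.CMQuot
import Groth.Agent.Lib.Helper56.FibreCM

/-!
# Complete intersections over a field are Cohen–Macaulay (helper94)
-/

set_option autoImplicit false

namespace Groth.Agent.Lib.Helper94.CICM

open IsLocalRing LocCoh Groth.Agent.Lib.Helper94.CILocal

universe u

theorem dim_le_quotient_span_range {R : Type*} [CommRing R] [IsLocalRing R] [IsNoetherianRing R]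
    {c : ℕ} (f : Fin c → R) (hf : ∀ i, f i ∈ maximalIdeal R) :
    ringKrullDim R ≤ ringKrullDim (R ⧸ Ideal.span (Set.range f)) + c := by
  refine le_trans (ringKrullDim_le_ringKrullDim_quotient_add_encard (Set.range f) ?_) ?_
  · rw [IsLocalRing.ringJacobson_eq_maximalIdeal]
    rintro _ ⟨i, rfl⟩; exact hf i
  · gcongr
    have h1 : (Set.range f).encard ≤ (c : ℕ∞) := by
      rw [← Set.image_univ]
      refine le_trans (Set.encard_image_le _ _) ?_
      simp [Set.encard_univ]
    exact_mod_cast h1

/-- The quotient of a CM local ring by `c` elements cutting the dimension down by `c` is CM. -/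
theorem isCM_quotient_span_range (c : ℕ) : ∀ (R : Type u) [CommRing R]
    [IsCohenMacaulayLocalRing R] (f : Fin c → R), (∀ i, f i ∈ maximalIdeal R) →
    ringKrullDim (R ⧸ Ideal.span (Set.range f)) + c = ringKrullDim R →
    IsCohenMacaulayLocalRing (R ⧸ Ideal.span (Set.range f)) := by
  induction c with
  | zero =>
    intro R _ _ f hf hdim
    have hJ : Ideal.span (Set.range f) = ⊥ := by
      rw [Ideal.span_eq_bot]
      rintro _ ⟨i, rfl⟩
      exact i.elim0
    exact Groth.Agent.Lib.Helper56.isCohenMacaulayLocalRing_of_ringEquiv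
      ((Ideal.quotEquivOfEq hJ).trans (RingEquiv.quotientBot R)).symm inferInstance
  | succ c ih =>
    intro R _ _ f hf hdim
    set y := f 0 with hy
    set I := Ideal.span ({y} : Set R) with hI
    have hIm : I ≤ maximalIdeal R := by
      rw [hI, Ideal.span_le, Set.singleton_subset_iff]; exact hf 0
    have hloc : IsLocalRing (R ⧸ I) := quot_isLocalRing I hIm
    let f' : Fin c → R ⧸ I := fun i => Ideal.Quotient.mk I (f i.succ)
    have hf' : ∀ i, f' i ∈ maximalIdeal (R ⧸ I) := fun i =>
      (mk_mem_maximalIdeal_iff I _).mpr (hf i.succ)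
    have hsup : I ⊔ Ideal.span (Set.range fun i : Fin c => f i.succ) = Ideal.span (Set.range f) := by
      rw [hI, ← Ideal.span_union]
      congr 1
      ext x
      simp only [Set.singleton_union, Set.mem_insert_iff, Set.mem_range]
      constructor
      · rintro (rfl | ⟨i, rfl⟩)
        · exact ⟨0, rfl⟩
        · exact ⟨i.succ, rfl⟩
      · rintro ⟨i, rfl⟩
        induction i using Fin.cases with
        | zero => left; rfl
        | succ j => right; exact ⟨j, rfl⟩
    have hmap : (Ideal.span (Set.range fun i : Fin c => f i.succ)).map (Ideal.Quotient.mk I) =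
        Ideal.span (Set.range f') := by
      rw [Ideal.map_span, ← Set.range_comp]
      rfl
    let e : (R ⧸ I) ⧸ Ideal.span (Set.range f') ≃+* R ⧸ Ideal.span (Set.range f) :=
      (Ideal.quotEquivOfEq hmap.symm).trans
        ((DoubleQuot.quotQuotEquivQuotSup I _).trans (Ideal.quotEquivOfEq hsup))
    have hJm : Ideal.span (Set.range f) ≤ maximalIdeal R := by
      rw [Ideal.span_le]; rintro _ ⟨i, rfl⟩; exact hf i
    have hloc2 : IsLocalRing (R ⧸ Ideal.span (Set.range f)) := quot_isLocalRing _ hJm
    obtain ⟨d, hd⟩ := exists_nat_ringKrullDim R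
    obtain ⟨d', hd'⟩ := exists_nat_ringKrullDim (R ⧸ I)
    obtain ⟨e₀, he₀⟩ := exists_nat_ringKrullDim (R ⧸ Ideal.span (Set.range f))
    have hee : ringKrullDim ((R ⧸ I) ⧸ Ideal.span (Set.range f')) = e₀ := by
      rw [ringKrullDim_eq_of_ringEquiv e, he₀]
    have k1 := dim_le_quotient_span_range f' hf'
    have k2 : ringKrullDim R ≤ ringKrullDim (R ⧸ I) + 1 := by
      have := dim_le_quotient_span_range (fun _ : Fin 1 => y) (fun _ => hf 0)
      have hr : Ideal.span (Set.range fun _ : Fin 1 => y) = I := by
        rw [Set.range_const]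
      rw [hr] at this
      exact_mod_cast this
    rw [hee, hd'] at k1
    rw [hd, hd'] at k2
    rw [he₀, hd] at hdim
    have k1' : d' ≤ e₀ + c := by exact_mod_cast k1
    have k2' : d ≤ d' + 1 := by exact_mod_cast k2
    have hdim' : e₀ + (c + 1) = d := by exact_mod_cast hdim
    have hdim1 : ringKrullDim (R ⧸ I) + 1 = ringKrullDim R := by
      rw [hd, hd']
      have : d' + 1 = d := by omega
      exact_mod_cast this
    have hreg := Groth.Agent.Lib.Helper77.CMQuot.isSMulRegular_of_dim R y I hI hdim1
    have hCM' : IsCohenMacaulayLocalRing (R ⧸ I) :=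
      Groth.Agent.Lib.Helper77.CMQuot.isCM_quot_of_regular R y (hf 0) hreg I hI
    have hdim2 : ringKrullDim ((R ⧸ I) ⧸ Ideal.span (Set.range f')) + c = ringKrullDim (R ⧸ I) := by
      rw [hee, hd']
      have : e₀ + c = d' := by omega
      exact_mod_cast this
    have := ih (R ⧸ I) f' hf' hdim2
    exact Groth.Agent.Lib.Helper56.isCohenMacaulayLocalRing_of_ringEquiv e this

section

variable {k : Type u} [Field k] {n : ℕ} {S : Type u} [CommRing S] [Algebra k S]
  (φ : MvPolynomial (Fin n) k →ₐ[k] S) (hφ : Function.Surjective φ)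

include hφ

/-- Local data attached to a surjection from a polynomial ring: transport of a prime `p` of `S`
to the quotient `P ⧸ ker φ`. -/
theorem comap_quotientKerEquiv_comap_mk (p : Ideal S) :
    (p.comap ((RingHom.quotientKerEquivOfSurjective (f := φ.toRingHom) hφ : _ ≃+* S) : _ →+* S)).comap
      (Ideal.Quotient.mk (RingHom.ker φ.toRingHom)) = p.comap φ.toRingHom := by
  rw [Ideal.comap_comap]
  congr 1

/-- The localizations of a global complete intersection are Cohen–Macaulay. -/
theorem isCM_localization_of_gci (c : ℕ) (r : Fin c → MvPolynomial (Fin n) k)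
    (hker : RingHom.ker φ.toRingHom = Ideal.span (Set.range r)) (hc : c ≤ n)
    (hdim : ringKrullDim S = ((n - c : ℕ) : WithBot ℕ∞)) (p : Ideal S) [p.IsPrime] :
    IsCohenMacaulayLocalRing (Localization.AtPrime p) := by
  have hφ' : Function.Surjective φ.toRingHom := hφ
  set I := RingHom.ker φ.toRingHom with hI
  let e₀ : (MvPolynomial (Fin n) k ⧸ I) ≃+* S := RingHom.quotientKerEquivOfSurjective hφ'
  set q₀ : Ideal (MvPolynomial (Fin n) k ⧸ I) := p.comap (e₀ : _ →+* S) with hq₀
  have hq₀p : q₀.IsPrime := Ideal.comap_isPrime _ _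
  have hq' : q₀.comap (Ideal.Quotient.mk I) = p.comap φ.toRingHom :=
    comap_quotientKerEquiv_comap_mk φ hφ p
  have hht : q₀.height = p.height := RingEquiv.height_comap e₀ p
  have hc' : (c : ℕ∞) + q₀.height = (q₀.comap (Ideal.Quotient.mk I)).height := by
    rw [hht, hq']
    exact Groth.Agent.Lib.Helper94.CIDim.gci_height_eq φ hφ c r hker hc hdim p
  let R := Localization.AtPrime (q₀.comap (Ideal.Quotient.mk I))
  let f : Fin c → R := fun i => algebraMap _ R (r i)
  have hfspan : Ideal.span (Set.range f) = I.map (algebraMap _ R) := by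
    have h1 : I.map (algebraMap _ R) = (Ideal.span (Set.range r)).map (algebraMap _ R) :=
      congrArg (fun J => Ideal.map (algebraMap (MvPolynomial (Fin n) k) R) J) hker
    rw [h1, Ideal.map_span, ← Set.range_comp]
    rfl
  have hIm := Groth.Agent.Lib.Helper94.CIField.map_le_maximalIdeal I q₀ R
  have hfm : ∀ i, f i ∈ maximalIdeal R := by
    intro i
    apply hIm
    rw [← hfspan]
    exact Ideal.subset_span ⟨i, rfl⟩
  have hd := Groth.Agent.Lib.Helper94.CIField.ringKrullDim_quotient_add I q₀ R c hc'
  rw [← hfspan] at hd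
  have hCM := isCM_quotient_span_range c R f hfm hd
  have hloc := Groth.Agent.Lib.Helper94.CIField.isLocalization_quotient_atPrime I q₀ R
  -- transport to `S_p`
  have hmap : q₀.primeCompl.map e₀.toMonoidHom = p.primeCompl := by
    ext x
    constructor
    · rintro ⟨y, hy, rfl⟩
      exact hy
    · intro hx
      refine ⟨e₀.symm x, ?_, e₀.apply_symm_apply x⟩
      change e₀.symm x ∉ q₀
      rw [hq₀, Ideal.mem_comap]
      simpa using hx
  let e₁ : (R ⧸ I.map (algebraMap _ R)) ≃+* Localization.AtPrime p :=
    IsLocalization.ringEquivOfRingEquiv (M := q₀.primeCompl) (T := p.primeCompl)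
      (R ⧸ I.map (algebraMap _ R)) (Localization.AtPrime p) e₀ hmap
  exact Groth.Agent.Lib.Helper56.isCohenMacaulayLocalRing_of_ringEquiv
    ((Ideal.quotEquivOfEq hfspan).trans e₁) hCM

end


/-- A local complete intersection over a field is Cohen–Macaulay. -/
theorem isCohenMacaulayRing_of_isLCIOver (k S : Type u) [Field k] [CommRing S] [Algebra k S]
    (h : Synt.IsLCIOver k S) : LocCoh.IsCohenMacaulayRing S := by
  obtain ⟨hFT, h⟩ := h
  have hN : IsNoetherianRing S := Algebra.FiniteType.isNoetherianRing k S
  refine ⟨fun p hp => ?_⟩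
  obtain ⟨g, hg, hGCI⟩ := h ⟨p, hp⟩
  have hg' : g ∉ p := hg
  have hdisj : Disjoint (Submonoid.powers g : Set S) (p : Set S) := by
    rw [Set.disjoint_left]
    rintro _ ⟨n, rfl⟩ hn
    exact hg' (Ideal.IsPrime.mem_of_pow_mem inferInstance n hn)
  have hP : (p.map (algebraMap S (Localization.Away g))).IsPrime :=
    IsLocalization.isPrime_of_isPrime_disjoint (Submonoid.powers g) _ p inferInstance hdisj
  have hcomap : (p.map (algebraMap S (Localization.Away g))).comap
      (algebraMap S (Localization.Away g)) = p :=
    IsLocalization.comap_map_of_isPrime_disjoint (Submonoid.powers g) _ hp hdisj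
  rcases hGCI with hsub | ⟨n, c, hc, φ, r, hφ, hker, hdim⟩
  · exfalso
    exact hP.ne_top (Subsingleton.elim _ _)
  · have hCM := isCM_localization_of_gci φ hφ c r hker hc hdim
      (p.map (algebraMap S (Localization.Away g)))
    have hloc := IsLocalization.isLocalization_isLocalization_atPrime_isLocalization
      (M := Submonoid.powers g)
      (Localization.AtPrime (p.map (algebraMap S (Localization.Away g))))
      (p.map (algebraMap S (Localization.Away g)))
    have hloc' : IsLocalization p.primeCompl
        (Localization.AtPrime (p.map (algebraMap S (Localization.Away g)))) := by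
      have hpc : ((p.map (algebraMap S (Localization.Away g))).comap
          (algebraMap S (Localization.Away g))).primeCompl = p.primeCompl := by
        ext x
        rw [Ideal.mem_primeCompl_iff, Ideal.mem_primeCompl_iff, hcomap]
      rw [← hpc]
      exact hloc
    exact Groth.Agent.Lib.Helper56.isCohenMacaulayLocalRing_of_ringEquiv
      (IsLocalization.algEquiv p.primeCompl
        (Localization.AtPrime (p.map (algebraMap S (Localization.Away g))))
        (Localization.AtPrime p)).toRingEquiv hCM

end Groth.Agent.Lib.Helper94.CICM
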