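import Mathlib
import Groth.Agent.Lib.Helper43.RelFibre
import Groth.Agent.Lib.Helper43.TensRes
import Groth.Agent.Lib.Helper43.TorAmpDescent
import Groth.Agent.Lib.Helper43.SeqFlatBC
import Groth.Agent.Lib.Helper43.KoszulPerf

/-!
# Base change of Koszul-regular sequences with flat quotient (helper94)
-/

set_option autoImplicit false
set_option linter.style.haveILetI false
universe u

open CategoryTheory CategoryTheory.Limits DerivedCategory TensorProduct DRing

attribute [local instance] HasDerivedCategory.standard

namespace Groth.Agent.Lib.Helper94.KosBC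

open Groth.Agent.Lib.Helper84 Groth.Agent.Lib.Helper75.Kz Groth.Agent.Lib.Helper43.PCHomLocal
  Groth.Agent.Lib.Helper43.SeqFlatBC Groth.Agent.Lib.Helper84.FlatBC
  Groth.Agent.Lib.Helper84.FlatAmp Groth.Agent.Lib.Helper84.TensCx

section

variable {R R' : Type u} [CommRing R] [CommRing R']

/-- exactness of the termwise base change of the Koszul complex gives vanishing of the
Koszul homology of the image sequence -/
theorem koszul_homology_of_ext (φ : R →+* R') (rs : List R) (i : ℤ)
    (h1 : ((extCx φ).obj (Koszul.koszul R rs)).ExactAt i) :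
    IsZero ((Koszul.koszul R' (rs.map φ)).homology i) := by
  rw [koszul_eq_koszulCx] at h1
  apply (HomologicalComplex.exactAt_iff_isZero_homology _ _).1
  rw [koszul_eq_koszulCx]
  letI := φ.toAlgebra
  obtain ⟨e⟩ := koszulCx_map_iso (FlatBC.ext φ) rs (rs.map φ) (forall₂_ext φ rs) (ModuleCat.of R R)
  have e2 : CohIII.koszulCx ((FlatBC.ext φ).obj (ModuleCat.of R R)) (rs.map φ) ≅
      CohIII.koszulCx (ModuleCat.of R' R') (rs.map φ) := kmapIso (extSelfIso R R') _
  rw [HomologicalComplex.exactAt_iff_isZero_homology] at h1 ⊢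
  exact h1.of_iso ((HomologicalComplex.homologyFunctor _ _ i).mapIso (e ≪≫ e2)).symm

end

section Main

open Groth.Agent.Lib.Helper43 Groth.Agent.Lib.Helper68.TorBaseChange

variable (A B A' : Type u) [CommRing A] [CommRing B] [CommRing A'] [Algebra A B] [Algebra A A']

/-- the restricted Koszul complex -/
theorem exactAt_ext_koszul [Module.Flat A B] (rs : List B) (hrs : LCI.IsKoszulRegularSeq B rs)
    (hflat : Module.Flat A (B ⧸ Ideal.ofList rs)) (i : ℤ) (hi : i ≠ 0) :
    ((extCx (RelFibre.inclR A B A')).obj (Koszul.koszul B rs)).ExactAt i := by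
  set E := Koszul.koszul B rs with hE
  have hvan : VanishesOutside E (-(rs.length : ℤ)) 0 := KoszulPerf.koszul_vanishesOutside rs
  rcases lt_or_gt_of_ne hi with hneg | hpos
  · apply RelFibre.exactAt_ext_includeRight E i
    set E' := (restrictCx (algebraMap A B)).obj E with hE'
    have hb : VanishesAbove E' 0 := fun j hj =>
      (ModuleCat.restrictScalars (algebraMap A B)).map_isZero (hvan j (Or.inr hj))
    have hF : TermwiseFlat E' := by
      intro j
      obtain ⟨h1, h2⟩ := KoszulPerf.koszul_termwiseFiniteFree rs j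
      haveI hfl : Module.Flat B (E.X j) := inferInstance
      haveI : Module.Flat B ((res A B).obj (E.X j)) := hfl
      change Module.Flat A ((res A B).obj (E.X j))
      exact Module.Flat.trans A B _
    have hex : ∀ j : ℤ, j < 0 → E'.ExactAt j := by
      intro j hj
      have h0 : E.ExactAt j :=
        (HomologicalComplex.exactAt_iff_isZero_homology _ _).2 (hrs j (ne_of_lt hj))
      rw [HomologicalComplex.exactAt_iff] at h0 ⊢
      exact h0.map (ModuleCat.restrictScalars (algebraMap A B))
    have hop : Module.Flat A (E'.opcycles 0) := by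
      have e1 : E'.opcycles 0 ≅ (res A B).obj (E.opcycles 0) :=
        (E.sc 0).mapOpcyclesIso (ModuleCat.restrictScalars (algebraMap A B))
      have hd : E.d 0 1 = 0 := (hvan 1 (Or.inr one_pos)).eq_of_tgt _ _
      haveI : IsIso (E.homologyι 0) := E.isIso_homologyι 0 1 (by simp) hd
      obtain ⟨c⟩ := KoszulPerf.koszul_homology_zero rs
      have e2 : E.opcycles 0 ≅ ModuleCat.of B (B ⧸ Ideal.ofList rs) :=
        (asIso (E.homologyι 0)).symm ≪≫ c
      let e0 : (B ⧸ Ideal.ofList rs) ≃ₗ[A]
          ((res A B).obj (ModuleCat.of B (B ⧸ Ideal.ofList rs))) :=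
        { toFun := fun x => x
          invFun := fun x => x
          map_add' := fun _ _ => rfl
          map_smul' := fun a x => (algebraMap_smul B a x).symm
          left_inv := fun _ => rfl
          right_inv := fun _ => rfl }
      haveI : Module.Flat A ((res A B).obj (ModuleCat.of B (B ⧸ Ideal.ofList rs))) :=
        Module.Flat.of_linearEquiv e0.symm
      exact flat_of_iso (e1 ≪≫ (res A B).mapIso e2).symm
    have htor := TorAmpDescent.hasTorAmplitudeIn_of_flat_opcycles E' 0 0 hb hF hex hop
    have h1 := exactAt_tens_of_hasTorAmplitudeIn E' 0 hb hF 0 0 htor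
      ((ModuleCat.restrictScalars (algebraMap A A')).obj (ModuleCat.of A' A')) i hneg
    rw [TensRes.exactAt_tens_res_iff] at h1
    exact exactAt_of_exactAt_tens_unit _ i h1
  · exact ShortComplex.exact_of_isZero_X₂ _
      ((FlatBC.ext (RelFibre.inclR A B A')).map_isZero (hvan i (Or.inr hpos)))

/-- **Base change of Koszul-regular sequences with flat quotient** (tensor form). -/
theorem koszulRegular_includeRight [Module.Flat A B] (rs : List B)
    (hrs : LCI.IsKoszulRegularSeq B rs) (hflat : Module.Flat A (B ⧸ Ideal.ofList rs)) :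
    LCI.IsKoszulRegularSeq (A' ⊗[A] B) (rs.map (RelFibre.inclR A B A')) :=
  fun i hi => koszul_homology_of_ext _ rs i (exactAt_ext_koszul A B A' rs hrs hflat i hi)

end Main

section Pushout

open Groth.Agent.Lib.Helper43

/-- pushout form -/
theorem koszulRegular_of_isPushout {A B A' B' : CommRingCat.{u}} {f : A ⟶ B} {g : A ⟶ A'}
    {inl : B ⟶ B'} {inr : A' ⟶ B'} (hpo : IsPushout f g inl inr) (rs : List B)
    (hrs : LCI.IsKoszulRegularSeq B rs) (hf : f.hom.Flat)
    (hflat : letI := f.hom.toAlgebra; Module.Flat A (B ⧸ Ideal.ofList rs)) :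
    LCI.IsKoszulRegularSeq B' (rs.map inl.hom) := by
  letI := f.hom.toAlgebra
  letI := g.hom.toAlgebra
  haveI : Module.Flat A B := hf
  have hpo' := CommRingCat.isPushout_tensorProduct A A' B
  have hpoflip : IsPushout (CommRingCat.ofHom (algebraMap A A')) (CommRingCat.ofHom (algebraMap A B))
      inr inl := hpo.flip
  let e : B' ≅ CommRingCat.of (A' ⊗[A] B) := hpoflip.isoIsPushout _ _ hpo'
  have he : inl ≫ e.hom = CommRingCat.ofHom
      (Algebra.TensorProduct.includeRight (R := A) (A := A') (B := B)).toRingHom :=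
    hpoflip.inr_isoIsPushout_hom _ _ hpo'
  have hinl : ∀ b : B, inl.hom b = e.inv.hom (RelFibre.inclR A B A' b) := by
    intro b
    have h1 : e.hom.hom (inl.hom b) = (1 : A') ⊗ₜ[A] b := by
      have := congrArg (fun φ => φ.hom b) he
      exact this
    change _ = e.inv.hom ((1 : A') ⊗ₜ[A] b)
    rw [← h1]
    exact (congrArg (fun φ => φ.hom (inl.hom b)) e.hom_inv_id).symm
  have hflat' : e.inv.hom.Flat :=
    RingHom.Flat.of_bijective (ConcreteCategory.bijective_of_isIso e.inv)
  have hmap : rs.map inl.hom = (rs.map (RelFibre.inclR A B A')).map e.inv.hom := by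
    rw [List.map_map]
    exact List.map_congr_left (fun b _ => hinl b)
  rw [hmap]
  exact koszulRegular_of_flat e.inv.hom hflat' _ (koszulRegular_includeRight A B A' rs hrs hflat)

end Pushout

end Groth.Agent.Lib.Helper94.KosBC
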