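import Mathlib
import Groth.Agent.Lib.Helper94.KosBC
import Groth.Agent.Lib.Helper43.KRIdeal

/-!
# Charts of Koszul-regular ideals: transport along isomorphisms and base change (helper94)
-/

set_option autoImplicit false
set_option linter.style.haveILetI false
universe u

open TensorProduct

namespace Groth.Agent.Lib.Helper94.FibA

open Groth.Agent.Lib.Helper43.KRIdeal Groth.Agent.Lib.Helper43 Groth.Agent.Lib.Helper94.KosBC

/-- `K` is generated by a Koszul-regular sequence near the prime `q`. -/
def HasChartAt {P : Type u} [CommRing P] (K q : Ideal P) : Prop :=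
  ∃ g : P, g ∉ q ∧ ∃ l : List P, Chart K g l

section Equiv

variable {P P' : Type u} [CommRing P] [CommRing P']

theorem chart_equiv (e : P ≃+* P') {K : Ideal P} {g : P} {l : List P} (c : Chart K g l) :
    Chart (K.map (e : P →+* P')) (e g) (l.map e) := by
  refine ⟨?_, ?_, ?_⟩
  · intro x hx
    obtain ⟨y, hy, rfl⟩ := List.mem_map.1 hx
    exact Ideal.mem_map_of_mem _ (c.sub y hy)
  · intro x hx
    obtain ⟨y, hy, rfl⟩ := (Ideal.mem_map_of_equiv e x).1 hx
    obtain ⟨u, hu⟩ := c.gen y hy
    refine ⟨u, ?_⟩
    have h1 : (e : P →+* P') (g ^ u * y) ∈ (Ideal.ofList l).map (e : P →+* P') :=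
      Ideal.mem_map_of_mem _ hu
    rw [Ideal.map_ofList] at h1
    simpa using h1
  · letI : Algebra P (Localization.Away (e g)) :=
      ((algebraMap P' (Localization.Away (e g))).comp (e : P →+* P')).toAlgebra
    have h1 : (e : P →+* P').Flat := RingHom.Flat.of_bijective e.bijective
    haveI : Module.Flat P' (Localization.Away (e g)) :=
      IsLocalization.flat _ (Submonoid.powers (e g))
    have h2 : (algebraMap P' (Localization.Away (e g))).Flat :=
      RingHom.flat_algebraMap_iff.2 inferInstance
    haveI : Module.Flat P (Localization.Away (e g)) := RingHom.Flat.comp h1 h2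
    have hu : IsUnit (algebraMap P (Localization.Away (e g)) g) :=
      IsLocalization.Away.algebraMap_isUnit (S := Localization.Away (e g)) (e g)
    have h := c.kr_flat (Localization.Away (e g)) hu
    rw [List.map_map]
    exact h

theorem hasChartAt_equiv (e : P ≃+* P') {K q : Ideal P} (h : HasChartAt K q) :
    HasChartAt (K.map (e : P →+* P')) (q.map (e : P →+* P')) := by
  obtain ⟨g, hg, l, c⟩ := h
  refine ⟨e g, ?_, l.map e, chart_equiv e c⟩
  intro hmem
  obtain ⟨y, hy, hye⟩ := (Ideal.mem_map_of_equiv e (e g)).1 hmem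
  rw [e.injective hye] at hy
  exact hg hy

end Equiv

section BaseChange

variable (A : Type u) {P : Type u} (A' : Type u) [CommRing A] [CommRing P] [CommRing A']
  [Algebra A P] [Algebra A A'] [Module.Flat A P]

/-- **Base change of charts**: a chart of an ideal `K` of a flat `A`-algebra `P` with `P/K` flat
over `A` stays a chart after any base change `A → A'`. -/
theorem chart_baseChange {K : Ideal P} [Module.Flat A (P ⧸ K)] {g : P} {l : List P}
    (c : Chart K g l) :
    Chart (K.map (Algebra.TensorProduct.includeRight : P →ₐ[A] A' ⊗[A] P).toRingHom)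
      ((1 : A') ⊗ₜ[A] g)
      (l.map (Algebra.TensorProduct.includeRight : P →ₐ[A] A' ⊗[A] P).toRingHom) := by
  set incl : P →+* A' ⊗[A] P :=
    (Algebra.TensorProduct.includeRight : P →ₐ[A] A' ⊗[A] P).toRingHom with hincl
  have hig : incl g = (1 : A') ⊗ₜ[A] g := rfl
  refine ⟨?_, ?_, ?_⟩
  · intro x hx
    obtain ⟨y, hy, rfl⟩ := List.mem_map.1 hx
    exact Ideal.mem_map_of_mem _ (c.sub y hy)
  · apply gen_of_map_le ((1 : A') ⊗ₜ[A] g) (Localization.Away ((1 : A') ⊗ₜ[A] g))
    letI : Algebra P (Localization.Away ((1 : A') ⊗ₜ[A] g)) :=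
      ((algebraMap (A' ⊗[A] P) (Localization.Away ((1 : A') ⊗ₜ[A] g))).comp incl).toAlgebra
    have hu : IsUnit (algebraMap P (Localization.Away ((1 : A') ⊗ₜ[A] g)) g) :=
      IsLocalization.Away.algebraMap_isUnit (S := Localization.Away ((1 : A') ⊗ₜ[A] g))
        ((1 : A') ⊗ₜ[A] g)
    have h := map_le_of_gen c.gen (Localization.Away ((1 : A') ⊗ₜ[A] g)) hu
    rw [← Ideal.map_ofList, Ideal.map_map, Ideal.map_map]
    exact h
  · let Pg := Localization.Away g
    haveI : Module.Flat P Pg := IsLocalization.flat _ (Submonoid.powers g)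
    haveI : Module.Flat A Pg := Module.Flat.trans A P Pg
    have hu : IsUnit (algebraMap P Pg g) := IsLocalization.Away.algebraMap_isUnit g
    have hmap := c.map_eq Pg hu
    have hq : Module.Flat A (Pg ⧸ Ideal.ofList (l.map (algebraMap P Pg))) := by
      rw [← hmap]
      haveI : Module.Flat (P ⧸ K) (Pg ⧸ K.map (algebraMap P Pg)) :=
        IsLocalization.flat _ (Algebra.algebraMapSubmonoid (P ⧸ K) (Submonoid.powers g))
      haveI : IsScalarTower A (P ⧸ K) (Pg ⧸ K.map (algebraMap P Pg)) :=
        IsScalarTower.of_algebraMap_eq fun a => rfl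
      exact Module.Flat.trans A (P ⧸ K) _
    have hL := koszulRegular_includeRight A Pg A' (l.map (algebraMap P Pg)) c.kr hq
    let e := IsLocalization.Away.tensorProductEquivTMulRight A A' g Pg
    have h2 := koszulRegular_of_ringEquiv e.toRingEquiv _ hL
    rw [List.map_map, List.map_map] at h2
    rw [List.map_map]
    convert h2 using 2
    funext a
    simp only [Function.comp_apply]
    exact (IsLocalization.Away.tensorProductEquivTMulRight_tmul (R := A) (S := A') P g Pg (1 : A') a).symm

end BaseChange

end Groth.Agent.Lib.Helper94.FibA
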