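import Mathlib
import Groth.Agent.Lib.Helper94.FibA
import Groth.Agent.Lib.Helper43.KRDescent

/-!
# Pointwise descent of charts of Koszul-regular ideals along flat maps with open `Spec` (helper94)
-/

set_option autoImplicit false
set_option linter.style.haveILetI false
universe u

open TensorProduct

namespace Groth.Agent.Lib.Helper94.FibB

open Groth.Agent.Lib.Helper43.KRIdeal Groth.Agent.Lib.Helper43 Groth.Agent.Lib.Helper43.KRDescent
  Groth.Agent.Lib.Helper94.FibA

/-- lifting a list along a ring map, elementwise -/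
lemma exists_lift_list' {A B : Type u} [CommRing A] [CommRing B] (φ : A →+* B) (I : Ideal A) :
    ∀ l : List B, (∀ x ∈ l, x ∈ φ '' (I : Set A)) →
      ∃ l' : List A, (∀ x ∈ l', x ∈ I) ∧ l'.map φ = l := by
  intro l
  induction l with
  | nil => intro _; exact ⟨[], by simp, rfl⟩
  | cons b t ih =>
    intro h
    obtain ⟨a, ha, rfl⟩ := h b (by simp)
    obtain ⟨t', ht', rfl⟩ := ih (fun x hx => h x (List.mem_cons_of_mem _ hx))
    refine ⟨a :: t', ?_, rfl⟩
    intro x hx
    rcases List.mem_cons.1 hx with rfl | hx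
    · exact ha
    · exact ht' x hx

/-- **Pointwise descent of charts**: for a flat ring map with open map on spectra, a chart of
`I B` by elements of `I` near a prime `𝔮` descends to a chart of `I` near `𝔮 ∩ A`. -/
theorem chart_descent (A B : Type u) [CommRing A] [CommRing B] [Algebra A B] [Module.Flat A B]
    (hopen : IsOpenMap (PrimeSpectrum.comap (algebraMap A B)))
    (I : Ideal A) (f : List A) (hfI : ∀ x ∈ f, x ∈ I) (𝔮 : PrimeSpectrum B) (g₁ : B)
    (hg₁ : g₁ ∉ 𝔮.asIdeal)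
    (c₁ : Chart (I.map (algebraMap A B)) g₁ (f.map (algebraMap A B))) :
    ∃ g : A, g ∉ 𝔮.asIdeal.comap (algebraMap A B) ∧ Chart I g f := by
  classical
  set K := I.map (algebraMap A B) with hK
  let W : Set (PrimeSpectrum B) :=
    {𝔮' | ∃ g' : B, g' ∉ 𝔮'.asIdeal ∧ Chart K g' (f.map (algebraMap A B))}
  have hWopen : IsOpen W := by
    rw [isOpen_iff_forall_mem_open]
    rintro 𝔮' ⟨g', hg', c'⟩
    exact ⟨(PrimeSpectrum.basicOpen g' : Set _), fun x hx => ⟨g', hx, c'⟩,
      (PrimeSpectrum.basicOpen g').isOpen, hg'⟩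
  have hopenW : IsOpen ((PrimeSpectrum.comap (algebraMap A B)) '' W) := hopen W hWopen
  set 𝔭 : PrimeSpectrum A := PrimeSpectrum.comap (algebraMap A B) 𝔮 with h𝔭
  have h𝔭W : 𝔭 ∈ (PrimeSpectrum.comap (algebraMap A B)) '' W := ⟨𝔮, ⟨g₁, hg₁, c₁⟩, rfl⟩
  obtain ⟨_, ⟨g, rfl⟩, h𝔭g, hgW⟩ :=
    PrimeSpectrum.isTopologicalBasis_basic_opens.exists_subset_of_mem_open h𝔭W hopenW
  have hcover : ∀ 𝔭' : PrimeSpectrum A, g ∉ 𝔭'.asIdeal → ∃ (𝔮' : PrimeSpectrum B) (g' : B),
      𝔮'.asIdeal.comap (algebraMap A B) = 𝔭'.asIdeal ∧ g' ∉ 𝔮'.asIdeal ∧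
      Chart K g' (f.map (algebraMap A B)) := by
    intro 𝔭' hg𝔭'
    obtain ⟨𝔮', ⟨g', hg', c'⟩, hcon⟩ := hgW (show 𝔭' ∈ (PrimeSpectrum.basicOpen g : Set _) from hg𝔭')
    exact ⟨𝔮', g', congrArg PrimeSpectrum.asIdeal hcon, hg', c'⟩
  refine ⟨g, h𝔭g, hfI, ?_, ?_⟩
  · -- generation
    intro y hy
    set 𝔞 : Ideal A := (Ideal.ofList f).colon {y} with h𝔞
    have hrad : g ∈ 𝔞.radical := by
      rw [Ideal.radical_eq_sInf, Ideal.mem_sInf]
      rintro 𝔭' ⟨h𝔞𝔭', h𝔭'prime⟩
      by_contra hg𝔭'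
      obtain ⟨𝔮', g', hcon, hg', c'⟩ := hcover ⟨𝔭', h𝔭'prime⟩ hg𝔭'
      obtain ⟨u, hu⟩ := c'.gen _ (Ideal.mem_map_of_mem _ hy)
      rw [← Ideal.map_ofList] at hu
      have h1 := mem_map_colon_of_flat (Ideal.ofList f) y (g' ^ u) hu
      have h2 : 𝔞.map (algebraMap A B) ≤ 𝔮'.asIdeal := by
        rw [Ideal.map_le_iff_le_comap, hcon]; exact h𝔞𝔭'
      exact hg' (𝔮'.2.mem_of_pow_mem _ (h2 h1))
    obtain ⟨u, hu⟩ := hrad
    refine ⟨u, ?_⟩
    rw [h𝔞, Submodule.mem_colon_singleton, smul_eq_mul] at hu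
    exact hu
  · -- Koszul-regularity, by descent along the family of charts
    let ι := {p : PrimeSpectrum B × B // p.2 ∉ p.1.asIdeal ∧ algebraMap A B g ∉ p.1.asIdeal ∧
      Chart K p.2 (f.map (algebraMap A B))}
    let R' : ι → Type u := fun p => Localization.Away (p.1.2 * algebraMap A B g)
    have hu : ∀ p : ι, IsUnit (algebraMap A (R' p) g) := by
      intro p
      have h1 : IsUnit (algebraMap B (R' p) (p.1.2 * algebraMap A B g)) :=
        IsLocalization.Away.algebraMap_isUnit _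
      rw [map_mul] at h1
      have h2 := isUnit_of_mul_isUnit_right h1
      rwa [← IsScalarTower.algebraMap_apply] at h2
    let φ : ∀ p : ι, Localization.Away g →+* R' p := fun p => IsLocalization.Away.lift g (hu p)
    have hφ : ∀ (p : ι) (a : A), φ p (algebraMap A _ a) = algebraMap A (R' p) a :=
      fun p a => IsLocalization.Away.lift_eq g (hu p) a
    apply koszulRegular_of_family (f.map (algebraMap A (Localization.Away g))) R' φ
    · intro p
      haveI : Module.Flat B (R' p) := IsLocalization.flat _ (Submonoid.powers (p.1.2 * algebraMap A B g))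
      haveI : Module.Flat A (R' p) := Module.Flat.trans A B (R' p)
      exact flat_of_isLocalization (Submonoid.powers g) (φ p) (hφ p)
    · intro 𝔪 h𝔪
      have h𝔪prime : 𝔪.IsPrime := h𝔪.isPrime
      let 𝔭' : PrimeSpectrum A := ⟨𝔪.comap (algebraMap A (Localization.Away g)), inferInstance⟩
      have hg𝔭' : g ∉ 𝔭'.asIdeal := by
        intro hh
        exact h𝔪prime.ne_top (Ideal.eq_top_of_isUnit_mem _ hh
          (IsLocalization.Away.algebraMap_isUnit g))
      obtain ⟨𝔮', g', hcon, hg', c'⟩ := hcover 𝔭' hg𝔭'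
      have hg𝔮' : algebraMap A B g ∉ 𝔮'.asIdeal := by
        intro hh
        apply hg𝔭'
        rw [← hcon]; exact hh
      refine ⟨⟨(𝔮', g'), hg', hg𝔮', c'⟩, ?_⟩
      have h𝔪eq : 𝔪 = 𝔭'.asIdeal.map (algebraMap A (Localization.Away g)) :=
        (IsLocalization.map_under (Submonoid.powers g) (Localization.Away g) 𝔪).symm
      have hdisj : Disjoint (Submonoid.powers (g' * algebraMap A B g) : Set B)
          (𝔮'.asIdeal : Set B) := by
        rw [Set.disjoint_left]
        rintro x ⟨n, rfl⟩ hx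
        exact (𝔮'.2.mem_or_mem (𝔮'.2.mem_of_pow_mem _ hx)).elim hg' hg𝔮'
      have h𝔮ne : 𝔮'.asIdeal.map (algebraMap B (Localization.Away (g' * algebraMap A B g))) ≠ ⊤ :=
        (IsLocalization.map_algebraMap_ne_top_iff_disjoint
          (Submonoid.powers (g' * algebraMap A B g)) _ 𝔮'.asIdeal).2 hdisj
      intro htop
      apply h𝔮ne
      rw [eq_top_iff, ← htop, h𝔪eq, Ideal.map_map]
      have hcomp : (φ ⟨(𝔮', g'), hg', hg𝔮', c'⟩).comp (algebraMap A (Localization.Away g)) =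
          (algebraMap B (Localization.Away (g' * algebraMap A B g))).comp (algebraMap A B) := by
        ext a
        exact hφ _ a
      rw [hcomp, ← Ideal.map_map]
      apply Ideal.map_mono
      rw [Ideal.map_le_iff_le_comap, hcon]
    · intro p
      have h1 := (p.2.2.2.mul (algebraMap A B g)).kr
      rw [List.map_map] at h1 ⊢
      have e : (⇑(φ p) ∘ ⇑(algebraMap A (Localization.Away g))) =
          (⇑(algebraMap B (Localization.Away (p.1.2 * algebraMap A B g))) ∘ ⇑(algebraMap A B)) := by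
        funext a
        exact hφ p a
      rw [e]
      exact h1

/-- ring-hom version, starting from an arbitrary chart -/
theorem hasChartAt_descent {A B : Type u} [CommRing A] [CommRing B] (φ : A →+* B) (hφ : φ.Flat)
    (hopen : IsOpenMap (PrimeSpectrum.comap φ)) (I : Ideal A) (𝔮 : Ideal B) [𝔮.IsPrime]
    (h : HasChartAt (I.map φ) 𝔮) : HasChartAt I (𝔮.comap φ) := by
  classical
  letI := φ.toAlgebra
  haveI : Module.Flat A B := hφ
  by_cases hI : I ≤ 𝔮.comap φ
  · have hK𝔮 : I.map φ ≤ 𝔮 := Ideal.map_le_iff_le_comap.2 hI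
    obtain ⟨g₀, hg₀, l₀, c₀⟩ := h
    obtain ⟨f', g₁, hf', -, hg₁, c₁⟩ := chart_from_subset (I.map φ) 𝔮 hK𝔮
      (φ '' (I : Set A))
      (by rintro _ ⟨a, ha, rfl⟩; exact Ideal.mem_map_of_mem _ ha) le_rfl l₀ [] g₀ hg₀
      (by simp) (by simpa using c₀)
    obtain ⟨f, hfI, rfl⟩ := exists_lift_list' φ I f' hf'
    obtain ⟨g, hg, c⟩ := chart_descent A B hopen I f hfI ⟨𝔮, inferInstance⟩ g₁ hg₁ c₁
    exact ⟨g, hg, f, c⟩
  · have hex : ∃ y ∈ I, y ∉ 𝔮.comap φ := by
      by_contra hcon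
      push Not at hcon
      exact hI hcon
    obtain ⟨y, hyI, hy⟩ := hex
    refine ⟨y, hy, [y], chart_of_mem I [y] (by simpa using hyI) y ?_⟩
    rw [Ideal.ofList_singleton]
    exact Ideal.mem_span_singleton_self y

end Groth.Agent.Lib.Helper94.FibB
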