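import Mathlib
import Groth.Agent.Lib.Helper94.FibB
import Groth.Agent.Lib.Helper94.RegSpread
import Groth.Agent.Lib.Helper94.SyntA
import Groth.Agent.Lib.Helper76.TransReg
import Groth.Agent.Lib.Helper58.FlatKer
import Groth.Agent.Lib.Helper85.GorLCI
import Groth.Agent.Lib.Helper98.KoszulLES

/-!
# Fibre criterion for charts of Koszul-regular ideals: the Noetherian case (helper94)
-/

set_option autoImplicit false
set_option linter.style.haveILetI false
universe u

open TensorProduct RingTheory.Sequence IsLocalRing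

namespace Groth.Agent.Lib.Helper94.FibC

open Groth.Agent.Lib.Helper43.KRIdeal Groth.Agent.Lib.Helper43 Groth.Agent.Lib.Helper43.KRDescent
  Groth.Agent.Lib.Helper94.FibA Groth.Agent.Lib.Helper94.FibB Groth.Agent.Lib.Helper94.SyntA

/-- **Local fibre criterion ⇒ chart.** -/
theorem hasChartAt_of_fibre_regular {A P : Type u} [CommRing A] [CommRing P] [Algebra A P]
    [IsNoetherianRing P] [Module.Flat A P] (I : Ideal P) [Module.Flat A (P ⧸ I)]
    (q : Ideal P) [q.IsPrime] (p : Ideal A) [p.IsPrime] (hp : p = q.comap (algebraMap A P))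
    (f : List P) (hf : ∀ x ∈ f, x ∈ I)
    (hreg : IsWeaklyRegular
      (Localization.AtPrime q ⧸ (p.map (algebraMap A P)).map (algebraMap P (Localization.AtPrime q)))
      (f.map (algebraMap P (Localization.AtPrime q ⧸
        (p.map (algebraMap A P)).map (algebraMap P (Localization.AtPrime q))))))
    (hgen : I.map (algebraMap P (Localization.AtPrime q ⧸
        (p.map (algebraMap A P)).map (algebraMap P (Localization.AtPrime q)))) =
      Ideal.ofList (f.map (algebraMap P (Localization.AtPrime q ⧸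
        (p.map (algebraMap A P)).map (algebraMap P (Localization.AtPrime q)))))) :
    HasChartAt I q := by
  classical
  let R := Localization.AtPrime q
  let pR : Ideal R := (p.map (algebraMap A P)).map (algebraMap P R)
  letI alg : Algebra (Localization.AtPrime p) R :=
    (Localization.localRingHom p q (algebraMap A P) hp).toAlgebra
  haveI tower : IsScalarTower A (Localization.AtPrime p) R := by
    refine IsScalarTower.of_algebraMap_eq fun x => ?_
    rw [RingHom.algebraMap_toAlgebra, Localization.localRingHom_to_map,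
      ← IsScalarTower.algebraMap_apply]
  haveI : IsLocalHom (algebraMap (Localization.AtPrime p) R) :=
    Localization.isLocalHom_localRingHom p q _ hp
  haveI flPR : Module.Flat P R := IsLocalization.flat R q.primeCompl
  haveI flR : Module.Flat A R := Module.Flat.trans A P R
  haveI flA : Module.Flat (Localization.AtPrime p) R :=
    (Module.flat_iff_of_isLocalization (Localization.AtPrime p) p.primeCompl R).mpr flR
  haveI : IsNoetherianRing R := IsLocalization.isNoetherianRing q.primeCompl R inferInstance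
  have hmax : (maximalIdeal (Localization.AtPrime p)).map
      (algebraMap (Localization.AtPrime p) R) = pR := by
    rw [← Localization.AtPrime.map_eq_maximalIdeal, Ideal.map_map,
      ← IsScalarTower.algebraMap_eq, IsScalarTower.algebraMap_eq A P R, ← Ideal.map_map]
  set rs : List R := f.map (algebraMap P R) with hrs
  -- weak regularity on the closed fibre, in the form needed
  have hfib : IsWeaklyRegular (R ⧸ ((maximalIdeal (Localization.AtPrime p)).map
      (algebraMap (Localization.AtPrime p) R)) • (⊤ : Submodule R R)) rs := by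
    have heq : pR = ((maximalIdeal (Localization.AtPrime p)).map
      (algebraMap (Localization.AtPrime p) R)) • (⊤ : Submodule R R) := by
      rw [smul_eq_mul, Ideal.mul_top, hmax]
    rw [← (Submodule.quotEquivOfEq _ _ heq).isWeaklyRegular_congr,
      ← isWeaklyRegular_map_algebraMap_iff (R ⧸ pR) (R ⧸ pR)]
    have e2 : rs.map (algebraMap R (R ⧸ pR)) = f.map (algebraMap P (R ⧸ pR)) := by
      rw [hrs, List.map_map]
      refine List.map_congr_left fun a _ => ?_
      rfl
    rw [e2]
    exact hreg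
  obtain ⟨hwr, hflat⟩ := Groth.Agent.Lib.Helper76.TransReg.isWeaklyRegular_of_fib
    (A := Localization.AtPrime p) (C := R) rs R hfib
  -- flatness of `R / I R` over `A`
  set IR : Ideal R := I.map (algebraMap P R) with hIRdef
  haveI : Module.Flat (P ⧸ I) (R ⧸ IR) :=
    IsLocalization.flat _ (Algebra.algebraMapSubmonoid (P ⧸ I) q.primeCompl)
  haveI : IsScalarTower A (P ⧸ I) (R ⧸ IR) := IsScalarTower.of_algebraMap_eq fun a => rfl
  haveI flQ : Module.Flat A (R ⧸ IR) := Module.Flat.trans A (P ⧸ I) _
  have hsub : Ideal.ofList rs ≤ IR := by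
    rw [hrs, ← Ideal.map_ofList]
    exact Ideal.map_mono (Ideal.span_le.2 hf)
  have hpRle : pR ≤ maximalIdeal R := by
    rw [← Localization.AtPrime.map_eq_maximalIdeal (I := q)]
    apply Ideal.map_mono
    rw [Ideal.map_le_iff_le_comap, hp]
  have hpReq : pR = p.map (algebraMap A R) := by
    rw [IsScalarTower.algebraMap_eq A P R, ← Ideal.map_map]
  have hNak : IR ≤ Ideal.ofList rs := by
    apply Submodule.le_of_le_smul_of_le_jacobson_bot (I := pR)
      (IsNoetherian.noetherian IR)
    · rw [IsLocalRing.jacobson_eq_maximalIdeal ⊥ bot_ne_top]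
      exact hpRle
    · intro x hx
      have h1 : Ideal.Quotient.mk pR x ∈ (Ideal.ofList rs).map (Ideal.Quotient.mk pR) := by
        have h2 : Ideal.Quotient.mk pR x ∈ I.map (algebraMap P (R ⧸ pR)) := by
          have : I.map (algebraMap P (R ⧸ pR)) = IR.map (Ideal.Quotient.mk pR) := by
            rw [hIRdef, Ideal.map_map]
            rfl
          rw [this]
          exact Ideal.mem_map_of_mem _ hx
        rw [hgen] at h2
        have e2 : f.map (algebraMap P (R ⧸ pR)) = rs.map (Ideal.Quotient.mk pR) := by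
          rw [hrs, List.map_map]
          refine List.map_congr_left fun a _ => ?_
          rfl
        rw [e2, ← Ideal.map_ofList] at h2
        exact h2
      obtain ⟨y, hy, hyx⟩ := (Ideal.mem_map_iff_of_surjective _ Ideal.Quotient.mk_surjective).1 h1
      have hz : x - y ∈ pR := by
        rw [← Ideal.Quotient.eq]
        exact hyx.symm
      have hzI : x - y ∈ IR := IR.sub_mem hx (hsub hy)
      have hz2 : x - y ∈ p.map (algebraMap A R) * RingHom.ker (Ideal.Quotient.mkₐ A IR).toRingHom :=
        Groth.Agent.Lib.Helper58.FlatKer.ker_inf_map_le_of_flat p (Ideal.Quotient.mkₐ A IR)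
          (Ideal.Quotient.mkₐ_surjective A IR)
          (by rw [Ideal.Quotient.mkₐ_eq_mk]; exact Ideal.Quotient.eq_zero_iff_mem.2 hzI)
          (hpReq ▸ hz)
      have hker : RingHom.ker (Ideal.Quotient.mkₐ A IR).toRingHom = IR := by
        ext t
        rw [RingHom.mem_ker]
        exact Ideal.Quotient.eq_zero_iff_mem
      rw [hker, ← hpReq] at hz2
      have hx2 : x = y + (x - y) := by ring
      rw [hx2]
      exact Submodule.add_mem_sup hy (by rwa [smul_eq_mul])
  have hIR : IR = Ideal.ofList rs := le_antisymm hNak hsub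
  obtain ⟨g₀, bs, hg₀, -, hsp⟩ := Groth.Agent.Lib.Helper94.RegSpread.exists_spread q R I rs hwr hIR
  obtain ⟨hwrB, hgenB⟩ := hsp g₀ dvd_rfl (Localization.Away g₀)
  have hkr : LCI.IsKoszulRegularSeq (Localization.Away g₀)
      (bs.map (algebraMap P (Localization.Away g₀))) :=
    (Helper98.KoszulLES.koszul_of_weaklyRegular _ hwrB).1
  obtain ⟨l, -, c⟩ := Chart.of_loc I g₀ (Localization.Away g₀) _ hkr hgenB
  exact ⟨g₀, hg₀, l, c⟩

theorem map_eq_explicit {R : Type*} [CommSemiring R] {M : Submonoid R} {S : Type*}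
    [CommSemiring S] [Algebra R S] {P : Type*} [CommSemiring P]
    (i4 : IsLocalization M S) {g : R →+* P} {T : Submonoid P} {Q : Type*} [CommSemiring Q]
    [Algebra P Q] (i7 : IsLocalization T Q) (hy : M ≤ Submonoid.comap g T) (x : R) :
    (IsLocalization.map Q g hy) ((algebraMap R S) x) = (algebraMap P Q) (g x) :=
  IsLocalization.map_eq hy x

theorem algEquivAux₂_tmul {A P : Type u} [CommRing A] [CommRing P] [Algebra A P] (p : Ideal A)
    [p.IsPrime] (Q : Ideal (p.Fiber P)) [Q.IsPrime] (x : P) :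
    Ideal.Fiber.algEquivAux₂ p Q (algebraMap (p.Fiber P) (Localization.AtPrime Q) (1 ⊗ₜ[A] x)) =
      Ideal.Quotient.mk _
        (algebraMap P (Localization.AtPrime (Q.comap Algebra.TensorProduct.includeRight)) x) := by
  have h1 : (Ideal.Fiber.algEquivAux₁ p) (1 ⊗ₜ[A] x) = algebraMap P _ x := by
    letI : Algebra P (p.Fiber P) := Algebra.TensorProduct.rightAlgebra
    exact (Ideal.Fiber.algEquivAux₁ p).commutes x
  simp [Ideal.Fiber.algEquivAux₂, h1]
  have h2 : (algebraMap P
            (Localization (Algebra.algebraMapSubmonoid P p.primeCompl) ⧸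
              Ideal.map (algebraMap P (Localization (Algebra.algebraMapSubmonoid P p.primeCompl)))
                (Ideal.map (algebraMap A P) p))) x = algebraMap (P ⧸ Ideal.map (algebraMap A P) p) _
                  (Ideal.Quotient.mk _ x) := rfl
  rw [h2, ← IsScalarTower.algebraMap_apply]
  refine (map_eq_explicit _ _ _ _).trans ?_
  rfl

theorem exists_flat_map (A P κ L : Type u) [CommRing A] [CommRing P] [Field κ] [Field L]
    [Algebra A P] [Algebra A κ] [Algebra A L] [Algebra κ L] [IsScalarTower A κ L] :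
    ∃ φ : κ ⊗[A] P →+* L ⊗[A] P, φ.Flat ∧ ∀ x : P, φ (1 ⊗ₜ[A] x) = 1 ⊗ₜ[A] x := by
  let ε₀ : (κ ⊗[A] P) ⊗[κ] L ≃ₐ[κ] L ⊗[κ] (κ ⊗[A] P) := Algebra.TensorProduct.comm κ (κ ⊗[A] P) L
  let ε₁ : L ⊗[κ] (κ ⊗[A] P) ≃ₐ[L] L ⊗[A] P := Algebra.TensorProduct.cancelBaseChange A κ L L P
  refine ⟨(ε₁ : L ⊗[κ] (κ ⊗[A] P) →+* L ⊗[A] P).comp
      ((ε₀ : (κ ⊗[A] P) ⊗[κ] L →+* L ⊗[κ] (κ ⊗[A] P)).comp
        (algebraMap (κ ⊗[A] P) ((κ ⊗[A] P) ⊗[κ] L))), ?_, ?_⟩
  · have h1 : RingHom.Flat (algebraMap (κ ⊗[A] P) ((κ ⊗[A] P) ⊗[κ] L)) :=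
      RingHom.flat_algebraMap_iff.2 inferInstance
    have h2 : (ε₀ : (κ ⊗[A] P) ⊗[κ] L →+* L ⊗[κ] (κ ⊗[A] P)).Flat :=
      RingHom.Flat.of_bijective ε₀.bijective
    have h3 : (ε₁ : L ⊗[κ] (κ ⊗[A] P) →+* L ⊗[A] P).Flat := RingHom.Flat.of_bijective ε₁.bijective
    exact (h1.comp h2).comp h3
  · intro x
    simp [ε₀, ε₁, Algebra.TensorProduct.algebraMap_apply]

lemma isWeaklyRegular_map_ringEquiv {S S' : Type*} [CommRing S] [CommRing S'] (e : S ≃+* S')
    (rs : List S) (h : IsWeaklyRegular S rs) : IsWeaklyRegular S' (rs.map e) := by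
  letI := (e : S →+* S').toAlgebra
  have hfl : (e : S →+* S').Flat := RingHom.Flat.of_bijective e.bijective
  haveI : Module.Flat S S' := hfl
  exact isWeaklyRegular_map_of_flat rs h

lemma transfer_ringEquiv {S S' P : Type*} [CommRing S] [CommRing S'] [CommRing P] (e : S ≃+* S')
    (α : P →+* S) (β : P →+* S') (h : ∀ x, e (α x) = β x) (I : Ideal P) (f : List P)
    (hwr : IsWeaklyRegular S (f.map α)) (hgen : I.map α = Ideal.ofList (f.map α)) :
    IsWeaklyRegular S' (f.map β) ∧ I.map β = Ideal.ofList (f.map β) := by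
  have hβ : β = (e : S →+* S').comp α := by
    ext x
    exact (h x).symm
  subst hβ
  constructor
  · have := isWeaklyRegular_map_ringEquiv e _ hwr
    rwa [List.map_map] at this
  · rw [← Ideal.map_map, hgen, Ideal.map_ofList, List.map_map]
    rfl

/-- the fibre criterion, with the hypothesis on the local ring of the fibre `κ(p) ⊗ P` -/
theorem hasChartAt_of_fibre_local {A P : Type u} [CommRing A] [CommRing P] [Algebra A P]
    [IsNoetherianRing P] [Module.Flat A P] (I : Ideal P) [Module.Flat A (P ⧸ I)]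
    (p : Ideal A) [p.IsPrime] (Q : Ideal (p.Fiber P)) [Q.IsPrime]
    (hpQ : p = (Q.comap (Algebra.TensorProduct.includeRight :
      P →ₐ[A] p.ResidueField ⊗[A] P)).comap (algebraMap A P))
    (f : List P) (hfI : ∀ x ∈ f, x ∈ I)
    (hwrF : IsWeaklyRegular (Localization.AtPrime Q)
      (f.map ((algebraMap (p.Fiber P) (Localization.AtPrime Q)).comp
        (Algebra.TensorProduct.includeRight : P →ₐ[A] p.ResidueField ⊗[A] P).toRingHom)))
    (hgenF : I.map ((algebraMap (p.Fiber P) (Localization.AtPrime Q)).comp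
        (Algebra.TensorProduct.includeRight : P →ₐ[A] p.ResidueField ⊗[A] P).toRingHom) =
      Ideal.ofList (f.map ((algebraMap (p.Fiber P) (Localization.AtPrime Q)).comp
        (Algebra.TensorProduct.includeRight : P →ₐ[A] p.ResidueField ⊗[A] P).toRingHom))) :
    HasChartAt I (Q.comap (Algebra.TensorProduct.includeRight :
      P →ₐ[A] p.ResidueField ⊗[A] P)) := by
  haveI : (Q.comap (Algebra.TensorProduct.includeRight :
      P →ₐ[A] p.ResidueField ⊗[A] P)).IsPrime := Ideal.comap_isPrime _ Q
  obtain ⟨e₂, he₂⟩ : ∃ e₂ : Localization.AtPrime Q ≃+*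
      (Localization.AtPrime (Q.comap (Algebra.TensorProduct.includeRight :
        P →ₐ[A] p.ResidueField ⊗[A] P)) ⧸ (p.map (algebraMap A P)).map
          (algebraMap P (Localization.AtPrime (Q.comap (Algebra.TensorProduct.includeRight :
            P →ₐ[A] p.ResidueField ⊗[A] P))))),
      ∀ x : P, e₂ (((algebraMap (p.Fiber P) (Localization.AtPrime Q)).comp
        (Algebra.TensorProduct.includeRight : P →ₐ[A] p.ResidueField ⊗[A] P).toRingHom) x) =
        algebraMap P _ x :=
    ⟨(Ideal.Fiber.algEquivAux₂ p Q).toRingEquiv, fun x => algEquivAux₂_tmul p Q x⟩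
  obtain ⟨hwrR, hgenR⟩ := transfer_ringEquiv e₂ _ _ he₂ I f hwrF hgenF
  exact hasChartAt_of_fibre_regular I _ p hpQ f hfI hwrR hgenR

/-- **Noetherian case of the fibre criterion** over a field-valued point. -/
theorem hasChartAt_of_field_noetherian {A P L : Type u} [CommRing A] [CommRing P] [Field L]
    [Algebra A P] [Algebra A L] [IsNoetherianRing A] [Algebra.FiniteType A P] [Module.Flat A P]
    (I : Ideal P) [Module.Flat A (P ⧸ I)] (𝔮 : Ideal (L ⊗[A] P)) [𝔮.IsPrime]
    (h : HasChartAt (I.map (Algebra.TensorProduct.includeRight : P →ₐ[A] L ⊗[A] P).toRingHom) 𝔮) :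
    HasChartAt I (𝔮.comap (Algebra.TensorProduct.includeRight : P →ₐ[A] L ⊗[A] P).toRingHom) := by
  classical
  set inclT : P →+* L ⊗[A] P :=
    (Algebra.TensorProduct.includeRight : P →ₐ[A] L ⊗[A] P).toRingHom with hinclT
  set q := 𝔮.comap inclT with hq
  by_cases hI : I ≤ q
  swap
  · have hex : ∃ y ∈ I, y ∉ q := by
      by_contra hcon
      push Not at hcon
      exact hI hcon
    obtain ⟨y, hyI, hy⟩ := hex
    refine ⟨y, hy, [y], chart_of_mem I [y] (by simpa using hyI) y ?_⟩
    rw [Ideal.ofList_singleton]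
    exact Ideal.mem_span_singleton_self y
  -- the prime of `A`
  let p : Ideal A := RingHom.ker (algebraMap A L)
  haveI : p.IsPrime := RingHom.ker_isPrime _
  have hinclA : ∀ a : A, inclT (algebraMap A P a) = (algebraMap A L a) ⊗ₜ[A] (1 : P) := by
    intro a
    have : inclT (algebraMap A P a) = algebraMap A (L ⊗[A] P) a :=
      (Algebra.TensorProduct.includeRight : P →ₐ[A] L ⊗[A] P).commutes a
    rw [this, Algebra.TensorProduct.algebraMap_apply]
  have hp : p = q.comap (algebraMap A P) := by
    ext a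
    rw [RingHom.mem_ker, Ideal.mem_comap, hq, Ideal.mem_comap, hinclA]
    constructor
    · intro h0
      rw [h0, TensorProduct.zero_tmul]
      exact 𝔮.zero_mem
    · intro hmem
      by_contra hne
      have hu : IsUnit ((algebraMap A L a) ⊗ₜ[A] (1 : P)) :=
        (IsUnit.mk0 _ hne).map (Algebra.TensorProduct.includeLeftRingHom (R := A) (A := L) (B := P))
      exact (Ideal.IsPrime.ne_top inferInstance) (Ideal.eq_top_of_isUnit_mem 𝔮 hmem hu)
  -- residue field and its map to `L`
  let ι : p.ResidueField →+* L := Ideal.ResidueField.lift p (algebraMap A L) le_rfl (by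
    intro a ha
    exact IsUnit.mk0 _ (fun h0 => ha (RingHom.mem_ker.2 h0)))
  letI algκL : Algebra p.ResidueField L := ι.toAlgebra
  haveI : IsScalarTower A p.ResidueField L := IsScalarTower.of_algebraMap_eq fun a =>
    (Ideal.ResidueField.lift_algebraMap p (algebraMap A L) le_rfl _ a).symm
  obtain ⟨φ, hφflat, hφ1⟩ := exists_flat_map A P p.ResidueField L
  let Q : Ideal (p.Fiber P) := 𝔮.comap φ
  haveI : Q.IsPrime := Ideal.comap_isPrime φ 𝔮
  -- a chart by elements of `I`
  have hK𝔮 : I.map inclT ≤ 𝔮 := Ideal.map_le_iff_le_comap.2 hI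
  obtain ⟨g₀, hg₀, l₀, c₀⟩ := h
  obtain ⟨f', g₁, hf', -, hg₁, c₁⟩ := chart_from_subset (I.map inclT) 𝔮 hK𝔮
    (inclT '' (I : Set P))
    (by rintro _ ⟨a, ha, rfl⟩; exact Ideal.mem_map_of_mem _ ha) le_rfl l₀ [] g₀ hg₀
    (by simp) (by simpa using c₀)
  obtain ⟨f, hfI, rfl⟩ := exists_lift_list' inclT I f' hf'
  -- Noetherianity
  haveI : IsNoetherianRing P := Algebra.FiniteType.isNoetherianRing A P
  haveI : IsNoetherianRing (L ⊗[A] P) := Algebra.FiniteType.isNoetherianRing L (L ⊗[A] P)
  haveI : IsNoetherianRing (p.Fiber P) :=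
    Algebra.FiniteType.isNoetherianRing p.ResidueField (p.ResidueField ⊗[A] P)
  -- the local ring of `T` at `𝔮`
  haveI : IsNoetherianRing (Localization.AtPrime 𝔮) := IsLocalization.isNoetherianRing 𝔮.primeCompl (Localization.AtPrime 𝔮) inferInstance
  have hu : IsUnit (algebraMap (L ⊗[A] P) (Localization.AtPrime 𝔮) g₁) :=
    IsLocalization.map_units (Localization.AtPrime 𝔮) (⟨g₁, hg₁⟩ : 𝔮.primeCompl)
  have hkrT := c₁.kr_flat (Localization.AtPrime 𝔮) hu
  have hgenT := c₁.map_eq (Localization.AtPrime 𝔮) hu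
  have hwrT : IsWeaklyRegular (Localization.AtPrime 𝔮) ((f.map inclT).map (algebraMap (L ⊗[A] P) (Localization.AtPrime 𝔮))) := by
    apply Groth.Agent.Lib.Helper85.GorLCI.isWeaklyRegular_of_koszulRegular _ hkrT
    intro x hx
    obtain ⟨y, hy, rfl⟩ := List.mem_map.1 hx
    rw [IsLocalization.AtPrime.to_map_mem_maximal_iff (Localization.AtPrime 𝔮) 𝔮]
    exact hK𝔮 (c₁.sub y hy)
  -- descend to the local ring of the fibre
  let inclF : P →+* p.Fiber P :=
    (Algebra.TensorProduct.includeRight : P →ₐ[A] p.ResidueField ⊗[A] P).toRingHom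
  have hlist : (f.map inclF).map φ = f.map inclT := by
    rw [List.map_map]
    exact List.map_congr_left fun a _ => hφ1 a
  have hwrF : IsWeaklyRegular (Localization.AtPrime Q) ((f.map inclF).map (algebraMap (p.Fiber P) (Localization.AtPrime Q))) := by
    apply isWeaklyRegular_localization_of_flat φ hφflat 𝔮 Q rfl
    rw [hlist]
    exact hwrT
  have hfl := hφflat.localRingHom 𝔮 Q rfl
  letI algLam : Algebra (Localization.AtPrime Q) (Localization.AtPrime 𝔮) := (Localization.localRingHom Q 𝔮 φ rfl).toAlgebra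
  haveI : Module.Flat (Localization.AtPrime Q) (Localization.AtPrime 𝔮) := hfl
  haveI : IsLocalHom (algebraMap (Localization.AtPrime Q) (Localization.AtPrime 𝔮)) := Localization.isLocalHom_localRingHom Q 𝔮 φ rfl
  haveI : Module.FaithfullyFlat (Localization.AtPrime Q) (Localization.AtPrime 𝔮) := Module.FaithfullyFlat.of_flat_of_isLocalHom
  have hcomp3 : ((algebraMap (Localization.AtPrime Q) (Localization.AtPrime 𝔮)).comp (algebraMap (p.Fiber P) (Localization.AtPrime Q))).comp inclF =
      (algebraMap (L ⊗[A] P) (Localization.AtPrime 𝔮)).comp inclT := by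
    ext a
    simp only [RingHom.comp_apply, RingHom.algebraMap_toAlgebra]
    rw [Localization.localRingHom_to_map Q 𝔮 φ rfl]
    exact congrArg _ (hφ1 a)
  have hgenF : (I.map inclF).map (algebraMap (p.Fiber P) (Localization.AtPrime Q)) =
      Ideal.ofList ((f.map inclF).map (algebraMap (p.Fiber P) (Localization.AtPrime Q))) := by
    rw [← Ideal.comap_map_eq_self_of_faithfullyFlat (B := (Localization.AtPrime 𝔮))
        ((I.map inclF).map (algebraMap (p.Fiber P) (Localization.AtPrime Q))),
      ← Ideal.comap_map_eq_self_of_faithfullyFlat (B := (Localization.AtPrime 𝔮))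
        (Ideal.ofList ((f.map inclF).map (algebraMap (p.Fiber P) (Localization.AtPrime Q))))]
    congr 1
    rw [Ideal.map_map, Ideal.map_map, hcomp3, ← Ideal.map_map, hgenT, Ideal.map_ofList,
      List.map_map, List.map_map, List.map_map]
    congr 1
    refine List.map_congr_left fun a _ => ?_
    exact (RingHom.congr_fun hcomp3 a).symm
  -- transfer to `R / pR`
  have hrq : (Q.comap (Algebra.TensorProduct.includeRight :
      P →ₐ[A] p.ResidueField ⊗[A] P)) = q := by
    ext x
    show φ ((1 : p.ResidueField) ⊗ₜ[A] x) ∈ 𝔮 ↔ inclT x ∈ 𝔮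
    rw [hφ1]
    rfl
  have hp' : p = (Q.comap (Algebra.TensorProduct.includeRight :
      P →ₐ[A] p.ResidueField ⊗[A] P)).comap (algebraMap A P) := by rw [hrq]; exact hp
  have hwrF' : IsWeaklyRegular (Localization.AtPrime Q)
      (f.map ((algebraMap (p.Fiber P) (Localization.AtPrime Q)).comp inclF)) := by
    have e : f.map ((algebraMap (p.Fiber P) (Localization.AtPrime Q)).comp inclF) =
        (f.map inclF).map (algebraMap (p.Fiber P) (Localization.AtPrime Q)) := by
      rw [List.map_map]
      rfl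
    rw [e]
    exact hwrF
  have hgenF' : I.map ((algebraMap (p.Fiber P) (Localization.AtPrime Q)).comp inclF) =
      Ideal.ofList (f.map ((algebraMap (p.Fiber P) (Localization.AtPrime Q)).comp inclF)) := by
    rw [← Ideal.map_map, hgenF, List.map_map]
    rfl
  have hfin := hasChartAt_of_fibre_local I p Q hp' f hfI hwrF' hgenF'
  rwa [hrq] at hfin

end Groth.Agent.Lib.Helper94.FibC
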