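import Mathlib
import Groth.Agent.Lib.Helper94.FibC
import Groth.Agent.Lib.Helper46.FlatStage

/-!
# Noetherian models and the fibre criterion for charts over arbitrary bases (helper94)
-/


set_option autoImplicit false
set_option linter.style.haveILetI false
universe u

open TensorProduct

namespace Groth.Agent.Lib.Helper94.FibD

open Groth.Agent.Lib.Helper43.KRIdeal Groth.Agent.Lib.Helper43
  Groth.Agent.Lib.Helper94.FibA Groth.Agent.Lib.Helper94.FibB Groth.Agent.Lib.Helper94.FibC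
  Groth.Agent.Lib.Helper46.FlatStage

/-- second stage of the Noetherian model: enlarge the base to make the model and the quotient
flat -/
theorem model_stage2 {A : Type u} [CommRing A] (k₁ : Type u) [CommRing k₁] [Algebra k₁ A]
    [IsNoetherianRing k₁] (N₁ : Type u) [CommRing N₁] [Algebra k₁ N₁] [Algebra.FiniteType k₁ N₁]
    (J₁ : Ideal N₁) (hfl₁ : Module.Flat A (A ⊗[k₁] N₁)) (hfl₂ : Module.Flat A (A ⊗[k₁] (N₁ ⧸ J₁))) :
    ∃ R₃ : Subalgebra k₁ A, R₃.FG ∧ Module.Flat ↥R₃ (↥R₃ ⊗[k₁] N₁) ∧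
      Module.Flat ↥R₃ (↥R₃ ⊗[k₁] (N₁ ⧸ J₁)) := by
  obtain ⟨R₁, hR₁, hf₁⟩ := exists_fg_flat (k := k₁) (R := A) (N := N₁) hfl₁
  obtain ⟨R₂, hR₂, hf₂⟩ := exists_fg_flat (k := k₁) (R := A) (N := N₁ ⧸ J₁) hfl₂
  refine ⟨R₁ ⊔ R₂, hR₁.sup hR₂, ?_, ?_⟩
  · letI : Algebra ↥R₁ ↥(R₁ ⊔ R₂) := (Subalgebra.inclusion le_sup_left).toAlgebra
    haveI : IsScalarTower k₁ ↥R₁ ↥(R₁ ⊔ R₂) := .of_algebraMap_eq fun x => rfl
    exact flat_tensor_of_algebra N₁ ↥R₁ ↥(R₁ ⊔ R₂) hf₁
  · letI : Algebra ↥R₂ ↥(R₁ ⊔ R₂) := (Subalgebra.inclusion le_sup_right).toAlgebra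
    haveI : IsScalarTower k₁ ↥R₂ ↥(R₁ ⊔ R₂) := .of_algebraMap_eq fun x => rfl
    exact flat_tensor_of_algebra (N₁ ⧸ J₁) ↥R₂ ↥(R₁ ⊔ R₂) hf₂

/-- third stage: assemble the model over `R₃` -/
theorem model_stage3 {A P : Type u} [CommRing A] [CommRing P] [Algebra A P] (k₁ : Type u)
    [CommRing k₁] [Algebra k₁ A] [IsNoetherianRing k₁] (N₁ : Type u) [CommRing N₁] [Algebra k₁ N₁]
    [Algebra.FiniteType k₁ N₁] (J₁ : Ideal N₁) (e₁ : A ⊗[k₁] N₁ ≃ₐ[A] P) (I : Ideal P)
    (hIJ : I = (J₁.map (Algebra.TensorProduct.includeRight : N₁ →ₐ[k₁] A ⊗[k₁] N₁).toRingHom).map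
      (e₁ : A ⊗[k₁] N₁ →+* P))
    (R₃ : Subalgebra k₁ A) (hR₃ : R₃.FG) (hf₁ : Module.Flat ↥R₃ (↥R₃ ⊗[k₁] N₁))
    (hf₂ : Module.Flat ↥R₃ (↥R₃ ⊗[k₁] (N₁ ⧸ J₁))) :
    ∃ (k N : Type u) (_ : CommRing k) (_ : CommRing N) (_ : Algebra k A) (_ : Algebra k N)
      (e : A ⊗[k] N ≃ₐ[A] P) (J : Ideal N), IsNoetherianRing k ∧ Algebra.FiniteType k N ∧
      Module.Flat k N ∧ Module.Flat k (N ⧸ J) ∧
      I = (J.map (Algebra.TensorProduct.includeRight : N →ₐ[k] A ⊗[k] N).toRingHom).map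
        (e : A ⊗[k] N →+* P) := by
  refine ⟨↥R₃, ↥R₃ ⊗[k₁] N₁, inferInstance, inferInstance, inferInstance, inferInstance,
    (Algebra.TensorProduct.cancelBaseChange k₁ ↥R₃ A A N₁).trans e₁,
    J₁.map (Algebra.TensorProduct.includeRight : N₁ →ₐ[k₁] ↥R₃ ⊗[k₁] N₁).toRingHom,
    ?_, ?_, hf₁, ?_, ?_⟩
  · haveI : Algebra.FiniteType k₁ ↥R₃ := (Subalgebra.fg_iff_finiteType R₃).1 hR₃
    exact Algebra.FiniteType.isNoetherianRing k₁ ↥R₃
  · infer_instance
  · have e := Algebra.TensorProduct.tensorQuotientEquiv (R := k₁) ↥R₃ N₁ ↥R₃ J₁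
    exact Module.Flat.of_linearEquiv e.symm.toLinearEquiv
  · rw [hIJ, Ideal.map_map, Ideal.map_map, Ideal.map_map]
    congr 1
    ext n
    simp [Algebra.TensorProduct.cancelBaseChange_tmul]

/-- the model, from an abstract presentation of `(P, I)` as a base change -/
theorem model_of_equiv {A P : Type u} [CommRing A] [CommRing P] [Algebra A P] (k₁ : Type u)
    [CommRing k₁] [Algebra k₁ A] [IsNoetherianRing k₁] (N₁ : Type u) [CommRing N₁] [Algebra k₁ N₁]
    [Algebra.FiniteType k₁ N₁] (J₁ : Ideal N₁) (e₁ : A ⊗[k₁] N₁ ≃ₐ[A] P) (I : Ideal P)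
    [Module.Flat A P] [Module.Flat A (P ⧸ I)]
    (hIJ : I = (J₁.map (Algebra.TensorProduct.includeRight : N₁ →ₐ[k₁] A ⊗[k₁] N₁).toRingHom).map
      (e₁ : A ⊗[k₁] N₁ →+* P)) :
    ∃ (k N : Type u) (_ : CommRing k) (_ : CommRing N) (_ : Algebra k A) (_ : Algebra k N)
      (e : A ⊗[k] N ≃ₐ[A] P) (J : Ideal N), IsNoetherianRing k ∧ Algebra.FiniteType k N ∧
      Module.Flat k N ∧ Module.Flat k (N ⧸ J) ∧
      I = (J.map (Algebra.TensorProduct.includeRight : N →ₐ[k] A ⊗[k] N).toRingHom).map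
        (e : A ⊗[k] N →+* P) := by
  have hfl₁ : Module.Flat A (A ⊗[k₁] N₁) := Module.Flat.of_linearEquiv e₁.toLinearEquiv
  have hfl₂ : Module.Flat A (A ⊗[k₁] (N₁ ⧸ J₁)) := by
    have e3 := Algebra.TensorProduct.tensorQuotientEquiv (R := k₁) A N₁ A J₁
    have hIJ' : I = (J₁.map (Algebra.TensorProduct.includeRight (A := A) (R := k₁)
        (B := N₁))).map (e₁ : A ⊗[k₁] N₁ →+* P) := hIJ
    have e4 := Ideal.quotientEquivAlg (J₁.map (Algebra.TensorProduct.includeRight (A := A)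
      (R := k₁) (B := N₁))) I e₁ hIJ'
    exact Module.Flat.of_linearEquiv (e3.trans e4).toLinearEquiv
  obtain ⟨R₃, hR₃, hf₁, hf₂⟩ := model_stage2 k₁ N₁ J₁ hfl₁ hfl₂
  exact model_stage3 k₁ N₁ J₁ e₁ I hIJ R₃ hR₃ hf₁ hf₂

/-- the model over a Noetherian ring containing all the needed coefficients -/
theorem model_of_coeffs {A P : Type u} [CommRing A] [CommRing P] [Algebra A P] {ι σ : Type}
    [Finite ι] [Finite σ] (Pres : Algebra.Presentation A P ι σ) (k₁ : Type u) [CommRing k₁]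
    [Algebra k₁ A] [Algebra k₁ P] [IsScalarTower k₁ A P] [Pres.HasCoeffs k₁]
    [Algebra.FiniteType ℤ k₁] [Module.Flat A P] (I : Ideal P) [Module.Flat A (P ⧸ I)] {m : ℕ}
    (F₁ : Fin m → MvPolynomial ι k₁)
    (hI : I = Ideal.span (Set.range fun t => MvPolynomial.aeval Pres.val (F₁ t))) :
    ∃ (k N : Type u) (_ : CommRing k) (_ : CommRing N) (_ : Algebra k A) (_ : Algebra k N)
      (e : A ⊗[k] N ≃ₐ[A] P) (J : Ideal N), IsNoetherianRing k ∧ Algebra.FiniteType k N ∧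
      Module.Flat k N ∧ Module.Flat k (N ⧸ J) ∧
      I = (J.map (Algebra.TensorProduct.includeRight : N →ₐ[k] A ⊗[k] N).toRingHom).map
        (e : A ⊗[k] N →+* P) := by
  haveI : IsNoetherianRing k₁ := Algebra.FiniteType.isNoetherianRing ℤ k₁
  refine model_of_equiv k₁ (Pres.ModelOfHasCoeffs k₁)
    (Ideal.span (Set.range fun t => Ideal.Quotient.mk _ (F₁ t)))
    (Pres.tensorModelOfHasCoeffsEquiv k₁) I ?_
  rw [hI, Ideal.map_span, Ideal.map_span, ← Set.range_comp, ← Set.range_comp]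
  congr 2
  funext t
  simp only [Function.comp_apply]
  have := Pres.tensorModelOfHasCoeffsEquiv_tmul k₁ (1 : A) (F₁ t)
  rw [map_one, one_mul] at this
  exact this.symm

theorem exists_model_aux {A P : Type u} [CommRing A] [CommRing P] [Algebra A P] {ι σ : Type}
    [Finite ι] [Finite σ] (Pres : Algebra.Presentation A P ι σ) (k₁ : Subalgebra Pres.Core A)
    (hfg : k₁.FG) [Module.Flat A P] (I : Ideal P) [Module.Flat A (P ⧸ I)] {m : ℕ}
    (F : Fin m → MvPolynomial ι A) (hk : ∀ t, ((F t).coeffs : Set A) ⊆ k₁)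
    (hI : I = Ideal.span (Set.range fun t => MvPolynomial.aeval Pres.val (F t))) :
    ∃ (k N : Type u) (_ : CommRing k) (_ : CommRing N) (_ : Algebra k A) (_ : Algebra k N)
      (e : A ⊗[k] N ≃ₐ[A] P) (J : Ideal N), IsNoetherianRing k ∧ Algebra.FiniteType k N ∧
      Module.Flat k N ∧ Module.Flat k (N ⧸ J) ∧
      I = (J.map (Algebra.TensorProduct.includeRight : N →ₐ[k] A ⊗[k] N).toRingHom).map
        (e : A ⊗[k] N →+* P) := by
  haveI : Pres.HasCoeffs ↥k₁ := Algebra.Presentation.HasCoeffs.of_isScalarTower Pres.Core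
  haveI : Algebra.FiniteType Pres.Core ↥k₁ := (Subalgebra.fg_iff_finiteType k₁).1 hfg
  haveI : Algebra.FiniteType ℤ ↥k₁ := Algebra.FiniteType.trans (S := Pres.Core) inferInstance inferInstance
  have hmem : ∀ t, F t ∈ Set.range (MvPolynomial.map (algebraMap ↥k₁ A)) := by
    intro t
    rw [MvPolynomial.mem_range_map_iff_coeffs_subset, Subalgebra.setRange_algebraMap]
    exact hk t
  choose F₁ hF₁ using hmem
  refine model_of_coeffs Pres ↥k₁ I F₁ ?_
  rw [hI]
  congr 2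
  funext t
  rw [← hF₁ t, MvPolynomial.aeval_map_algebraMap]

/-- **Noetherian model** of a flat finitely presented algebra together with a finitely generated
ideal with flat quotient. -/
theorem exists_model (A P : Type u) [CommRing A] [CommRing P] [Algebra A P]
    [Algebra.FinitePresentation A P] [Module.Flat A P] (I : Ideal P) (hI : I.FG)
    [Module.Flat A (P ⧸ I)] :
    ∃ (k N : Type u) (_ : CommRing k) (_ : CommRing N) (_ : Algebra k A) (_ : Algebra k N)
      (e : A ⊗[k] N ≃ₐ[A] P) (J : Ideal N), IsNoetherianRing k ∧ Algebra.FiniteType k N ∧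
      Module.Flat k N ∧ Module.Flat k (N ⧸ J) ∧
      I = (J.map (Algebra.TensorProduct.includeRight : N →ₐ[k] A ⊗[k] N).toRingHom).map
        (e : A ⊗[k] N →+* P) := by
  classical
  obtain ⟨s, hs⟩ := hI
  have hsurj : Function.Surjective
      (MvPolynomial.aeval (Algebra.Presentation.ofFinitePresentation A P).val) :=
    (Algebra.Presentation.ofFinitePresentation A P).aeval_val_surjective
  choose F hF using fun t : Fin s.card => hsurj ((s.equivFin.symm t : P))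
  refine exists_model_aux (Algebra.Presentation.ofFinitePresentation A P)
    (Algebra.adjoin _ (⋃ t, ((F t).coeffs : Set A))) ?_ I F ?_ ?_
  · exact Subalgebra.fg_def.mpr ⟨_, Set.finite_iUnion fun i => Finset.finite_toSet _, rfl⟩
  · intro t
    exact (Set.subset_iUnion (fun t => ((F t).coeffs : Set A)) t).trans Algebra.subset_adjoin
  · rw [← hs]
    congr 1
    ext x
    simp only [Finset.mem_coe, Set.mem_range, hF]
    constructor
    · intro hx
      exact ⟨s.equivFin ⟨x, hx⟩, by simp⟩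
    · rintro ⟨t, rfl⟩
      exact (s.equivFin.symm t).2

/-- **Fibre criterion for charts** (field-valued point, arbitrary base ring). -/
theorem hasChartAt_of_field {A P L : Type u} [CommRing A] [CommRing P] [Field L] [Algebra A P]
    [Algebra A L] [Algebra.FinitePresentation A P] [Module.Flat A P] (I : Ideal P) (hI : I.FG)
    [Module.Flat A (P ⧸ I)] (𝔮 : Ideal (L ⊗[A] P)) [𝔮.IsPrime]
    (h : HasChartAt (I.map (Algebra.TensorProduct.includeRight : P →ₐ[A] L ⊗[A] P).toRingHom) 𝔮) :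
    HasChartAt I (𝔮.comap (Algebra.TensorProduct.includeRight : P →ₐ[A] L ⊗[A] P).toRingHom) := by
  classical
  obtain ⟨k, N, _, _, _, _, e, J, hk, hN, hfl₁, hfl₂, hIJ⟩ := exists_model A P I hI
  letI algkL : Algebra k L := ((algebraMap A L).comp (algebraMap k A)).toAlgebra
  haveI : IsScalarTower k A L := IsScalarTower.of_algebraMap_eq fun _ => rfl
  let δ₁ : L ⊗[k] N ≃ₐ[L] L ⊗[A] (A ⊗[k] N) :=
    (Algebra.TensorProduct.cancelBaseChange k A L L N).symm
  let δ₂ : L ⊗[A] (A ⊗[k] N) ≃ₐ[A] L ⊗[A] P :=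
    Algebra.TensorProduct.congr (AlgEquiv.refl : L ≃ₐ[A] L) e
  let δ : L ⊗[k] N ≃+* L ⊗[A] P := δ₁.toRingEquiv.trans δ₂.toRingEquiv
  have hδ : ∀ n : N, δ ((1 : L) ⊗ₜ[k] n) = (1 : L) ⊗ₜ[A] e ((1 : A) ⊗ₜ[k] n) := by
    intro n
    simp [δ, δ₁, δ₂]
  set inclT : P →+* L ⊗[A] P :=
    (Algebra.TensorProduct.includeRight : P →ₐ[A] L ⊗[A] P).toRingHom with hinclT
  set inclA : N →+* A ⊗[k] N :=
    (Algebra.TensorProduct.includeRight : N →ₐ[k] A ⊗[k] N).toRingHom with hinclA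
  set inclN : N →+* L ⊗[k] N :=
    (Algebra.TensorProduct.includeRight : N →ₐ[k] L ⊗[k] N).toRingHom with hinclN
  have hcomp : (δ : L ⊗[k] N →+* L ⊗[A] P).comp inclN =
      (inclT.comp (e : A ⊗[k] N →+* P)).comp inclA := by
    ext n
    exact hδ n
  -- the transported prime
  let 𝔮' : Ideal (L ⊗[k] N) := 𝔮.comap (δ : L ⊗[k] N →+* L ⊗[A] P)
  haveI : 𝔮'.IsPrime := Ideal.comap_isPrime _ 𝔮
  have h1 := hasChartAt_equiv δ.symm h
  have hmapI : (I.map inclT).map (δ.symm : L ⊗[A] P →+* L ⊗[k] N) = J.map inclN := by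
    rw [hIJ, Ideal.map_map, Ideal.map_map, Ideal.map_map]
    congr 1
    ext n
    simp only [RingHom.comp_apply]
    have := RingHom.congr_fun hcomp n
    simp only [RingHom.comp_apply] at this
    rw [← this]
    exact δ.symm_apply_apply _
  have hmapq : 𝔮.map (δ.symm : L ⊗[A] P →+* L ⊗[k] N) = 𝔮' := by
    rw [Ideal.map_comap_of_equiv]
    rfl
  rw [hmapI, hmapq] at h1
  haveI : Algebra.FiniteType k N := hN
  haveI : IsNoetherianRing k := hk
  haveI : Module.Flat k N := hfl₁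
  haveI : Module.Flat k (N ⧸ J) := hfl₂
  obtain ⟨g, hg, l, c⟩ := hasChartAt_of_field_noetherian (A := k) (P := N) (L := L) J 𝔮' h1
  have c2 := chart_equiv e.toRingEquiv (chart_baseChange k A c)
  refine ⟨e ((1 : A) ⊗ₜ[k] g), ?_, (l.map inclA).map e.toRingEquiv, ?_⟩
  · intro hmem
    apply hg
    show inclN g ∈ 𝔮'
    show δ (inclN g) ∈ 𝔮
    have := RingHom.congr_fun hcomp g
    simp only [RingHom.comp_apply] at this
    erw [this]
    exact hmem
  · rw [hIJ]
    exact c2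

theorem exists_prime_fiber {R S : Type u} [CommRing R] [CommRing S] [Algebra R S]
    (𝔮 : Ideal S) [𝔮.IsPrime] (p : Ideal R) [p.IsPrime] (hp : 𝔮.comap (algebraMap R S) = p) :
    ∃ (𝔮'' : Ideal (p.Fiber S)) (_ : 𝔮''.IsPrime),
      𝔮''.comap (Algebra.TensorProduct.includeRight :
        S →ₐ[R] p.ResidueField ⊗[R] S).toRingHom = 𝔮 := by
  let pp : PrimeSpectrum R := ⟨p, inferInstance⟩
  let qq : PrimeSpectrum.comap (algebraMap R S) ⁻¹' {pp} := ⟨⟨𝔮, inferInstance⟩, by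
    simp only [Set.mem_preimage, Set.mem_singleton_iff]
    ext1
    exact hp⟩
  let q'' := PrimeSpectrum.preimageEquivFiber R S pp qq
  refine ⟨q''.asIdeal, q''.2, ?_⟩
  have h := (PrimeSpectrum.preimageEquivFiber R S pp).symm_apply_apply qq
  have h2 := congrArg (fun z => z.1.asIdeal) h
  exact h2

/-- **Fibre criterion for charts**, arbitrary base change `A → A'`. -/
theorem hasChartAt_of_baseChange {A P A' : Type u} [CommRing A] [CommRing P] [CommRing A']
    [Algebra A P] [Algebra A A'] [Algebra.FinitePresentation A P] [Module.Flat A P] (I : Ideal P)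
    (hI : I.FG) [Module.Flat A (P ⧸ I)] (𝔮 : Ideal (A' ⊗[A] P)) [𝔮.IsPrime]
    (h : HasChartAt (I.map (Algebra.TensorProduct.includeRight : P →ₐ[A] A' ⊗[A] P).toRingHom) 𝔮) :
    HasChartAt I (𝔮.comap (Algebra.TensorProduct.includeRight : P →ₐ[A] A' ⊗[A] P).toRingHom) := by
  classical
  set incl : P →+* A' ⊗[A] P :=
    (Algebra.TensorProduct.includeRight : P →ₐ[A] A' ⊗[A] P).toRingHom with hincl
  obtain ⟨g, hg, l, c⟩ := h
  -- flatness of the base change and of its quotient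
  haveI : Module.Flat A' ((A' ⊗[A] P) ⧸ I.map incl) := by
    have e := Algebra.TensorProduct.tensorQuotientEquiv (R := A) A' P A' I
    exact Module.Flat.of_linearEquiv e.symm.toLinearEquiv
  obtain ⟨p', hp'⟩ : ∃ p' : Ideal A', 𝔮.comap (algebraMap A' (A' ⊗[A] P)) = p' := ⟨_, rfl⟩
  haveI : p'.IsPrime := hp' ▸ Ideal.comap_isPrime _ 𝔮
  obtain ⟨𝔮'', h𝔮'', hcomap⟩ := exists_prime_fiber 𝔮 p' hp'
  haveI : IsScalarTower A A' p'.ResidueField := inferInstance
  have c2 := chart_baseChange A' p'.ResidueField c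
  let θ : p'.ResidueField ⊗[A'] (A' ⊗[A] P) ≃ₐ[p'.ResidueField] p'.ResidueField ⊗[A] P :=
    Algebra.TensorProduct.cancelBaseChange A A' p'.ResidueField p'.ResidueField P
  set incl₂ : A' ⊗[A] P →+* p'.ResidueField ⊗[A'] (A' ⊗[A] P) :=
    (Algebra.TensorProduct.includeRight :
      A' ⊗[A] P →ₐ[A'] p'.ResidueField ⊗[A'] (A' ⊗[A] P)).toRingHom with hincl₂
  set inclT : P →+* p'.ResidueField ⊗[A] P :=
    (Algebra.TensorProduct.includeRight : P →ₐ[A] p'.ResidueField ⊗[A] P).toRingHom with hinclT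
  have hθ : ((θ.toRingEquiv : _ →+* p'.ResidueField ⊗[A] P).comp incl₂).comp incl = inclT := by
    ext x
    simp [θ, incl, incl₂, inclT]
  have hg'' : incl₂ g ∉ 𝔮'' := by
    intro hmem
    apply hg
    rw [← hcomap]
    exact hmem
  have h3 : HasChartAt ((I.map incl).map incl₂) 𝔮'' := ⟨_, hg'', _, c2⟩
  have h4 := hasChartAt_equiv θ.toRingEquiv h3
  rw [Ideal.map_map, Ideal.map_map, hθ] at h4
  haveI : (𝔮''.map (θ.toRingEquiv : _ →+* p'.ResidueField ⊗[A] P)).IsPrime := by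
    rw [Ideal.map_comap_of_equiv]
    exact Ideal.comap_isPrime _ 𝔮''
  have h5 := hasChartAt_of_field I hI _ h4
  convert h5 using 1
  ext x
  rw [Ideal.mem_comap, Ideal.mem_comap, Ideal.map_comap_of_equiv, Ideal.mem_comap, ← hcomap,
    Ideal.mem_comap]
  have hx : (θ.toRingEquiv.symm : _ →+* _) (inclT x) = incl₂ (incl x) := by
    rw [← hθ]
    simp only [RingHom.comp_apply]
    exact θ.toRingEquiv.symm_apply_apply _
  have hx' : θ.toRingEquiv.symm (inclT x) = incl₂ (incl x) := hx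
  erw [hx']

end Groth.Agent.Lib.Helper94.FibD



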