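import Mathlib
import Groth.Agent.Lib.Helper94.FibD
import Groth.Agent.Lib.Helper43.KRLocalProp
import Groth.Agent.Lib.Helper43.KRCodescent

/-!
# Base change and fibre criterion for lci ring maps between flat algebras (helper94)
-/


set_option autoImplicit false
set_option linter.style.haveILetI false
universe u

open TensorProduct MvPolynomial

namespace Groth.Agent.Lib.Helper94.FibE

open Groth.Agent.Lib.Helper43.KRIdeal Groth.Agent.Lib.Helper43
  Groth.Agent.Lib.Helper94.FibA Groth.Agent.Lib.Helper94.FibD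
  Groth.Agent.Lib.Helper43.KRComp Groth.Agent.Lib.Helper43.KRLocalProp
  Groth.Agent.Lib.Helper43.KRLocal

section Poly

variable (A A' B : Type u) [CommRing A] [CommRing A'] [CommRing B] [Algebra A A'] [Algebra A B]
  (n : ℕ)

lemma rTensor_C (a' : A') (b : B) :
    (rTensorAlgEquiv (R := A) (S := A') (N := B) (σ := Fin n)) (a' ⊗ₜ[A] (C b)) = C (a' ⊗ₜ[A] b) := by
  classical
  ext d
  rw [coeff_rTensorAlgEquiv_tmul, coeff_C, coeff_C]
  split_ifs
  · rfl
  · exact TensorProduct.tmul_zero _ _

lemma rTensor_X (i : Fin n) :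
    (rTensorAlgEquiv (R := A) (S := A') (N := B) (σ := Fin n)) ((1 : A') ⊗ₜ[A] (X i)) = X i := by
  classical
  ext d
  rw [coeff_rTensorAlgEquiv_tmul, coeff_X, coeff_X]
  split_ifs
  · rfl
  · exact TensorProduct.tmul_zero _ _

end Poly

section Package

variable (A A' B C : Type u) [CommRing A] [CommRing A'] [CommRing B] [CommRing C] [Algebra A A']
  [Algebra A B] [Algebra A C] [Algebra B C] [IsScalarTower A B C]

/-- the base change `A' ⊗ B → A' ⊗ C` of `B → C` -/
noncomputable def tensorMap : A' ⊗[A] B →+* A' ⊗[A] C :=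
  (Algebra.TensorProduct.map (AlgHom.id A' A') (IsScalarTower.toAlgHom A B C)).toRingHom

lemma tensorMap_tmul (a' : A') (b : B) :
    tensorMap A A' B C (a' ⊗ₜ[A] b) = a' ⊗ₜ[A] algebraMap B C b := by
  simp [tensorMap]

variable {A A' B C} (n : ℕ) (β : MvPolynomial (Fin n) B →ₐ[B] C)

/-- the base-changed presentation -/
noncomputable def presBC :
    letI := (tensorMap A A' B C).toAlgebra
    MvPolynomial (Fin n) (A' ⊗[A] B) →ₐ[A' ⊗[A] B] (A' ⊗[A] C) :=
  letI := (tensorMap A A' B C).toAlgebra
  aeval (fun i => (1 : A') ⊗ₜ[A] β (X i))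

lemma presBC_rTensor (z : A' ⊗[A] MvPolynomial (Fin n) B) :
    presBC (A := A) (A' := A') n β (rTensorAlgEquiv z) =
      Algebra.TensorProduct.map (AlgHom.id A A') (β.restrictScalars A) z := by
  letI := (tensorMap A A' B C).toAlgebra
  induction z using TensorProduct.induction_on with
  | zero => simp
  | add x y hx hy => rw [map_add, map_add, map_add, hx, hy]
  | tmul a' p =>
    induction p using MvPolynomial.induction_on with
    | C b =>
      rw [rTensor_C]
      simp only [presBC, algHom_C, Algebra.TensorProduct.map_tmul, AlgHom.coe_id, id_eq,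
        AlgHom.coe_restrictScalars']
      rw [RingHom.algebraMap_toAlgebra, tensorMap_tmul]
    | add p q hp hq => rw [TensorProduct.tmul_add, map_add, map_add, map_add, hp, hq]
    | mul_X p i hp =>
      have e : a' ⊗ₜ[A] (p * X i) = (a' ⊗ₜ[A] p) * ((1 : A') ⊗ₜ[A] (X i : MvPolynomial (Fin n) B)) := by
        rw [Algebra.TensorProduct.tmul_mul_tmul, mul_one]
      rw [e, map_mul, map_mul, map_mul, hp, rTensor_X]
      congr 1
      simp [presBC]

lemma presBC_surjective (hβ : Function.Surjective β) :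
    Function.Surjective (presBC (A := A) (A' := A') n β) := by
  intro y
  obtain ⟨z, hz⟩ := Algebra.TensorProduct.map_surjective (f := AlgHom.id A A')
    (g := β.restrictScalars A) Function.surjective_id hβ y
  exact ⟨rTensorAlgEquiv z, (presBC_rTensor n β z).trans hz⟩

lemma ker_presBC (hβ : Function.Surjective β) :
    letI := (tensorMap A A' B C).toAlgebra
    RingHom.ker (presBC (A := A) (A' := A') n β).toRingHom =
      ((RingHom.ker β.toRingHom).map (Algebra.TensorProduct.includeRight :
        MvPolynomial (Fin n) B →ₐ[A] A' ⊗[A] MvPolynomial (Fin n) B).toRingHom).map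
        ((rTensorAlgEquiv (R := A) (S := A') (N := B) (σ := Fin n)).toRingEquiv :
          A' ⊗[A] MvPolynomial (Fin n) B →+* MvPolynomial (Fin n) (A' ⊗[A] B)) := by
  letI := (tensorMap A A' B C).toAlgebra
  have hk := Algebra.TensorProduct.lTensor_ker (A := A') (β.restrictScalars A) hβ
  ext x
  rw [Ideal.map_comap_of_equiv, Ideal.mem_comap, RingHom.mem_ker]
  have hx : x = rTensorAlgEquiv ((rTensorAlgEquiv (R := A) (S := A') (N := B)
      (σ := Fin n)).symm x) := (AlgEquiv.apply_symm_apply _ x).symm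
  have h1 : (presBC (A := A) (A' := A') n β).toRingHom x =
      Algebra.TensorProduct.map (AlgHom.id A A') (β.restrictScalars A)
        ((rTensorAlgEquiv (R := A) (S := A') (N := B) (σ := Fin n)).symm x) := by
    conv_lhs => rw [hx]
    exact presBC_rTensor n β _
  rw [h1, ← RingHom.mem_ker, hk]
  rfl

end Package

section Quot

attribute [local instance] HasDerivedCategory.standard in
lemma koszulRegularSeq_nil (A : Type u) [CommRing A] : LCI.IsKoszulRegularSeq A [] := by
  intro i hi
  change CategoryTheory.Limits.IsZero (((CochainComplex.singleFunctor (ModuleCat.{u} A) 0).obj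
    (ModuleCat.of A A)).homology i)
  exact HomologicalComplex.isZero_single_obj_homology _ _ _ _ hi

/-- a surjection with Koszul-regular kernel is lci -/
theorem isLCIHom_of_surjective {R S : Type u} [CommRing R] [CommRing S] (π : R →+* S)
    (hπ : Function.Surjective π) (hK : LCI.IsKoszulRegularIdeal (RingHom.ker π)) :
    IsLCIHom π := by
  unfold IsLCIHom
  letI := π.toAlgebra
  let f : MvPolynomial (Fin 0) R →ₐ[R] S :=
    (Algebra.ofId R S).comp (isEmptyAlgEquiv R (Fin 0)).toAlgHom
  have hf : Function.Surjective f := by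
    intro y
    obtain ⟨x, rfl⟩ := hπ y
    exact ⟨C x, by simp [f, RingHom.algebraMap_toAlgebra]⟩
  refine ⟨Algebra.FiniteType.of_surjective f hf, 0, f, hf, ?_⟩
  have h2 := koszulRegularIdeal_map_equiv (isEmptyAlgEquiv R (Fin 0)).symm.toRingEquiv _ hK
  have hker : (RingHom.ker π).map
      (((isEmptyAlgEquiv R (Fin 0)).symm.toRingEquiv : R ≃+* MvPolynomial (Fin 0) R) :
        R →+* MvPolynomial (Fin 0) R) = RingHom.ker f.toRingHom := by
    rw [Ideal.map_comap_of_equiv]
    ext x
    rw [Ideal.mem_comap, RingHom.mem_ker, RingHom.mem_ker]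
    rfl
  rwa [hker] at h2

/-- polynomial algebras are lci -/
theorem isLCI_mvPolynomial (R : Type u) [CommRing R] (n : ℕ) :
    LCI.IsLCI R (MvPolynomial (Fin n) R) := by
  refine ⟨inferInstance, n, AlgHom.id R _, Function.surjective_id, ?_⟩
  have h : RingHom.ker (AlgHom.id R (MvPolynomial (Fin n) R)).toRingHom = Ideal.ofList [] := by
    rw [Ideal.ofList_nil]
    ext x
    rw [RingHom.mem_ker]
    rfl
  rw [h]
  exact KRPoly.isKoszulRegularIdeal_of_seq [] (koszulRegularSeq_nil _)

/-- a chart of the kernel of a presentation makes the localized target lci -/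
theorem isLCIHom_away_of_chart {B C : Type u} [CommRing B] [CommRing C] [Algebra B C] (n : ℕ)
    (β : MvPolynomial (Fin n) B →ₐ[B] C) (hβ : Function.Surjective β)
    (g : MvPolynomial (Fin n) B) (l : List (MvPolynomial (Fin n) B))
    (c : Chart (RingHom.ker β.toRingHom) g l) :
    IsLCIHom ((algebraMap C (Localization.Away (β g))).comp (algebraMap B C)) := by
  obtain ⟨π, hπ, hkerπ, hcomm⟩ := awayMap_props β.toRingHom hβ g
  have h1 : IsLCIHom (algebraMap B (MvPolynomial (Fin n) B)) :=
    isLCIHom_algebraMap_iff.2 (isLCI_mvPolynomial B n)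
  have h2 : IsLCIHom (algebraMap (MvPolynomial (Fin n) B) (Localization.Away g)) :=
    isLCIHom_holdsForLocalizationAway _ g
  have h3 : IsLCIHom π := by
    apply isLCIHom_of_surjective π hπ
    rw [hkerπ, c.map_eq _ (IsLocalization.Away.algebraMap_isUnit g)]
    exact KRPoly.isKoszulRegularIdeal_of_seq _ c.kr
  have h4 := (h1.comp h2).comp h3
  have e : π.comp ((algebraMap (MvPolynomial (Fin n) B) (Localization.Away g)).comp
      (algebraMap B (MvPolynomial (Fin n) B))) =
      (algebraMap C (Localization.Away (β g))).comp (algebraMap B C) := by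
    ext b
    simp only [RingHom.comp_apply]
    rw [hcomm]
    congr 1
    exact β.commutes b
  rw [← e]
  exact h4

end Quot

section BC

variable (A A' B C : Type u) [CommRing A] [CommRing A'] [CommRing B] [CommRing C] [Algebra A A']
  [Algebra A B] [Algebra A C] [Algebra B C] [IsScalarTower A B C]

lemma flat_quot_ker [Module.Flat A C] (n : ℕ) (β : MvPolynomial (Fin n) B →ₐ[B] C)
    (hβ : Function.Surjective β) :
    Module.Flat A (MvPolynomial (Fin n) B ⧸ RingHom.ker β.toRingHom) := by
  have e := Ideal.quotientKerAlgEquivOfSurjective (f := β.restrictScalars A) hβ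
  exact Module.Flat.of_linearEquiv (R := A) (M := C)
    (N := MvPolynomial (Fin n) B ⧸ RingHom.ker β.toRingHom) e.toLinearEquiv

/-- **Base change of lci ring maps** between flat algebras. -/
theorem isLCIHom_tensorMap [Module.Flat A B] [Module.Flat A C] (h : LCI.IsLCI B C) :
    IsLCIHom (tensorMap A A' B C) := by
  classical
  obtain ⟨hft, n, β, hβ, hK⟩ := h
  unfold IsLCIHom
  letI := (tensorMap A A' B C).toAlgebra
  refine ⟨Algebra.FiniteType.of_surjective (presBC n β) (presBC_surjective n β hβ), n,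
    presBC n β, presBC_surjective n β hβ, ?_⟩
  rw [ker_presBC n β hβ]
  apply koszulRegularIdeal_map_equiv
  apply isKoszulRegularIdeal_of_charts
  intro 𝔭 h𝔭
  haveI : Module.Flat A (MvPolynomial (Fin n) B) := Module.Flat.trans A B _
  haveI := flat_quot_ker A B C n β hβ
  have hq : RingHom.ker β.toRingHom ≤ 𝔭.asIdeal.comap (Algebra.TensorProduct.includeRight :
        MvPolynomial (Fin n) B →ₐ[A] A' ⊗[A] MvPolynomial (Fin n) B).toRingHom :=
    Ideal.map_le_iff_le_comap.1 h𝔭
  obtain ⟨g, hg, l, c⟩ := exists_chart hK ⟨_, Ideal.comap_isPrime _ 𝔭.asIdeal⟩ hq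
  exact ⟨(1 : A') ⊗ₜ g, hg, _, chart_baseChange A A' c⟩

/-- **Fibre criterion for lci maps between flat finitely presented algebras** (ring level). -/
theorem exists_isLCIHom_of_tensor [Algebra.FinitePresentation A B]
    [Algebra.FinitePresentation A C] [Module.Flat A B] [Module.Flat A C] (s : A' ⊗[A] C)
    (𝔮 : Ideal (A' ⊗[A] C)) [𝔮.IsPrime] (hs : s ∉ 𝔮)
    (h : IsLCIHom ((algebraMap (A' ⊗[A] C) (Localization.Away s)).comp (tensorMap A A' B C))) :
    ∃ c₀ : C, (1 : A') ⊗ₜ[A] c₀ ∉ 𝔮 ∧
      IsLCIHom ((algebraMap C (Localization.Away c₀)).comp (algebraMap B C)) := by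
  classical
  haveI : Algebra.FinitePresentation B C :=
    Algebra.FinitePresentation.of_restrict_scalars_finitePresentation (R := A) (A := B) (B := C)
  obtain ⟨n, β, hβ, hfg⟩ := (inferInstance : Algebra.FinitePresentation B C).out
  letI algT := (tensorMap A A' B C).toAlgebra
  have hβ' := presBC_surjective (A := A) (A' := A') n β hβ
  obtain ⟨G', hG'⟩ := hβ' s
  subst hG'
  have hlci : LCI.IsLCI (A' ⊗[A] B) (Localization.Away (presBC (A := A) (A' := A') n β G')) :=
    @isLCI_of_ringEquiv _ (Localization.Away (presBC (A := A) (A' := A') n β G'))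
      (Localization.Away (presBC (A := A) (A' := A') n β G')) _ _ _
      (((algebraMap _ (Localization.Away (presBC (A := A) (A' := A') n β G'))).comp
        (tensorMap A A' B C)).toAlgebra) OreLocalization.instAlgebra
      (RingEquiv.refl _) (fun r => rfl) h
  have hKR := koszulRegularIdeal_away (A' ⊗[A] B) (A' ⊗[A] C) n
    (presBC (A := A) (A' := A') n β) hβ' G' hlci
  obtain ⟨𝔮t, h𝔮tdef⟩ : ∃ 𝔮t : Ideal (MvPolynomial (Fin n) (A' ⊗[A] B)),
      𝔮t = 𝔮.comap (presBC (A := A) (A' := A') n β).toRingHom := ⟨_, rfl⟩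
  haveI : 𝔮t.IsPrime := h𝔮tdef ▸ Ideal.comap_isPrime _ 𝔮
  have hG'q : G' ∉ 𝔮t := by rw [h𝔮tdef]; exact hs
  have hle : RingHom.ker (presBC (A := A) (A' := A') n β).toRingHom ≤ 𝔮t := by
    intro x hx
    rw [h𝔮tdef, Ideal.mem_comap, RingHom.mem_ker.1 hx]
    exact 𝔮.zero_mem
  obtain ⟨g, hg, l, c⟩ := exists_chart_of_away _ G' hKR ⟨𝔮t, inferInstance⟩ hG'q hle
  -- transport to `A' ⊗ P`
  have h1 : HasChartAt (RingHom.ker (presBC (A := A) (A' := A') n β).toRingHom) 𝔮t :=
    ⟨g, hg, l, c⟩
  have h2 := hasChartAt_equiv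
    (rTensorAlgEquiv (R := A) (S := A') (N := B) (σ := Fin n)).toRingEquiv.symm h1
  rw [ker_presBC n β hβ, Ideal.map_map] at h2
  have hid : ((rTensorAlgEquiv (R := A) (S := A') (N := B) (σ := Fin n)).toRingEquiv.symm :
      MvPolynomial (Fin n) (A' ⊗[A] B) →+* A' ⊗[A] MvPolynomial (Fin n) B).comp
      ((rTensorAlgEquiv (R := A) (S := A') (N := B) (σ := Fin n)).toRingEquiv :
        A' ⊗[A] MvPolynomial (Fin n) B →+* MvPolynomial (Fin n) (A' ⊗[A] B)) = RingHom.id _ := by
    refine RingHom.ext fun x => ?_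
    exact (rTensorAlgEquiv (R := A) (S := A') (N := B) (σ := Fin n)).toRingEquiv.symm_apply_apply x
  rw [hid, Ideal.map_id] at h2
  haveI : Module.Flat A (MvPolynomial (Fin n) B) := Module.Flat.trans A B _
  haveI := flat_quot_ker A B C n β hβ
  haveI : Algebra.FinitePresentation A (MvPolynomial (Fin n) B) :=
    Algebra.FinitePresentation.trans (R := A) (A := B) (B := MvPolynomial (Fin n) B)
  haveI : (𝔮t.map ((rTensorAlgEquiv (R := A) (S := A') (N := B)
      (σ := Fin n)).toRingEquiv.symm : MvPolynomial (Fin n) (A' ⊗[A] B) →+*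
        A' ⊗[A] MvPolynomial (Fin n) B)).IsPrime := by
    rw [Ideal.map_comap_of_equiv]
    exact Ideal.comap_isPrime _ 𝔮t
  obtain ⟨g₀, hg₀, l₀, c₀⟩ := hasChartAt_of_baseChange (RingHom.ker β.toRingHom) hfg _ h2
  refine ⟨β g₀, ?_, isLCIHom_away_of_chart n β hβ g₀ l₀ c₀⟩
  intro hmem
  apply hg₀
  rw [Ideal.mem_comap, Ideal.map_comap_of_equiv, Ideal.mem_comap, h𝔮tdef, Ideal.mem_comap]
  have := presBC_rTensor (A := A) (A' := A') n β ((1 : A') ⊗ₜ[A] g₀)
  simp only [Algebra.TensorProduct.map_tmul, AlgHom.coe_id, id_eq,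
    AlgHom.coe_restrictScalars'] at this
  rw [← this] at hmem
  exact hmem

end BC

end Groth.Agent.Lib.Helper94.FibE
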