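import Groth.Agent.Lib.Helper98.KoszulLES
import Groth.Agent.Lib.Helper98.KoszulRes
import Groth.Agent.Lib.Helper98.KoszulHomotopy
import Mathlib.RingTheory.Regular.RegularSequence
import Mathlib.RingTheory.Localization.AtPrime.Basic

/-!
# helper94: Koszul homology vanishes locally at primes where the sequence is weakly regular
-/

set_option autoImplicit false
universe u
open CategoryTheory CategoryTheory.Limits HomologicalComplex CochainComplex HomComplex
open Koszul RingTheory.Sequence
open Helper98.KoszulLES

namespace Groth.Agent.Lib.Helper94.KoszulLoc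

variable {A : Type u} [CommRing A]

attribute [local instance] HasDerivedCategory.standard

/-- every element is killed by an element outside `q` -/
def LocZero (q : Ideal A) (H : ModuleCat.{u} A) : Prop := ∀ x : H, ∃ s : A, s ∉ q ∧ s • x = 0

lemma locZero_of_isZero (q : Ideal A) [q.IsPrime] {H : ModuleCat.{u} A} (h : IsZero H) : LocZero q H := by
  intro x
  haveI : Subsingleton H := ModuleCat.subsingleton_of_isZero h
  exact ⟨1, fun h1 => (Ideal.IsPrime.ne_top inferInstance) ((Ideal.eq_top_iff_one q).2 h1),
    Subsingleton.elim _ _⟩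

lemma locZero_of_iso (q : Ideal A) {H H' : ModuleCat.{u} A} (e : H ≅ H') (h : LocZero q H') :
    LocZero q H := by
  intro x
  obtain ⟨s, hs, hx⟩ := h (e.hom.hom x)
  refine ⟨s, hs, ?_⟩
  have h1 : e.inv.hom (e.hom.hom x) = x := congrArg (fun f => f.hom x) e.hom_inv_id
  rw [← h1, ← map_smul, hx, map_zero]

section LES

variable (K : DRing.Cx A) (g : A) (q : Ideal A) [q.IsPrime]

lemma locZero_cone (i j : ℤ) (hij : i + 1 = j) (h1 : LocZero q (K.homology i))
    (h2 : ∀ z : K.homology j, g • z = 0 → ∃ s : A, s ∉ q ∧ s • z = 0) :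
    LocZero q ((mappingCone (g • 𝟙 K)).homology i) := by
  intro x
  have e3 := CochainComplex.homologyMap_exact₃_of_distTriang _ (cone_dist K g) i j hij
  rw [ShortComplex.moduleCat_exact_iff] at e3
  have hz := CochainComplex.homologyδOfTriangle_homologyMap _ (cone_dist K g) i j hij
  change _ ≫ homologyMap (g • 𝟙 K) j = 0 at hz
  rw [homologyMap_smul', homologyMap_id] at hz
  let δ : (mappingCone (g • 𝟙 K)).homology i ⟶ K.homology j :=
    homologyδOfTriangle (mappingCone.triangle (g • 𝟙 K)) i j hij
  let ι : K.homology i ⟶ (mappingCone (g • 𝟙 K)).homology i :=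
    homologyMap (mappingCone.inr (g • 𝟙 K)) i
  have e3' : ∀ w : (mappingCone (g • 𝟙 K)).homology i, δ.hom w = 0 → ∃ y, ι.hom y = w := e3
  have hz' : δ ≫ (g • 𝟙 (K.homology j)) = 0 := hz
  have hgz : g • δ.hom x = 0 := by
    have := congrArg (fun f => f.hom x) hz'
    exact this
  obtain ⟨s, hs, hsz⟩ := h2 _ hgz
  have h3 : δ.hom (s • x) = 0 := by rw [map_smul, hsz]
  obtain ⟨y, hy⟩ := e3' (s • x) h3
  obtain ⟨t, ht, hty⟩ := h1 y
  refine ⟨t * s, fun hts => (Ideal.IsPrime.mem_or_mem inferInstance hts).elim ht hs, ?_⟩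
  rw [mul_smul, ← hy, ← map_smul, hty, map_zero]

end LES

/-- unconditionally, `H⁰(K(l)) ≅ A/(l)` -/
theorem koszul_homology_zero (l : List A) :
    Nonempty ((Koszul.koszul A l).homology 0 ≅ ModuleCat.of A (A ⧸ Ideal.ofList l)) := by
  induction l using List.reverseRecOn with
  | nil =>
    refine ⟨HomologicalComplex.singleObjHomologySelfIso _ _ _ ≪≫ LinearEquiv.toModuleIso ?_⟩
    exact (Submodule.quotEquivOfEqBot _ Ideal.ofList_nil).symm
  | append_singleton l g ih =>
    obtain ⟨e⟩ := ih
    obtain ⟨c⟩ := koszul_append_singleton_iso l g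
    have hz1 : IsZero ((Koszul.koszul A l).homology 1) :=
      ShortComplex.isZero_homology_of_isZero_X₂ _
        (Groth.Agent.Lib.Helper98.KoszulEuler.isZero_koszul_X_pos l 1 one_pos)
    obtain ⟨c2⟩ := cone_homology_zero_iso (Koszul.koszul A l) g _ e hz1
    refine ⟨(HomologicalComplex.homologyFunctor _ _ 0).mapIso c ≪≫ c2 ≪≫ LinearEquiv.toModuleIso ?_⟩
    refine Submodule.quotEquivOfEq _ _ ?_
    rw [Ideal.ofList_append, Ideal.ofList_singleton]

lemma exists_smul_eq_zero_of_regular (q : Ideal A) [q.IsPrime] (I : Ideal A) (g : A)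
    (hg : IsSMulRegular (Localization.AtPrime q ⧸ (I.map (algebraMap A (Localization.AtPrime q))))
      (algebraMap A (Localization.AtPrime q) g))
    (z : A ⧸ I) (hz : g • z = 0) : ∃ s : A, s ∉ q ∧ s • z = 0 := by
  obtain ⟨a, rfl⟩ := Ideal.Quotient.mk_surjective z
  have h1 : g * a ∈ I := by
    rw [← Ideal.Quotient.eq_zero_iff_mem, map_mul]
    simpa [Algebra.smul_def] using hz
  have h2 : algebraMap A (Localization.AtPrime q) g * algebraMap A (Localization.AtPrime q) a ∈
      I.map (algebraMap A (Localization.AtPrime q)) := by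
    rw [← map_mul]; exact Ideal.mem_map_of_mem _ h1
  have h3 : algebraMap A (Localization.AtPrime q) g •
      (Ideal.Quotient.mk (I.map (algebraMap A (Localization.AtPrime q)))
        (algebraMap A (Localization.AtPrime q) a)) = 0 := by
    change Ideal.Quotient.mk _ (algebraMap A (Localization.AtPrime q) g *
      algebraMap A (Localization.AtPrime q) a) = 0
    rw [Ideal.Quotient.eq_zero_iff_mem]
    exact h2
  have h4 := hg (h3.trans (smul_zero _).symm)
  rw [Ideal.Quotient.eq_zero_iff_mem,
    IsLocalization.algebraMap_mem_map_algebraMap_iff q.primeCompl] at h4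
  obtain ⟨m, hm, hma⟩ := h4
  refine ⟨m, hm, ?_⟩
  change Ideal.Quotient.mk _ (m * a) = 0
  rw [Ideal.Quotient.eq_zero_iff_mem]
  exact hma

/-- Koszul homology in nonzero degrees is locally zero at a prime where the sequence is weakly
regular. -/
theorem koszul_locZero (q : Ideal A) [q.IsPrime] (l : List A)
    (hl : IsWeaklyRegular (Localization.AtPrime q) (l.map (algebraMap A (Localization.AtPrime q)))) :
    ∀ i : ℤ, i ≠ 0 → LocZero q ((Koszul.koszul A l).homology i) := by
  induction l using List.reverseRecOn with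
  | nil =>
    intro i hi
    exact locZero_of_isZero q (HomologicalComplex.isZero_single_obj_homology _ _ _ _ hi)
  | append_singleton l g ih =>
    rw [List.map_append, List.map_singleton, isWeaklyRegular_append_iff,
      isWeaklyRegular_singleton_iff] at hl
    obtain ⟨hl1, hg⟩ := hl
    have ih' := ih hl1
    obtain ⟨e⟩ := koszul_homology_zero l
    have hg' : IsSMulRegular (Localization.AtPrime q ⧸
        ((Ideal.ofList l).map (algebraMap A (Localization.AtPrime q))))
        (algebraMap A (Localization.AtPrime q) g) := by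
      have h : (Ideal.ofList (l.map (algebraMap A (Localization.AtPrime q))) • ⊤ :
          Submodule (Localization.AtPrime q) (Localization.AtPrime q)) =
          (Ideal.ofList l).map (algebraMap A (Localization.AtPrime q)) := by
        rw [smul_eq_mul, Ideal.mul_top, Ideal.map_ofList]
      rw [h] at hg
      exact hg
    obtain ⟨c⟩ := koszul_append_singleton_iso l g
    intro i hi
    refine locZero_of_iso q ((HomologicalComplex.homologyFunctor _ _ i).mapIso c) ?_
    rcases lt_or_gt_of_ne hi with hneg | hpos
    · refine locZero_cone _ g q i (i + 1) rfl (ih' i hi) ?_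
      intro z hz
      by_cases h0 : i + 1 = 0
      · -- `z ∈ H⁰(K(l)) ≅ A/(l)`
        have hi1 : i = -1 := by omega
        subst hi1
        have hz' : g • e.hom.hom z = 0 := by
          change g • e.hom.hom (z : (Koszul.koszul A l).homology 0) = 0
          rw [← map_smul]
          have : g • (z : (Koszul.koszul A l).homology 0) = 0 := hz
          rw [this, map_zero]
        obtain ⟨s, hs, hsz⟩ := exists_smul_eq_zero_of_regular q (Ideal.ofList l) g hg' _ hz'
        refine ⟨s, hs, ?_⟩
        have h1 : e.inv.hom (e.hom.hom z) = z := congrArg (fun f => f.hom z) e.hom_inv_id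
        change s • (z : (Koszul.koszul A l).homology 0) = 0
        rw [← h1, ← map_smul, hsz, map_zero]
      · exact ih' (i + 1) h0 z
    · exact locZero_of_isZero q (ShortComplex.isZero_homology_of_isZero_X₂ _ (by
        have h1 := Groth.Agent.Lib.Helper98.KoszulEuler.isZero_koszul_X_pos l i hpos
        have h2 := Groth.Agent.Lib.Helper98.KoszulEuler.isZero_koszul_X_pos l (i + 1) (by omega)
        exact (mappingCone.isZero_X_iff (g • 𝟙 (Koszul.koszul A l)) i).2 ⟨h2, h1⟩))

/-- an element of a list kills the Koszul homology -/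
theorem smul_homology_eq_zero (l : List A) (s : A) (hs : s ∈ l) (i : ℤ)
    (x : (Koszul.koszul A l).homology i) : s • x = 0 := by
  obtain ⟨h, hh⟩ := Groth.Agent.Lib.Helper98.KoszulEuler.nullH_koszul l s hs
  have H : Homotopy (s • 𝟙 (Koszul.koszul A l)) 0 :=
    (Cochain.equivHomotopy _ _).symm ⟨h, by rw [hh]; simp⟩
  have h1 := H.homologyMap_eq i
  rw [homologyMap_smul', homologyMap_id, homologyMap_zero] at h1
  exact congrArg (fun f => f.hom x) h1

/-- Koszul-regularity from local weak regularity -/
theorem isZero_homology_of_local (l : List A) (i : ℤ) (hi : i ≠ 0)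
    (H : ∀ q : Ideal A, q.IsMaximal → Ideal.ofList l ≤ q → ∀ [q.IsPrime],
      IsWeaklyRegular (Localization.AtPrime q) (l.map (algebraMap A (Localization.AtPrime q)))) :
    IsZero ((Koszul.koszul A l).homology i) := by
  suffices h : ∀ x : (Koszul.koszul A l).homology i, x = 0 by
    haveI : Subsingleton ((Koszul.koszul A l).homology i) :=
      ⟨fun a b => (h a).trans (h b).symm⟩
    exact ModuleCat.isZero_of_subsingleton _
  intro x
  by_contra hx
  let J : Ideal A := LinearMap.ker (LinearMap.toSpanSingleton A _ x)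
  have hJ : J ≠ ⊤ := by
    intro hJ
    have h1 : (1 : A) ∈ J := hJ ▸ Submodule.mem_top
    rw [LinearMap.mem_ker, LinearMap.toSpanSingleton_apply, one_smul] at h1
    exact hx h1
  obtain ⟨q, hqm, hJq⟩ := Ideal.exists_le_maximal J hJ
  haveI : q.IsPrime := hqm.isPrime
  by_cases hI : Ideal.ofList l ≤ q
  · obtain ⟨s, hs, hsx⟩ := koszul_locZero q l (H q hqm hI) i hi x
    exact hs (hJq (by rw [LinearMap.mem_ker, LinearMap.toSpanSingleton_apply]; exact hsx))
  · apply hI
    rw [Ideal.ofList, Ideal.span_le]
    intro s hs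
    exact hJq (by
      rw [LinearMap.mem_ker, LinearMap.toSpanSingleton_apply]
      exact smul_homology_eq_zero l s hs i x)

end Groth.Agent.Lib.Helper94.KoszulLoc
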