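import Mathlib
import Groth.Prelude.Def_RegImm
import Groth.Prelude.Def_LCI2
import Groth.Agent.Lib.Helper94.SyntV
import Groth.Agent.Lib.Helper43.KRComp
import Groth.Agent.S9254

/-!
# Syntomic ring maps are local complete intersection ring maps (helper94)
-/

set_option autoImplicit false
set_option linter.unusedSectionVars false
universe u

namespace Groth.Agent.Lib.Helper94.SyntLCI

open Groth.Agent.Lib.Helper43.KRPoly Groth.Agent.Lib.Helper43.KRLocal

theorem isLCI_relGCIRing (R : Type u) [CommRing R] (n c : ℕ) (F : Fin c → MvPolynomial (Fin n) R)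
    (h : Synt.IsRelGCI R n c F) : LCI.IsLCI R (Synt.RelGCIRing R n c F) := by
  have hft : Algebra.FiniteType R (Synt.RelGCIRing R n c F) :=
    Algebra.FiniteType.of_surjective (Ideal.Quotient.mkₐ R _) (Ideal.Quotient.mkₐ_surjective R _)
  refine ⟨hft, n, Ideal.Quotient.mkₐ R _, Ideal.Quotient.mkₐ_surjective R _, ?_⟩
  have hk : RingHom.ker (Ideal.Quotient.mkₐ R (Ideal.span (Set.range F))).toRingHom =
      Ideal.ofList (List.ofFn F) := by
    rw [Groth.Agent.Lib.Helper94.CIField.ofList_ofFn]
    exact Ideal.mk_ker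
  rw [hk]
  exact isKoszulRegularIdeal_of_seq _ (Groth.Agent.S9254.result R n c F h)

/-- syntomic ring maps are local complete intersection ring maps -/
theorem isLCI_of_isSyntomic (R S : Type u) [CommRing R] [CommRing S] [Algebra R S]
    (h : Synt.IsSyntomic R S) : LCI.IsLCI R S := by
  choose g hg N C G hG e using fun q : PrimeSpectrum S =>
    Groth.Agent.Lib.Helper94.SyntV.exists_relGCI_of_isSyntomic R S h q.asIdeal
  refine isLCI_of_span' R S g ?_ (fun q => ?_)
  · by_contra hne
    obtain ⟨m, hm, hle⟩ := Ideal.exists_le_maximal _ hne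
    exact hg ⟨m, hm.isPrime⟩ (hle (Ideal.subset_span ⟨_, rfl⟩))
  · obtain ⟨e⟩ := e q
    exact Groth.Agent.Lib.Helper43.KRComp.isLCI_of_ringEquiv R _ _ e.symm.toRingEquiv
      (fun r => e.symm.commutes r) (isLCI_relGCIRing R _ _ _ (hG q))

end Groth.Agent.Lib.Helper94.SyntLCI
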