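import Groth.Agent.Lib.Helper94.ArtFun2
import Mathlib.RingTheory.HopkinsLevitzki
import Mathlib.RingTheory.MvPolynomial.Ideal
import Mathlib.RingTheory.Nakayama

/-!
# A versal semismall extension of an object of `Art Λ k`

`exists_versal_semismall`: for `R : Art Λ k` (Λ Noetherian local, Λ → k surjective) there is a semismall
extension `p : B ⟶ R` with `ker p ≤ m_B² ⊔ m_Λ B` through which every semismall extension of `R` factors.
Built as `P/(𝔪 J₀)` for a minimal polynomial presentation `P = Λ[X_s] ↠ R`.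
-/

set_option autoImplicit false
set_option linter.unusedSectionVars false
universe u v
open CategoryTheory
open ArtFun

namespace Groth.Agent.Lib.Helper94

section RingPart

open IsLocalRing

/-- A subalgebra of a local ring with nilpotent maximal ideal, containing generators of the
maximal ideal and surjecting onto the residue field, is everything. -/
theorem subalgebra_eq_top_of_span_inter {Λ : Type u} {R : Type u} [CommRing Λ] [CommRing R]
    [Algebra Λ R] [IsLocalRing R] (S : Subalgebra Λ R) (N : ℕ) (hN : maximalIdeal R ^ N = ⊥)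
    (h0 : ∀ x : R, ∃ l : Λ, x - algebraMap Λ R l ∈ maximalIdeal R)
    (h1 : maximalIdeal R ≤ Ideal.span ((S : Set R) ∩ maximalIdeal R)) : S = ⊤ := by
  -- the key approximation claim
  have claim : ∀ j : ℕ, ∀ x ∈ maximalIdeal R ^ j, ∃ σ ∈ S, σ ∈ maximalIdeal R ^ j ∧
      x - σ ∈ maximalIdeal R ^ (j + 1) := by
    intro j
    induction j with
    | zero =>
      intro x _
      obtain ⟨l, hl⟩ := h0 x
      refine ⟨algebraMap Λ R l, S.algebraMap_mem l, by simp, by simpa using hl⟩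
    | succ j ih =>
      intro x hx
      rw [pow_succ] at hx
      -- C' b := ∀ a ∈ m^j, claim for a*b
      have hC : ∀ b ∈ Ideal.span ((S : Set R) ∩ maximalIdeal R), ∀ a ∈ maximalIdeal R ^ j,
          ∃ σ ∈ S, σ ∈ maximalIdeal R ^ (j + 1) ∧ a * b - σ ∈ maximalIdeal R ^ (j + 1 + 1) := by
        intro b hb
        induction hb using Submodule.span_induction with
        | mem t ht =>
          intro a ha
          obtain ⟨σ, hσS, hσj, hσ⟩ := ih a ha
          refine ⟨σ * t, S.mul_mem hσS ht.1, ?_, ?_⟩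
          · rw [pow_succ]; exact Ideal.mul_mem_mul hσj ht.2
          · have : a * t - σ * t = (a - σ) * t := by ring
            rw [this, pow_succ _ (j + 1)]
            exact Ideal.mul_mem_mul hσ ht.2
        | zero =>
          intro a _
          exact ⟨0, S.zero_mem, Ideal.zero_mem _, by simp⟩
        | add b₁ b₂ _ _ h₁ h₂ =>
          intro a ha
          obtain ⟨σ₁, hσ₁S, hσ₁j, hσ₁⟩ := h₁ a ha
          obtain ⟨σ₂, hσ₂S, hσ₂j, hσ₂⟩ := h₂ a ha
          refine ⟨σ₁ + σ₂, S.add_mem hσ₁S hσ₂S, Ideal.add_mem _ hσ₁j hσ₂j, ?_⟩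
          have : a * (b₁ + b₂) - (σ₁ + σ₂) = (a * b₁ - σ₁) + (a * b₂ - σ₂) := by ring
          rw [this]
          exact Ideal.add_mem _ hσ₁ hσ₂
        | smul c b _ h =>
          intro a ha
          obtain ⟨σ, hσS, hσj, hσ⟩ := h (a * c) (Ideal.mul_mem_right _ _ ha)
          refine ⟨σ, hσS, hσj, ?_⟩
          have : a * (c • b) - σ = a * c * b - σ := by rw [smul_eq_mul]; ring
          rw [this]
          exact hσ
      refine Submodule.mul_induction_on hx ?_ ?_
      · intro a ha b hb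
        exact hC b (h1 hb) a ha
      · rintro x y ⟨σ₁, hσ₁S, hσ₁j, hσ₁⟩ ⟨σ₂, hσ₂S, hσ₂j, hσ₂⟩
        refine ⟨σ₁ + σ₂, S.add_mem hσ₁S hσ₂S, Ideal.add_mem _ hσ₁j hσ₂j, ?_⟩
        have : x + y - (σ₁ + σ₂) = (x - σ₁) + (y - σ₂) := by ring
        rw [this]
        exact Ideal.add_mem _ hσ₁ hσ₂
  have approx : ∀ j : ℕ, ∀ x : R, ∃ σ ∈ S, x - σ ∈ maximalIdeal R ^ j := by
    intro j
    induction j with
    | zero => intro x; exact ⟨0, S.zero_mem, by simp⟩
    | succ j ih =>
      intro x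
      obtain ⟨σ, hσS, hσ⟩ := ih x
      obtain ⟨τ, hτS, _, hτ⟩ := claim j _ hσ
      refine ⟨σ + τ, S.add_mem hσS hτS, ?_⟩
      have : x - (σ + τ) = x - σ - τ := by ring
      rw [this]
      exact hτ
  rw [eq_top_iff]
  intro x _
  obtain ⟨σ, hσS, hσ⟩ := approx N x
  rw [hN, Ideal.mem_bot, sub_eq_zero] at hσ
  rw [hσ]
  exact hσS

end RingPart



section ArtOf

open IsLocalRing

variable {Λ k : Type u} [CommRing Λ] [Field k] [Algebra Λ k]

/-- A ring with a surjection to a field whose kernel consists of nilpotents is local. -/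
theorem isLocalRing_of_ker_nil {C : Type u} [CommRing C] (ρ : C →+* k)
    (hρ : Function.Surjective ρ) (hnil : ∀ x ∈ RingHom.ker ρ, IsNilpotent x) : IsLocalRing C := by
  have : Nontrivial C := ρ.domain_nontrivial
  refine IsLocalRing.of_isUnit_or_isUnit_one_sub_self fun b => ?_
  by_cases hb : ρ b = 0
  · right
    exact (hnil b hb).isUnit_one_sub
  · left
    obtain ⟨b', hb'⟩ := hρ (ρ b)⁻¹
    have hz : 1 - b * b' ∈ RingHom.ker ρ := by
      rw [RingHom.mem_ker, map_sub, map_one, map_mul, hb', mul_inv_cancel₀ hb, sub_self]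
    have hu : IsUnit (b * b') := by
      have := (hnil _ hz).isUnit_one_sub
      simpa using this
    exact isUnit_of_mul_isUnit_left hu

theorem maximalIdeal_eq_ker {C : Type u} [CommRing C] [IsLocalRing C] (ρ : C →+* k)
    (hρ : Function.Surjective ρ) : maximalIdeal C = RingHom.ker ρ :=
  (IsLocalRing.eq_maximalIdeal (RingHom.ker_isMaximal_of_surjective ρ hρ)).symm

/-- Build an object of `Art Λ k` from a Noetherian `Λ`-algebra with a surjection onto `k`
whose kernel is nilpotent. -/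
noncomputable def artOfNil (C : Type u) [CommRing C] [Algebra Λ C] [IsNoetherianRing C]
    (ρ : C →ₐ[Λ] k) (hρ : Function.Surjective ρ) (N : ℕ)
    (hN : RingHom.ker (ρ : C →+* k) ^ N = ⊥) : Art Λ k :=
  letI hloc : IsLocalRing C := isLocalRing_of_ker_nil (ρ : C →+* k) hρ (fun x hx => ⟨N, by
    have : x ^ N ∈ RingHom.ker (ρ : C →+* k) ^ N := Ideal.pow_mem_pow hx N
    rwa [hN, Ideal.mem_bot] at this⟩)
  haveI : IsArtinianRing C := (isArtinianRing_iff_isNilpotent_maximalIdeal C).mpr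
    ⟨N, by rw [maximalIdeal_eq_ker (ρ : C →+* k) hρ, hN]; rfl⟩
  Art.of C ρ hρ

end ArtOf



section MinGens

open IsLocalRing

/-- Minimal generators of the maximal ideal relative to an ideal `𝔫`: a finite subset `s` of the
maximal ideal `m` of a Noetherian local ring with `m ≤ span s ⊔ 𝔫` such that any `Λ`-linear
relation among `s` modulo `m² ⊔ 𝔫` has coefficients in the maximal ideal of `Λ`. -/
theorem exists_min_gens {Λ : Type u} {R : Type u} [CommRing Λ] [IsLocalRing Λ] [CommRing R]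
    [Algebra Λ R] [IsLocalRing R] [IsNoetherianRing R] (𝔫 : Ideal R) :
    ∃ s : Finset R, (↑s : Set R) ⊆ maximalIdeal R ∧
      maximalIdeal R ≤ Ideal.span (↑s : Set R) ⊔ 𝔫 ∧
      ∀ f : R → Λ, (∑ t ∈ s, algebraMap Λ R (f t) * t) ∈ maximalIdeal R ^ 2 ⊔ 𝔫 →
        ∀ t ∈ s, f t ∈ maximalIdeal Λ := by
  classical
  let 𝒮 : Set (Finset R) := {s | (↑s : Set R) ⊆ maximalIdeal R ∧
    maximalIdeal R ≤ Ideal.span (↑s : Set R) ⊔ 𝔫}
  have hne : 𝒮.Nonempty := by
    obtain ⟨s₀, hs₀⟩ := (IsNoetherian.noetherian (maximalIdeal R) : (maximalIdeal R).FG)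
    refine ⟨s₀, ?_, ?_⟩
    · intro x hx
      have : x ∈ Ideal.span (↑s₀ : Set R) := Ideal.subset_span hx
      rw [Ideal.span, hs₀] at this
      exact this
    · have : Ideal.span (↑s₀ : Set R) = maximalIdeal R := hs₀
      rw [this]
      exact le_sup_left
  obtain ⟨s, hs, hmin⟩ := WellFounded.has_min (measure (Finset.card (α := R))).wf 𝒮 hne
  refine ⟨s, hs.1, hs.2, ?_⟩
  intro f hf t₀ ht₀
  by_contra hunit
  have hu : IsUnit (f t₀) := by
    by_contra h
    exact hunit ((IsLocalRing.mem_maximalIdeal _).mpr h)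
  -- the smaller set still generates
  set s' := s.erase t₀ with hs'
  set K : Ideal R := Ideal.span (↑s' : Set R) ⊔ 𝔫 with hK
  have hsum : (∑ t ∈ s, algebraMap Λ R (f t) * t) =
      algebraMap Λ R (f t₀) * t₀ + ∑ t ∈ s', algebraMap Λ R (f t) * t := by
    rw [hs', Finset.add_sum_erase s (fun t => algebraMap Λ R (f t) * t) ht₀]
  have hrest : (∑ t ∈ s', algebraMap Λ R (f t) * t) ∈ K := by
    refine Ideal.sum_mem _ fun t ht => ?_
    exact Ideal.mul_mem_left _ _ (Ideal.mem_sup_left (Ideal.subset_span ht))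
  have hut : algebraMap Λ R (f t₀) * t₀ ∈ K ⊔ maximalIdeal R ^ 2 := by
    have h1 : algebraMap Λ R (f t₀) * t₀ =
        (∑ t ∈ s, algebraMap Λ R (f t) * t) - ∑ t ∈ s', algebraMap Λ R (f t) * t := by
      rw [hsum]; ring
    rw [h1]
    refine Ideal.sub_mem _ ?_ (Ideal.mem_sup_left hrest)
    rcases Submodule.mem_sup.mp hf with ⟨a, ha, b, hb, hab⟩
    rw [← hab]
    exact Ideal.add_mem _ (Ideal.mem_sup_right ha) (Ideal.mem_sup_left (Ideal.mem_sup_right hb))
  have ht₀K : t₀ ∈ K ⊔ maximalIdeal R ^ 2 := by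
    have hu' : IsUnit (algebraMap Λ R (f t₀)) := hu.map _
    obtain ⟨v, hv⟩ := hu'.exists_left_inv
    have : t₀ = v * (algebraMap Λ R (f t₀) * t₀) := by
      rw [← mul_assoc, hv, one_mul]
    rw [this]
    exact Ideal.mul_mem_left _ _ hut
  have hspan : Ideal.span (↑s : Set R) ≤ K ⊔ maximalIdeal R ^ 2 := by
    rw [Ideal.span_le]
    intro t ht
    by_cases htt : t = t₀
    · rw [htt]; exact ht₀K
    · exact Ideal.mem_sup_left (Ideal.mem_sup_left (Ideal.subset_span
        (Finset.mem_erase.mpr ⟨htt, ht⟩)))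
  have hle : maximalIdeal R ≤ K ⊔ maximalIdeal R • maximalIdeal R := by
    have : maximalIdeal R • maximalIdeal R = maximalIdeal R ^ 2 := by
      rw [smul_eq_mul, pow_two]
    rw [this]
    refine hs.2.trans (sup_le hspan ?_)
    exact le_sup_of_le_left le_sup_right
  have hnak : maximalIdeal R ≤ K :=
    Submodule.le_of_le_smul_of_le_jacobson_bot (IsNoetherian.noetherian _)
      (IsLocalRing.jacobson_eq_maximalIdeal ⊥ bot_ne_top).ge hle
  have hmem : s' ∈ 𝒮 := by
    refine ⟨?_, hnak⟩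
    intro x hx
    exact hs.1 (Finset.mem_of_mem_erase hx)
  exact hmin s' hmem (Finset.card_erase_lt_of_mem ht₀)

end MinGens



section Decomp

open MvPolynomial

theorem mvPolynomial_decomp {σ : Type*} [Fintype σ] [DecidableEq σ] {Λ : Type*} [CommRing Λ]
    (p : MvPolynomial σ Λ) :
    ∃ (c : Λ) (l : σ → Λ) (h : MvPolynomial σ Λ), h ∈ idealOfVars σ Λ ^ 2 ∧
      p = C c + ∑ t, C (l t) * X t + h := by
  induction p using MvPolynomial.induction_on with
  | C a => exact ⟨a, 0, 0, Ideal.zero_mem _, by simp⟩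
  | add p q hp hq =>
    obtain ⟨c₁, l₁, h₁, hh₁, e₁⟩ := hp
    obtain ⟨c₂, l₂, h₂, hh₂, e₂⟩ := hq
    refine ⟨c₁ + c₂, l₁ + l₂, h₁ + h₂, Ideal.add_mem _ hh₁ hh₂, ?_⟩
    rw [e₁, e₂]
    simp only [Pi.add_apply, map_add, add_mul, Finset.sum_add_distrib]
    ring
  | mul_X p n hp =>
    obtain ⟨c, l, h, hh, e⟩ := hp
    have hX : ∀ t, (X t : MvPolynomial σ Λ) ∈ idealOfVars σ Λ := fun t =>
      Ideal.subset_span ⟨t, rfl⟩
    refine ⟨0, (Pi.single n c : σ → Λ), (∑ t, C (l t) * X t) * X n + h * X n, ?_, ?_⟩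
    · refine Ideal.add_mem _ ?_ ?_
      · rw [Finset.sum_mul]
        refine Ideal.sum_mem _ fun t _ => ?_
        rw [mul_assoc, pow_two]
        exact Ideal.mul_mem_left _ _ (Ideal.mul_mem_mul (hX t) (hX n))
      · exact Ideal.mul_mem_right _ _ hh
    · rw [e]
      have : ∑ t, C ((Pi.single n c : σ → Λ) t) * X t = (C c * X n : MvPolynomial σ Λ) := by
        rw [Finset.sum_eq_single n]
        · simp
        · intro b _ hb
          simp [Pi.single_eq_of_ne hb]
        · intro hn; exact absurd (Finset.mem_univ n) hn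
      rw [this]
      simp only [map_zero, zero_add]
      ring

end Decomp


section Versal

open IsLocalRing Art

variable {Λ k : Type u} [CommRing Λ] [IsLocalRing Λ] [IsNoetherianRing Λ] [Field k] [Algebra Λ k]

theorem algebraMap_mem_maximalIdeal (hk : Function.Surjective (algebraMap Λ k)) (R : Art Λ k)
    {l : Λ} (hl : l ∈ maximalIdeal Λ) : algebraMap Λ R l ∈ maximalIdeal R := by
  rw [Art.mem_maximalIdeal_iff, AlgHom.commutes]
  have hmax : (RingHom.ker (algebraMap Λ k)).IsMaximal :=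
    RingHom.ker_isMaximal_of_surjective _ hk
  have : l ∈ RingHom.ker (algebraMap Λ k) := by
    rw [IsLocalRing.eq_maximalIdeal hmax]; exact hl
  exact this

theorem mem_maximalIdeal_of_algebraMap_eq_zero (hk : Function.Surjective (algebraMap Λ k))
    {l : Λ} (hl : algebraMap Λ k l = 0) : l ∈ maximalIdeal Λ := by
  have hmax : (RingHom.ker (algebraMap Λ k)).IsMaximal :=
    RingHom.ker_isMaximal_of_surjective _ hk
  rw [← IsLocalRing.eq_maximalIdeal hmax]
  exact hl

/-- A versal semismall extension of `R` inducing an injection on relative cotangent spaces;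
when `Λ` is a field and `R` is not `k`, its kernel is not zero. -/
theorem exists_versal_semismall_aux (hk : Function.Surjective (algebraMap Λ k)) (R : Art Λ k) :
    ∃ (B : Art Λ k) (p : B ⟶ R), IsSemismallExt p ∧
      (RingHom.ker p.toAlgHom ≤ maximalIdeal (B : Type u) ^ 2 ⊔
        (maximalIdeal Λ).map (algebraMap Λ B)) ∧
      (∀ (R₁ : Art Λ k) (π₁ : R₁ ⟶ R), IsSemismallExt π₁ → ∃ g : B ⟶ R₁, g ≫ π₁ = p) ∧
      (maximalIdeal Λ = ⊥ → maximalIdeal (R : Type u) ≠ ⊥ → RingHom.ker p.toAlgHom ≠ ⊥) := by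
  classical
  set 𝔫 : Ideal (R : Type u) := (maximalIdeal Λ).map (algebraMap Λ R) with h𝔫
  obtain ⟨s, hsm, hgen, hind⟩ := exists_min_gens (Λ := Λ) (R := (R : Type u)) 𝔫
  obtain ⟨N', hN'⟩ := exists_maximalIdeal_pow_eq_bot R
  obtain ⟨N, hN⟩ : ∃ N : ℕ, maximalIdeal (R : Type u) ^ N = ⊥ := ⟨N' + 1, hN'⟩
  -- the presentation
  let σ : Type u := ↥s
  let π : MvPolynomial σ Λ →ₐ[Λ] R := MvPolynomial.aeval (fun t : σ => (t : R))
  have hπX : ∀ t : σ, π (MvPolynomial.X t) = (t : R) := fun t => MvPolynomial.aeval_X _ t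
  have h0 : ∀ x : R, ∃ l : Λ, x - algebraMap Λ R l ∈ maximalIdeal (R : Type u) := by
    intro x
    obtain ⟨l, hl⟩ := hk (R.res x)
    refine ⟨l, ?_⟩
    rw [Art.mem_maximalIdeal_iff, map_sub, AlgHom.commutes, hl, sub_self]
  have hπsurj : Function.Surjective π := by
    have htop : π.range = ⊤ := by
      apply subalgebra_eq_top_of_span_inter π.range N hN h0
      refine hgen.trans (sup_le ?_ ?_)
      · apply Ideal.span_mono
        intro t ht
        exact ⟨⟨MvPolynomial.X ⟨t, ht⟩, hπX ⟨t, ht⟩⟩, hsm ht⟩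
      · rw [h𝔫, Ideal.map_le_iff_le_comap]
        intro l hl
        exact Ideal.subset_span ⟨π.range.algebraMap_mem l, algebraMap_mem_maximalIdeal hk R hl⟩
    intro x
    have : x ∈ π.range := by rw [htop]; trivial
    exact this
  -- ideals of the polynomial ring
  let ρ₀ : MvPolynomial σ Λ →ₐ[Λ] k := R.res.comp π
  have hρ₀surj : Function.Surjective ρ₀ := R.res_surjective.comp hπsurj
  set 𝔪 : Ideal (MvPolynomial σ Λ) := RingHom.ker (ρ₀ : MvPolynomial σ Λ →+* k) with h𝔪
  set J₀ : Ideal (MvPolynomial σ Λ) := RingHom.ker (π : MvPolynomial σ Λ →+* R) with hJ₀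
  set I : Ideal (MvPolynomial σ Λ) := 𝔪 * J₀ with hI
  have hmem𝔪 : ∀ x, x ∈ 𝔪 ↔ π x ∈ maximalIdeal (R : Type u) := by
    intro x
    rw [Art.mem_maximalIdeal_iff]
    rfl
  have h𝔪pow : 𝔪 ^ N ≤ J₀ := by
    have h1 : 𝔪 = Ideal.comap (π : MvPolynomial σ Λ →+* R) (maximalIdeal (R : Type u)) := by
      ext x
      rw [hmem𝔪, Ideal.mem_comap]
      rfl
    rw [h1]
    refine (Ideal.le_comap_pow _ N).trans ?_
    rw [hN]
    exact le_of_eq rfl
  have hIle𝔪 : I ≤ 𝔪 := Ideal.mul_le_left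
  have hIleJ : I ≤ J₀ := Ideal.mul_le_right
  have hpowI : 𝔪 ^ (N + 1) ≤ I := by
    rw [pow_succ']
    exact Ideal.mul_mono_right h𝔪pow
  -- the quotient ring
  let ρ : (MvPolynomial σ Λ ⧸ I) →ₐ[Λ] k :=
    Ideal.Quotient.liftₐ I ρ₀ (fun x hx => hIle𝔪 hx)
  have hρmk : ∀ x, ρ (Ideal.Quotient.mk I x) = ρ₀ x := fun x => rfl
  have hρsurj : Function.Surjective ρ := by
    intro c
    obtain ⟨x, hx⟩ := hρ₀surj c
    exact ⟨Ideal.Quotient.mk I x, hx⟩
  have hkerρ : RingHom.ker (ρ : (MvPolynomial σ Λ ⧸ I) →+* k) ≤ 𝔪.map (Ideal.Quotient.mk I) := by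
    intro z hz
    obtain ⟨x, rfl⟩ := Ideal.Quotient.mk_surjective z
    exact Ideal.mem_map_of_mem _ (show x ∈ 𝔪 from hz)
  have hkerpow : RingHom.ker (ρ : (MvPolynomial σ Λ ⧸ I) →+* k) ^ (N + 1) = ⊥ := by
    rw [eq_bot_iff]
    refine (Ideal.pow_right_mono hkerρ (N + 1)).trans ?_
    rw [← Ideal.map_pow]
    refine (Ideal.map_mono hpowI).trans ?_
    rw [Ideal.map_quotient_self]
  let B : Art Λ k := artOfNil (MvPolynomial σ Λ ⧸ I) ρ hρsurj (N + 1) hkerpow
  -- the projection to `R`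
  let pA : (MvPolynomial σ Λ ⧸ I) →ₐ[Λ] R := Ideal.Quotient.liftₐ I π (fun x hx => hIleJ hx)
  have hpAmk : ∀ x, pA (Ideal.Quotient.mk I x) = π x := fun x => rfl
  have hpAres : R.res.comp pA = ρ := by
    apply AlgHom.ext
    intro z
    obtain ⟨x, rfl⟩ := Ideal.Quotient.mk_surjective z
    rfl
  let p : B ⟶ R := Art.homMk pA hpAres
  have hp_apply : ∀ z : (MvPolynomial σ Λ ⧸ I), p z = pA z := fun z => rfl
  have hBres : ∀ z : (MvPolynomial σ Λ ⧸ I), B.res z = ρ z := fun z => rfl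
  have hmB : ∀ z : (B : Type u), z ∈ maximalIdeal (B : Type u) →
      ∃ x ∈ 𝔪, (Ideal.Quotient.mk I x : (B : Type u)) = z := by
    intro z hz
    have hz' := (Art.mem_maximalIdeal_iff B z).mp hz
    obtain ⟨x, rfl⟩ := Ideal.Quotient.mk_surjective (I := I) z
    exact ⟨x, hz', rfl⟩
  have hmk_mem_mB : ∀ x ∈ 𝔪, (Ideal.Quotient.mk I x : (B : Type u)) ∈ maximalIdeal (B : Type u) := by
    intro x hx
    exact (Art.mem_maximalIdeal_iff B _).mpr hx
  have hkerp : ∀ z : (B : Type u), z ∈ RingHom.ker p.toAlgHom →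
      ∃ y ∈ J₀, (Ideal.Quotient.mk I y : (B : Type u)) = z := by
    intro z hz
    obtain ⟨y, rfl⟩ := Ideal.Quotient.mk_surjective (I := I) z
    exact ⟨y, hz, rfl⟩
  refine ⟨B, p, ⟨?_, ?_⟩, ?_, ?_, ?_⟩
  · -- surjective
    intro r
    obtain ⟨x, hx⟩ := hπsurj r
    exact ⟨Ideal.Quotient.mk I x, hx⟩
  · -- m * ker = 0
    rw [eq_bot_iff, Ideal.mul_le]
    intro b hb c hc
    obtain ⟨x, hx, rfl⟩ := hmB b hb
    obtain ⟨y, hy, rfl⟩ := hkerp c hc
    rw [Ideal.mem_bot]
    show Ideal.Quotient.mk I x * Ideal.Quotient.mk I y = (0 : MvPolynomial σ Λ ⧸ I)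
    rw [← map_mul, Ideal.Quotient.eq_zero_iff_mem]
    exact Ideal.mul_mem_mul hx hy
  · -- cotangent condition
    intro z hz
    obtain ⟨y, hy, rfl⟩ := hkerp z hz
    obtain ⟨c₀, l, h, hh, e⟩ := mvPolynomial_decomp y
    have hπy : π y = 0 := hy
    have hvars : Ideal.map (π : MvPolynomial σ Λ →+* R) (MvPolynomial.idealOfVars σ Λ) ≤
        maximalIdeal (R : Type u) := by
      rw [Ideal.map_le_iff_le_comap, Ideal.span_le]
      rintro _ ⟨t, rfl⟩
      show π (MvPolynomial.X t) ∈ maximalIdeal (R : Type u)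
      rw [hπX]
      exact hsm t.2
    have hπh : π h ∈ maximalIdeal (R : Type u) ^ 2 := by
      have h1 : π h ∈ Ideal.map (π : MvPolynomial σ Λ →+* R) (MvPolynomial.idealOfVars σ Λ ^ 2) :=
        Ideal.mem_map_of_mem _ hh
      rw [Ideal.map_pow] at h1
      exact Ideal.pow_right_mono hvars 2 h1
    have hexp : algebraMap Λ R c₀ + ∑ t : σ, algebraMap Λ R (l t) * (t : R) + π h = 0 := by
      rw [← hπy, e]
      simp only [map_add, map_sum, map_mul, hπX]
      congr 2
      · exact (MvPolynomial.aeval_C _ c₀).symm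
      · refine Finset.sum_congr rfl fun t _ => ?_
        congr 1
        exact (MvPolynomial.aeval_C _ (l t)).symm
    have hsum_mem : ∑ t : σ, algebraMap Λ R (l t) * (t : R) ∈ maximalIdeal (R : Type u) :=
      Ideal.sum_mem _ fun t _ => Ideal.mul_mem_left _ _ (hsm t.2)
    have hc₀R : algebraMap Λ R c₀ ∈ maximalIdeal (R : Type u) := by
      have : algebraMap Λ R c₀ = -(∑ t : σ, algebraMap Λ R (l t) * (t : R) + π h) := by
        rw [eq_neg_iff_add_eq_zero, ← add_assoc]; exact hexp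
      rw [this]
      exact Ideal.neg_mem_iff _ |>.mpr (Ideal.add_mem _ hsum_mem (Ideal.pow_le_self two_ne_zero hπh))
    have hc₀ : c₀ ∈ maximalIdeal Λ := by
      apply mem_maximalIdeal_of_algebraMap_eq_zero hk
      have := (Art.mem_maximalIdeal_iff R _).mp hc₀R
      rwa [AlgHom.commutes] at this
    have hsum2 : ∑ t : σ, algebraMap Λ R (l t) * (t : R) ∈ maximalIdeal (R : Type u) ^ 2 ⊔ 𝔫 := by
      have : ∑ t : σ, algebraMap Λ R (l t) * (t : R) = -(π h) + -(algebraMap Λ R c₀) := by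
        rw [← neg_add, eq_neg_iff_add_eq_zero]
        rw [← hexp]; ring
      rw [this]
      refine Ideal.add_mem _ (Ideal.mem_sup_left ((Ideal.neg_mem_iff _).mpr hπh))
        (Ideal.mem_sup_right ((Ideal.neg_mem_iff _).mpr ?_))
      exact Ideal.mem_map_of_mem _ hc₀
    let f : R.carrier → Λ := fun r => if hr : r ∈ s then l ⟨r, hr⟩ else 0
    have hfsum : ∑ t ∈ s, algebraMap Λ R (f t) * t = ∑ t : σ, algebraMap Λ R (l t) * (t : R) := by
      rw [← Finset.sum_attach s (fun t => algebraMap Λ R (f t) * t), Finset.univ_eq_attach]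
      refine Finset.sum_congr rfl fun t _ => ?_
      have : f (t : R) = l t := by
        show (if hr : (t : R) ∈ s then l ⟨t, hr⟩ else 0) = l t
        rw [dif_pos t.2]
      rw [this]
    have hl : ∀ t : σ, l t ∈ maximalIdeal Λ := by
      intro t
      have := hind f (by rw [hfsum]; exact hsum2) t t.2
      have hft : f (t : R) = l t := by
        show (if hr : (t : R) ∈ s then l ⟨t, hr⟩ else 0) = l t
        rw [dif_pos t.2]
      rwa [hft] at this
    -- now assemble
    let mkB : MvPolynomial σ Λ →+* B.carrier := Ideal.Quotient.mk I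
    have hvarsB : Ideal.map mkB (MvPolynomial.idealOfVars σ Λ) ≤ maximalIdeal B.carrier := by
      rw [Ideal.map_le_iff_le_comap, Ideal.span_le]
      rintro _ ⟨t, rfl⟩
      apply hmk_mem_mB
      rw [hmem𝔪, hπX]
      exact hsm t.2
    have hmkh : mkB h ∈ maximalIdeal B.carrier ^ 2 := by
      have h1 : mkB h ∈ Ideal.map mkB (MvPolynomial.idealOfVars σ Λ ^ 2) :=
        Ideal.mem_map_of_mem _ hh
      rw [Ideal.map_pow] at h1
      exact Ideal.pow_right_mono hvarsB 2 h1
    have hCmem : ∀ c ∈ maximalIdeal Λ, mkB (MvPolynomial.C c) ∈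
        (maximalIdeal Λ).map (algebraMap Λ B.carrier) := by
      intro c hc
      exact Ideal.mem_map_of_mem (algebraMap Λ B.carrier) hc
    show mkB y ∈ _
    rw [e]
    simp only [map_add, map_sum, map_mul]
    refine Ideal.add_mem _ (Ideal.add_mem _ (Ideal.mem_sup_right (hCmem c₀ hc₀)) ?_)
      (Ideal.mem_sup_left hmkh)
    refine Ideal.sum_mem _ fun t _ => ?_
    exact Ideal.mem_sup_right (Ideal.mul_mem_right _ _ (hCmem (l t) (hl t)))
  · -- versality
    intro R₁ π₁ hπ₁
    have hlift : ∀ t : σ, ∃ y : (R₁ : Type u), π₁ y = (t : R) := fun t => hπ₁.1 t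
    choose ℓ hℓ using hlift
    let g₀ : MvPolynomial σ Λ →ₐ[Λ] R₁ := MvPolynomial.aeval ℓ
    have hcomp : π₁.toAlgHom.comp g₀ = π := by
      apply MvPolynomial.algHom_ext
      intro t
      show π₁ (MvPolynomial.aeval ℓ (MvPolynomial.X t)) = π (MvPolynomial.X t)
      rw [MvPolynomial.aeval_X, hℓ, hπX]
    have hcomp_apply : ∀ x, π₁ (g₀ x) = π x := fun x => congrArg (fun φ => φ x) hcomp
    have hres : ∀ x, R₁.res (g₀ x) = ρ₀ x := by
      intro x
      rw [← Art.res_app π₁ (g₀ x), hcomp_apply]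
      rfl
    have hg₀I : ∀ x ∈ I, g₀ x = 0 := by
      have : I ≤ RingHom.ker (g₀ : MvPolynomial σ Λ →+* R₁) := by
        rw [hI, Ideal.mul_le]
        intro x hx y hy
        rw [RingHom.mem_ker, map_mul]
        have h1 : (g₀ : MvPolynomial σ Λ →+* R₁) x ∈ maximalIdeal (R₁ : Type u) := by
          apply (Art.mem_maximalIdeal_iff R₁ _).mpr
          exact (hres x).trans hx
        have h2 : (g₀ : MvPolynomial σ Λ →+* R₁) y ∈ RingHom.ker π₁.toAlgHom := by
          rw [RingHom.mem_ker]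
          exact (hcomp_apply y).trans hy
        have h3 := Ideal.mul_mem_mul h1 h2
        rw [hπ₁.2, Ideal.mem_bot] at h3
        exact h3
      exact fun x hx => this hx
    let gA : (MvPolynomial σ Λ ⧸ I) →ₐ[Λ] R₁ := Ideal.Quotient.liftₐ I g₀ hg₀I
    have hgAres : R₁.res.comp gA = ρ := by
      apply AlgHom.ext
      intro z
      obtain ⟨x, rfl⟩ := Ideal.Quotient.mk_surjective z
      exact hres x
    refine ⟨Art.homMk gA hgAres, ?_⟩
    apply Art.hom_ext
    apply AlgHom.ext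
    intro z
    obtain ⟨x, rfl⟩ := Ideal.Quotient.mk_surjective (I := I) z
    exact hcomp_apply x
  · -- the kernel is not zero over a field
    intro hΛ hmR hker
    have hne : s.Nonempty := by
      by_contra hs
      rw [Finset.not_nonempty_iff_eq_empty] at hs
      apply hmR
      rw [eq_bot_iff]
      refine hgen.trans ?_
      rw [hs, h𝔫, hΛ]
      simp
    obtain ⟨t₀, ht₀⟩ := hne
    let t : σ := ⟨t₀, ht₀⟩
    have hle : J₀ ≤ 𝔪 • J₀ := by
      intro y hy
      have h1 : (Ideal.Quotient.mk I y : (B : Type u)) ∈ RingHom.ker p.toAlgHom := hy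
      rw [hker] at h1
      have h2 : (Ideal.Quotient.mk I y : MvPolynomial σ Λ ⧸ I) = 0 := h1
      exact Ideal.Quotient.eq_zero_iff_mem.mp h2
    have hfg : (J₀ : Submodule (MvPolynomial σ Λ) (MvPolynomial σ Λ)).FG :=
      IsNoetherian.noetherian J₀
    obtain ⟨r, hr1, hr0⟩ :=
      Submodule.exists_sub_one_mem_and_smul_eq_zero_of_fg_of_le_smul 𝔪 J₀ hfg hle
    have hX𝔪 : (MvPolynomial.X t : MvPolynomial σ Λ) ∈ 𝔪 := by
      rw [hmem𝔪, hπX]
      exact hsm t.2
    have hXN : (MvPolynomial.X t : MvPolynomial σ Λ) ^ N ∈ J₀ :=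
      h𝔪pow (Ideal.pow_mem_pow hX𝔪 N)
    have hr : r = 0 := by
      have h2 := hr0 _ hXN
      rw [smul_eq_mul] at h2
      exact (MvPolynomial.isRegular_X_pow N).right.eq_iff.mp (by rw [h2, zero_mul])
    have h1𝔪 : (1 : MvPolynomial σ Λ) ∈ 𝔪 := by
      have := 𝔪.neg_mem hr1
      rwa [hr, zero_sub, neg_neg] at this
    have h10 : ρ₀ 1 = 0 := h1𝔪
    rw [map_one] at h10
    exact one_ne_zero h10

/-- A versal semismall extension of `R` inducing an injection on relative cotangent spaces. -/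
theorem exists_versal_semismall (hk : Function.Surjective (algebraMap Λ k)) (R : Art Λ k) :
    ∃ (B : Art Λ k) (p : B ⟶ R), IsSemismallExt p ∧
      (RingHom.ker p.toAlgHom ≤ maximalIdeal (B : Type u) ^ 2 ⊔
        (maximalIdeal Λ).map (algebraMap Λ B)) ∧
      ∀ (R₁ : Art Λ k) (π₁ : R₁ ⟶ R), IsSemismallExt π₁ → ∃ g : B ⟶ R₁, g ≫ π₁ = p := by
  obtain ⟨B, p, h1, h2, h3, _⟩ := exists_versal_semismall_aux hk R
  exact ⟨B, p, h1, h2, h3⟩

end Versal

end Groth.Agent.Lib.Helper94
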