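import Mathlib
import Groth.Prelude.Def_Disc

/-!
# Associated primes of `ω = Hom_A(B, A)` for a finite map of Noetherian rings
-/

set_option autoImplicit false

namespace Groth.Agent.Lib.Helper94.AssOmega

open Submodule

universe u v

/-- For a finite extension of domains `R ⊆ D` there is an `R`-linear functional on `D` not
vanishing at `1`. -/
theorem exists_functional_one_ne_zero (R D : Type*) [CommRing R] [IsDomain R] [CommRing D]
    [IsDomain D] [Algebra R D] [FaithfulSMul R D] [Module.Finite R D] :
    ∃ ψ : D →ₗ[R] R, ψ 1 ≠ 0 := by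
  classical
  let K := FractionRing R
  let L := FractionRing D
  haveI : FaithfulSMul R L := by
    rw [faithfulSMul_iff_algebraMap_injective, IsScalarTower.algebraMap_eq R D L]
    exact (IsFractionRing.injective D L).comp (FaithfulSMul.algebraMap_injective R D)
  letI : Algebra K L := FractionRing.liftAlgebra R L
  haveI : IsScalarTower R K L := FractionRing.isScalarTower_liftAlgebra R L
  obtain ⟨l, hl⟩ : ∃ l : L →ₗ[K] K, l 1 ≠ 0 := by
    by_contra h
    push Not at h
    exact one_ne_zero ((Module.forall_dual_apply_eq_zero_iff K (1 : L)).mp h)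
  let g : D →ₗ[R] K := (l.restrictScalars R) ∘ₗ (IsScalarTower.toAlgHom R D L).toLinearMap
  have hg1 : g 1 = l 1 := by simp [g]
  obtain ⟨t, ht⟩ := (Module.finite_def.mp (inferInstance : Module.Finite R D))
  obtain ⟨s, hs⟩ := IsLocalization.exist_integer_multiples_of_finset (nonZeroDivisors R)
    (t.image g)
  have hmem : ∀ d : D, (s : R) • g d ∈ LinearMap.range (Algebra.linearMap R K) := by
    intro d
    have hd : d ∈ span R (t : Set D) := by rw [ht]; trivial
    induction hd using Submodule.span_induction with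
    | mem x hx =>
      obtain ⟨a, ha⟩ := hs (g x) (Finset.mem_image_of_mem g hx)
      exact ⟨a, ha⟩
    | zero => simp
    | add x y _ _ hx hy => rw [map_add, smul_add]; exact add_mem hx hy
    | smul a x _ hx => rw [map_smul, smul_comm]; exact Submodule.smul_mem _ a hx
  have hinj : Function.Injective (Algebra.linearMap R K) := IsFractionRing.injective R K
  let e := LinearEquiv.ofInjective (Algebra.linearMap R K) hinj
  let ψ : D →ₗ[R] R := e.symm.toLinearMap ∘ₗ
    LinearMap.codRestrict (LinearMap.range (Algebra.linearMap R K)) ((s : R) • g) hmem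
  have hψ : ∀ d, algebraMap R K (ψ d) = (s : R) • g d := by
    intro d
    have := e.apply_symm_apply
      (LinearMap.codRestrict (LinearMap.range (Algebra.linearMap R K)) ((s : R) • g) hmem d)
    have h2 := congrArg Subtype.val this
    rw [LinearEquiv.ofInjective_apply] at h2
    exact h2
  refine ⟨ψ, fun h0 => ?_⟩
  have := hψ 1
  rw [h0, map_zero, hg1, Algebra.smul_def] at this
  rcases mul_eq_zero.mp this.symm with h | h
  · exact nonZeroDivisors.coe_ne_zero s (hinj (by simpa using h))
  · exact hl h

/-- For a finite extension of domains `R ⊆ D` there is an `R`-linear functional `ψ` on `D` with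
`ψ (d * ·) ≠ 0` for every nonzero `d`. -/
theorem exists_functional_faithful (R D : Type*) [CommRing R] [IsDomain R] [CommRing D]
    [IsDomain D] [Algebra R D] [FaithfulSMul R D] [Module.Finite R D] :
    ∃ ψ : D →ₗ[R] R, ∀ d : D, d ≠ 0 → ∃ y : D, ψ (d * y) ≠ 0 := by
  obtain ⟨ψ, hψ⟩ := exists_functional_one_ne_zero R D
  refine ⟨ψ, fun d hd => ?_⟩
  have hne : (Ideal.span {d}).comap (algebraMap R D) ≠ ⊥ :=
    Ideal.comap_ne_bot_of_integral_mem hd (Ideal.subset_span rfl) (Algebra.IsIntegral.isIntegral d)
  obtain ⟨a, ha, ha0⟩ := Submodule.exists_mem_ne_zero_of_ne_bot hne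
  rw [Ideal.mem_comap, Ideal.mem_span_singleton'] at ha
  obtain ⟨y, hy⟩ := ha
  refine ⟨y, ?_⟩
  rw [mul_comm, hy, Algebra.algebraMap_eq_smul_one, map_smul, smul_eq_mul]
  exact mul_ne_zero ha0 hψ

variable {A : Type u} {B : Type v} [CommRing A] [CommRing B] [Algebra A B]

theorem mem_colon_omega (φ : Disc.Omega A B) (b : B) :
    b ∈ (⊥ : Submodule B (Disc.Omega A B)).colon {φ} ↔ ∀ y, φ.toLinearMap (b * y) = 0 := by
  rw [Submodule.mem_colon_singleton, Submodule.mem_bot]
  constructor
  · intro h y
    have := congrArg (fun ω => ω.toLinearMap y) h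
    simpa using this
  · intro h
    apply Disc.Omega.ext
    ext y
    simpa using h y

theorem associatedPrimes_omega_subset [IsNoetherianRing A] [IsNoetherianRing B] (q : Ideal B)
    (hq : q ∈ associatedPrimes B (Disc.Omega A B)) :
    q.comap (algebraMap A B) ∈ associatedPrimes A A := by
  classical
  rw [AssociatedPrimes.mem_iff, isAssociatedPrime_iff] at hq
  obtain ⟨hqp, φ, hφ⟩ := hq
  have hpp : (q.comap (algebraMap A B)).IsPrime := Ideal.comap_isPrime _ _
  obtain ⟨s, hs⟩ := IsNoetherian.noetherian (LinearMap.range φ.toLinearMap)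
  have hmem : ∀ a : A, a ∈ q.comap (algebraMap A B) ↔ ∀ y ∈ s, a * y = 0 := by
    intro a
    rw [Ideal.mem_comap, hφ, mem_colon_omega]
    constructor
    · intro h y hy
      have hy' : y ∈ LinearMap.range φ.toLinearMap := by rw [← hs]; exact Submodule.subset_span hy
      obtain ⟨x, rfl⟩ := hy'
      have := h x
      rwa [← Algebra.smul_def, map_smul, smul_eq_mul] at this
    · intro h x
      rw [← Algebra.smul_def, map_smul, smul_eq_mul]
      have hx : φ.toLinearMap x ∈ span A (s : Set A) := by rw [hs]; exact ⟨x, rfl⟩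
      generalize φ.toLinearMap x = z at hx
      induction hx using Submodule.span_induction with
      | mem y hy => exact h y hy
      | zero => simp
      | add y z _ _ hy hz => rw [mul_add, hy, hz, add_zero]
      | smul c y _ hy => rw [smul_eq_mul, mul_left_comm, hy, mul_zero]
  have hle : s.inf (fun y => (⊥ : Submodule A A).colon {y}) ≤ q.comap (algebraMap A B) := by
    intro a ha
    rw [hmem]
    intro y hy
    have := (Submodule.mem_finsetInf.mp ha) y hy
    rwa [Submodule.mem_colon_singleton, Submodule.mem_bot, smul_eq_mul] at this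
  obtain ⟨y, hy, hyle⟩ := (Ideal.IsPrime.inf_le' hpp).mp hle
  rw [AssociatedPrimes.mem_iff, isAssociatedPrime_iff]
  refine ⟨hpp, y, le_antisymm ?_ hyle⟩
  intro a ha
  rw [Submodule.mem_colon_singleton, Submodule.mem_bot, smul_eq_mul]
  exact (hmem a).mp ha y hy

theorem mem_associatedPrimes_omega [IsNoetherianRing A] [IsNoetherianRing B] [Module.Finite A B]
    (q : Ideal B) [hq : q.IsPrime]
    (hp : q.comap (algebraMap A B) ∈ associatedPrimes A A) :
    q ∈ associatedPrimes B (Disc.Omega A B) := by
  classical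
  set p := q.comap (algebraMap A B) with hpdef
  have hpp : p.IsPrime := Ideal.comap_isPrime _ _
  haveI : q.LiesOver p := ⟨rfl⟩
  rw [AssociatedPrimes.mem_iff, isAssociatedPrime_iff] at hp
  obtain ⟨_, x, hx⟩ := hp
  have hxmem : ∀ a : A, a ∈ p ↔ a * x = 0 := by
    intro a
    rw [hx, Submodule.mem_colon_singleton, Submodule.mem_bot, smul_eq_mul]
  obtain ⟨ψ, hψ⟩ := exists_functional_faithful (A ⧸ p) (B ⧸ q)
  -- ι : A ⧸ p → A, multiplication by x
  let ι : (A ⧸ p) →ₗ[A] A := Submodule.liftQ p (LinearMap.toSpanSingleton A A x) (by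
    intro a ha
    rw [LinearMap.mem_ker, LinearMap.toSpanSingleton_apply, smul_eq_mul]
    exact (hxmem a).mp ha)
  have hι : ∀ a : A, ι (Ideal.Quotient.mk p a) = a * x := by
    intro a
    change ι (Submodule.Quotient.mk a) = _
    rw [Submodule.liftQ_apply, LinearMap.toSpanSingleton_apply, smul_eq_mul]
  have hιinj : ∀ z : A ⧸ p, ι z = 0 → z = 0 := by
    intro z hz
    obtain ⟨a, rfl⟩ := Ideal.Quotient.mk_surjective z
    rw [hι] at hz
    rw [Ideal.Quotient.eq_zero_iff_mem]
    exact (hxmem a).mpr hz
  let φ : B →ₗ[A] A := ι ∘ₗ (ψ.restrictScalars A) ∘ₗ (Ideal.Quotient.mkₐ A q).toLinearMap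
  have hφ : ∀ b, φ b = ι (ψ (Ideal.Quotient.mk q b)) := fun b => rfl
  rw [AssociatedPrimes.mem_iff, isAssociatedPrime_iff]
  refine ⟨hq, ⟨φ⟩, ?_⟩
  ext b
  rw [mem_colon_omega]
  constructor
  · intro hb y
    change φ (b * y) = 0
    rw [hφ, map_mul, Ideal.Quotient.eq_zero_iff_mem.mpr hb, zero_mul, map_zero, map_zero]
  · intro h
    by_contra hb
    have hb0 : Ideal.Quotient.mk q b ≠ 0 := fun h0 => hb (Ideal.Quotient.eq_zero_iff_mem.mp h0)
    obtain ⟨y, hy⟩ := hψ _ hb0
    obtain ⟨y, rfl⟩ := Ideal.Quotient.mk_surjective y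
    apply hy
    apply hιinj
    have := h y
    change φ (b * y) = 0 at this
    rwa [hφ, map_mul] at this


theorem associatedPrimes_omega [IsNoetherianRing A] [IsNoetherianRing B] [Module.Finite A B] :
    associatedPrimes B (Disc.Omega A B) =
      {q : Ideal B | q.IsPrime ∧ q.comap (algebraMap A B) ∈ associatedPrimes A A} := by
  ext q
  constructor
  · intro hq
    exact ⟨hq.isPrime, associatedPrimes_omega_subset q hq⟩
  · rintro ⟨hq, hp⟩
    exact mem_associatedPrimes_omega q hp

end Groth.Agent.Lib.Helper94.AssOmega
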