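import Mathlib
import Groth.Prelude.Def_QFDual
import Groth.Agent.Lib.Helper94.AssOmega

/-!
# Associated primes of `ω_{B/A} = B ⊗_{B'} Hom_A(B', A)` for a quasi-finite factorisation
-/

set_option autoImplicit false

namespace Groth.Agent.Lib.Helper94.AssOmega

open TensorProduct AlgebraicGeometry CategoryTheory

universe u

theorem bijective_localRingHom_of_isOpenImmersion {R S : Type u} [CommRing R] [CommRing S]
    [Algebra R S]
    (h : IsOpenImmersion (Spec.map (CommRingCat.ofHom (algebraMap R S)))) (q : Ideal S)
    [hq : q.IsPrime] :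
    Function.Bijective
      (Localization.localRingHom (q.comap (algebraMap R S)) q (algebraMap R S) rfl) := by
  let p : PrimeSpectrum S := ⟨q, hq⟩
  haveI := h
  have h1 : IsIso ((Spec.map (CommRingCat.ofHom (algebraMap R S))).stalkMap p) :=
    (IsOpenImmersion.iff_isIso_stalkMap.mp h).2 p
  have e := Scheme.arrowStalkMapSpecIso (CommRingCat.ofHom (algebraMap R S)) p
  have h2 : IsIso (CommRingCat.ofHom <| Localization.localRingHom
      (p.comap (CommRingCat.ofHom (algebraMap R S)).hom).asIdeal p.asIdeal
      (CommRingCat.ofHom (algebraMap R S)).hom rfl) := by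
    have := (MorphismProperty.isomorphisms (CommRingCat.{u})).arrow_mk_iso_iff e
    exact this.mp h1
  exact (ConcreteCategory.isIso_iff_bijective _).mp h2

/-- If `R → S` induces isomorphisms on all local rings of `S`, then the local ring of `S` at `q`
is a localization of `R` at the contraction of `q`. -/
theorem isLocalization_atPrime_of_bijective_localRingHom {R S : Type*} [CommRing R] [CommRing S]
    [Algebra R S] (q : Ideal S) [q.IsPrime]
    (hq : Function.Bijective
      (Localization.localRingHom (q.comap (algebraMap R S)) q (algebraMap R S) rfl)) :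
    IsLocalization (q.comap (algebraMap R S)).primeCompl (Localization.AtPrime q) := by
  let f : Localization.AtPrime (q.comap (algebraMap R S)) →ₐ[R] Localization.AtPrime q :=
    { Localization.localRingHom (q.comap (algebraMap R S)) q (algebraMap R S) rfl with
      commutes' := fun r => by
        change Localization.localRingHom (q.comap (algebraMap R S)) q (algebraMap R S) rfl
          (algebraMap R _ r) = _
        rw [Localization.localRingHom_to_map]
        exact (IsScalarTower.algebraMap_apply R S _ r).symm }
  exact IsLocalization.isLocalization_of_algEquiv _ (AlgEquiv.ofBijective f hq)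

theorem associatedPrimes_baseChange_of_bijective_localRingHom
    {R S : Type*} [CommRing R] [CommRing S] [Algebra R S] [IsNoetherianRing R]
    [IsNoetherianRing S]
    (hloc : ∀ (q : Ideal S) [q.IsPrime], Function.Bijective
      (Localization.localRingHom (q.comap (algebraMap R S)) q (algebraMap R S) rfl))
    (M : Type*) [AddCommGroup M] [Module R M] :
    associatedPrimes S (S ⊗[R] M) =
      {q | q.IsPrime ∧ q.comap (algebraMap R S) ∈ associatedPrimes R M} := by
  ext q
  by_cases hq : q.IsPrime
  swap
  · constructor
    · intro h; exact absurd h.isPrime hq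
    · intro h; exact absurd h.1 hq
  haveI := hq
  haveI := isLocalization_atPrime_of_bijective_localRingHom q (hloc q)
  let Sq := Localization.AtPrime q
  let f0 : M →ₗ[R] S ⊗[R] M := TensorProduct.mk R S M 1
  have hf0 : IsBaseChange S f0 := TensorProduct.isBaseChange R M S
  let f1 : M →ₗ[R] Sq ⊗[R] M := TensorProduct.mk R Sq M 1
  have hf1 : IsBaseChange Sq f1 := TensorProduct.isBaseChange R M Sq
  let f2 : S ⊗[R] M →ₗ[S] Sq ⊗[R] M :=
    TensorProduct.AlgebraTensorModule.map (Algebra.linearMap S Sq) LinearMap.id
  have hcomp : (f2.restrictScalars R) ∘ₗ f0 = f1 := by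
    ext m
    simp [f0, f1, f2]
  have hf2 : IsBaseChange Sq f2 := IsBaseChange.of_comp hf0 (by rw [hcomp]; exact hf1)
  haveI : IsLocalizedModule q.primeCompl f2 :=
    (isLocalizedModule_iff_isBaseChange q.primeCompl Sq f2).mpr hf2
  haveI : IsLocalizedModule (q.comap (algebraMap R S)).primeCompl f1 :=
    (isLocalizedModule_iff_isBaseChange (q.comap (algebraMap R S)).primeCompl Sq f1).mpr hf1
  have e1 := Module.associatedPrimes.preimage_comap_associatedPrimes_eq_associatedPrimes_of_isLocalizedModule
    q.primeCompl Sq f2
  have e2 := Module.associatedPrimes.preimage_comap_associatedPrimes_eq_associatedPrimes_of_isLocalizedModule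
    (q.comap (algebraMap R S)).primeCompl Sq f1
  have hm1 : (IsLocalRing.maximalIdeal Sq).comap (algebraMap S Sq) = q :=
    Localization.AtPrime.under_maximalIdeal
  have hm2 : (IsLocalRing.maximalIdeal Sq).comap (algebraMap R Sq) = q.comap (algebraMap R S) := by
    rw [IsScalarTower.algebraMap_eq R S Sq, ← Ideal.comap_comap, hm1]
  have h1 : q ∈ associatedPrimes S (S ⊗[R] M) ↔
      IsLocalRing.maximalIdeal Sq ∈ associatedPrimes Sq (Sq ⊗[R] M) := by
    rw [← e1, Set.mem_preimage, hm1]
  have h2 : q.comap (algebraMap R S) ∈ associatedPrimes R M ↔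
      IsLocalRing.maximalIdeal Sq ∈ associatedPrimes Sq (Sq ⊗[R] M) := by
    rw [← e2, Set.mem_preimage, hm2]
  rw [h1, ← h2]
  exact ⟨fun h => ⟨hq, h⟩, fun h => h.2⟩


theorem associatedPrimes_omega_quasiFinite (A B' B : Type u) [CommRing A] [CommRing B']
    [CommRing B] [IsNoetherianRing A] [IsNoetherianRing B] [Algebra A B'] [Algebra B' B]
    [Algebra A B] [IsScalarTower A B' B] (hf : QFDual.IsQFFactor A B' B) :
    associatedPrimes B (QFDual.omega A B' B) =
      {q : Ideal B | q.IsPrime ∧ q.comap (algebraMap A B) ∈ associatedPrimes A A} := by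
  haveI := hf.finite
  haveI : IsNoetherianRing B' := IsNoetherianRing.of_finite A B'
  rw [associatedPrimes_baseChange_of_bijective_localRingHom
    (fun q _ => bijective_localRingHom_of_isOpenImmersion hf.isOpenImmersion q),
    associatedPrimes_omega]
  ext q
  simp only [Set.mem_ofPred_eq]
  constructor
  · rintro ⟨hq, _, h⟩
    refine ⟨hq, ?_⟩
    rwa [Ideal.comap_comap, ← IsScalarTower.algebraMap_eq] at h
  · rintro ⟨hq, h⟩
    refine ⟨hq, Ideal.comap_isPrime _ _, ?_⟩
    rwa [Ideal.comap_comap, ← IsScalarTower.algebraMap_eq]

end Groth.Agent.Lib.Helper94.AssOmega
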