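import Mathlib
import Groth.Prelude.Def_Pi1
import Groth.Prelude.Def_RegImm
import Groth.Agent.Lib.Helper94.CIFieldExtSch
import Groth.Agent.Lib.Helper94.CIBridge
import Groth.Agent.Lib.Helper51.CMAtBC

/-!
# Complete intersection local rings of fibres and base change (helper94)
-/

set_option autoImplicit false
set_option linter.style.haveILetI false
universe u
open CategoryTheory CategoryTheory.Limits AlgebraicGeometry TopologicalSpace

namespace Groth.Agent.Lib.Helper94.CIFibBC

open Groth.Agent.Lib.Helper51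

/-- CI-ness of local rings of a base change `F' = F_K` (general cartesian square). -/
theorem pi1_stalk_iff_of_isPullback_of_lft {k K : Type u} [Field k] [Field K] [Algebra k K]
    {F F' : Scheme.{u}} (φ : F ⟶ Spec (CommRingCat.of k)) [LocallyOfFiniteType φ] {m : F' ⟶ F}
    {snd : F' ⟶ Spec (CommRingCat.of K)}
    (hP : IsPullback m snd φ (Spec.map (CommRingCat.ofHom (algebraMap k K)))) (w' : F') :
    Pi1.IsCompleteIntersection (F'.presheaf.stalk w') ↔
      Pi1.IsCompleteIntersection (F.presheaf.stalk (m w')) := by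
  have hy : (pullback.fst φ (Spec.map (CommRingCat.ofHom (algebraMap k K)))).base
      (hP.isoPullback.hom w') = m w' := by
    rw [← Scheme.Hom.comp_apply, hP.isoPullback_hom_fst]
  have key := Groth.Agent.Lib.Helper94.CIFieldExtSch.pi1_iff_baseChange_field F φ (m w')
    (hP.isoPullback.hom w') hy
  let E' : F'.presheaf.stalk w' ≃+*
      (pullback φ (Spec.map (CommRingCat.ofHom (algebraMap k K)))).presheaf.stalk
        (hP.isoPullback.hom w') :=
    ((asIso (hP.isoPullback.hom.stalkMap w')).commRingCatIsoToRingEquiv.symm)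
  rw [key]
  exact Groth.Agent.Lib.Helper94.CIFieldExt3.pi1_congr E'

section Fibre

variable {X Y X' Y' : Scheme.{u}} {f : X ⟶ Y} {f' : X' ⟶ Y'} {g' : X' ⟶ X} {g : Y' ⟶ Y}

theorem pi1_fiber_stalk_iff_of_lft (hc : IsPullback g' f' f g) [LocallyOfFiniteType f] (y' : Y')
    (w' : f'.fiber y') :
    Pi1.IsCompleteIntersection ((f'.fiber y').presheaf.stalk w') ↔
      Pi1.IsCompleteIntersection
        ((f.fiber (g y')).presheaf.stalk (fiberMapOfIsPullback hc y' w')) := by
  letI algkK : Algebra ↑(Y.residueField (g y')) ↑(Y'.residueField y') :=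
    (g.residueFieldMap y').hom.toAlgebra
  have hP : IsPullback (fiberMapOfIsPullback hc y') (f'.fiberToSpecResidueField y')
      (f.fiberToSpecResidueField (g y'))
      (Spec.map (CommRingCat.ofHom (algebraMap ↑(Y.residueField (g y')) ↑(Y'.residueField y')))) :=
    isPullback_fiberMapOfIsPullback hc y'
  haveI : LocallyOfFiniteType (f.fiberToSpecResidueField (g y')) :=
    MorphismProperty.pullback_snd (P := @LocallyOfFiniteType) _ _ inferInstance
  exact pi1_stalk_iff_of_isPullback_of_lft (k := ↑(Y.residueField (g y')))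
    (K := ↑(Y'.residueField y')) (f.fiberToSpecResidueField (g y')) hP w'

theorem pi1_fiber_stalk_congr (f : X ⟶ Y) {s t : Y} (w : f.fiber s) (v : f.fiber t) (hst : s = t)
    (h : f.fiberι s w = f.fiberι t v) :
    Pi1.IsCompleteIntersection ((f.fiber s).presheaf.stalk w) ↔
      Pi1.IsCompleteIntersection ((f.fiber t).presheaf.stalk v) := by
  subst hst
  have : w = v := (f.fiberι _).isEmbedding.injective h
  subst this
  rfl

/-- The algebra structure used in the statement agrees with `stalkAlg`. -/
theorem essFiniteType_fiber_stalk (f : X ⟶ Y) [LocallyOfFiniteType f] (y : Y) (w : f.fiber y) :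
    ((Scheme.ΓSpecIso (Y.residueField y)).inv ≫
            (f.fiberToSpecResidueField y).appLE ⊤ ⊤ le_top ≫
              (f.fiber y).presheaf.germ ⊤ w trivial).hom.EssFiniteType := by
  haveI : LocallyOfFiniteType (f.fiberToSpecResidueField y) :=
    MorphismProperty.pullback_snd (P := @LocallyOfFiniteType) _ _ inferInstance
  have h := essFiniteType_stalk (k := ↑(Y.residueField y)) (f.fiberToSpecResidueField y) w
  have e : ((Scheme.ΓSpecIso (Y.residueField y)).inv ≫
            (f.fiberToSpecResidueField y).appLE ⊤ ⊤ le_top ≫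
              (f.fiber y).presheaf.germ ⊤ w trivial).hom =
      @algebraMap ↑(Y.residueField y) ((f.fiber y).presheaf.stalk w) _ _
        (stalkAlg (k := ↑(Y.residueField y)) (f.fiberToSpecResidueField y) w) := by
    ext a
    simp [RingHom.algebraMap_toAlgebra, Coh.toGlobal, Scheme.Hom.appLE]
    rfl
  rw [e]
  letI := stalkAlg (k := ↑(Y.residueField y)) (f.fiberToSpecResidueField y) w
  exact RingHom.essFiniteType_algebraMap.mpr h

theorem isCIOver_fiber_iff_pi1 (f : X ⟶ Y) [LocallyOfFiniteType f] (x : X) :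
    (letI := ((Scheme.ΓSpecIso (Y.residueField (f.base x))).inv ≫
            (f.fiberToSpecResidueField (f.base x)).appLE ⊤ ⊤ le_top ≫
              (f.fiber (f.base x)).presheaf.germ ⊤ (f.asFiber x) trivial).hom.toAlgebra;
      Synt.IsCIOver (Y.residueField (f.base x))
        ((f.fiber (f.base x)).presheaf.stalk (f.asFiber x))) ↔
      Pi1.IsCompleteIntersection ((f.fiber (f.base x)).presheaf.stalk (f.asFiber x)) := by
  letI := ((Scheme.ΓSpecIso (Y.residueField (f.base x))).inv ≫
            (f.fiberToSpecResidueField (f.base x)).appLE ⊤ ⊤ le_top ≫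
              (f.fiber (f.base x)).presheaf.germ ⊤ (f.asFiber x) trivial).hom.toAlgebra
  haveI : Algebra.EssFiniteType ↑(Y.residueField (f.base x))
      ((f.fiber (f.base x)).presheaf.stalk (f.asFiber x)) :=
    essFiniteType_fiber_stalk f (f.base x) (f.asFiber x)
  exact Groth.Agent.Lib.Helper94.CIBridge.isCIOver_iff_pi1 _ _

theorem setOf_fibre_isCIOver_baseChange (f : X ⟶ Y) [LocallyOfFiniteType f] (g : Y' ⟶ Y)
    (g' : X' ⟶ X) (f' : X' ⟶ Y') (hsq : IsPullback g' f' f g) :
    {x' : ↑X' |
        letI := ((Scheme.ΓSpecIso (Y'.residueField (f'.base x'))).inv ≫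
            (f'.fiberToSpecResidueField (f'.base x')).appLE ⊤ ⊤ le_top ≫
              (f'.fiber (f'.base x')).presheaf.germ ⊤ (f'.asFiber x') trivial).hom.toAlgebra
        Synt.IsCIOver (Y'.residueField (f'.base x')) ((f'.fiber (f'.base x')).presheaf.stalk (f'.asFiber x'))} =
      g'.base ⁻¹' {x : ↑X |
        letI := ((Scheme.ΓSpecIso (Y.residueField (f.base x))).inv ≫
            (f.fiberToSpecResidueField (f.base x)).appLE ⊤ ⊤ le_top ≫
              (f.fiber (f.base x)).presheaf.germ ⊤ (f.asFiber x) trivial).hom.toAlgebra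
        Synt.IsCIOver (Y.residueField (f.base x)) ((f.fiber (f.base x)).presheaf.stalk (f.asFiber x))} := by
  haveI : LocallyOfFiniteType f' :=
    MorphismProperty.of_isPullback (P := @LocallyOfFiniteType) hsq inferInstance
  ext x'
  rw [Set.mem_preimage, Set.mem_ofPred_eq, Set.mem_ofPred_eq]
  rw [isCIOver_fiber_iff_pi1 f' x', isCIOver_fiber_iff_pi1 f (g'.base x')]
  rw [pi1_fiber_stalk_iff_of_lft hsq (f'.base x') (f'.asFiber x')]
  apply pi1_fiber_stalk_congr f
  · have := congrArg (fun φ : X' ⟶ Y => φ.base x') hsq.w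
    simpa using this.symm
  · rw [fiberMapOfIsPullback_fiberι, Scheme.Hom.fiberι_asFiber, Scheme.Hom.fiberι_asFiber]

end Fibre

end Groth.Agent.Lib.Helper94.CIFibBC
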