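import Mathlib

set_option autoImplicit false

namespace Groth.Agent.Lib.Helper94

open Topology TopologicalSpace

variable {X : Type*} [TopologicalSpace X]

theorem isOpen_cons_of_isOpen [PrespectralSpace X] {U : Set X} (hU : IsOpen U) :
    IsOpen[constructibleTopology X] U := by
  obtain ⟨S, hS, rfl⟩ := PrespectralSpace.isTopologicalBasis.open_eq_sUnion hU
  exact @isOpen_sUnion X (constructibleTopology X) S
    (fun s hs => (hS hs).2.isOpen_constructibleTopology_of_isOpen (hS hs).1)

theorem isClosed_cons_of_isClosed [PrespectralSpace X] {U : Set X} (hU : IsClosed U) :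
    IsClosed[constructibleTopology X] U := by
  rw [← @isOpen_compl_iff X U (constructibleTopology X)]
  exact isOpen_cons_of_isOpen hU.isOpen_compl

theorem cons_le [PrespectralSpace X] :
    constructibleTopology X ≤ (inferInstance : TopologicalSpace X) :=
  fun _ hU => isOpen_cons_of_isOpen hU

theorem isCompact_of_isCompact_cons [PrespectralSpace X] {K : Set X}
    (hK : @IsCompact X (constructibleTopology X) K) : IsCompact K := by
  have hc : @Continuous X X (constructibleTopology X) _ id := continuous_id_iff_le.mpr cons_le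
  have := @IsCompact.image X X (constructibleTopology X) _ K id hK hc
  simpa using this

theorem isClopen_cons_of_isCompact_isOpen {V : Set X} (hVo : IsOpen V) (hVc : IsCompact V) :
    @IsClopen X (constructibleTopology X) V := by
  refine ⟨?_, hVc.isOpen_constructibleTopology_of_isOpen hVo⟩
  rw [← @isOpen_compl_iff X V (constructibleTopology X)]
  apply IsCompact.isOpen_constructibleTopology_of_isClosed
  · simpa using hVc
  · exact hVo.isClosed_compl

theorem isCompact_cons_of_isCompact_isOpen [PrespectralSpace X] [QuasiSeparatedSpace X]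
    [QuasiSober X] {V : Set X} (hVo : IsOpen V) (hVc : IsCompact V) :
    @IsCompact X (constructibleTopology X) V := by
  have hemb : IsOpenEmbedding (Subtype.val : V → X) := hVo.isOpenEmbedding_subtypeVal
  have : CompactSpace V := isCompact_iff_compactSpace.mp hVc
  have : QuasiSober V := hemb.quasiSober
  have : PrespectralSpace V := hemb.prespectralSpace
  have : QuasiSeparatedSpace V := hemb.quasiSeparatedSpace
  have : CompactSpace (WithConstructibleTopology V) := inferInstance
  let g : WithConstructibleTopology V → X := fun v => (WithTopology.ofTopology v : V)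
  have key : ∀ s : Set X, IsOpen s → IsCompact s →
      IsOpen (Subtype.val ⁻¹' s : Set V) ∧ IsCompact (Subtype.val ⁻¹' s : Set V) := by
    intro s hso hsc
    refine ⟨hso.preimage continuous_subtype_val, ?_⟩
    have h1 : IsCompact (s ∩ V) := QuasiSeparatedSpace.inter_isCompact s V hso hsc hVo hVc
    have h2 : (Subtype.val ⁻¹' s : Set V) = Subtype.val ⁻¹' (s ∩ V) := by
      ext x; simp
    rw [h2, hemb.isEmbedding.isCompact_preimage_iff]
    · exact h1
    · intro x hx; simpa using hx.2
  have hg : @Continuous _ X _ (constructibleTopology X) g := by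
    apply continuous_generateFrom_iff.mpr
    intro s hs
    rw [WithConstructibleTopology.isOpen_iff]
    change IsOpen[constructibleTopology V] (Subtype.val ⁻¹' s)
    rcases hs with ⟨hso, hsc⟩ | ⟨hscl, hsc⟩
    · exact (key s hso hsc).2.isOpen_constructibleTopology_of_isOpen (key s hso hsc).1
    · have := key sᶜ hscl.isOpen_compl hsc
      apply IsCompact.isOpen_constructibleTopology_of_isClosed
      · simpa using this.2
      · exact hscl.preimage continuous_subtype_val
  have := @IsCompact.image _ X _ (constructibleTopology X) Set.univ g isCompact_univ hg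
  convert this
  ext x
  simp only [Set.image_univ, Set.mem_range, g]
  constructor
  · intro hx
    exact ⟨WithTopology.toTopology _ ⟨x, hx⟩, rfl⟩
  · rintro ⟨v, rfl⟩
    exact (WithTopology.ofTopology v).2

theorem exists_isCompact_isOpen_sep [T0Space X] [PrespectralSpace X] {x y : X} (hxy : x ≠ y) :
    ∃ V : Set X, IsOpen V ∧ IsCompact V ∧ ((x ∈ V ∧ y ∉ V) ∨ (y ∈ V ∧ x ∉ V)) := by
  obtain ⟨U, hU, hxor⟩ := exists_isOpen_xor_mem hxy
  rcases hxor with ⟨hx, hy⟩ | ⟨hy, hx⟩
  · obtain ⟨V, hV, hxV, hVU⟩ :=
      PrespectralSpace.isTopologicalBasis.exists_subset_of_mem_open hx hU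
    exact ⟨V, hV.1, hV.2, Or.inl ⟨hxV, fun h => hy (hVU h)⟩⟩
  · obtain ⟨V, hV, hyV, hVU⟩ :=
      PrespectralSpace.isTopologicalBasis.exists_subset_of_mem_open hy hU
    exact ⟨V, hV.1, hV.2, Or.inr ⟨hyV, fun h => hx (hVU h)⟩⟩

theorem exists_isClopen_cons_sep [T0Space X] [PrespectralSpace X] {x y : X} (hxy : x ≠ y) :
    ∃ V : Set X, @IsClopen X (constructibleTopology X) V ∧ x ∈ V ∧ y ∈ Vᶜ := by
  obtain ⟨V, hVo, hVc, h⟩ := exists_isCompact_isOpen_sep hxy
  have hV := isClopen_cons_of_isCompact_isOpen hVo hVc
  rcases h with ⟨hx, hy⟩ | ⟨hy, hx⟩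
  · exact ⟨V, hV, hx, hy⟩
  · exact ⟨Vᶜ, @IsClopen.compl X (constructibleTopology X) V hV, hx, by simpa using hy⟩

theorem totallySeparatedSpace_cons [T0Space X] [PrespectralSpace X] :
    @TotallySeparatedSpace X (constructibleTopology X) := by
  rw [@totallySeparatedSpace_iff_exists_isClopen X (constructibleTopology X)]
  intro x y hxy
  exact exists_isClopen_cons_sep hxy

theorem t2Space_cons [T0Space X] [PrespectralSpace X] :
    @T2Space X (constructibleTopology X) := by
  have := totallySeparatedSpace_cons (X := X)
  exact @TotallySeparatedSpace.t2Space X (constructibleTopology X) _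

theorem weaklyLocallyCompactSpace_cons [PrespectralSpace X] [QuasiSeparatedSpace X]
    [QuasiSober X] : @WeaklyLocallyCompactSpace X (constructibleTopology X) := by
  refine @WeaklyLocallyCompactSpace.mk X (constructibleTopology X) ?_
  intro x
  obtain ⟨V, hV, hxV, -⟩ :=
    PrespectralSpace.isTopologicalBasis.exists_subset_of_mem_open (Set.mem_univ x) isOpen_univ
  refine ⟨V, isCompact_cons_of_isCompact_isOpen hV.1 hV.2, ?_⟩
  exact @IsOpen.mem_nhds X (constructibleTopology X) x V
    (hV.2.isOpen_constructibleTopology_of_isOpen hV.1) hxV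


theorem isClopen_cons_of_isRetrocompact [PrespectralSpace X] {U : Set X} (hUo : IsOpen U)
    (hUr : IsRetrocompact U) : @IsClopen X (constructibleTopology X) U := by
  refine ⟨?_, isOpen_cons_of_isOpen hUo⟩
  rw [← @isOpen_compl_iff X U (constructibleTopology X)]
  rw [@isOpen_iff_forall_mem_open X (constructibleTopology X) Uᶜ]
  intro x hx
  obtain ⟨K, hK, hxK, -⟩ :=
    PrespectralSpace.isTopologicalBasis.exists_subset_of_mem_open (Set.mem_univ x) isOpen_univ
  refine ⟨K ∩ (U ∩ K)ᶜ, ?_, ?_, ?_⟩
  · rintro y ⟨hyK, hy⟩ hyU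
    exact hy ⟨hyU, hyK⟩
  · exact @IsOpen.inter X (constructibleTopology X) _ _
      (isClopen_cons_of_isCompact_isOpen hK.1 hK.2).2
      (@IsClopen.compl X (constructibleTopology X) _
        (isClopen_cons_of_isCompact_isOpen (hUo.inter hK.1) (hUr hK.2 hK.1))).2
  · exact ⟨hxK, fun h => hx h.1⟩

theorem isClopen_cons_of_isConstructible [PrespectralSpace X] {E : Set X}
    (hE : IsConstructible E) : @IsClopen X (constructibleTopology X) E := by
  induction hE using IsConstructible.empty_union_induction with
  | open_retrocompact U hUo hUr => exact isClopen_cons_of_isRetrocompact hUo hUr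
  | union s hs t ht hs' ht' => exact @IsClopen.union X (constructibleTopology X) s t hs' ht'
  | compl s hs hs' => exact @IsClopen.compl X (constructibleTopology X) s hs'

theorem isClopen_cons_of_isLocallyConstructible [PrespectralSpace X] [QuasiSeparatedSpace X]
    {E : Set X} (hE : IsLocallyConstructible E) : @IsClopen X (constructibleTopology X) E := by
  have key : ∀ x : X, ∃ K : Set X, x ∈ K ∧ @IsClopen X (constructibleTopology X) K ∧
      @IsClopen X (constructibleTopology X) (E ∩ K) := by
    intro x
    obtain ⟨K, hK, hxK, -⟩ :=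
      PrespectralSpace.isTopologicalBasis.exists_subset_of_mem_open (Set.mem_univ x) isOpen_univ
    exact ⟨K, hxK, isClopen_cons_of_isCompact_isOpen hK.1 hK.2,
      isClopen_cons_of_isConstructible (hE.inter_of_isOpen_isCompact hK.1 hK.2)⟩
  constructor
  · rw [← @isOpen_compl_iff X E (constructibleTopology X)]
    rw [@isOpen_iff_forall_mem_open X (constructibleTopology X) Eᶜ]
    intro x hx
    obtain ⟨K, hxK, hK, hEK⟩ := key x
    refine ⟨K ∩ (E ∩ K)ᶜ, ?_, ?_, ?_⟩
    · rintro y ⟨hyK, hy⟩ hyE
      exact hy ⟨hyE, hyK⟩
    · exact @IsOpen.inter X (constructibleTopology X) _ _ hK.2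
        (@IsClopen.compl X (constructibleTopology X) _ hEK).2
    · exact ⟨hxK, fun h => hx h.1⟩
  · rw [@isOpen_iff_forall_mem_open X (constructibleTopology X) E]
    intro x hx
    obtain ⟨K, hxK, hK, hEK⟩ := key x
    exact ⟨E ∩ K, Set.inter_subset_left, hEK.2, hx, hxK⟩

theorem isConstructible_of_mem_subbasis [QuasiSeparatedSpace X] {s : Set X}
    (hs : s ∈ constructibleTopologySubbasis X) : IsConstructible s := by
  rcases hs with ⟨hso, hsc⟩ | ⟨hscl, hsc⟩
  · exact hsc.isConstructible hso
  · exact (hsc.isConstructible hscl.isOpen_compl).of_compl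

theorem isConstructible_inter_of_isClopen_cons [PrespectralSpace X] [QuasiSeparatedSpace X]
    [QuasiSober X] {E K : Set X} (hE : @IsClopen X (constructibleTopology X) E)
    (hKo : IsOpen K) (hKc : IsCompact K) : IsConstructible (E ∩ K) := by
  have hK := isClopen_cons_of_isCompact_isOpen hKo hKc
  have hKcc := isCompact_cons_of_isCompact_isOpen hKo hKc
  have hEK : @IsClopen X (constructibleTopology X) (E ∩ K) :=
    @IsClopen.inter X (constructibleTopology X) E K hE hK
  have hcomp : @IsCompact X (constructibleTopology X) (E ∩ K) :=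
    @IsCompact.of_isClosed_subset X (constructibleTopology X) K (E ∩ K) hKcc hEK.1
      Set.inter_subset_right
  have hbasis := @TopologicalSpace.isTopologicalBasis_of_subbasis X (constructibleTopology X)
    (constructibleTopologySubbasis X) rfl
  have key : ∀ x ∈ E ∩ K, ∃ B : Set X, IsOpen[constructibleTopology X] B ∧ IsConstructible B ∧
      x ∈ B ∧ B ⊆ E ∩ K := by
    intro x hx
    obtain ⟨B, ⟨F, ⟨hFfin, hFsub⟩, rfl⟩, hxB, hBsub⟩ :=
      @TopologicalSpace.IsTopologicalBasis.exists_subset_of_mem_open X (constructibleTopology X) _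
        hbasis x (E ∩ K) hx hEK.2
    refine ⟨⋂₀ F, ?_, ?_, hxB, hBsub⟩
    · exact @TopologicalSpace.IsTopologicalBasis.isOpen X (constructibleTopology X) _ _ hbasis
        ⟨F, ⟨hFfin, hFsub⟩, rfl⟩
    · exact IsConstructible.sInter hFfin (fun s hs => isConstructible_of_mem_subbasis (hFsub hs))
  choose! B hBo hBc hxB hBsub using key
  obtain ⟨T, hTsub, hcover⟩ := @IsCompact.elim_nhds_subcover X (constructibleTopology X) (E ∩ K)
    hcomp B (fun x hx => @IsOpen.mem_nhds X (constructibleTopology X) x (B x) (hBo x hx) (hxB x hx))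
  have : E ∩ K = ⋃ x ∈ (T : Set X), B x := by
    apply Set.Subset.antisymm
    · exact hcover
    · exact Set.iUnion₂_subset (fun x hx => hBsub x (hTsub x hx))
  rw [this]
  exact IsConstructible.biUnion T.finite_toSet (fun x hx => hBc x (hTsub x hx))

theorem isLocallyConstructible_of_isClopen_cons [PrespectralSpace X] [QuasiSeparatedSpace X]
    [QuasiSober X] {E : Set X} (hE : @IsClopen X (constructibleTopology X) E) :
    IsLocallyConstructible E := by
  intro x
  obtain ⟨K, hK, hxK, -⟩ :=
    PrespectralSpace.isTopologicalBasis.exists_subset_of_mem_open (Set.mem_univ x) isOpen_univ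
  refine ⟨K, hK.1.mem_nhds hxK, hK.1, ?_⟩
  have h1 := isConstructible_inter_of_isClopen_cons hE hK.1 hK.2
  have h2 := h1.preimage_of_isOpenEmbedding hK.1.isOpenEmbedding_subtypeVal
  convert h2 using 1
  ext y
  simp

theorem isLocallyConstructible_iff_isClopen_cons [PrespectralSpace X] [QuasiSeparatedSpace X]
    [QuasiSober X] {E : Set X} :
    IsLocallyConstructible E ↔ @IsClopen X (constructibleTopology X) E :=
  ⟨isClopen_cons_of_isLocallyConstructible, isLocallyConstructible_of_isClopen_cons⟩


theorem continuous_cons_of_isCompact_preimage {Y : Type*} [TopologicalSpace Y]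
    {f : X → Y} (hf : Continuous f)
    (h : ∀ U : Set Y, IsOpen U → IsCompact U → IsCompact (f ⁻¹' U)) :
    @Continuous X Y (constructibleTopology X) (constructibleTopology Y) f := by
  apply (continuous_generateFrom_iff (t := constructibleTopology X) (f := f)
    (b := constructibleTopologySubbasis Y)).mpr
  intro s hs
  rcases hs with ⟨hso, hsc⟩ | ⟨hscl, hsc⟩
  · exact (h s hso hsc).isOpen_constructibleTopology_of_isOpen (hso.preimage hf)
  · apply IsCompact.isOpen_constructibleTopology_of_isClosed
    · rw [← Set.preimage_compl]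
      exact h _ hscl.isOpen_compl hsc
    · exact hscl.preimage hf

theorem isProperMap_cons_iff {Y : Type*} [TopologicalSpace Y]
    [PrespectralSpace X] [QuasiSeparatedSpace X] [QuasiSober X]
    [T0Space Y] [PrespectralSpace Y] [QuasiSeparatedSpace Y] [QuasiSober Y]
    {f : X → Y} (hf : Continuous f) :
    (∀ U : Set Y, IsOpen U → IsCompact U → IsCompact (f ⁻¹' U)) ↔
      @IsProperMap X Y (constructibleTopology X) (constructibleTopology Y) f := by
  have hT2 : @T2Space Y (constructibleTopology Y) := t2Space_cons
  have hWLC : @WeaklyLocallyCompactSpace Y (constructibleTopology Y) :=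
    weaklyLocallyCompactSpace_cons
  have hCC : @CompactlyCoherentSpace Y (constructibleTopology Y) :=
    @CompactlyCoherentSpace.of_weaklyLocallyCompactSpace Y (constructibleTopology Y) hWLC
  rw [@isProperMap_iff_isCompact_preimage X Y (constructibleTopology X) (constructibleTopology Y)
    hT2 hCC f]
  constructor
  · intro h
    have hcont := continuous_cons_of_isCompact_preimage hf h
    refine ⟨hcont, ?_⟩
    intro K hK
    have hex : ∀ y : Y, ∃ V : Set Y, IsOpen V ∧ IsCompact V ∧ y ∈ V := by
      intro y
      obtain ⟨V, hV, hyV, -⟩ :=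
        PrespectralSpace.isTopologicalBasis.exists_subset_of_mem_open (Set.mem_univ y) isOpen_univ
      exact ⟨V, hV.1, hV.2, hyV⟩
    choose V hVo hVc hyV using hex
    obtain ⟨T, -, hcover⟩ := @IsCompact.elim_nhds_subcover Y (constructibleTopology Y) K hK V
      (fun y _ => @IsOpen.mem_nhds Y (constructibleTopology Y) y (V y)
        ((hVc y).isOpen_constructibleTopology_of_isOpen (hVo y)) (hyV y))
    have hWo : IsOpen (⋃ y ∈ T, V y) := isOpen_biUnion (fun y _ => hVo y)
    have hWc : IsCompact (⋃ y ∈ T, V y) := T.isCompact_biUnion (fun y _ => hVc y)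
    have h1 : @IsCompact X (constructibleTopology X) (f ⁻¹' (⋃ y ∈ T, V y)) :=
      isCompact_cons_of_isCompact_isOpen (hWo.preimage hf) (h _ hWo hWc)
    have hKcl : IsClosed[constructibleTopology Y] K :=
      @IsCompact.isClosed Y (constructibleTopology Y) hT2 K hK
    have h2 : IsClosed[constructibleTopology X] (f ⁻¹' K) :=
      @IsClosed.preimage X Y (constructibleTopology X) (constructibleTopology Y) f hcont K hKcl
    exact @IsCompact.of_isClosed_subset X (constructibleTopology X) _ _ h1 h2
      (Set.preimage_mono hcover)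
  · rintro ⟨-, hK⟩ U hUo hUc
    exact isCompact_of_isCompact_cons (hK (isCompact_cons_of_isCompact_isOpen hUo hUc))

/-- The tautological homeomorphism. -/
def homeoWithTopology (t : TopologicalSpace X) : @Homeomorph X (WithTopology X t) t _ :=
  @Homeomorph.mk X (WithTopology X t) t _ (WithTopology.equiv X t).symm
    (WithTopology.continuous_toTopology t) (WithTopology.continuous_ofTopology t)

end Groth.Agent.Lib.Helper94
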