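import Groth.Agent.Lib.Helper94.KosTwC
import Groth.Agent.Lib.Helper40.AffBC1

/-!
# S15827: `Λ^k (E ⊗ L) ≅ Λ^k E ⊗ L^{⊗ k}` for `L` invertible
-/

set_option autoImplicit false
universe u

namespace Groth.Agent.Lib.Helper94.ExtTwA

open CategoryTheory CategoryTheory.Limits AlgebraicGeometry Opposite TopologicalSpace exteriorPower
open Groth.Agent.Lib.Lead.Inv Groth.Agent.Lib.Lead.QCohAff
open Groth.Agent.Lib.Helper94.KosShF
open Groth.Agent.Lib.Helper94.KosTwA Groth.Agent.Lib.Helper94.KosTwB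
open Groth.Agent.Lib.Helper94.KosTwC

section Alg

variable {R M : Type*} [CommRing R] [AddCommGroup M] [Module R M]

theorem map_smul_id (a : R) (k : ℕ) (y : ↥(⋀[R]^k M)) :
    exteriorPower.map k (a • (LinearMap.id : M →ₗ[R] M)) y = a ^ k • y := by
  induction y using dec_induction with
  | h0 => simp
  | hadd x y hx hy => rw [map_add, hx, hy, smul_add]
  | hsmul r e =>
    rw [map_smul, map_apply_ιMulti, smul_comm]
    congr 1
    have h1 : (⇑(a • (LinearMap.id : M →ₗ[R] M)) ∘ e) = fun i => a • e i := by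
      funext i
      simp
    rw [h1]
    have h2 := (ιMulti R k (M := M)).toMultilinearMap.map_smul_univ (fun _ => a) e
    simp only [Finset.prod_const, Finset.card_univ, Fintype.card_fin] at h2
    exact h2

end Alg

variable {X : Scheme.{u}} {E L M N : X.Modules}

theorem genPow_smul {U : X.Opens} (a : Γ(X, U)) (l : Γ(L, U)) (k : ℕ) :
    genPow (a • l) k = a ^ k • genPow l k := by
  induction k with
  | zero =>
    rw [pow_zero, one_smul]
    rfl
  | succ k ih =>
    change tmul (CohB1.tensorPow L k) L (genPow (a • l) k) (a • l) =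
      a ^ (k + 1) • tmul (CohB1.tensorPow L k) L (genPow l k) l
    rw [ih, tmul_smul_left, tmul_smul_right, smul_smul, pow_succ]

theorem map_symm_tau {U : X.Opens} {l : Γ(L, U)} (hl : IsGen L U l) (n : ℕ)
    (y : ↥(⋀[Γ(X, U)]^n Γ(E, U))) :
    exteriorPower.map n (tau (F := E) hl).symm.toLinearMap
      (exteriorPower.map n (tau (F := E) hl).toLinearMap y) = y := by
  rw [← LinearMap.comp_apply, ← exteriorPower.map_comp, LinearEquiv.symm_comp,
    exteriorPower.map_id, LinearMap.id_apply]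

theorem map_symm_bijective {U : X.Opens} {l : Γ(L, U)} (hl : IsGen L U l) (n : ℕ) :
    Function.Bijective (exteriorPower.map n (tau (F := E) hl).symm.toLinearMap) :=
  Function.bijective_iff_has_inverse.mpr
    ⟨exteriorPower.map n (tau (F := E) hl).toLinearMap, fun w => map_tau_symm hl n w,
      fun y => map_symm_tau hl n y⟩

variable (k : ℕ)
  (locM : ∀ U : X.affineOpens,
    Γ(M, U.1) ≃ₗ[Γ(X, U.1)] ↥(⋀[Γ(X, U.1)]^k Γ(CohB1.tensorMod E L, U.1)))
  (locN : ∀ U : X.affineOpens, Γ(N, U.1) ≃ₗ[Γ(X, U.1)] ↥(⋀[Γ(X, U.1)]^k Γ(E, U.1)))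

/-- the local model of the isomorphism. -/
noncomputable def psi (U : X.affineOpens) {l : Γ(L, U.1)} (hl : IsGen L U.1 l) :
    Γ(M, U.1) →ₗ[Γ(X, U.1)] Γ(CohB1.tensorMod N (CohB1.tensorPow L k), U.1) :=
  (tmulREquiv N (isGen_genPow hl k) le_rfl).toLinearMap ∘ₗ (locN U).symm.toLinearMap ∘ₗ
    exteriorPower.map k (tau (F := E) hl).symm.toLinearMap ∘ₗ (locM U).toLinearMap

theorem psi_apply (U : X.affineOpens) {l : Γ(L, U.1)} (hl : IsGen L U.1 l) (m : Γ(M, U.1)) :
    psi k locM locN U hl m = tmul N (CohB1.tensorPow L k)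
      ((locN U).symm (exteriorPower.map k (tau (F := E) hl).symm.toLinearMap (locM U m)))
      (genPow l k) := by
  change tmulREquiv N (isGen_genPow hl k) le_rfl _ = _
  rw [tmulREquiv_apply, res_self]
  rfl

theorem psi_bijective (U : X.affineOpens) {l : Γ(L, U.1)} (hl : IsGen L U.1 l) :
    Function.Bijective (psi k locM locN U hl) :=
  (tmulREquiv N (isGen_genPow hl k) le_rfl).bijective.comp
    ((locN U).symm.bijective.comp ((map_symm_bijective hl k).comp (locM U).bijective))

theorem psi_map (U : X.affineOpens) {l : Γ(L, U.1)} (hl : IsGen L U.1 l)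
    (y : ↥(⋀[Γ(X, U.1)]^k Γ(E, U.1))) :
    psi k locM locN U hl
      ((locM U).symm (exteriorPower.map k (tau (F := E) hl).toLinearMap y)) =
      tmul N (CohB1.tensorPow L k) ((locN U).symm y) (genPow l k) := by
  rw [psi_apply, LinearEquiv.apply_symm_apply, map_symm_tau]

theorem exists_rep (U : X.affineOpens) {l : Γ(L, U.1)} (hl : IsGen L U.1 l) (m : Γ(M, U.1)) :
    ∃ y : ↥(⋀[Γ(X, U.1)]^k Γ(E, U.1)),
      m = (locM U).symm (exteriorPower.map k (tau (F := E) hl).toLinearMap y) :=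
  ⟨exteriorPower.map k (tau (F := E) hl).symm.toLinearMap (locM U m), by
    rw [map_tau_symm, LinearEquiv.symm_apply_apply]⟩

theorem psi_indep (U : X.affineOpens) {l₁ l₂ : Γ(L, U.1)} (hl₁ : IsGen L U.1 l₁)
    (hl₂ : IsGen L U.1 l₂) (m : Γ(M, U.1)) :
    psi k locM locN U hl₁ m = psi k locM locN U hl₂ m := by
  obtain ⟨y, rfl⟩ := exists_rep k locM U hl₂ m
  rw [psi_map, psi_apply, LinearEquiv.apply_symm_apply]
  set a := hl₁.coeff le_rfl l₂ with ha
  have hal : a • l₁ = l₂ := by
    have := hl₁.coeff_smul le_rfl l₂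
    rw [res_self] at this
    exact this
  have hcomp : (tau (F := E) hl₁).symm.toLinearMap ∘ₗ (tau (F := E) hl₂).toLinearMap =
      a • (LinearMap.id : Γ(E, U.1) →ₗ[Γ(X, U.1)] Γ(E, U.1)) := by
    ext f
    change (tau (F := E) hl₁).symm (tau (F := E) hl₂ f) = a • f
    rw [LinearEquiv.symm_apply_eq, map_smul, tau_apply, tau_apply, ← hal]
    exact tmul_smul_right _ _ _ _ _
  have h1 : exteriorPower.map k (tau (F := E) hl₁).symm.toLinearMap
      (exteriorPower.map k (tau (F := E) hl₂).toLinearMap y) = a ^ k • y := by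
    rw [← LinearMap.comp_apply, ← exteriorPower.map_comp, hcomp, map_smul_id]
  have hg : genPow l₂ k = a ^ k • genPow l₁ k := by
    rw [← hal, genPow_smul]
  rw [h1, map_smul, hg]
  exact (tmul_smul_left _ _ _ _ _).trans (tmul_smul_right _ _ _ _ _).symm

theorem psi_res
    (hM : ∀ (U V : X.affineOpens) (h : V.1 ≤ U.1) (e : Fin k → Γ(CohB1.tensorMod E L, U.1)),
      M.presheaf.map (homOfLE h).op ((locM U).symm (ιMulti _ k e)) =
        (locM V).symm (ιMulti _ k
          (fun j => (CohB1.tensorMod E L).presheaf.map (homOfLE h).op (e j))))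
    (hN : ∀ (U V : X.affineOpens) (h : V.1 ≤ U.1) (e : Fin k → Γ(E, U.1)),
      N.presheaf.map (homOfLE h).op ((locN U).symm (ιMulti _ k e)) =
        (locN V).symm (ιMulti _ k (fun j => E.presheaf.map (homOfLE h).op (e j))))
    (U U' : X.affineOpens) (i : U'.1 ≤ U.1) {l : Γ(L, U.1)} (hl : IsGen L U.1 l)
    (m : Γ(M, U.1)) :
    psi k locM locN U' (hl.res i) (M.presheaf.map (homOfLE i).op m) =
      (CohB1.tensorMod N (CohB1.tensorPow L k)).presheaf.map (homOfLE i).op
        (psi k locM locN U hl m) := by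
  obtain ⟨y, rfl⟩ := exists_rep k locM U hl m
  induction y using dec_induction with
  | h0 => simp
  | hadd a b ha hb => simp only [map_add, ha, hb]
  | hsmul r e =>
    rw [map_smul, map_smul, res_smul, map_smul, map_smul, res_smul]
    congr 1
    rw [psi_map, map_apply_ιMulti, hM U U' i]
    have h1 : (fun j => (CohB1.tensorMod E L).presheaf.map (homOfLE i).op
        (((tau (F := E) hl).toLinearMap ∘ e) j)) =
        (tau (F := E) (hl.res i)).toLinearMap ∘
          (fun j => E.presheaf.map (homOfLE i).op (e j)) := by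
      funext j
      change (CohB1.tensorMod E L).presheaf.map (homOfLE i).op (tau (F := E) hl (e j)) =
        tau (F := E) (hl.res i) (E.presheaf.map (homOfLE i).op (e j))
      rw [tau_apply, tau_apply]
      exact tmul_res _ _ i _ _
    rw [h1, ← map_apply_ιMulti, psi_map, tmul_res, hN U U' i, genPow_res]


/-- affine opens trivialising `L`. -/
def GoodL (L : X.Modules) : Set X.Opens :=
  {U | IsAffineOpen U ∧ ∃ l : Γ(L, U), IsGen L U l}

theorem isBasis_goodL (hL : PicF.IsInvertible L) : Opens.IsBasis (GoodL L) := by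
  rw [Opens.isBasis_iff_nbhd]
  intro W x hxW
  obtain ⟨U₁, hx₁, l, hl⟩ := (isInvertible_iff_exists_isGen.mp hL) x
  obtain ⟨_, ⟨U, hU, rfl⟩, hxU, hUle⟩ :=
    X.isBasis_affineOpens.exists_subset_of_mem_open
      (show x ∈ ((U₁ ⊓ W : X.Opens) : Set X) from ⟨hx₁, hxW⟩) (U₁ ⊓ W).2
  have hU₁ : U ≤ U₁ := fun y hy => (hUle hy).1
  have hUW : U ≤ W := fun y hy => (hUle hy).2
  exact ⟨U, ⟨hU, ⟨_, hl.res hU₁⟩⟩, hxU, hUW⟩

theorem main (hL : PicF.IsInvertible L)
    (hM : ∀ (U V : X.affineOpens) (h : V.1 ≤ U.1) (e : Fin k → Γ(CohB1.tensorMod E L, U.1)),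
      M.presheaf.map (homOfLE h).op ((locM U).symm (ιMulti _ k e)) =
        (locM V).symm (ιMulti _ k
          (fun j => (CohB1.tensorMod E L).presheaf.map (homOfLE h).op (e j))))
    (hN : ∀ (U V : X.affineOpens) (h : V.1 ≤ U.1) (e : Fin k → Γ(E, U.1)),
      N.presheaf.map (homOfLE h).op ((locN U).symm (ιMulti _ k e)) =
        (locN V).symm (ιMulti _ k (fun j => E.presheaf.map (homOfLE h).op (e j)))) :
    Nonempty (M ≅ CohB1.tensorMod N (CohB1.tensorPow L k)) := by
  have hB : Opens.IsBasis (Set.range (Subtype.val : {U : X.Opens // U ∈ GoodL L} → X.Opens)) := by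
    have h : Set.range (Subtype.val : {U : X.Opens // U ∈ GoodL L} → X.Opens) = GoodL L :=
      Subtype.range_coe_subtype
    rw [h]
    exact isBasis_goodL hL
  obtain ⟨κ, hκ⟩ := Groth.Agent.Lib.Helper14.LogSub.exists_hom_of_basis M
    (CohB1.tensorMod N (CohB1.tensorPow L k)) (fun U => U ∈ GoodL L) hB
    (fun U hU => (psi k locM locN ⟨U, hU.1⟩ hU.2.choose_spec).toAddMonoidHom)
    (fun U U' hU hU' i m => by
      change psi k locM locN ⟨U', hU'.1⟩ hU'.2.choose_spec (M.presheaf.map (homOfLE i).op m) =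
        (CohB1.tensorMod N (CohB1.tensorPow L k)).presheaf.map (homOfLE i).op
          (psi k locM locN ⟨U, hU.1⟩ hU.2.choose_spec m)
      rw [psi_indep k locM locN ⟨U', hU'.1⟩ hU'.2.choose_spec (hU.2.choose_spec.res i)]
      exact psi_res k locM locN hM hN ⟨U, hU.1⟩ ⟨U', hU'.1⟩ i hU.2.choose_spec m)
    (fun U hU r m => map_smul (psi k locM locN ⟨U, hU.1⟩ hU.2.choose_spec) r m)
  have hiso : IsIso κ := by
    apply Groth.Agent.Lib.Helper40.AffBC.isIso_of_app_bijective_of_basis (GoodL L)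
      (isBasis_goodL hL)
    intro U hU
    have hb := psi_bijective k locM locN ⟨U, hU.1⟩ hU.2.choose_spec
    refine ⟨fun a b hab => hb.1 ?_, fun y => ?_⟩
    · exact ((hκ U hU a).symm.trans hab).trans (hκ U hU b)
    · obtain ⟨x, hx⟩ := hb.2 y
      exact ⟨x, (hκ U hU x).trans hx⟩
  exact ⟨asIso κ⟩

end Groth.Agent.Lib.Helper94.ExtTwA
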