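import Mathlib
import Groth.Agent.Lib.Helper94.FibE

/-!
# Base change and fibre criterion for lci ring maps along pushout squares (helper94)
-/


set_option autoImplicit false
set_option linter.style.haveILetI false
universe u

open TensorProduct CategoryTheory

namespace Groth.Agent.Lib.Helper94.FibF

open Groth.Agent.Lib.Helper43.KRIdeal Groth.Agent.Lib.Helper43
  Groth.Agent.Lib.Helper94.FibA Groth.Agent.Lib.Helper94.FibE
  Groth.Agent.Lib.Helper43.KRComp Groth.Agent.Lib.Helper43.KRLocalProp
  Groth.Agent.Lib.Helper43.KRCodescent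

section Rings

variable {A A' B C B' C' : Type u} [CommRing A] [CommRing A'] [CommRing B] [CommRing C]
  [CommRing B'] [CommRing C'] (a : A →+* B) (φ : B →+* C) (h₀ : A →+* A') (a' : A' →+* B')
  (φ' : B' →+* C') (bY : B →+* B') (bX : C →+* C')

/-- the comparison isomorphisms with the tensor products, for a pair of pushout squares -/
theorem exists_equivs
    (hB : IsPushout (CommRingCat.ofHom h₀) (CommRingCat.ofHom a) (CommRingCat.ofHom a')
      (CommRingCat.ofHom bY))
    (hC : IsPushout (CommRingCat.ofHom h₀) (CommRingCat.ofHom (φ.comp a))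
      (CommRingCat.ofHom (φ'.comp a')) (CommRingCat.ofHom bX))
    (hcomm : φ'.comp bY = bX.comp φ) :
    letI := a.toAlgebra
    letI := h₀.toAlgebra
    letI := (φ.comp a).toAlgebra
    letI := φ.toAlgebra
    haveI : IsScalarTower A B C := IsScalarTower.of_algebraMap_eq fun _ => rfl
    ∃ (eB : A' ⊗[A] B ≃+* B') (eC : A' ⊗[A] C ≃+* C'),
      (∀ b : B, eB (1 ⊗ₜ b) = bY b) ∧ (∀ c : C, eC (1 ⊗ₜ c) = bX c) ∧
      φ'.comp (eB : A' ⊗[A] B →+* B') = (eC : A' ⊗[A] C →+* C').comp (tensorMap A A' B C) := by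
  letI := a.toAlgebra
  letI := h₀.toAlgebra
  letI := (φ.comp a).toAlgebra
  letI := φ.toAlgebra
  haveI : IsScalarTower A B C := IsScalarTower.of_algebraMap_eq fun _ => rfl
  letI := a'.toAlgebra
  letI := bY.toAlgebra
  letI := (a'.comp h₀).toAlgebra
  haveI : IsScalarTower A A' B' := IsScalarTower.of_algebraMap_eq fun _ => rfl
  haveI : IsScalarTower A B B' := IsScalarTower.of_algebraMap_eq fun x => by
    have := congrArg (fun f => f.hom x) hB.w
    exact this
  haveI hpB : Algebra.IsPushout A A' B B' := CommRingCat.isPushout_iff_isPushout.1 hB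
  letI algA'C' : Algebra A' C' := (φ'.comp a').toAlgebra
  letI algCC' : Algebra C C' := bX.toAlgebra
  letI algAC' : Algebra A C' := ((φ'.comp a').comp h₀).toAlgebra
  haveI : IsScalarTower A A' C' := IsScalarTower.of_algebraMap_eq fun _ => rfl
  haveI : IsScalarTower A C C' := IsScalarTower.of_algebraMap_eq fun x => by
    have := congrArg (fun f => f.hom x) hC.w
    exact this
  haveI hpC : Algebra.IsPushout A A' C C' := CommRingCat.isPushout_iff_isPushout.1 hC
  refine ⟨(Algebra.IsPushout.equiv A A' B B').toRingEquiv,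
    (Algebra.IsPushout.equiv A A' C C').toRingEquiv, ?_, ?_, ?_⟩
  · intro b
    show Algebra.IsPushout.equiv A A' B B' (1 ⊗ₜ b) = bY b
    rw [Algebra.IsPushout.equiv_tmul, map_one, one_mul]
    rfl
  · intro c
    show Algebra.IsPushout.equiv A A' C C' (1 ⊗ₜ c) = bX c
    rw [Algebra.IsPushout.equiv_tmul, map_one, one_mul]
    rfl
  · refine RingHom.ext fun z => ?_
    induction z using TensorProduct.induction_on with
    | zero => simp
    | add x y hx hy => rw [map_add, map_add, hx, hy]
    | tmul x b =>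
      show φ' (Algebra.IsPushout.equiv A A' B B' (x ⊗ₜ b)) =
        Algebra.IsPushout.equiv A A' C C' (tensorMap A A' B C (x ⊗ₜ b))
      rw [tensorMap_tmul, Algebra.IsPushout.equiv_tmul, Algebra.IsPushout.equiv_tmul, map_mul]
      congr 1
      exact RingHom.congr_fun hcomm b

/-- **Base change of lci maps** along a pair of pushout squares. -/
theorem isLCIHom_baseChange
    (hB : IsPushout (CommRingCat.ofHom h₀) (CommRingCat.ofHom a) (CommRingCat.ofHom a')
      (CommRingCat.ofHom bY))
    (hC : IsPushout (CommRingCat.ofHom h₀) (CommRingCat.ofHom (φ.comp a))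
      (CommRingCat.ofHom (φ'.comp a')) (CommRingCat.ofHom bX))
    (hcomm : φ'.comp bY = bX.comp φ) (hflB : a.Flat) (hflC : (φ.comp a).Flat)
    (hφ : IsLCIHom φ) : IsLCIHom φ' := by
  letI := a.toAlgebra
  letI := h₀.toAlgebra
  letI := (φ.comp a).toAlgebra
  letI := φ.toAlgebra
  haveI : IsScalarTower A B C := IsScalarTower.of_algebraMap_eq fun _ => rfl
  obtain ⟨eB, eC, -, -, hcompat⟩ := exists_equivs a φ h₀ a' φ' bY bX hB hC hcomm
  haveI : Module.Flat A B := hflB
  haveI : Module.Flat A C := hflC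
  have h1 : IsLCIHom (tensorMap A A' B C) := isLCIHom_tensorMap A A' B C hφ
  have h2 : φ' = ((eC : A' ⊗[A] C →+* C').comp (tensorMap A A' B C)).comp
      (eB.symm : B' →+* A' ⊗[A] B) := by
    rw [← hcompat]
    refine RingHom.ext fun x => ?_
    simp
  rw [h2]
  exact isLCIHom_respectsIso.2 _ eB.symm (isLCIHom_respectsIso.1 _ eC h1)

/-- **Fibre criterion for lci maps** along a pair of pushout squares. -/
theorem exists_isLCIHom_of_isPushout
    (hB : IsPushout (CommRingCat.ofHom h₀) (CommRingCat.ofHom a) (CommRingCat.ofHom a')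
      (CommRingCat.ofHom bY))
    (hC : IsPushout (CommRingCat.ofHom h₀) (CommRingCat.ofHom (φ.comp a))
      (CommRingCat.ofHom (φ'.comp a')) (CommRingCat.ofHom bX))
    (hcomm : φ'.comp bY = bX.comp φ) (hflB : a.Flat) (hflC : (φ.comp a).Flat)
    (hfpB : a.FinitePresentation) (hfpC : (φ.comp a).FinitePresentation)
    (s' : C') (𝔮 : Ideal C') [𝔮.IsPrime] (hs : s' ∉ 𝔮)
    (h : IsLCIHom ((algebraMap C' (Localization.Away s')).comp φ')) :
    ∃ c₀ : C, bX c₀ ∉ 𝔮 ∧ IsLCIHom ((algebraMap C (Localization.Away c₀)).comp φ) := by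
  letI := a.toAlgebra
  letI := h₀.toAlgebra
  letI := (φ.comp a).toAlgebra
  letI := φ.toAlgebra
  haveI : IsScalarTower A B C := IsScalarTower.of_algebraMap_eq fun _ => rfl
  obtain ⟨eB, eC, -, hC1, hcompat⟩ := exists_equivs a φ h₀ a' φ' bY bX hB hC hcomm
  haveI : Module.Flat A B := hflB
  haveI : Module.Flat A C := hflC
  haveI : Algebra.FinitePresentation A B := hfpB
  haveI : Algebra.FinitePresentation A C := hfpC
  -- transport the localization
  have hmap : (Submonoid.powers (eC.symm s')).map (eC : A' ⊗[A] C →* C') =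
      Submonoid.powers s' := by
    rw [Submonoid.map_powers]
    congr 1
    exact eC.apply_symm_apply s'
  let ε : Localization.Away (eC.symm s') ≃+* Localization.Away s' :=
    IsLocalization.ringEquivOfRingEquiv (Localization.Away (eC.symm s'))
      (Localization.Away s') eC hmap
  have hε : ∀ x, ε (algebraMap _ _ x) = algebraMap _ _ (eC x) := fun x =>
    IsLocalization.ringEquivOfRingEquiv_eq _ _
  have h2 : (algebraMap (A' ⊗[A] C) (Localization.Away (eC.symm s'))).comp
      (tensorMap A A' B C) = ((ε.symm : Localization.Away s' →+* _).comp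
        ((algebraMap C' (Localization.Away s')).comp φ')).comp (eB : A' ⊗[A] B →+* B') := by
    refine RingHom.ext fun x => ?_
    simp only [RingHom.comp_apply]
    have h3 := RingHom.congr_fun hcompat x
    simp only [RingHom.comp_apply] at h3
    erw [h3]
    rw [RingEquiv.coe_toRingHom, RingEquiv.eq_symm_apply]
    exact hε _
  have h4 : IsLCIHom ((algebraMap (A' ⊗[A] C) (Localization.Away (eC.symm s'))).comp
      (tensorMap A A' B C)) := by
    rw [h2]
    exact isLCIHom_respectsIso.2 _ eB (isLCIHom_respectsIso.1 _ ε.symm h)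
  haveI : (𝔮.comap (eC : A' ⊗[A] C →+* C')).IsPrime := Ideal.comap_isPrime _ 𝔮
  have hs0 : eC.symm s' ∉ 𝔮.comap (eC : A' ⊗[A] C →+* C') := by
    rw [Ideal.mem_comap]
    intro hmem
    apply hs
    have : eC (eC.symm s') = s' := eC.apply_symm_apply s'
    rw [← this]
    exact hmem
  obtain ⟨c₀, hc₀, hlci⟩ := exists_isLCIHom_of_tensor A A' B C (eC.symm s')
    (𝔮.comap (eC : A' ⊗[A] C →+* C')) hs0 h4
  refine ⟨c₀, ?_, hlci⟩
  intro hmem
  apply hc₀
  rw [Ideal.mem_comap]
  show eC (1 ⊗ₜ c₀) ∈ 𝔮
  rw [hC1]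
  exact hmem

end Rings

end Groth.Agent.Lib.Helper94.FibF
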