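import Mathlib
import Groth.Agent.Lib.Helper94.FibF
import Groth.Agent.Lib.Helper43.LCIDescent

/-!
# The Koszul (lci) locus of a morphism of flat lfp schemes commutes with base change (helper94)
-/


set_option autoImplicit false
set_option linter.style.haveILetI false
universe u

open TensorProduct CategoryTheory CategoryTheory.Limits AlgebraicGeometry

namespace Groth.Agent.Lib.Helper94.FibG

open Groth.Agent.Lib.Helper43 Groth.Agent.Lib.Helper94.FibF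
  Groth.Agent.Lib.Helper43.KRComp Groth.Agent.Lib.Helper43.KRLocalProp
  Groth.Agent.Lib.Helper43.KRCodescent Groth.Agent.Lib.Helper43.LCIDescent

/-- affine opens of a fibre product and the pushout square of their rings -/
lemma affine_pushout {X Y S T : Scheme.{u}} {f : T ⟶ S} {g : Y ⟶ X} {iX : X ⟶ S} {iY : Y ⟶ T}
    (H : IsPullback g iY iX f) {US : S.Opens} {UT : T.Opens} {UX : X.Opens}
    (hUST : UT ≤ f ⁻¹ᵁ US) (hUSX : UX ≤ iX ⁻¹ᵁ US) (hUS : IsAffineOpen US)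
    (hUT : IsAffineOpen UT) (hUX : IsAffineOpen UX) :
    IsAffineOpen (g ⁻¹ᵁ UX ⊓ iY ⁻¹ᵁ UT) ∧
      IsPushout (iX.appLE US UX hUSX) (f.appLE US UT hUST)
        (g.appLE UX (g ⁻¹ᵁ UX ⊓ iY ⁻¹ᵁ UT) inf_le_left)
        (iY.appLE UT (g ⁻¹ᵁ UX ⊓ iY ⁻¹ᵁ UT) inf_le_right) := by
  constructor
  · have : IsAffine US.toScheme := hUS
    have : IsAffine UT.toScheme := hUT
    have : IsAffine UX.toScheme := hUX
    exact .of_isIso (Scheme.Hom.isPullback_resLE H hUST hUSX rfl).isoPullback.hom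
  · haveI := isIso_pushoutSection_of_isAffineOpen H hUST hUSX rfl hUS hUT hUX
    exact (isIso_pushoutSection_iff H hUST hUSX rfl).1 inferInstance

section Setup

variable {X Y S X' Y' S' : Scheme.{u}} (f : X ⟶ Y) (g : Y ⟶ S) (h : S' ⟶ S) (gY : Y' ⟶ Y)
  (g' : Y' ⟶ S') (hY : IsPullback gY g' g h) (gX : X' ⟶ X) (f' : X' ⟶ Y')
  (hX : IsPullback gX (f' ≫ g') (f ≫ g) h) (w : gX ≫ f = f' ≫ gY)

include hY hX w in
theorem setup (S₀ : S.Opens) (S₀' : S'.Opens) (V : Y.Opens) (U : X.Opens)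
    (hS₀ : IsAffineOpen S₀) (hS₀' : IsAffineOpen S₀') (hV : IsAffineOpen V) (hU : IsAffineOpen U)
    (eS : S₀' ≤ h ⁻¹ᵁ S₀) (eV : V ≤ g ⁻¹ᵁ S₀) (eU : U ≤ f ⁻¹ᵁ V) :
    ∃ (_ : IsAffineOpen (gY ⁻¹ᵁ V ⊓ g' ⁻¹ᵁ S₀'))
      (_ : IsAffineOpen (gX ⁻¹ᵁ U ⊓ (f' ≫ g') ⁻¹ᵁ S₀'))
      (eU' : gX ⁻¹ᵁ U ⊓ (f' ≫ g') ⁻¹ᵁ S₀' ≤ f' ⁻¹ᵁ (gY ⁻¹ᵁ V ⊓ g' ⁻¹ᵁ S₀')),
      IsPushout (CommRingCat.ofHom (h.appLE S₀ S₀' eS).hom)
        (CommRingCat.ofHom (g.appLE S₀ V eV).hom)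
        (CommRingCat.ofHom (g'.appLE S₀' (gY ⁻¹ᵁ V ⊓ g' ⁻¹ᵁ S₀') inf_le_right).hom)
        (CommRingCat.ofHom (gY.appLE V (gY ⁻¹ᵁ V ⊓ g' ⁻¹ᵁ S₀') inf_le_left).hom) ∧
      IsPushout (CommRingCat.ofHom (h.appLE S₀ S₀' eS).hom)
        (CommRingCat.ofHom ((f.appLE V U eU).hom.comp (g.appLE S₀ V eV).hom))
        (CommRingCat.ofHom ((f'.appLE (gY ⁻¹ᵁ V ⊓ g' ⁻¹ᵁ S₀')
          (gX ⁻¹ᵁ U ⊓ (f' ≫ g') ⁻¹ᵁ S₀') eU').hom.comp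
          (g'.appLE S₀' (gY ⁻¹ᵁ V ⊓ g' ⁻¹ᵁ S₀') inf_le_right).hom))
        (CommRingCat.ofHom (gX.appLE U (gX ⁻¹ᵁ U ⊓ (f' ≫ g') ⁻¹ᵁ S₀') inf_le_left).hom) ∧
      (f'.appLE (gY ⁻¹ᵁ V ⊓ g' ⁻¹ᵁ S₀') (gX ⁻¹ᵁ U ⊓ (f' ≫ g') ⁻¹ᵁ S₀') eU').hom.comp
        (gY.appLE V (gY ⁻¹ᵁ V ⊓ g' ⁻¹ᵁ S₀') inf_le_left).hom =
      (gX.appLE U (gX ⁻¹ᵁ U ⊓ (f' ≫ g') ⁻¹ᵁ S₀') inf_le_left).hom.comp (f.appLE V U eU).hom := by
  have eUS : U ≤ (f ≫ g) ⁻¹ᵁ S₀ := by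
    rw [Scheme.Hom.comp_preimage]
    exact eU.trans (f.preimage_mono eV)
  obtain ⟨hV', hpoY⟩ := affine_pushout hY eS eV hS₀ hS₀' hV
  obtain ⟨hU', hpoX⟩ := affine_pushout hX eS eUS hS₀ hS₀' hU
  have eU' : gX ⁻¹ᵁ U ⊓ (f' ≫ g') ⁻¹ᵁ S₀' ≤ f' ⁻¹ᵁ (gY ⁻¹ᵁ V ⊓ g' ⁻¹ᵁ S₀') := by
    rw [Scheme.Hom.preimage_inf, ← Scheme.Hom.comp_preimage, ← Scheme.Hom.comp_preimage, ← w,
      Scheme.Hom.comp_preimage]
    exact inf_le_inf (gX.preimage_mono eU) le_rfl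
  refine ⟨hV', hU', eU', hpoY.flip, ?_, ?_⟩
  · have h1 : (f ≫ g).appLE S₀ U eUS = g.appLE S₀ V eV ≫ f.appLE V U eU := by
      rw [Scheme.Hom.appLE_comp_appLE]
    have h2 : (f' ≫ g').appLE S₀' (gX ⁻¹ᵁ U ⊓ (f' ≫ g') ⁻¹ᵁ S₀') inf_le_right =
        g'.appLE S₀' (gY ⁻¹ᵁ V ⊓ g' ⁻¹ᵁ S₀') inf_le_right ≫
          f'.appLE (gY ⁻¹ᵁ V ⊓ g' ⁻¹ᵁ S₀') (gX ⁻¹ᵁ U ⊓ (f' ≫ g') ⁻¹ᵁ S₀') eU' := by
      rw [Scheme.Hom.appLE_comp_appLE]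
    have := hpoX.flip
    rw [h1, h2] at this
    exact this
  · have h3 : gY.appLE V (gY ⁻¹ᵁ V ⊓ g' ⁻¹ᵁ S₀') inf_le_left ≫
        f'.appLE (gY ⁻¹ᵁ V ⊓ g' ⁻¹ᵁ S₀') (gX ⁻¹ᵁ U ⊓ (f' ≫ g') ⁻¹ᵁ S₀') eU' =
        f.appLE V U eU ≫ gX.appLE U (gX ⁻¹ᵁ U ⊓ (f' ≫ g') ⁻¹ᵁ S₀') inf_le_left := by
      simp only [Scheme.Hom.appLE_comp_appLE, w]
    exact congrArg CommRingCat.Hom.hom h3

end Setup

/-- the locus of points where `f` is affine-locally lci near the point (the "Koszul locus") -/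
def InK {X Y : Scheme.{u}} (f : X ⟶ Y) (x : X) : Prop :=
  ∃ (U : X.Opens) (V : Y.Opens) (_ : IsAffineOpen U) (_ : IsAffineOpen V) (hUV : U ≤ f ⁻¹ᵁ V),
    x ∈ U ∧ IsLCIHom (f.appLE V U hUV).hom

lemma hPa : RingHom.StableUnderCompositionWithLocalizationAwayTarget @IsLCIHom :=
  (isLCIHom_stableUnderComposition.stableUnderCompositionWithLocalizationAway
    isLCIHom_holdsForLocalizationAway).2

lemma isLCIHom_away_congr {R S T T' : Type u} [CommRing R] [CommRing S] [CommRing T]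
    [CommRing T'] [Algebra S T] [Algebra S T'] (s : S) [IsLocalization.Away s T]
    [IsLocalization.Away s T'] (φ : R →+* S) (h : IsLCIHom ((algebraMap S T).comp φ)) :
    IsLCIHom ((algebraMap S T').comp φ) := by
  let ι : T ≃ₐ[S] T' := IsLocalization.algEquiv (Submonoid.powers s) T T'
  have e : (algebraMap S T').comp φ =
      (ι.toRingEquiv.toRingHom).comp ((algebraMap S T).comp φ) := by
    refine RingHom.ext fun x => ?_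
    simp only [RingHom.comp_apply]
    exact (ι.commutes (φ x)).symm
  rw [e]
  exact isLCIHom_respectsIso.1 _ ι.toRingEquiv h

/-- the prime ideal of sections over `U` vanishing at `x` -/
lemma exists_prime_of_mem {X : Scheme.{u}} (U : X.Opens) (x : X) (hx : x ∈ U) :
    ∃ (𝔮 : Ideal Γ(X, U)) (_ : 𝔮.IsPrime), ∀ t : Γ(X, U), t ∉ 𝔮 ↔ x ∈ X.basicOpen t := by
  refine ⟨(IsLocalRing.maximalIdeal (X.presheaf.stalk x)).comap (X.presheaf.germ U x hx).hom,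
    Ideal.comap_isPrime _ _, fun t => ?_⟩
  rw [Ideal.mem_comap, IsLocalRing.mem_maximalIdeal, mem_nonunits_iff, not_not,
    Scheme.mem_basicOpen _ _ _ hx]

section Main

variable {X Y S X' Y' S' : Scheme.{u}} (f : X ⟶ Y) (g : Y ⟶ S) (h : S' ⟶ S) (gY : Y' ⟶ Y)
  (g' : Y' ⟶ S') (hY : IsPullback gY g' g h) (gX : X' ⟶ X) (f' : X' ⟶ Y')
  (hX : IsPullback gX (f' ≫ g') (f ≫ g) h) (w : gX ≫ f = f' ≫ gY)

include hY hX w in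
/-- **the Koszul locus pulls back into the Koszul locus** -/
theorem inK_baseChange [Flat g] [Flat (f ≫ g)] (x' : X') (hx : InK f (gX x')) : InK f' x' := by
  obtain ⟨U₂, V₂, hU₂, hV₂, e₂, hxU₂, hlci⟩ := hx
  obtain ⟨S₀, hS₀, hsS₀, -⟩ := exists_isAffineOpen_mem_and_subset
    (x := (f ≫ g) (gX x')) (U := ⊤) trivial
  have hs' : (f' ≫ g') x' ∈ h ⁻¹ᵁ S₀ := by
    show h ((f' ≫ g') x') ∈ S₀
    have : h ((f' ≫ g') x') = (f ≫ g) (gX x') := by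
      rw [← Scheme.Hom.comp_apply, ← Scheme.Hom.comp_apply, hX.w]
    rw [this]
    exact hsS₀
  obtain ⟨S₀', hS₀', hs'S₀', eS⟩ := exists_isAffineOpen_mem_and_subset
    (x := (f' ≫ g') x') (U := h ⁻¹ᵁ S₀) hs'
  have hfx : f (gX x') ∈ g ⁻¹ᵁ S₀ := by
    show g (f (gX x')) ∈ S₀
    rw [← Scheme.Hom.comp_apply]
    exact hsS₀
  obtain ⟨V, U, hVle, -, hxU, eU, hlciUV⟩ := exists_affineOpens_le_appLE_of_appLE
    (P := @IsLCIHom) hPa isLCIHom_localizationAwayPreserves (gX x') (g ⁻¹ᵁ S₀) ⟨V₂, hV₂⟩ ⊤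
    ⟨U₂, hU₂⟩ trivial hxU₂ e₂ hlci hfx
  obtain ⟨hV', hU', eU', hpoB, hpoC, hcomm⟩ := setup f g h gY g' hY gX f' hX w S₀ S₀' V.1 U.1
    hS₀ hS₀' V.2 U.2 eS hVle eU
  have hflB : (g.appLE S₀ V.1 hVle).hom.Flat :=
    HasRingHomProperty.appLE (P := @Flat) g inferInstance ⟨S₀, hS₀⟩ V hVle
  have eUS : U.1 ≤ (f ≫ g) ⁻¹ᵁ S₀ := by
    rw [Scheme.Hom.comp_preimage]
    exact eU.trans (f.preimage_mono hVle)
  have hflC : ((f.appLE V.1 U.1 eU).hom.comp (g.appLE S₀ V.1 hVle).hom).Flat := by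
    have h1 := HasRingHomProperty.appLE (P := @Flat) (f ≫ g) inferInstance ⟨S₀, hS₀⟩ U eUS
    rw [← Scheme.Hom.appLE_comp_appLE f g S₀ V.1 U.1 hVle eU] at h1
    exact h1
  have hfin := isLCIHom_baseChange _ _ _ _ _ _ _ hpoB hpoC hcomm hflB hflC hlciUV
  exact ⟨_, _, hU', hV', eU', ⟨hxU, hs'S₀'⟩, hfin⟩

include hY hX w in
/-- **the Koszul locus of the base change maps into the Koszul locus** -/
theorem inK_of_baseChange [Flat g] [Flat (f ≫ g)] [LocallyOfFinitePresentation g]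
    [LocallyOfFinitePresentation (f ≫ g)] (x' : X') (hx' : InK f' x') : InK f (gX x') := by
  obtain ⟨U₂', V₂', hU₂', hV₂', e₂', hx'U₂', hlci'⟩ := hx'
  obtain ⟨S₀, hS₀, hsS₀, -⟩ := exists_isAffineOpen_mem_and_subset
    (x := (f ≫ g) (gX x')) (U := ⊤) trivial
  have hs' : (f' ≫ g') x' ∈ h ⁻¹ᵁ S₀ := by
    show h ((f' ≫ g') x') ∈ S₀
    have : h ((f' ≫ g') x') = (f ≫ g) (gX x') := by
      rw [← Scheme.Hom.comp_apply, ← Scheme.Hom.comp_apply, hX.w]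
    rw [this]
    exact hsS₀
  obtain ⟨S₀', hS₀', hs'S₀', eS⟩ := exists_isAffineOpen_mem_and_subset
    (x := (f' ≫ g') x') (U := h ⁻¹ᵁ S₀) hs'
  have hfx : f (gX x') ∈ g ⁻¹ᵁ S₀ := by
    show g (f (gX x')) ∈ S₀
    rw [← Scheme.Hom.comp_apply]
    exact hsS₀
  obtain ⟨V, hV, hfxV, eV⟩ := exists_isAffineOpen_mem_and_subset (x := f (gX x'))
    (U := g ⁻¹ᵁ S₀) hfx
  obtain ⟨U, hU, hxU, eU⟩ := exists_isAffineOpen_mem_and_subset (x := gX x')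
    (U := f ⁻¹ᵁ V) hfxV
  obtain ⟨hV', hU', eU', hpoB, hpoC, hcomm⟩ := setup f g h gY g' hY gX f' hX w S₀ S₀' V U
    hS₀ hS₀' hV hU eS eV eU
  have hx'U' : x' ∈ gX ⁻¹ᵁ U ⊓ (f' ≫ g') ⁻¹ᵁ S₀' := ⟨hxU, hs'S₀'⟩
  obtain ⟨r, s, hx's, e, hlciD⟩ := exists_basicOpen_le_appLE_of_appLE_of_isAffine
    (P := @IsLCIHom) hPa isLCIHom_localizationAwayPreserves x' ⟨_, hV'⟩ ⟨V₂', hV₂'⟩ ⟨_, hU'⟩
    ⟨U₂', hU₂'⟩ hx'U' hx'U₂' e₂' hlci' (eU' hx'U')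
  haveI := hV'.isLocalization_basicOpen r
  haveI := hU'.isLocalization_basicOpen s
  have hres : IsLCIHom (algebraMap Γ(Y', gY ⁻¹ᵁ V ⊓ g' ⁻¹ᵁ S₀') Γ(Y', Y'.basicOpen r)) :=
    isLCIHom_holdsForLocalizationAway _ r
  have hcompD := hres.comp hlciD
  have heq : (f'.appLE (Y'.basicOpen r) (X'.basicOpen s) e).hom.comp
      (algebraMap Γ(Y', gY ⁻¹ᵁ V ⊓ g' ⁻¹ᵁ S₀') Γ(Y', Y'.basicOpen r)) =
      (algebraMap Γ(X', gX ⁻¹ᵁ U ⊓ (f' ≫ g') ⁻¹ᵁ S₀') Γ(X', X'.basicOpen s)).comp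
        (f'.appLE (gY ⁻¹ᵁ V ⊓ g' ⁻¹ᵁ S₀') (gX ⁻¹ᵁ U ⊓ (f' ≫ g') ⁻¹ᵁ S₀') eU').hom := by
    have h1 : Y'.presheaf.map (homOfLE (Y'.basicOpen_le r)).op ≫
        f'.appLE (Y'.basicOpen r) (X'.basicOpen s) e =
        f'.appLE (gY ⁻¹ᵁ V ⊓ g' ⁻¹ᵁ S₀') (gX ⁻¹ᵁ U ⊓ (f' ≫ g') ⁻¹ᵁ S₀') eU' ≫
          X'.presheaf.map (homOfLE (X'.basicOpen_le s)).op := by
      rw [Scheme.Hom.map_appLE, Scheme.Hom.appLE_map]
    exact congrArg CommRingCat.Hom.hom h1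
  rw [heq] at hcompD
  have hT := isLCIHom_away_congr (T' := Localization.Away s) s _ hcompD
  obtain ⟨𝔮, h𝔮, h𝔮mem⟩ := exists_prime_of_mem (gX ⁻¹ᵁ U ⊓ (f' ≫ g') ⁻¹ᵁ S₀') x' hx'U'
  have hs𝔮 : s ∉ 𝔮 := (h𝔮mem s).2 hx's
  have hflB : (g.appLE S₀ V eV).hom.Flat :=
    HasRingHomProperty.appLE (P := @Flat) g inferInstance ⟨S₀, hS₀⟩ ⟨V, hV⟩ eV
  have hfpB : (g.appLE S₀ V eV).hom.FinitePresentation :=
    HasRingHomProperty.appLE (P := @LocallyOfFinitePresentation) g inferInstance ⟨S₀, hS₀⟩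
      ⟨V, hV⟩ eV
  have eUS : U ≤ (f ≫ g) ⁻¹ᵁ S₀ := by
    rw [Scheme.Hom.comp_preimage]
    exact eU.trans (f.preimage_mono eV)
  have hflC : ((f.appLE V U eU).hom.comp (g.appLE S₀ V eV).hom).Flat := by
    have h1 := HasRingHomProperty.appLE (P := @Flat) (f ≫ g) inferInstance ⟨S₀, hS₀⟩ ⟨U, hU⟩ eUS
    rw [← Scheme.Hom.appLE_comp_appLE f g S₀ V U eV eU] at h1
    exact h1
  have hfpC : ((f.appLE V U eU).hom.comp (g.appLE S₀ V eV).hom).FinitePresentation := by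
    have h1 := HasRingHomProperty.appLE (P := @LocallyOfFinitePresentation) (f ≫ g) inferInstance
      ⟨S₀, hS₀⟩ ⟨U, hU⟩ eUS
    rw [← Scheme.Hom.appLE_comp_appLE f g S₀ V U eV eU] at h1
    exact h1
  obtain ⟨c₀, hc₀, hlci0⟩ := exists_isLCIHom_of_isPushout _ _ _ _ _ _ _ hpoB hpoC hcomm hflB hflC
    hfpB hfpC s 𝔮 hs𝔮 hT
  have hxc₀ : gX x' ∈ X.basicOpen c₀ := by
    have h2 := (h𝔮mem _).1 hc₀
    have h3 : x' ∈ gX ⁻¹ᵁ (X.basicOpen c₀) := by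
      simp only [Scheme.Hom.appLE, CommRingCat.hom_comp, RingHom.comp_apply] at h2
      rw [Scheme.preimage_basicOpen]
      have := Scheme.basicOpen_res X' ((gX.app U).hom c₀)
        (homOfLE (inf_le_left : gX ⁻¹ᵁ U ⊓ (f' ≫ g') ⁻¹ᵁ S₀' ≤ gX ⁻¹ᵁ U)).op
      rw [this] at h2
      exact h2.2
    exact h3
  haveI := hU.isLocalization_basicOpen c₀
  have h5 := isLCIHom_away_congr (T := Localization.Away c₀) (T' := Γ(X, X.basicOpen c₀)) c₀ _ hlci0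
  refine ⟨X.basicOpen c₀, V, hU.basicOpen c₀, hV, (X.basicOpen_le c₀).trans eU, hxc₀, ?_⟩
  have h6 : f.appLE V (X.basicOpen c₀) ((X.basicOpen_le c₀).trans eU) =
      f.appLE V U eU ≫ X.presheaf.map (homOfLE (X.basicOpen_le c₀)).op :=
    (Scheme.Hom.appLE_map f eU (homOfLE (X.basicOpen_le c₀)).op).symm
  rw [h6]
  exact h5

end Main

end Groth.Agent.Lib.Helper94.FibG
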