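import Mathlib
import Groth.Agent.Lib.Helper94.FibP
import Groth.Agent.Lib.Helper51.SmoothStalk

/-!
# Syntomic closed subschemes of smooth schemes are regularly immersed (helper94)
-/

set_option autoImplicit false
set_option linter.style.haveILetI false
universe u

open TensorProduct CategoryTheory CategoryTheory.Limits AlgebraicGeometry

namespace Groth.Agent.Lib.Helper94.FibQ

open Groth.Agent.Lib.Helper94.FibN Groth.Agent.Lib.Helper94.FibO Groth.Agent.Lib.Helper94.FibP

/-- the fibre local rings of a smooth morphism are regular -/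
theorem isRegularLocalRing_fiberStalk_of_smooth {X S : Scheme.{u}} (p : X ⟶ S) [Smooth p] (x : X) :
    IsRegularLocalRing (CInt.fiberStalk p x) := by
  haveI : Smooth (p.fiberToSpecResidueField (p x)) := by
    show Smooth (pullback.snd p (S.fromSpecResidueField (p x)))
    infer_instance
  exact Groth.Agent.Lib.Helper51.isRegularLocalRing_stalk_of_mem_smoothLocus
    (k := S.residueField (p x)) (p.fiberToSpecResidueField (p x)) (p.asFiber x)
    (by rw [Scheme.Hom.smoothLocus_eq_top]; trivial)

/-- a closed subscheme of a smooth `S`-scheme which is syntomic over `S` (flat, lfp, complete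
intersection fibre local rings) is regularly immersed -/
theorem regularClosedImmersion_of_ci {X Y S : Scheme.{u}} (p : X ⟶ S) [Smooth p] (i : Y ⟶ X)
    [IsClosedImmersion i] (hY : CInt.IsCIMorphism (i ≫ p)) : Mor2.IsRegularClosedImmersion i := by
  obtain ⟨hfl, hfp, hci⟩ := hY
  haveI := hfl
  haveI := hfp
  refine ⟨inferInstance, fun y => ?_⟩
  haveI : IsRegularLocalRing (CInt.fiberStalk p (i y)) :=
    isRegularLocalRing_fiberStalk_of_smooth p (i y)
  obtain ⟨V, hyV, hV⟩ := (regular_near_iff_fibre_ci p i y).2 (hci y)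
  obtain ⟨U, hU, hzU, rs, hrs, hker⟩ :=
    Groth.Agent.Lib.Helper94.RegImmPt.regAt_of_restrict i y V hyV hV
  refine ⟨U, hU, hzU, rs, hrs, ?_⟩
  rw [Scheme.Hom.ker_apply]
  exact hker

end Groth.Agent.Lib.Helper94.FibQ
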