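import Mathlib
import Groth.Agent.S2559
import Groth.Agent.Lib.Helper77.MiracleFlat
import Groth.Agent.Lib.Helper67.FiberStalk3
import Groth.Agent.Lib.Helper19.Grp.FlatBaseChangePt

/-!
# EGA IV 15.4.2: flatness criteria for a Cohen–Macaulay scheme over a regular base (helper94)
-/

set_option autoImplicit false
set_option linter.style.haveILetI false
universe u

open CategoryTheory CategoryTheory.Limits AlgebraicGeometry

namespace Groth.Agent.Lib.Helper94.FibV

open Groth.Agent.Lib.Helper67.FiberStalk in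
theorem tfae_main {X Y : Scheme.{u}} [IsLocallyNoetherian Y] (f : X ⟶ Y)
    [LocallyOfFiniteType f] (x : X) (hreg : IsRegularLocalRing (Y.presheaf.stalk (f.base x)))
    (hCM : LocCoh.IsCohenMacaulayLocalRing (X.presheaf.stalk x)) :
    List.TFAE [
      (f.stalkMap x).hom.Flat ∧ LocCoh.IsCohenMacaulayLocalRing ((f.fiber (f.base x)).presheaf.stalk (f.asFiber x)),
      (f.stalkMap x).hom.Flat,
      ∃ U : X.Opens, x ∈ U ∧ UniversallyOpen (U.ι ≫ f),
      (∀ z : ↥(f.fiber (f.base x)), f.asFiber x ∈ closure {z} →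
          (∀ z' : ↥(f.fiber (f.base x)), z ∈ closure {z'} → z' = z) →
          EGA43.IsOpenAt f.base ((f.fiberι (f.base x)).base z)),
      ringKrullDim (X.presheaf.stalk x) =
        ringKrullDim (Y.presheaf.stalk (f.base x)) + ringKrullDim ((f.fiber (f.base x)).presheaf.stalk (f.asFiber x)) ] := by
  haveI hLNX : IsLocallyNoetherian X := LocallyOfFiniteType.isLocallyNoetherian f
  haveI hlfp : LocallyOfFinitePresentation f :=
    LocallyOfFinitePresentation.iff_locallyOfFiniteType.2 inferInstance
  tfae_have 1 → 2 := fun h => h.1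
  tfae_have 2 → 1 := fun h => ⟨h, ((isCM_stalk_iff f x h).1 hCM).2⟩
  tfae_have 2 → 3 := by
    intro h
    refine ⟨Groth.Agent.Lib.Helper19.flatLocus f, h, ?_⟩
    infer_instance
  tfae_have 3 → 4 := by
    rintro ⟨U, hxU, hUO⟩ z hz _
    have hzx : z ⤳ f.asFiber x := specializes_iff_mem_closure.2 hz
    have hpx : (f.fiberι (f.base x)).base z ⤳ x := by
      have h1 := hzx.map (f.fiberι (f.base x)).continuous
      rwa [Scheme.Hom.fiberι_asFiber] at h1
    have hp : (f.fiberι (f.base x)).base z ∈ U := hpx.mem_open U.2 hxU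
    intro N hN
    have hg : IsOpenMap (U.ι ≫ f).base := (U.ι ≫ f).isOpenMap
    have h1 : U.ι.base ⁻¹' N ∈ nhds (⟨_, hp⟩ : U) :=
      U.ι.continuous.continuousAt hN
    have h2 := hg.image_mem_nhds h1
    refine Filter.mem_of_superset h2 ?_
    rintro _ ⟨u, hu, rfl⟩
    exact ⟨U.ι.base u, hu, rfl⟩
  tfae_have 4 → 5 := fun h => Groth.Agent.S2559.result f x h
  tfae_have 5 → 2 := by
    intro h5
    letI : Algebra (Y.presheaf.stalk (f.base x)) (X.presheaf.stalk x) :=
      (f.stalkMap x).hom.toAlgebra
    haveI : IsLocalHom (algebraMap (Y.presheaf.stalk (f.base x)) (X.presheaf.stalk x)) :=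
      inferInstanceAs (IsLocalHom (f.stalkMap x).hom)
    haveI := hreg
    haveI := hCM
    have h5' : ringKrullDim (X.presheaf.stalk x) = ringKrullDim (Y.presheaf.stalk (f.base x)) +
        ringKrullDim (X.presheaf.stalk x ⧸ (IsLocalRing.maximalIdeal
          (Y.presheaf.stalk (f.base x))).map (algebraMap (Y.presheaf.stalk (f.base x))
            (X.presheaf.stalk x))) := by
      rw [h5]
      congr 1
      exact ringKrullDim_fiberStalk f x
    exact Groth.Agent.Lib.Helper77.MiracleFlat.miracle_flatness h5'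
  tfae_finish

end Groth.Agent.Lib.Helper94.FibV
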