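import Mathlib
import Groth.Agent.Lib.Helper94.KosBC
import Groth.Agent.Lib.Helper43.RelRegImmBC

/-!
# Base change of relative Koszul-regular immersions into flat schemes (helper94)
-/

set_option autoImplicit false
set_option linter.style.haveILetI false
universe u

open CategoryTheory CategoryTheory.Limits AlgebraicGeometry TensorProduct

namespace Groth.Agent.Lib.Helper94.KosBC

open Groth.Agent.Lib.Helper43.SeqFlatBC
open Groth.Agent.Lib.Helper43.KoszulAtPerf Groth.Agent.Lib.Helper43.RegImmFlatBC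
open Groth.Agent.Lib.Helper43.RegImmComp Groth.Agent.Lib.Helper43.KindImmDescent
open Groth.Agent.Lib.Helper43.RelRegImmBC

/-- **base change of relative Koszul-regular immersions** into a flat `S`-scheme -/
theorem relKoszulImm_baseChange {Z X S S' X' Z' : Scheme.{u}} (f : X ⟶ S) [Flat f] (i : Z ⟶ X)
    (hi : RegImm.IsRelRegularImmersion .koszul f i) (g : S' ⟶ S)
    (pr₁ : X' ⟶ X) (pr₂ : X' ⟶ S') (hsqX : IsPullback pr₁ pr₂ f g)
    (q : Z' ⟶ Z) (i' : Z' ⟶ X') (hsqZ : IsPullback q i' i pr₁) :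
    RegImm.IsRelRegularImmersion .koszul pr₂ i' := by
  have hbig : IsPullback q (i' ≫ pr₂) (i ≫ f) g := hsqZ.paste_vert hsqX
  haveI : Flat (i ≫ f) := hi.2
  haveI : IsImmersion i := hi.1.1
  haveI : IsImmersion i' := MorphismProperty.of_isPullback hsqZ inferInstance
  refine ⟨⟨inferInstance, fun z' => ?_⟩, MorphismProperty.of_isPullback hbig hi.2⟩
  have hx : pr₁ (i' z') = i (q z') := by
    have := congrArg (fun φ => φ z') hsqZ.w
    simp only [Scheme.Hom.comp_apply] at this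
    exact this.symm
  have hs : g (pr₂ (i' z')) = f (pr₁ (i' z')) := by
    have := congrArg (fun φ => φ (i' z')) hsqX.w
    simp only [Scheme.Hom.comp_apply] at this
    exact this.symm
  obtain ⟨U, hzU, hci, rs, hrs, hker⟩ := hi.1.2 (q z')
  obtain ⟨W, hW, hsW, -⟩ := exists_isAffineOpen_mem_and_subset (x := f (i (q z'))) (U := ⊤) trivial
  obtain ⟨U₁, hU₁, hxU₁, hU₁le⟩ := exists_isAffineOpen_mem_and_subset (x := i (q z'))
    (U := U.1 ⊓ f ⁻¹ᵁ W) ⟨hzU, hsW⟩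
  have hU₁U : U₁ ≤ U.1 := fun y hy => (hU₁le hy).1
  have hU₁W : U₁ ≤ f ⁻¹ᵁ W := fun y hy => (hU₁le hy).2
  haveI := hci
  obtain ⟨hci₁, rs₁, -, hrs₁, hker₁⟩ := chart_restrict .koszul i U.1 U.2 rs hrs hker U₁ hU₁ hU₁U
    (q z') hxU₁
  haveI := hci₁
  have hs'W : pr₂ (i' z') ∈ g ⁻¹ᵁ W := by
    change g (pr₂ (i' z')) ∈ W
    rw [hs, hx]; exact hsW
  obtain ⟨W', hW', hs'W', hW'W⟩ := exists_isAffineOpen_mem_and_subset hs'W
  set U' : X'.Opens := pr₁ ⁻¹ᵁ U₁ ⊓ pr₂ ⁻¹ᵁ W' with hU'def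
  have hpbU := Scheme.Hom.isPullback_resLE hsqX (US := W) (UT := W') (UX := U₁) hW'W hU₁W
    (UY := U') rfl
  haveI : IsAffine (U₁ : Scheme.{u}) := hU₁
  haveI : IsAffine (W : Scheme.{u}) := hW
  haveI : IsAffine (W' : Scheme.{u}) := hW'
  have hU' : IsAffineOpen U' := IsAffine.of_isPullback hpbU
  haveI : IsAffine (U' : Scheme.{u}) := hU'
  have e₁ : U' ≤ pr₁ ⁻¹ᵁ U₁ := inf_le_left
  have e₂ : U' ≤ pr₂ ⁻¹ᵁ W' := inf_le_right
  have hpo := isPushout_appTop_of_isPullback hpbU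
  have hpo' : IsPushout (f.appLE W U₁ hU₁W) (g.appLE W W' hW'W)
      (pr₁.appLE U₁ U' e₁) (pr₂.appLE W' U' e₂) := by
    refine IsPushout.of_iso hpo W.topIso U₁.topIso W'.topIso U'.topIso ?_ ?_ ?_ ?_
    all_goals
      rw [Scheme.Hom.appTop, Scheme.Hom.resLE_app_top]
      simp only [Category.assoc, Iso.inv_hom_id, Category.comp_id]
  have hflat := flat_quotient_of_chart f i W hW U₁ hU₁ hU₁W rs₁ hker₁
  rw [← ofList_eq_span_range_get] at hflat
  have hfl : (f.appLE W U₁ hU₁W).hom.Flat :=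
    (HasRingHomProperty.iff_appLE (P := @Flat)).1 inferInstance ⟨W, hW⟩ ⟨U₁, hU₁⟩ hU₁W
  have hseq := koszulRegular_of_isPushout hpo' rs₁ hrs₁ hfl hflat
  obtain ⟨hci', hker'⟩ := ker_app_baseChange i pr₁ i' q hsqZ U₁ hU₁ U' hU' e₁
  have hx'U' : i' z' ∈ U' := ⟨by change pr₁ (i' z') ∈ U₁; rw [hx]; exact hxU₁, hs'W'⟩
  refine ⟨⟨U', hU'⟩, hx'U', hci', rs₁.map (pr₁.appLE U₁ U' e₁).hom, hseq, ?_⟩
  rw [hker', hker₁, Ideal.map_ofList]

end Groth.Agent.Lib.Helper94.KosBC
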