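import Groth.Agent.Lib.Helper94.KosDivDefs

/-!
# S15901: generic lemmas (two epis with equal kernels, epi/mono/lift on a basis)
-/

set_option autoImplicit false
universe u

namespace Groth.Agent.Lib.Helper94.KosDiv

open CategoryTheory CategoryTheory.Limits AlgebraicGeometry Opposite TopologicalSpace
open Groth.Agent.Lib.Lead.Inv

/-- two epimorphisms with the same kernel have isomorphic targets. -/
theorem nonempty_iso_of_epi_of_kernelSubobject_eq {A : Type*} [Category A] [Abelian A]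
    {W Y₁ Y₂ : A} (p₁ : W ⟶ Y₁) (p₂ : W ⟶ Y₂) [Epi p₁] [Epi p₂]
    (h : kernelSubobject p₁ = kernelSubobject p₂) : Nonempty (Y₁ ≅ Y₂) := by
  have h1 : kernel.ι p₁ ≫ p₂ = 0 := by
    have e : (kernelSubobject p₁).arrow ≫ p₂ = 0 := by
      rw [h]; exact kernelSubobject_arrow_comp p₂
    rw [← kernelSubobject_arrow' p₁, Category.assoc, e, comp_zero]
  have h2 : kernel.ι p₂ ≫ p₁ = 0 := by
    have e : (kernelSubobject p₂).arrow ≫ p₁ = 0 := by
      rw [← h]; exact kernelSubobject_arrow_comp p₁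
    rw [← kernelSubobject_arrow' p₂, Category.assoc, e, comp_zero]
  refine ⟨⟨Abelian.epiDesc p₁ p₂ h1, Abelian.epiDesc p₂ p₁ h2, ?_, ?_⟩⟩
  · rw [← cancel_epi p₁, ← Category.assoc, Abelian.comp_epiDesc, Abelian.comp_epiDesc,
      Category.comp_id]
  · rw [← cancel_epi p₂, ← Category.assoc, Abelian.comp_epiDesc, Abelian.comp_epiDesc,
      Category.comp_id]

variable {X : Scheme.{u}}

theorem epi_of_surjective_of_basis {M N : X.Modules} (g : M ⟶ N) (𝓑 : Set X.Opens)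
    (h𝓑 : Opens.IsBasis 𝓑) (h : ∀ U ∈ 𝓑, Function.Surjective (g.app U)) : Epi g := by
  apply Abelian.epi_of_cokernel_π_eq_zero
  apply Groth.Agent.Lib.Helper14.LogSub.hom_ext_of_basis _ _ 𝓑 h𝓑
  intro U hU n
  obtain ⟨m, rfl⟩ := h U hU n
  rw [Scheme.Modules.Hom.zero_app]
  exact congrArg (fun φ => (Scheme.Modules.Hom.app φ U) m) (cokernel.condition g)

theorem mono_of_injective_of_basis {M N : X.Modules} (g : M ⟶ N) (𝓑 : Set X.Opens)
    (h𝓑 : Opens.IsBasis 𝓑) (h : ∀ U ∈ 𝓑, Function.Injective (g.app U)) : Mono g := by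
  apply Abelian.mono_of_kernel_ι_eq_zero
  apply Groth.Agent.Lib.Helper14.LogSub.hom_ext_of_basis _ _ 𝓑 h𝓑
  intro U hU k
  rw [Scheme.Modules.Hom.zero_app]
  apply h U hU
  have h1 := congrArg (fun φ => (Scheme.Modules.Hom.app φ U) k) (kernel.condition g)
  refine h1.trans ?_
  exact (map_zero _).symm

/-- lifting through a monomorphism, checked on a basis. -/
theorem exists_lift_of_basis {A B W : X.Modules} (φ : A ⟶ B) [Mono φ] (μ : W ⟶ B)
    (𝓑 : Set X.Opens) (h𝓑 : Opens.IsBasis 𝓑)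
    (h : ∀ U ∈ 𝓑, ∀ w : Γ(W, U), ∃ a : Γ(A, U), φ.app U a = μ.app U w) :
    ∃ θ : W ⟶ A, θ ≫ φ = μ := by
  have w : μ ≫ cokernel.π φ = 0 := by
    apply Groth.Agent.Lib.Helper14.LogSub.hom_ext_of_basis _ _ 𝓑 h𝓑
    intro U hU a
    obtain ⟨a', ha'⟩ := h U hU a
    rw [Scheme.Modules.Hom.comp_app, Scheme.Modules.Hom.zero_app]
    change (cokernel.π φ).app U (μ.app U a) = 0
    rw [← ha']
    exact congrArg (fun ψ => (Scheme.Modules.Hom.app ψ U) a') (cokernel.condition φ)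
  exact ⟨Abelian.monoLift φ μ w, Abelian.monoLift_comp φ μ w⟩

end Groth.Agent.Lib.Helper94.KosDiv
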