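import Groth.Agent.Lib.Helper94.KosDivA

/-!
# S15901: local analysis. On a good affine open `K'(U)` is `K(U)` with differential `x • d`.
-/

set_option autoImplicit false
universe u

namespace Groth.Agent.Lib.Helper94.KosDiv

open CategoryTheory CategoryTheory.Limits AlgebraicGeometry Opposite TopologicalSpace exteriorPower
open Groth.Agent.Lib.Lead.Inv
open Groth.Agent.Lib.Helper94.KosShB Groth.Agent.Lib.Helper94.KosShF

variable {X : Scheme.{u}} {E E' : X.Modules} {s : E ⟶ Coh.structureModule X}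
  {s' : E' ⟶ Coh.structureModule X} (C : KoszSh.Cx E s) (C' : KoszSh.Cx E' s') (j : E' ⟶ E)

/-- local scaling data on an affine open. -/
structure LocData (U : X.affineOpens) where
  x : Γ(X, U.1)
  ε : Γ(E, U.1) ≃ₗ[Γ(X, U.1)] Γ(E', U.1)
  hε : ∀ e, j.app U.1 (ε e) = x • e

variable {j} {U : X.affineOpens} (D : LocData j U)

/-- `Λ^p ε` read through `loc`. -/
noncomputable def sig (p : ℕ) : Γ(C.K.X p, U.1) →ₗ[Γ(X, U.1)] Γ(C'.K.X p, U.1) :=
  (C'.loc p U).symm.toLinearMap ∘ₗ exteriorPower.map p D.ε.toLinearMap ∘ₗ (C.loc p U).toLinearMap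

noncomputable def sigInv (p : ℕ) : Γ(C'.K.X p, U.1) →ₗ[Γ(X, U.1)] Γ(C.K.X p, U.1) :=
  (C.loc p U).symm.toLinearMap ∘ₗ exteriorPower.map p D.ε.symm.toLinearMap ∘ₗ
    (C'.loc p U).toLinearMap

theorem sig_sigInv (p : ℕ) (k' : Γ(C'.K.X p, U.1)) : sig C C' D p (sigInv C C' D p k') = k' := by
  change (C'.loc p U).symm (exteriorPower.map p D.ε.toLinearMap
    (C.loc p U ((C.loc p U).symm (exteriorPower.map p D.ε.symm.toLinearMap (C'.loc p U k'))))) = k'
  rw [LinearEquiv.apply_symm_apply, ← LinearMap.comp_apply, ← exteriorPower.map_comp,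
    LinearEquiv.comp_symm, exteriorPower.map_id, LinearMap.id_apply, LinearEquiv.symm_apply_apply]

theorem sigInv_sig (p : ℕ) (k : Γ(C.K.X p, U.1)) : sigInv C C' D p (sig C C' D p k) = k := by
  change (C.loc p U).symm (exteriorPower.map p D.ε.symm.toLinearMap
    (C'.loc p U ((C'.loc p U).symm (exteriorPower.map p D.ε.toLinearMap (C.loc p U k))))) = k
  rw [LinearEquiv.apply_symm_apply, ← LinearMap.comp_apply, ← exteriorPower.map_comp,
    LinearEquiv.symm_comp, exteriorPower.map_id, LinearMap.id_apply, LinearEquiv.symm_apply_apply]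

theorem sig_injective (p : ℕ) : Function.Injective (sig C C' D p) :=
  Function.LeftInverse.injective (sigInv_sig C C' D p)

theorem sig_surjective (p : ℕ) : Function.Surjective (sig C C' D p) :=
  fun k' => ⟨_, sig_sigInv C C' D p k'⟩

theorem ιMulti_smul_const {R M : Type*} [CommRing R] [AddCommGroup M] [Module R M] (p : ℕ)
    (x : R) (e : Fin p → M) : ιMulti R p (fun i => x • e i) = x ^ p • ιMulti R p e := by
  have h := (ιMulti R p (M := M)).map_smul_univ (fun _ => x) e
  rw [Finset.prod_const, Finset.card_univ, Fintype.card_fin] at h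
  exact h

variable (φ : C'.K ⟶ C.K)
  (hφ : ∀ (p : ℕ) (U : X.affineOpens) (e : Fin p → Γ(E', U.1)),
      (φ.f p).app U.1 ((C'.loc p U).symm (ιMulti _ p e)) =
        (C.loc p U).symm (ιMulti _ p (fun i => j.app U.1 (e i))))

include hφ in
/-- L1. -/
theorem phi_sig (p : ℕ) (k : Γ(C.K.X p, U.1)) :
    (φ.f p).app U.1 (sig C C' D p k) = D.x ^ p • k := by
  obtain ⟨y, rfl⟩ : ∃ y, k = (C.loc p U).symm y :=
    ⟨C.loc p U k, (LinearEquiv.symm_apply_apply _ _).symm⟩
  induction y using dec_induction with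
  | h0 => simp
  | hadd a b ha hb =>
    rw [map_add, map_add, map_add, smul_add, ha, hb]
  | hsmul r e =>
    have h1 : sig C C' D p ((C.loc p U).symm (r • ιMulti _ p e)) =
        r • (C'.loc p U).symm (ιMulti _ p (fun i => D.ε (e i))) := by
      change (C'.loc p U).symm (exteriorPower.map p D.ε.toLinearMap
        (C.loc p U ((C.loc p U).symm (r • ιMulti _ p e)))) = _
      rw [LinearEquiv.apply_symm_apply, map_smul, map_smul, map_apply_ιMulti]
      rfl
    rw [h1]
    refine (Scheme.Modules.Hom.app_smul (φ.f p) r _).trans ?_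
    rw [hφ p U]
    have h2 : (fun i => j.app U.1 (D.ε (e i))) = fun i => D.x • e i := by
      funext i
      exact D.hε (e i)
    rw [h2, ιMulti_smul_const, map_smul, map_smul, smul_comm]

/-- L2. -/
theorem isSMulRegular_X (hfree : Module.Free Γ(X, U.1) Γ(E, U.1)) {x : Γ(X, U.1)}
    (hx : x ∈ nonZeroDivisors Γ(X, U.1)) (p : ℕ) : IsSMulRegular Γ(C.K.X p, U.1) x := by
  have : Module.Free Γ(X, U.1) Γ(E, U.1) := hfree
  have hfl : Module.Free Γ(X, U.1) (↥(⋀[Γ(X, U.1)]^p Γ(E, U.1))) := inferInstance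
  have hflat : Module.Flat Γ(X, U.1) (↥(⋀[Γ(X, U.1)]^p Γ(E, U.1))) := inferInstance
  have hreg : IsSMulRegular (↥(⋀[Γ(X, U.1)]^p Γ(E, U.1))) x :=
    Module.Flat.isSMulRegular_of_nonZeroDivisors (R := Γ(X, U.1))
      (M := ↥(⋀[Γ(X, U.1)]^p Γ(E, U.1))) hx
  intro a b hab
  apply (C.loc p U).injective
  apply hreg
  change x • C.loc p U a = x • C.loc p U b
  rw [← map_smul, ← map_smul]
  exact congrArg _ hab

include hφ in
/-- L3. -/
theorem phi_injective (hfree : Module.Free Γ(X, U.1) Γ(E, U.1))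
    (hx : D.x ∈ nonZeroDivisors Γ(X, U.1)) (p : ℕ) :
    Function.Injective ((φ.f p).app U.1) := by
  rw [injective_iff_map_eq_zero]
  intro a ha
  have h1 := phi_sig C C' D φ hφ p (sigInv C C' D p a)
  rw [sig_sigInv, ha] at h1
  have h2 : sigInv C C' D p a = 0 := by
    have hr := (isSMulRegular_X C hfree hx p).pow p
    apply hr
    change D.x ^ p • sigInv C C' D p a = D.x ^ p • 0
    rw [smul_zero]
    exact h1.symm
  rw [← sig_sigInv C C' D p a, h2, map_zero]

include hφ in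
/-- L4 (★). -/
theorem d_sig (hfree : Module.Free Γ(X, U.1) Γ(E, U.1))
    (hx : D.x ∈ nonZeroDivisors Γ(X, U.1)) (p : ℕ) (k : Γ(C.K.X (p + 1), U.1)) :
    (C'.K.d (p + 1) p).app U.1 (sig C C' D (p + 1) k) =
      D.x • sig C C' D p ((C.K.d (p + 1) p).app U.1 k) := by
  apply phi_injective C C' D φ hφ hfree hx p
  have hc := congrArg (fun ψ => (Scheme.Modules.Hom.app ψ U.1) (sig C C' D (p + 1) k))
    (φ.comm (p + 1) p)
  have hc' : (C.K.d (p + 1) p).app U.1 ((φ.f (p + 1)).app U.1 (sig C C' D (p + 1) k)) =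
      (φ.f p).app U.1 ((C'.K.d (p + 1) p).app U.1 (sig C C' D (p + 1) k)) := hc
  rw [← hc', phi_sig C C' D φ hφ]
  refine ((C.K.d (p + 1) p).app_smul _ _).trans ?_
  refine Eq.trans ?_ ((φ.f p).app_smul _ _).symm
  rw [phi_sig C C' D φ hφ, smul_smul, pow_succ']

include hφ in
/-- cycles condition transfers. -/
theorem d_sig_eq_zero_iff (hfree : Module.Free Γ(X, U.1) Γ(E, U.1))
    (hx : D.x ∈ nonZeroDivisors Γ(X, U.1)) (q : ℕ) (k : Γ(C.K.X q, U.1)) :
    (C'.K.d q (q - 1)).app U.1 (sig C C' D q k) = 0 ↔ (C.K.d q (q - 1)).app U.1 k = 0 := by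
  cases q with
  | zero =>
    have h1 : C.K.d 0 (0 - 1) = 0 := C.K.shape _ _ (by simp)
    have h2 : C'.K.d 0 (0 - 1) = 0 := C'.K.shape _ _ (by simp)
    rw [h1, h2]
    exact ⟨fun _ => rfl, fun _ => rfl⟩
  | succ p =>
    change (C'.K.d (p + 1) p).app U.1 _ = 0 ↔ (C.K.d (p + 1) p).app U.1 k = 0
    rw [d_sig C C' D φ hφ hfree hx p k]
    constructor
    · intro h
      have h3 : sig C C' D p (D.x • (C.K.d (p + 1) p).app U.1 k) = 0 := by
        rw [map_smul]; exact h
      have h4 : D.x • (C.K.d (p + 1) p).app U.1 k = 0 :=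
        sig_injective C C' D p (h3.trans (map_zero _).symm)
      apply isSMulRegular_X C hfree hx p
      change D.x • _ = D.x • 0
      rw [smul_zero]
      exact h4
    · intro h
      rw [h, map_zero, smul_zero]

end Groth.Agent.Lib.Helper94.KosDiv
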