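import Groth.Agent.Lib.Helper94.KosDivB
import Groth.Agent.Lib.Helper40.QCohCoprod
import Groth.Agent.Lib.Helper68.KosDivQC
import Groth.Agent.Lib.Helper91.KosDivMU
import Groth.Agent.Lib.Helper17.KosDivPB
import Groth.Agent.Lib.Helper40.KosDivINC
import Groth.Agent.Lib.Helper18.KosDivSC
import Groth.Agent.Lib.Helper18.KosDivFR
import Groth.Agent.Lib.Helper24.KosDivBAS
import Groth.Agent.Lib.Helper47.KosDivEX
import Groth.Agent.Lib.Helper91.KosDivUN
import Groth.Agent.Lib.Helper87.KosDivRHO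

/-!
# S15901: global constructions
-/

set_option autoImplicit false
set_option linter.style.haveILetI false
set_option linter.unusedSectionVars false
universe u

namespace Groth.Agent.Lib.Helper94.KosDiv

open CategoryTheory CategoryTheory.Limits AlgebraicGeometry Opposite TopologicalSpace exteriorPower
open Groth.Agent.Lib.Lead.Inv Groth.Agent.Lib.Lead.QCohAff
open Groth.Agent.Lib.Helper94.KosShB Groth.Agent.Lib.Helper94.KosShF
open Groth.Agent.Lib.Helper68.KosDivQC Groth.Agent.Lib.Helper91.KosDivMU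
open Groth.Agent.Lib.Helper17.KosDivPB Groth.Agent.Lib.Helper40.KosDivINC
open Groth.Agent.Lib.Helper18.KosDivSC Groth.Agent.Lib.Helper18.KosDivFR
open Groth.Agent.Lib.Helper24.KosDivBAS Groth.Agent.Lib.Helper47.KosDivEX
open Groth.Agent.Lib.Helper91.KosDivUN Groth.Agent.Lib.Helper87.KosDivRHO

variable {X : Scheme.{u}}

theorem next_eq (q : ℕ) : (ComplexShape.down ℕ).next q = q - 1 := by
  cases q with
  | zero => simp
  | succ p => simp

theorem prev_eq (q : ℕ) : (ComplexShape.down ℕ).prev q = q + 1 := by simp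

section QC

variable {E : X.Modules} [E.IsQuasicoherent] {s : E ⟶ Coh.structureModule X} (C : KoszSh.Cx E s)

theorem qc_X (p : ℕ) : (C.K.X p).IsQuasicoherent :=
  isQuasicoherent_of_isExtPow E (C.K.X p) p (C.isExtPow p)

theorem qc_cycles (q : ℕ) : (C.K.cycles q).IsQuasicoherent := by
  haveI := qc_X C q
  haveI := qc_X C (q - 1)
  haveI : (kernel (C.K.d q (q - 1))).IsQuasicoherent :=
    Groth.Agent.Lib.Helper21.QCohKernel.isQuasicoherent_kernel _
  let e :=
    IsLimit.conePointUniqueUpToIso (C.K.cyclesIsKernel q (q - 1) (next_eq q))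
      (kernelIsKernel (C.K.d q (q - 1)))
  exact Groth.Agent.Lib.Helper40.QCohCoprod.qc_of_iso e.symm
    (show (kernel (C.K.d q (q - 1))).IsQuasicoherent from inferInstance)

theorem qc_homology (q : ℕ) : (C.K.homology q).IsQuasicoherent := by
  haveI := qc_X C (q + 1)
  haveI := qc_cycles C q
  haveI : (cokernel (C.K.toCycles (q + 1) q)).IsQuasicoherent :=
    Groth.Agent.Lib.Helper21.QCohKernel.isQuasicoherent_cokernel _
  let e :=
    IsColimit.coconePointUniqueUpToIso (C.K.homologyIsCokernel (q + 1) q (prev_eq q))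
      (cokernelIsCokernel (C.K.toCycles (q + 1) q))
  exact Groth.Agent.Lib.Helper40.QCohCoprod.qc_of_iso e.symm
    (show (cokernel (C.K.toCycles (q + 1) q)).IsQuasicoherent from inferInstance)

/-- sections of cycles: existence. -/
theorem exists_cycle (q : ℕ) (U : X.Opens) (k : Γ(C.K.X q, U))
    (hk : (C.K.d q (q - 1)).app U k = 0) : ∃ z : Γ(C.K.cycles q, U), (C.K.iCycles q).app U z = k := by
  let e :=
    IsLimit.conePointUniqueUpToIso (C.K.cyclesIsKernel q (q - 1) (next_eq q))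
      (kernelIsKernel (C.K.d q (q - 1)))
  have he : e.inv ≫ C.K.iCycles q = kernel.ι (C.K.d q (q - 1)) :=
    IsLimit.conePointUniqueUpToIso_inv_comp (C.K.cyclesIsKernel q (q - 1) (next_eq q))
      (kernelIsKernel (C.K.d q (q - 1))) WalkingParallelPair.zero
  obtain ⟨t, ht⟩ := Groth.Agent.Lib.Helper2.KerSec.exists_of_app_eq_zero (C.K.d q (q - 1)) U k hk
  refine ⟨e.inv.app U t, ?_⟩
  have h1 := congrArg (fun ψ => (Scheme.Modules.Hom.app ψ U) t) he
  exact h1.trans ht

theorem iCycles_app_injective (q : ℕ) (U : X.Opens) :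
    Function.Injective ((C.K.iCycles q).app U) :=
  Groth.Agent.Lib.Helper14.LogSub.app_injective_of_mono (C.K.iCycles q) U

theorem d_iCycles_app (q : ℕ) (U : X.Opens) (z : Γ(C.K.cycles q, U)) :
    (C.K.d q (q - 1)).app U ((C.K.iCycles q).app U z) = 0 :=
  congrArg (fun ψ => (Scheme.Modules.Hom.app ψ U) z) (C.K.iCycles_d q (q - 1))

theorem toCycles_i_app (q : ℕ) (U : X.Opens) (k : Γ(C.K.X (q + 1), U)) :
    (C.K.iCycles q).app U ((C.K.toCycles (q + 1) q).app U k) = (C.K.d (q + 1) q).app U k :=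
  congrArg (fun ψ => (Scheme.Modules.Hom.app ψ U) k) (C.K.toCycles_i (q + 1) q)

/-- exactness on affine sections. -/
theorem homologyπ_eq_zero_iff (q : ℕ) {U : X.Opens} (hU : IsAffineOpen U)
    (z : Γ(C.K.cycles q, U)) :
    (C.K.homologyπ q).app U z = 0 ↔ ∃ k : Γ(C.K.X (q + 1), U), (C.K.toCycles (q + 1) q).app U k = z := by
  haveI := qc_X C (q + 1)
  haveI := qc_cycles C q
  constructor
  · intro h
    exact exists_app_eq_of_isColimit (C.K.toCycles (q + 1) q) (C.K.homologyπ q)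
      (C.K.toCycles_comp_homologyπ (q + 1) q) (C.K.homologyIsCokernel (q + 1) q (prev_eq q)) hU z h
  · rintro ⟨k, rfl⟩
    exact congrArg (fun ψ => (Scheme.Modules.Hom.app ψ U) k) (C.K.toCycles_comp_homologyπ (q + 1) q)

end QC

section Tensor

variable {L : X.Modules} {U : X.Opens} {l : Γ(L, U)} (hl : IsGen L U l)

include hl in
theorem exists_tmul_genPow (M : X.Modules) (q : ℕ)
    (w : Γ(CohB1.tensorMod M (CohB1.tensorPow L q), U)) :
    ∃ m : Γ(M, U), w = SecTwist.tmul M (CohB1.tensorPow L q) U m (genPow l q) := by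
  set e := tmulREquiv M (isGen_genPow hl q) le_rfl with he
  refine ⟨e.symm w, ?_⟩
  have h1 : w = e (e.symm w) := (LinearEquiv.apply_symm_apply _ _).symm
  rw [he, tmulREquiv_apply, res_self] at h1
  exact h1

include hl in
theorem tmul_genPow_eq_zero_iff (M : X.Modules) (q : ℕ) (m : Γ(M, U)) :
    SecTwist.tmul M (CohB1.tensorPow L q) U m (genPow l q) = 0 ↔ m = 0 := by
  have h1 := tmulREquiv_apply M (isGen_genPow hl q) le_rfl m
  rw [res_self] at h1
  constructor
  · intro h0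
    have : tmulREquiv M (isGen_genPow hl q) le_rfl m = 0 := h1.trans h0
    exact (LinearEquiv.map_eq_zero_iff _).mp this
  · intro h0
    rw [h0]
    exact tmul_zero_left _ _ _

end Tensor

section Main

variable {E E' : X.Modules} [E.IsQuasicoherent] [E'.IsQuasicoherent]
  {s : E ⟶ Coh.structureModule X} {s' : E' ⟶ Coh.structureModule X}
  (C : KoszSh.Cx E s) (C' : KoszSh.Cx E' s') (j : E' ⟶ E) (ID : X.IdealSheafData)

/-- good local data. -/
structure GoodData (U : X.Opens) where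
  hU : IsAffineOpen U
  l : Γ(ClSub.idealMod ID, U)
  hl : IsGen (ClSub.idealMod ID) U l
  hx : Groth.Agent.Lib.Helper22.IdealModAff.incl ID U l ∈ nonZeroDivisors Γ(X, U)
  hspan : ID.ideal ⟨U, hU⟩ = Ideal.span {Groth.Agent.Lib.Helper22.IdealModAff.incl ID U l}
  hfree : Module.Free Γ(X, U) Γ(E, U)
  ε : Γ(E, U) ≃ₗ[Γ(X, U)] Γ(E', U)
  hε : ∀ e, j.app U (ε e) = Groth.Agent.Lib.Helper22.IdealModAff.incl ID U l • e

variable {j ID}

/-- the scaling data of good local data. -/
noncomputable def GoodData.D {U : X.Opens} (G : GoodData (E := E) (E' := E') j ID U) : LocData j ⟨U, G.hU⟩ :=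
  ⟨Groth.Agent.Lib.Helper22.IdealModAff.incl ID U G.l, G.ε, G.hε⟩

theorem secForm_eq_incl (U : X.Opens) (l : Γ(ClSub.idealMod ID, U)) :
    KoszSh.secForm (ClSub.idealModι ID) U l = Groth.Agent.Lib.Helper22.IdealModAff.incl ID U l :=
  rfl

variable (φ : C'.K ⟶ C.K)
  (hφ : ∀ (p : ℕ) (U : X.affineOpens) (e : Fin p → Γ(E', U.1)),
      (φ.f p).app U.1 ((C'.loc p U).symm (ιMulti _ p e)) =
        (C.loc p U).symm (ιMulti _ p (fun i => j.app U.1 (e i))))
  (𝓑 : Set X.Opens) (h𝓑 : Opens.IsBasis 𝓑)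
  (hG : ∀ U ∈ 𝓑, Nonempty (GoodData (E := E) (E' := E') j ID U))

include hφ h𝓑 hG in
theorem phi_mono (q : ℕ) : Mono (φ.f q) := by
  apply mono_of_injective_of_basis _ 𝓑 h𝓑
  intro U hU
  obtain ⟨G⟩ := hG U hU
  exact phi_injective C C' G.D φ hφ G.hfree G.hx q

include hφ h𝓑 hG in
theorem exists_theta (q : ℕ) :
    ∃ θ : CohB1.tensorMod (C.K.X q) (CohB1.tensorPow (ClSub.idealMod ID) q) ⟶ C'.K.X q,
      θ ≫ φ.f q = mu (ClSub.idealModι ID) (C.K.X q) q := by
  haveI := phi_mono C C' φ hφ 𝓑 h𝓑 hG q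
  apply exists_lift_of_basis (φ.f q) _ 𝓑 h𝓑
  intro U hU w
  obtain ⟨G⟩ := hG U hU
  obtain ⟨k, rfl⟩ := exists_tmul_genPow G.hl (C.K.X q) q w
  refine ⟨sig C C' G.D q k, ?_⟩
  rw [mu_tmul, secForm_eq_incl]
  exact phi_sig C C' G.D φ hφ q k

variable {q : ℕ}
  (θ : CohB1.tensorMod (C.K.X q) (CohB1.tensorPow (ClSub.idealMod ID) q) ⟶ C'.K.X q)
  (hθ : θ ≫ φ.f q = mu (ClSub.idealModι ID) (C.K.X q) q)

include hφ hθ in
theorem theta_app {U : X.Opens} (G : GoodData (E := E) (E' := E') j ID U) (k : Γ(C.K.X q, U)) :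
    θ.app U (SecTwist.tmul (C.K.X q) (CohB1.tensorPow (ClSub.idealMod ID) q) U k (genPow G.l q)) =
      sig C C' G.D q k := by
  apply phi_injective C C' G.D φ hφ G.hfree G.hx q
  have h1 := congrArg (fun ψ : CohB1.tensorMod (C.K.X q) (CohB1.tensorPow (ClSub.idealMod ID) q) ⟶
      C.K.X q => (Scheme.Modules.Hom.app ψ U)
    (show Γ(CohB1.tensorMod (C.K.X q) (CohB1.tensorPow (ClSub.idealMod ID) q), U) from
      SecTwist.tmul (C.K.X q) (CohB1.tensorPow (ClSub.idealMod ID) q) U k (genPow G.l q))) hθ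
  refine Eq.trans h1 ?_
  rw [mu_tmul, secForm_eq_incl]
  exact (phi_sig C C' G.D φ hφ q k).symm

include hφ hθ h𝓑 hG in
theorem exists_lam :
    ∃ lam : CohB1.tensorMod (C.K.cycles q) (CohB1.tensorPow (ClSub.idealMod ID) q) ⟶ C'.K.cycles q,
      lam ≫ C'.K.iCycles q =
        KoszTw.tensorMap (C.K.iCycles q) (𝟙 (CohB1.tensorPow (ClSub.idealMod ID) q)) ≫ θ := by
  have w0 : (KoszTw.tensorMap (C.K.iCycles q) (𝟙 (CohB1.tensorPow (ClSub.idealMod ID) q)) ≫ θ) ≫
      C'.K.d q (q - 1) = 0 := by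
    apply Groth.Agent.Lib.Helper14.LogSub.hom_ext_of_basis _ _ 𝓑 h𝓑
    intro U hU w
    obtain ⟨G⟩ := hG U hU
    obtain ⟨z, rfl⟩ := exists_tmul_genPow G.hl (C.K.cycles q) q w
    rw [Scheme.Modules.Hom.zero_app]
    change (C'.K.d q (q - 1)).app U (θ.app U
      ((KoszTw.tensorMap (C.K.iCycles q) (𝟙 (CohB1.tensorPow (ClSub.idealMod ID) q))).app U _)) = 0
    rw [KoszTw.tensorMap_tmul]
    change (C'.K.d q (q - 1)).app U (θ.app U
      (SecTwist.tmul (C.K.X q) (CohB1.tensorPow (ClSub.idealMod ID) q) U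
        ((C.K.iCycles q).app U z) (genPow G.l q))) = 0
    rw [theta_app C C' φ hφ θ hθ G]
    exact (d_sig_eq_zero_iff C C' G.D φ hφ G.hfree G.hx q _).mpr (d_iCycles_app C q U z)
  exact ⟨C'.K.liftCycles _ (q - 1) (next_eq q) w0, C'.K.liftCycles_i _ _ _ _⟩

variable (lam : CohB1.tensorMod (C.K.cycles q) (CohB1.tensorPow (ClSub.idealMod ID) q) ⟶
    C'.K.cycles q)
  (hlam : lam ≫ C'.K.iCycles q =
    KoszTw.tensorMap (C.K.iCycles q) (𝟙 (CohB1.tensorPow (ClSub.idealMod ID) q)) ≫ θ)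

include hφ hθ hlam in
theorem lam_app {U : X.Opens} (G : GoodData (E := E) (E' := E') j ID U)
    (z : Γ(C.K.cycles q, U)) :
    (C'.K.iCycles q).app U (lam.app U
      (SecTwist.tmul (C.K.cycles q) (CohB1.tensorPow (ClSub.idealMod ID) q) U z (genPow G.l q))) =
      sig C C' G.D q ((C.K.iCycles q).app U z) := by
  have h1 := congrArg (fun ψ : CohB1.tensorMod (C.K.cycles q)
      (CohB1.tensorPow (ClSub.idealMod ID) q) ⟶ C'.K.X q => (Scheme.Modules.Hom.app ψ U)
    (show Γ(CohB1.tensorMod (C.K.cycles q) (CohB1.tensorPow (ClSub.idealMod ID) q), U) from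
      SecTwist.tmul (C.K.cycles q) (CohB1.tensorPow (ClSub.idealMod ID) q) U z (genPow G.l q)))
    hlam
  refine Eq.trans h1 ?_
  change θ.app U ((KoszTw.tensorMap (C.K.iCycles q)
    (𝟙 (CohB1.tensorPow (ClSub.idealMod ID) q))).app U _) = _
  rw [KoszTw.tensorMap_tmul]
  exact theta_app C C' φ hφ θ hθ G _

/-- the fibre product. -/
noncomputable abbrev PP (ID : X.IdealSheafData) {Z H : X.Modules} (π : Z ⟶ H) : X.Modules :=
  pullback
    ((Scheme.Modules.pullback ID.subschemeι ⋙ Scheme.Modules.pushforward ID.subschemeι).map π)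
    ((Scheme.Modules.pullbackPushforwardAdjunction ID.subschemeι).unit.app H)

/-- the canonical map to the fibre product. -/
noncomputable def rho (ID : X.IdealSheafData) {Z H : X.Modules} (π : Z ⟶ H) : Z ⟶ PP ID π :=
  pullback.lift ((Scheme.Modules.pullbackPushforwardAdjunction ID.subschemeι).unit.app Z) π
    ((Scheme.Modules.pullbackPushforwardAdjunction ID.subschemeι).unit.naturality π).symm

theorem rho_fst_app (ID : X.IdealSheafData) {Z H : X.Modules} (π : Z ⟶ H) (U : X.Opens)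
    (z : Γ(Z, U)) :
    (pullback.fst
      ((Scheme.Modules.pullback ID.subschemeι ⋙ Scheme.Modules.pushforward ID.subschemeι).map π)
      ((Scheme.Modules.pullbackPushforwardAdjunction ID.subschemeι).unit.app H)).app U
        ((rho ID π).app U z) =
      ((Scheme.Modules.pullbackPushforwardAdjunction ID.subschemeι).unit.app Z).app U z :=
  congrArg (fun ψ => (Scheme.Modules.Hom.app ψ U) z) (pullback.lift_fst _ _ _)

theorem rho_snd_app (ID : X.IdealSheafData) {Z H : X.Modules} (π : Z ⟶ H) (U : X.Opens)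
    (z : Γ(Z, U)) :
    (pullback.snd
      ((Scheme.Modules.pullback ID.subschemeι ⋙ Scheme.Modules.pushforward ID.subschemeι).map π)
      ((Scheme.Modules.pullbackPushforwardAdjunction ID.subschemeι).unit.app H)).app U
        ((rho ID π).app U z) = π.app U z :=
  congrArg (fun ψ => (Scheme.Modules.Hom.app ψ U) z) (pullback.lift_snd _ _ _)

theorem rho_app_eq_zero_iff (ID : X.IdealSheafData) {Z H : X.Modules} (π : Z ⟶ H) (U : X.Opens)
    (z : Γ(Z, U)) :
    (rho ID π).app U z = 0 ↔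
      ((Scheme.Modules.pullbackPushforwardAdjunction ID.subschemeι).unit.app Z).app U z = 0 ∧
        π.app U z = 0 := by
  constructor
  · intro h
    refine ⟨?_, ?_⟩
    · rw [← rho_fst_app, h, map_zero]
    · rw [← rho_snd_app ID π U z, h, map_zero]
  · rintro ⟨h1, h2⟩
    apply pullback_sec_ext
    · rw [rho_fst_app, h1, map_zero]
    · rw [rho_snd_app, h2, map_zero]

variable (hreg : ∀ (U : X.affineOpens) (x : Γ(X, U.1)), x ∈ nonZeroDivisors Γ(X, U.1) →
    ID.ideal U = Ideal.span {x} → IsSMulRegular Γ(C.K.homology q, U.1) x)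

include hφ hθ hlam hreg in
/-- the kernel comparison on a good open. -/
theorem ker_iff {U : X.Opens} (G : GoodData (E := E) (E' := E') j ID U)
    (z : Γ(C.K.cycles q, U)) :
    (C'.K.homologyπ q).app U (lam.app U
      (SecTwist.tmul (C.K.cycles q) (CohB1.tensorPow (ClSub.idealMod ID) q) U z (genPow G.l q))) = 0 ↔
      (rho ID (C.K.homologyπ q)).app U z = 0 := by
  haveI := qc_cycles C q
  set x := Groth.Agent.Lib.Helper22.IdealModAff.incl ID U G.l with hx
  rw [homologyπ_eq_zero_iff C' q G.hU, rho_app_eq_zero_iff,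
    unit_app_eq_zero_iff_of_span ID (C.K.cycles q) ⟨U, G.hU⟩ x G.hspan]
  constructor
  · rintro ⟨k'', hk''⟩
    set k₂ := sigInv C C' G.D (q + 1) k'' with hk₂
    have e1 : (C'.K.iCycles q).app U ((C'.K.toCycles (q + 1) q).app U k'') =
        x • sig C C' G.D q ((C.K.d (q + 1) q).app U k₂) := by
      rw [toCycles_i_app C' q U k'']
      have := d_sig C C' G.D φ hφ G.hfree G.hx q k₂
      rw [hk₂, sig_sigInv] at this
      rw [hk₂]
      exact this
    have e2 := lam_app C C' φ hφ θ hθ lam hlam G z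
    rw [← hk'', e1] at e2
    have e3 : sig C C' G.D q (x • (C.K.d (q + 1) q).app U k₂) =
        sig C C' G.D q ((C.K.iCycles q).app U z) := by
      rw [map_smul]; exact e2
    have e4 := sig_injective C C' G.D q e3
    have e5 : z = x • (C.K.toCycles (q + 1) q).app U k₂ := by
      apply iCycles_app_injective C q U
      refine e4.symm.trans ?_
      refine Eq.trans ?_ ((C.K.iCycles q).app_smul _ _).symm
      rw [toCycles_i_app C q U k₂]
    refine ⟨⟨_, e5⟩, ?_⟩
    rw [e5]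
    refine ((C.K.homologyπ q).app_smul _ _).trans ?_
    have : (C.K.homologyπ q).app U ((C.K.toCycles (q + 1) q).app U k₂) = 0 :=
      (homologyπ_eq_zero_iff C q G.hU _).mpr ⟨k₂, rfl⟩
    rw [this, smul_zero]
  · rintro ⟨⟨z₁, hz₁⟩, hπ⟩
    have h1 : x • (C.K.homologyπ q).app U z₁ = 0 := by
      rw [← hπ, hz₁]
      exact ((C.K.homologyπ q).app_smul _ _).symm
    have h2 : (C.K.homologyπ q).app U z₁ = 0 := by
      apply hreg ⟨U, G.hU⟩ x G.hx G.hspan
      change x • _ = x • 0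
      rw [smul_zero]
      exact h1
    obtain ⟨k₂, hk₂⟩ := (homologyπ_eq_zero_iff C q G.hU z₁).mp h2
    refine ⟨sig C C' G.D (q + 1) k₂, ?_⟩
    apply iCycles_app_injective C' q U
    rw [toCycles_i_app C' q U, lam_app C C' φ hφ θ hθ lam hlam G z,
      d_sig C C' G.D φ hφ G.hfree G.hx q k₂, hz₁, ← hk₂]
    have h3 : (C.K.iCycles q).app U (x • (C.K.toCycles (q + 1) q).app U k₂) =
        x • (C.K.d (q + 1) q).app U k₂ := by
      refine ((C.K.iCycles q).app_smul _ _).trans ?_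
      rw [toCycles_i_app C q U k₂]
    rw [h3, map_smul]
    rfl

theorem tensorMap_id_tmul {M M' N : X.Modules} (f : M ⟶ M') (U : X.Opens) (m : Γ(M, U))
    (n : Γ(N, U)) :
    (KoszTw.tensorMap f (𝟙 N)).app U (SecTwist.tmul M N U m n) =
      SecTwist.tmul M' N U (f.app U m) n :=
  KoszTw.tensorMap_tmul f (𝟙 N) U m n

include hφ hθ hlam hreg h𝓑 hG in
theorem main_of_data :
    Nonempty (C'.K.homology q ≅
      CohB1.tensorMod (PP ID (C.K.homologyπ q)) (CohB1.tensorPow (ClSub.idealMod ID) q)) := by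
  haveI := qc_cycles C q
  haveI := qc_homology C q
  haveI := qc_cycles C' q
  haveI := qc_homology C' q
  have hp₁ : Epi (lam ≫ C'.K.homologyπ q) := by
    apply epi_of_surjective_of_basis _ 𝓑 h𝓑
    intro U hU h'
    obtain ⟨G⟩ := hG U hU
    obtain ⟨z', hz'⟩ := Groth.Agent.Lib.Helper21.QCohSections.app_surjective_of_epi
      (C'.K.homologyπ q) G.hU h'
    have hk : (C.K.d q (q - 1)).app U (sigInv C C' G.D q ((C'.K.iCycles q).app U z')) = 0 := by
      apply (d_sig_eq_zero_iff C C' G.D φ hφ G.hfree G.hx q _).mp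
      rw [sig_sigInv]
      exact d_iCycles_app C' q U z'
    obtain ⟨z, hz⟩ := exists_cycle C q U _ hk
    have e1 : lam.app U (SecTwist.tmul (C.K.cycles q) (CohB1.tensorPow (ClSub.idealMod ID) q) U z
        (genPow G.l q)) = z' := by
      apply iCycles_app_injective C' q U
      rw [lam_app C C' φ hφ θ hθ lam hlam G z, hz, sig_sigInv]
    refine ⟨SecTwist.tmul (C.K.cycles q) (CohB1.tensorPow (ClSub.idealMod ID) q) U z
        (genPow G.l q), ?_⟩
    change (C'.K.homologyπ q).app U (lam.app U _) = h'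
    rw [e1, hz']
  have hp₂ : Epi (KoszTw.tensorMap (rho ID (C.K.homologyπ q))
      (𝟙 (CohB1.tensorPow (ClSub.idealMod ID) q))) := by
    apply epi_of_surjective_of_basis _ 𝓑 h𝓑
    intro U hU t
    obtain ⟨G⟩ := hG U hU
    obtain ⟨p, rfl⟩ := exists_tmul_genPow G.hl (PP ID (C.K.homologyπ q)) q t
    obtain ⟨z, hz1, hz2⟩ := rho_app_surjective ID (C.K.homologyπ q) G.hU p
    have e1 : (rho ID (C.K.homologyπ q)).app U z = p := by
      apply pullback_sec_ext
      · rw [rho_fst_app]; exact hz1.symm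
      · rw [rho_snd_app]; exact hz2.symm
    refine ⟨SecTwist.tmul (C.K.cycles q) (CohB1.tensorPow (ClSub.idealMod ID) q) U z
        (genPow G.l q), ?_⟩
    rw [tensorMap_id_tmul, e1]
  apply nonempty_iso_of_epi_of_kernelSubobject_eq (lam ≫ C'.K.homologyπ q)
    (KoszTw.tensorMap (rho ID (C.K.homologyπ q)) (𝟙 (CohB1.tensorPow (ClSub.idealMod ID) q)))
  apply Groth.Agent.Lib.Helper94.KosTwA.kernelSubobject_eq_of_basis _ _ 𝓑 h𝓑
  intro U hU w
  obtain ⟨G⟩ := hG U hU
  obtain ⟨z, rfl⟩ := exists_tmul_genPow G.hl (C.K.cycles q) q w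
  rw [tensorMap_id_tmul]
  exact (ker_iff C C' φ hφ θ hθ lam hlam hreg G z).trans
    (tmul_genPow_eq_zero_iff G.hl (PP ID (C.K.homologyπ q)) q _).symm

end Main

theorem qc_sigma_fin (n : ℕ) (M : Fin n → X.Modules) [∀ i, (M i).IsQuasicoherent] :
    (∐ M).IsQuasicoherent := by
  haveI : ∀ i : ULift.{u} (Fin n), ((M ∘ Equiv.ulift) i).IsQuasicoherent := fun i =>
    inferInstanceAs ((M i.down).IsQuasicoherent)
  exact Groth.Agent.Lib.Helper40.QCohCoprod.qc_of_iso (Limits.Sigma.reindex Equiv.ulift M)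
    (Groth.Agent.Lib.Helper40.QCohCoprod.isQuasicoherent_sigma (M ∘ Equiv.ulift))

/-- S15901. -/
theorem main (n : ℕ)
    (IY : Fin n → X.IdealSheafData) (hY : ∀ i, BlowUp.IsEffCartierIdeal (IY i))
    (ID : X.IdealSheafData) (hD : BlowUp.IsEffCartierIdeal ID)
    (C : KoszSh.Cx (∐ fun i => ClSub.idealMod (IY i))
      (Limits.Sigma.desc fun i => ClSub.idealModι (IY i)))
    (C' : KoszSh.Cx (∐ fun i => ClSub.idealMod (IY i * ID))
      (Limits.Sigma.desc fun i => ClSub.idealModι (IY i * ID)))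
    (q : ℕ)
    (hreg : ∀ (U : X.affineOpens) (x : Γ(X, U.1)), x ∈ nonZeroDivisors Γ(X, U.1) →
      ID.ideal U = Ideal.span {x} → IsSMulRegular Γ(C.K.homology q, U.1) x) :
    Nonempty (C'.K.homology q ≅ CohB1.tensorMod
      (Limits.pullback
        ((Scheme.Modules.pullback ID.subschemeι ⋙ Scheme.Modules.pushforward ID.subschemeι).map
          (C.K.homologyπ q))
        ((Scheme.Modules.pullbackPushforwardAdjunction ID.subschemeι).unit.app (C.K.homology q)))
      (CohB1.tensorPow (ClSub.idealMod ID) q)) := by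
  haveI : (∐ fun i => ClSub.idealMod (IY i)).IsQuasicoherent :=
    qc_sigma_fin n (fun i => ClSub.idealMod (IY i))
  haveI : (∐ fun i => ClSub.idealMod (IY i * ID)).IsQuasicoherent :=
    qc_sigma_fin n (fun i => ClSub.idealMod (IY i * ID))
  choose jI hjI using fun i => exists_incl (IY i) ID
  have hj : Limits.Sigma.map jI ≫ (Limits.Sigma.desc fun i => ClSub.idealModι (IY i)) =
      Limits.Sigma.desc fun i => ClSub.idealModι (IY i * ID) := by
    apply Limits.Sigma.hom_ext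
    intro i
    rw [Limits.Sigma.ι_map_assoc, Limits.Sigma.ι_desc, Limits.Sigma.ι_desc, hjI]
  obtain ⟨φ, hφ, -⟩ := Groth.Agent.Lib.Helper94.KosShF.main (Limits.Sigma.map jI) C' C hj
  have h𝓑 := isBasis_good n IY hY ID hD
  have hG : ∀ U ∈ {U : X.Opens | ∃ hU : IsAffineOpen U,
      (∃ l : Γ(ClSub.idealMod ID, U), IsGen (ClSub.idealMod ID) U l ∧
        Groth.Agent.Lib.Helper22.IdealModAff.incl ID U l ∈ nonZeroDivisors Γ(X, U) ∧
        ID.ideal ⟨U, hU⟩ = Ideal.span {Groth.Agent.Lib.Helper22.IdealModAff.incl ID U l}) ∧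
      ∀ i, ∃ f ∈ nonZeroDivisors Γ(X, U), (IY i).ideal ⟨U, hU⟩ = Ideal.span {f}},
      Nonempty (GoodData (E := ∐ fun i => ClSub.idealMod (IY i))
        (E' := ∐ fun i => ClSub.idealMod (IY i * ID)) (Limits.Sigma.map jI) ID U) := by
    rintro U ⟨hU, ⟨l, hl, hx, hspan⟩, hprinc⟩
    have hfree := free_sections n IY ⟨U, hU⟩ hprinc
    obtain ⟨ε, hε⟩ := exists_scale_equiv n IY ID jI hjI ⟨U, hU⟩ _ hx hspan
    exact ⟨⟨hU, l, hl, hx, hspan, hfree, ε, hε⟩⟩
  obtain ⟨θ, hθ⟩ := exists_theta C C' φ hφ _ h𝓑 hG q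
  obtain ⟨lam, hlam⟩ := exists_lam C C' φ hφ _ h𝓑 hG θ hθ
  exact main_of_data C C' φ hφ _ h𝓑 hG θ hθ lam hlam hreg

end Groth.Agent.Lib.Helper94.KosDiv
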