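import Groth.Agent.Lib.Helper94.KosTwD
import Groth.Agent.Lib.Helper22.IdealModAff
import Groth.Agent.Lib.Helper21.IdealMulSec
import Groth.Agent.Lib.Helper21.QCohSections
import Groth.Agent.Lib.Helper21.QCohKernel

/-!
# S15901: definitions (powers of a cosection, multiplication maps)
-/

set_option autoImplicit false
universe u

namespace Groth.Agent.Lib.Helper94.KosDiv

open CategoryTheory CategoryTheory.Limits AlgebraicGeometry Opposite TopologicalSpace
open Groth.Agent.Lib.Lead.Inv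

variable {X : Scheme.{u}}

/-- powers of a cosection `c : L → O_X`: `L^{⊗q} → O_X`, `l₁ ⊗ ⋯ ⊗ l_q ↦ c(l₁) ⋯ c(l_q)`. -/
noncomputable def powMap {L : X.Modules} (c : L ⟶ Coh.structureModule X) :
    (q : ℕ) → (CohB1.tensorPow L q ⟶ Coh.structureModule X)
  | 0 => 𝟙 _
  | q + 1 => KoszTw.tensorMap (powMap c q) c ≫ (SecTwist.unitorR (Coh.structureModule X)).hom

/-- multiplication `M ⊗ L^{⊗q} → M`, `m ⊗ (l₁ ⊗ ⋯ ⊗ l_q) ↦ c(l₁) ⋯ c(l_q) m`. -/
noncomputable def mu {L : X.Modules} (c : L ⟶ Coh.structureModule X) (M : X.Modules) (q : ℕ) :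
    CohB1.tensorMod M (CohB1.tensorPow L q) ⟶ M :=
  KoszTw.tensorMap (𝟙 M) (powMap c q) ≫ (SecTwist.unitorR M).hom

end Groth.Agent.Lib.Helper94.KosDiv
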