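import Mathlib
import Groth.Agent.Lib.Helper67.FlatDim
import Groth.Agent.Lib.Helper94.CILoc
import Groth.Agent.Lib.Helper94.RegCancel

/-!
# In a CM local ring, `n` elements generating an ideal all of whose primes have height `≥ n`
form a regular sequence
-/

set_option autoImplicit false
universe u

open IsLocalRing RingTheory.Sequence

namespace Groth.Agent.Lib.Helper94.TorIntC

/-- `dim R/K ≤ N` as soon as `dim R/r ≤ N` for all primes `r ⊇ K` (after helper92). -/
theorem ringKrullDim_quotient_le_of_forall_prime {R : Type*} [CommRing R] (K : Ideal R)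
    (N : WithBot ℕ∞)
    (h : ∀ r : Ideal R, r.IsPrime → K ≤ r → ringKrullDim (R ⧸ r) ≤ N) :
    ringKrullDim (R ⧸ K) ≤ N := by
  rw [ringKrullDim_quotient]
  have hup : IsUpperSet (PrimeSpectrum.zeroLocus (R := R) (K : Set R)) := by
    intro a b hab ha
    exact le_trans (show (K : Set R) ⊆ a.asIdeal from ha) hab
  rw [Order.krullDim_eq_iSup_coheight]
  apply iSup_le
  rintro ⟨a, ha⟩
  rw [Groth.Agent.Lib.Helper67.FlatDim.coheight_subtype_of_isUpperSet hup,
    ← Groth.Agent.Lib.Helper94.CILoc.ringKrullDim_quotient_eq_coheight a]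
  exact h a.asIdeal a.2 ha

theorem isRegular_of_height (R : Type u) [CommRing R] [LocCoh.IsCohenMacaulayLocalRing R]
    (rs : List R) (hmem : ∀ r ∈ rs, r ∈ maximalIdeal R)
    (hht : ∀ p : Ideal R, p.IsPrime → Ideal.ofList rs ≤ p → (rs.length : ℕ∞) ≤ p.height) :
    IsRegular R rs := by
  apply Groth.Agent.Lib.Helper94.CIField.isRegular_of_ringKrullDim_quotient R rs hmem
  have hK : Ideal.ofList rs ≤ maximalIdeal R := by
    rw [Ideal.ofList, Ideal.span_le]
    exact fun r hr => hmem r hr
  obtain ⟨d, hd⟩ := Groth.Agent.Lib.Helper94.CILocal.exists_nat_ringKrullDim R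
  have hnd : rs.length ≤ d := by
    have h1 := hht (maximalIdeal R) inferInstance hK
    have h2 : ((maximalIdeal R).height : WithBot ℕ∞) ≤ ringKrullDim R :=
      Ideal.height_le_ringKrullDim_of_isPrime
    rw [hd] at h2
    have h3 : ((rs.length : ℕ∞) : WithBot ℕ∞) ≤ ((d : ℕ∞) : WithBot ℕ∞) :=
      (WithBot.coe_le_coe.mpr h1).trans h2
    exact_mod_cast h3
  apply le_antisymm
  · -- `dim R/K + n ≤ dim R`
    have hle : ringKrullDim (R ⧸ Ideal.ofList rs) ≤ ((d - rs.length : ℕ) : WithBot ℕ∞) := by
      apply ringKrullDim_quotient_le_of_forall_prime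
      intro p hp hKp
      have hpm : p ≤ maximalIdeal R := le_maximalIdeal hp.ne_top
      haveI := Groth.Agent.Lib.Helper94.CILocal.quot_isLocalRing p hpm
      obtain ⟨e, he⟩ := Groth.Agent.Lib.Helper94.CILocal.exists_nat_ringKrullDim (R ⧸ p)
      have h1 := Groth.Agent.Lib.Helper94.CIDim.height_add_ringKrullDim_quotient_le R p
      have h2 := hht p hp hKp
      rw [he, hd] at h1
      rw [he]
      have h3 : ((rs.length : ℕ∞) : WithBot ℕ∞) + (e : WithBot ℕ∞) ≤ (d : WithBot ℕ∞) :=
        (add_le_add_left (WithBot.coe_le_coe.mpr h2) _).trans h1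
      have h4 : rs.length + e ≤ d := by exact_mod_cast h3
      have h5 : e ≤ d - rs.length := by omega
      exact_mod_cast h5
    rw [hd]
    calc ringKrullDim (R ⧸ Ideal.ofList rs) + (rs.length : WithBot ℕ∞)
        ≤ ((d - rs.length : ℕ) : WithBot ℕ∞) + (rs.length : WithBot ℕ∞) := add_le_add_left hle _
      _ = (d : WithBot ℕ∞) := by
        have : d - rs.length + rs.length = d := by omega
        exact_mod_cast this
  · have h3 := ringKrullDim_le_ringKrullDim_quotient_add_spanFinrank (Ideal.ofList rs)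
      (by rw [ringJacobson_eq_maximalIdeal]; exact hK)
    refine h3.trans (add_le_add_right ?_ _)
    exact_mod_cast Groth.Agent.Lib.Helper94.RegCancel.spanFinrank_ofList_le rs

end Groth.Agent.Lib.Helper94.TorIntC
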