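import Mathlib
import Groth.Prelude.Def_CAlg
import Groth.Agent.Lib.Helper94.RegImmPt
import Groth.Agent.Lib.Helper94.TorIntC

/-!
# First half of S15902: a local complete intersection in a CM scheme is cut out near each point
by a weakly regular sequence
-/

set_option autoImplicit false
universe u

namespace Groth.Agent.Lib.Helper94.KosShA

open CategoryTheory AlgebraicGeometry RingTheory.Sequence Ideal

theorem ofList_ofFn {R : Type*} [CommRing R] {c : ℕ} (g : Fin c → R) :
    Ideal.ofList (List.ofFn g) = Ideal.span (Set.range g) := by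
  unfold Ideal.ofList
  congr 1
  ext x
  simp [List.mem_ofFn]

theorem exists_regular_gens {X Y : Scheme.{u}}
    [IsLocallyNoetherian X] (hCM : ∀ x : X, LocCoh.IsCohenMacaulayLocalRing (X.presheaf.stalk x))
    (i : Y ⟶ X) [IsClosedImmersion i] (c : ℕ)
    (hgen : ∀ y : Y, ∃ U : X.affineOpens, i.base y ∈ U.1 ∧ ∃ g : Fin c → Γ(X, U.1),
      i.ker.ideal U = Ideal.span (Set.range g))
    (hht : ∀ y : Y, (c : ℕ∞) ≤ (RingHom.ker (i.stalkMap y).hom).height) (y : Y) :
    ∃ U : X.affineOpens, i.base y ∈ U.1 ∧ ∃ f : Fin c → Γ(X, U.1),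
      i.ker.ideal U = Ideal.span (Set.range f) ∧
      IsWeaklyRegular Γ(X, U.1) (List.ofFn f) := by
  obtain ⟨U₀, hyU₀, g, hg⟩ := hgen y
  haveI := hCM (i y)
  rw [Scheme.Hom.ker_apply] at hg
  let rs : List (X.presheaf.stalk (i y)) :=
    (List.ofFn g).map (X.presheaf.germ U₀.1 (i y) hyU₀).hom
  have hker : RingHom.ker (i.stalkMap y).hom = ofList rs := by
    rw [RegImmPt.ker_stalkMap i y U₀.1 U₀.2 hyU₀, hg, ← ofList_ofFn, Ideal.map_ofList]
  have hlen : rs.length = c := by simp [rs]
  have hle : RingHom.ker (i.stalkMap y).hom ≤ IsLocalRing.maximalIdeal _ :=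
    IsLocalRing.le_maximalIdeal (RegImmPt.ker_stalkMap_ne_top i y)
  have hreg : IsRegular (X.presheaf.stalk (i y)) rs := by
    refine TorIntC.isRegular_of_height _ rs ?_ ?_
    · intro r hr
      apply hle
      rw [hker]
      exact Ideal.subset_span hr
    · intro p _ hp
      rw [hlen]
      refine (hht y).trans ?_
      rw [hker]
      exact Ideal.height_mono hp
  obtain ⟨V, hV, hyV, bs, hbs, hkV, hbl⟩ := RegImmPt.exists_affine_of_stalk i y rs hreg hker
  have hbc : bs.length = c := hbl.trans hlen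
  refine ⟨⟨V, hV⟩, hyV, fun k => bs[k.val]'(by rw [hbc]; exact k.isLt), ?_, ?_⟩
  · rw [Scheme.Hom.ker_apply, ← ofList_ofFn]
    change RingHom.ker (i.app V).hom = _
    rw [hkV]
    congr 1
    subst hbc
    exact (List.ofFn_getElem (xs := bs)).symm
  · have : List.ofFn (fun k : Fin c => bs[k.val]'(by rw [hbc]; exact k.isLt)) = bs := by
      subst hbc
      exact List.ofFn_getElem (xs := bs)
    rw [this]
    exact hbs.toIsWeaklyRegular

end Groth.Agent.Lib.Helper94.KosShA
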