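import Groth.Agent.Lib.Helper94.KosTotB

/-!
# Total Koszul exactness on the exterior algebra of a free module with a regular sequence
-/

set_option autoImplicit false

namespace Groth.Agent.Lib.Helper94.KosTotC

open Groth.Agent.Lib.Helper94.KosTotA Groth.Agent.Lib.Helper94.KosTotB RingTheory.Sequence

variable {R M : Type*} [CommRing R] [AddCommGroup M] [Module R M] {n : ℕ}
  (b : Module.Basis (Fin n) R M) (f : Fin n → R)

/-- the partial form `Σ_{k<m} f_k b_k^*`. -/
noncomputable def phi (m : ℕ) : Module.Dual R M :=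
  ∑ k ∈ Finset.univ.filter (fun k : Fin n => k.val < m), f k • b.coord k

theorem phi_succ {m : ℕ} (h : m < n) :
    phi b f (m + 1) = phi b f m + f ⟨m, h⟩ • b.coord ⟨m, h⟩ := by
  unfold phi
  have : Finset.univ.filter (fun k : Fin n => k.val < m + 1) =
      insert ⟨m, h⟩ (Finset.univ.filter (fun k : Fin n => k.val < m)) := by
    ext k
    simp only [Finset.mem_filter, Finset.mem_univ, true_and, Finset.mem_insert, Fin.ext_iff]
    omega
  rw [this, Finset.sum_insert (by simp), add_comm]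

theorem phi_apply_basis (m : ℕ) (j : Fin n) :
    phi b f m (b j) = if j.val < m then f j else 0 := by
  unfold phi
  rw [LinearMap.sum_apply]
  simp_rw [LinearMap.smul_apply, Module.Basis.coord_apply, Module.Basis.repr_self,
    Finsupp.single_apply, smul_eq_mul, mul_ite, mul_one, mul_zero]
  rw [Finset.sum_ite_eq]
  simp

theorem phi_top (φ : Module.Dual R M) (hf : ∀ k, f k = φ (b k)) : phi b f n = φ :=
  b.ext fun j => by rw [phi_apply_basis, if_pos j.isLt, hf]

theorem cl_phi (m : ℕ) (x : ExteriorAlgebra R M) :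
    cl (phi b f m) x = ∑ k ∈ Finset.univ.filter (fun k : Fin n => k.val < m), f k • io b k x := by
  unfold phi cl io
  rw [map_sum, LinearMap.sum_apply]
  refine Finset.sum_congr rfl fun k _ => ?_
  rw [map_smul, LinearMap.smul_apply]

theorem cl_phi_of_inA (m : ℕ) {g : ExteriorAlgebra R M} (hg : InA b m g) :
    cl (phi b f m) g = 0 := by
  rw [cl_phi]
  refine Finset.sum_eq_zero fun k hk => ?_
  rw [hg k (Finset.mem_filter.mp hk).2, smul_zero]

/-- the ideal generated by the first `m` entries. -/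
noncomputable def Im (m : ℕ) : Ideal R := Ideal.ofList ((List.ofFn f).take m)

omit [CommRing R] in
theorem mem_take_iff (m : ℕ) (x : R) :
    x ∈ (List.ofFn f).take m ↔ ∃ k : Fin n, k.val < m ∧ f k = x := by
  rw [List.mem_take_iff_getElem]
  constructor
  · rintro ⟨i, hi, rfl⟩
    rw [List.length_ofFn] at hi
    refine ⟨⟨i, by omega⟩, by simp; omega, ?_⟩
    rw [List.getElem_ofFn]
  · rintro ⟨k, hk, rfl⟩
    refine ⟨k.val, by rw [List.length_ofFn]; have := k.isLt; omega, ?_⟩
    rw [List.getElem_ofFn]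

theorem f_mem_Im {m : ℕ} {k : Fin n} (hk : k.val < m) : f k ∈ Im f m :=
  Ideal.subset_span ((mem_take_iff f m _).mpr ⟨k, hk, rfl⟩)

theorem cl_phi_mem (m : ℕ) (y : ExteriorAlgebra R M) :
    cl (phi b f m) y ∈ Im f m • (⊤ : Submodule R (ExteriorAlgebra R M)) := by
  rw [cl_phi]
  refine Submodule.sum_mem _ fun k hk => ?_
  exact Submodule.smul_mem_smul (f_mem_Im f (Finset.mem_filter.mp hk).2) Submodule.mem_top

/-- Lemma Z. -/
theorem P_mem_range (m : ℕ) {g : ExteriorAlgebra R M}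
    (hg : g ∈ Im f m • (⊤ : Submodule R (ExteriorAlgebra R M))) :
    P b m g ∈ LinearMap.range (cl (phi b f m)) := by
  have key : ∀ r ∈ Im f m, ∀ w : ExteriorAlgebra R M, InA b m w →
      r • w ∈ LinearMap.range (cl (phi b f m)) := by
    intro r hr
    unfold Im Ideal.ofList at hr
    induction hr using Submodule.span_induction with
    | mem r hr =>
      obtain ⟨k, hk, rfl⟩ := (mem_take_iff f m r).mp hr
      intro w hw
      refine ⟨L b k w, ?_⟩
      rw [cl_L, phi_apply_basis, if_pos hk, cl_phi_of_inA b f m hw, map_zero, sub_zero]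
    | zero => intro w _; rw [zero_smul]; exact Submodule.zero_mem _
    | add r s _ _ hr hs => intro w hw; rw [add_smul]; exact Submodule.add_mem _ (hr w hw) (hs w hw)
    | smul a r _ hr =>
      intro w hw
      rw [smul_eq_mul, mul_smul]
      exact Submodule.smul_mem _ a (hr w hw)
  refine Submodule.smul_induction_on hg ?_ ?_
  · intro r hr z _
    rw [map_smul]
    exact key r hr _ (inA_P b m z)
  · intro x y hx hy
    rw [map_add]
    exact Submodule.add_mem _ hx hy

include b in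
theorem mem_of_smul_mem (hreg : IsWeaklyRegular R (List.ofFn f)) {m : ℕ} (h : m < n)
    (g : ExteriorAlgebra R M)
    (hg : f ⟨m, h⟩ • g ∈ Im f m • (⊤ : Submodule R (ExteriorAlgebra R M))) :
    g ∈ Im f m • (⊤ : Submodule R (ExteriorAlgebra R M)) := by
  have : Module.Free R M := Module.Free.of_basis b
  have hE : IsWeaklyRegular (ExteriorAlgebra R M) (List.ofFn f) :=
    ((TensorProduct.lid R (ExteriorAlgebra R M)).isWeaklyRegular_congr _).mp
      hreg.isWeaklyRegular_rTensor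
  have h1 := hE.regular_mod_prev m (by rw [List.length_ofFn]; exact h)
  rw [List.getElem_ofFn] at h1
  exact mem_of_isSMulRegular_quotient_of_smul_mem h1 hg

theorem step_all (hreg : IsWeaklyRegular R (List.ofFn f)) :
    ∀ m : ℕ, m ≤ n → ∀ x : ExteriorAlgebra R M, cl (phi b f m) x = 0 →
      ∃ (y g : ExteriorAlgebra R M), InA b m g ∧ x = cl (phi b f m) y + g := by
  intro m
  induction m with
  | zero =>
    intro _ x _
    exact ⟨0, x, fun k hk => absurd hk (Nat.not_lt_zero _), by rw [map_zero, zero_add]⟩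
  | succ m ih =>
    intro hmn x hx
    have h : m < n := hmn
    have ih' := ih (le_of_lt h)
    have hd' : ∀ z, cl (phi b f (m + 1)) z = cl (phi b f m) z + f ⟨m, h⟩ • io b ⟨m, h⟩ z := by
      intro z
      rw [phi_succ b f h]
      unfold cl io
      rw [map_add, LinearMap.add_apply, map_smul, LinearMap.smul_apply]
    have hphik : phi b f m (b ⟨m, h⟩) = 0 := by
      rw [phi_apply_basis, if_neg (by simp)]
    have hdL : ∀ z, cl (phi b f m) (L b ⟨m, h⟩ z) = - L b ⟨m, h⟩ (cl (phi b f m) z) := by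
      intro z
      rw [cl_L, hphik, zero_smul, zero_sub]
    have hdι : ∀ z, cl (phi b f m) (io b ⟨m, h⟩ z) = - io b ⟨m, h⟩ (cl (phi b f m) z) :=
      fun z => cl_io b _ _ z
    -- bb := ι x
    have e1 : cl (phi b f m) x + f ⟨m, h⟩ • io b ⟨m, h⟩ x = 0 := by rw [← hd']; exact hx
    have e2 : cl (phi b f m) (io b ⟨m, h⟩ x) = 0 := by
      have := congrArg (io b ⟨m, h⟩) e1
      rw [map_add, map_smul, io_io, smul_zero, add_zero, map_zero] at this
      rw [hdι, this, neg_zero]
    obtain ⟨c, g, hg, hbc⟩ := ih' (io b ⟨m, h⟩ x) e2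
    have e3 : f ⟨m, h⟩ • g = cl (phi b f m) (- x - f ⟨m, h⟩ • c) := by
      have h1 : cl (phi b f m) x = - (f ⟨m, h⟩ • io b ⟨m, h⟩ x) := eq_neg_of_add_eq_zero_left e1
      rw [map_sub, map_neg, map_smul, h1, hbc, smul_add]
      abel
    have e4 : g ∈ Im f m • (⊤ : Submodule R (ExteriorAlgebra R M)) :=
      mem_of_smul_mem b f hreg h g (e3 ▸ cl_phi_mem b f m _)
    obtain ⟨c₂, hc₂⟩ := P_mem_range b f m e4
    rw [P_of_inA b m hg] at hc₂
    have e5 : io b ⟨m, h⟩ x = cl (phi b f m) (c + c₂) := by rw [map_add, hc₂]; exact hbc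
    -- c'' := Q (c + c₂)
    have e6 : io b ⟨m, h⟩ (Q b ⟨m, h⟩ (c + c₂)) = 0 := io_Q_self b _ _
    have e7 : cl (phi b f m) (Q b ⟨m, h⟩ (c + c₂)) = io b ⟨m, h⟩ x := by
      rw [Q_apply, hdι, hdL, map_neg, neg_neg, ← e5, io_L_self, io_io, map_zero, sub_zero]
    have e8 : cl (phi b f (m + 1)) (L b ⟨m, h⟩ (Q b ⟨m, h⟩ (c + c₂))) =
        - L b ⟨m, h⟩ (io b ⟨m, h⟩ x) + f ⟨m, h⟩ • Q b ⟨m, h⟩ (c + c₂) := by
      rw [hd', hdL, e7, io_L_self, e6, map_zero, sub_zero]
    have e9 : io b ⟨m, h⟩ (x + cl (phi b f (m + 1)) (L b ⟨m, h⟩ (Q b ⟨m, h⟩ (c + c₂)))) = 0 := by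
      rw [e8, map_add, map_add, map_neg, io_L_self, io_io, map_zero, sub_zero, map_smul, e6,
        smul_zero, add_zero, add_neg_cancel]
    have e10 : cl (phi b f (m + 1))
        (x + cl (phi b f (m + 1)) (L b ⟨m, h⟩ (Q b ⟨m, h⟩ (c + c₂)))) = 0 := by
      rw [map_add, hx, cl_cl, add_zero]
    have e11 : cl (phi b f m)
        (x + cl (phi b f (m + 1)) (L b ⟨m, h⟩ (Q b ⟨m, h⟩ (c + c₂)))) = 0 := by
      have := hd' (x + cl (phi b f (m + 1)) (L b ⟨m, h⟩ (Q b ⟨m, h⟩ (c + c₂))))
      rw [e10, e9, smul_zero, add_zero] at this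
      exact this.symm
    obtain ⟨e, g', hg', hx'⟩ := ih' _ e11
    have e12 : Q b ⟨m, h⟩ (cl (phi b f m) e) = cl (phi b f m) (Q b ⟨m, h⟩ e) := by
      rw [Q_apply, Q_apply, hdι, hdL, map_neg, neg_neg]
    have e13 : x + cl (phi b f (m + 1)) (L b ⟨m, h⟩ (Q b ⟨m, h⟩ (c + c₂))) =
        cl (phi b f m) (Q b ⟨m, h⟩ e) + Q b ⟨m, h⟩ g' := by
      have h1 := congrArg (Q b ⟨m, h⟩) hx'
      rw [Q_of_io b e9] at h1
      rw [h1, map_add, e12]
    have e14 : cl (phi b f (m + 1)) (Q b ⟨m, h⟩ e) = cl (phi b f m) (Q b ⟨m, h⟩ e) := by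
      rw [hd', io_Q_self, smul_zero, add_zero]
    have e15 : InA b (m + 1) (Q b ⟨m, h⟩ g') := by
      intro j hj
      by_cases hjk : j = ⟨m, h⟩
      · rw [hjk]; exact io_Q_self b _ _
      · rw [io_Q_ne b hjk, hg' j, map_zero]
        have : j.val ≠ m := fun e => hjk (Fin.ext e)
        omega
    refine ⟨Q b ⟨m, h⟩ e - L b ⟨m, h⟩ (Q b ⟨m, h⟩ (c + c₂)), Q b ⟨m, h⟩ g', e15, ?_⟩
    rw [map_sub, e14, sub_add_eq_add_sub, ← e13, add_sub_cancel_right]

/-- **Total exactness**: on the exterior algebra of a free module with basis `b`, if the values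
`φ (b k)` form a weakly regular sequence then every `φ`-cycle is a `φ`-boundary plus a scalar. -/
theorem total_exact (φ : M →ₗ[R] R)
    (hreg : IsWeaklyRegular R (List.ofFn fun k => φ (b k)))
    (x : ExteriorAlgebra R M)
    (hx : CliffordAlgebra.contractLeft (Q := (0 : QuadraticForm R M)) φ x = 0) :
    ∃ (y : ExteriorAlgebra R M) (r : R),
      x = CliffordAlgebra.contractLeft (Q := (0 : QuadraticForm R M)) φ y + algebraMap R _ r := by
  have htop : phi b (fun k => φ (b k)) n = φ := phi_top b _ φ (fun _ => rfl)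
  obtain ⟨y, g, hg, hxy⟩ := step_all b (fun k => φ (b k)) hreg n le_rfl x (by rw [htop]; exact hx)
  obtain ⟨r, hr⟩ := exists_P_eq_algebraMap b g
  rw [P_of_inA b n hg] at hr
  refine ⟨y, r, ?_⟩
  rw [hxy, htop, hr]

end Groth.Agent.Lib.Helper94.KosTotC
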