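import Groth.Prelude.Def_KoszulSh
import Groth.Agent.Lib.Helper94.KosTotC

/-!
# Sections of a Koszul complex over an affine open where `E` has a basis mapping to a regular
sequence are exact in positive degrees (modulo the graded extraction `hpre`)
-/

set_option autoImplicit false
universe u

namespace Groth.Agent.Lib.Helper94.KosShB

open CategoryTheory AlgebraicGeometry Opposite exteriorPower RingTheory.Sequence

variable {X : Scheme.{u}}

/-- a morphism of modules on sections, as a linear map. -/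
noncomputable def appLin {M N : X.Modules} (φ : M ⟶ N) (U : X.Opens) :
    Γ(M, U) →ₗ[Γ(X, U)] Γ(N, U) where
  toFun x := φ.app U x
  map_add' a b := map_add _ a b
  map_smul' r a := Scheme.Modules.Hom.app_smul φ r a

theorem appLin_apply {M N : X.Modules} (φ : M ⟶ N) (U : X.Opens) (x : Γ(M, U)) :
    appLin φ U x = φ.app U x := rfl

variable {E : X.Modules} {s : E ⟶ Coh.structureModule X} (C : KoszSh.Cx E s)

/-- the differential on affine sections read through `loc`. -/
noncomputable def D (V : X.affineOpens) (p : ℕ) :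
    ↥(⋀[Γ(X, V.1)]^(p + 1) Γ(E, V.1)) →ₗ[Γ(X, V.1)] ↥(⋀[Γ(X, V.1)]^p Γ(E, V.1)) :=
  (C.loc p V).toLinearMap ∘ₗ appLin (C.K.d (p + 1) p) V.1 ∘ₗ (C.loc (p + 1) V).symm.toLinearMap

theorem D_apply (V : X.affineOpens) (p : ℕ) (x : ↥(⋀[Γ(X, V.1)]^(p + 1) Γ(E, V.1))) :
    D C V p x = C.loc p V ((C.K.d (p + 1) p).app V.1 ((C.loc (p + 1) V).symm x)) := rfl

theorem D_ιMulti (V : X.affineOpens) (p : ℕ) (e : Fin (p + 1) → Γ(E, V.1)) :
    D C V p (ιMulti _ (p + 1) e) = KoszSh.dGen (KoszSh.secForm s V.1) p e := by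
  rw [D_apply, C.rule, LinearEquiv.apply_symm_apply]

/-- Sections-level exactness from ring-level exactness. -/
theorem sections_exact (V : X.affineOpens) {n : ℕ}
    (b : Module.Basis (Fin n) Γ(X, V.1) Γ(E, V.1))
    (hreg : IsWeaklyRegular Γ(X, V.1) (List.ofFn fun k => KoszSh.secForm s V.1 (b k)))
    (hpre : ∀ {R M : Type u} [CommRing R] [AddCommGroup M] [Module R M] (φ : M →ₗ[R] R)
      (D : ∀ p, ⋀[R]^(p + 1) M →ₗ[R] ⋀[R]^p M)
      (_ : ∀ p (e : Fin (p + 1) → M), D p (ιMulti R (p + 1) e) = KoszSh.dGen φ p e)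
      (_ : ∀ x : ExteriorAlgebra R M,
        CliffordAlgebra.contractLeft (Q := (0 : QuadraticForm R M)) φ x = 0 →
        ∃ (y : ExteriorAlgebra R M) (r : R),
          x = CliffordAlgebra.contractLeft (Q := (0 : QuadraticForm R M)) φ y + algebraMap R _ r)
      (p : ℕ) (x : ⋀[R]^(p + 1) M) (_ : D p x = 0), ∃ y, D (p + 1) y = x)
    (q : ℕ) (t : Γ(C.K.X (q + 1), V.1)) (ht : (C.K.d (q + 1) q).app V.1 t = 0) :
    ∃ u : Γ(C.K.X (q + 2), V.1), (C.K.d (q + 2) (q + 1)).app V.1 u = t := by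
  have hx : D C V q (C.loc (q + 1) V t) = 0 := by
    rw [D_apply, LinearEquiv.symm_apply_apply, ht, map_zero]
  obtain ⟨y, hy⟩ := hpre (KoszSh.secForm s V.1) (D C V) (D_ιMulti C V)
    (KosTotC.total_exact b (KoszSh.secForm s V.1) hreg) q (C.loc (q + 1) V t) hx
  refine ⟨(C.loc (q + 2) V).symm y, ?_⟩
  have := congrArg (C.loc (q + 1) V).symm hy
  rw [D_apply, LinearEquiv.symm_apply_apply, LinearEquiv.symm_apply_apply] at this
  exact this

end Groth.Agent.Lib.Helper94.KosShB
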