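import Groth.Prelude.Def_KoszulSh
import Groth.Prelude.Def_FlatMod2
import Groth.Agent.Lib.Helper94.KosShB
import Mathlib.RingTheory.Regular.Flat

/-!
# Koszul complexes of a free module on an affine scheme with a regular sequence are acyclic
(assembly; the four external inputs are explicit hypotheses)
-/

set_option autoImplicit false
universe u

namespace Groth.Agent.Lib.Helper94.KosShC

open CategoryTheory AlgebraicGeometry Opposite exteriorPower RingTheory.Sequence

variable {X : Scheme.{u}}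

theorem app_res {M N : X.Modules} (φ : M ⟶ N) {U V : X.Opens} (i : U ⟶ V)
    (s : M.presheaf.obj (op V)) :
    φ.app U (M.presheaf.map i.op s) = N.presheaf.map i.op (φ.app V s) := by
  have := φ.mapPresheaf.naturality i.op
  exact congr($this s)

theorem isWeaklyRegular_map_of_flat {A B : Type*} [CommRing A] [CommRing B] (φ : A →+* B)
    (hφ : φ.Flat) (rs : List A) (h : IsWeaklyRegular A rs) : IsWeaklyRegular B (rs.map φ) := by
  letI := φ.toAlgebra
  haveI : Module.Flat A B := hφ
  exact h.of_flat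

theorem strSect_one_res {U V : X.Opens} (i : U ⟶ V) :
    (Coh.structureModule X).presheaf.map i.op (OmegaSh.strSect X V 1) = OmegaSh.strSect X U 1 :=
  map_one (X.presheaf.map i.op).hom

theorem secForm_res {E : X.Modules} (s : E ⟶ Coh.structureModule X) {U V : X.Opens} (i : U ⟶ V)
    (e : Γ(E, V)) :
    KoszSh.secForm s U (E.presheaf.map i.op e) = (X.presheaf.map i.op).hom (KoszSh.secForm s V e) := by
  rw [KoszSh.secForm_apply, KoszSh.secForm_apply, app_res]
  rfl

/-- the graded-extraction input (helper45 `KosExt.exists_preimage`). -/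
def HPre : Prop :=
  ∀ {R M : Type u} [CommRing R] [AddCommGroup M] [Module R M] (φ : M →ₗ[R] R)
    (D : ∀ p, ⋀[R]^(p + 1) M →ₗ[R] ⋀[R]^p M)
    (_ : ∀ p (e : Fin (p + 1) → M), D p (ιMulti R (p + 1) e) = KoszSh.dGen φ p e)
    (_ : ∀ x : ExteriorAlgebra R M,
      CliffordAlgebra.contractLeft (Q := (0 : QuadraticForm R M)) φ x = 0 →
      ∃ (y : ExteriorAlgebra R M) (r : R),
        x = CliffordAlgebra.contractLeft (Q := (0 : QuadraticForm R M)) φ y + algebraMap R _ r)
    (p : ℕ) (x : ⋀[R]^(p + 1) M) (_ : D p x = 0), ∃ y, D (p + 1) y = x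

theorem isZero_homology_freeMod [IsAffine X] (c : ℕ) (f : Fin c → Γ(X, ⊤))
    (hreg : IsWeaklyRegular Γ(X, ⊤) (List.ofFn f))
    (s : FlatMod.freeMod X c ⟶ Coh.structureModule X)
    (hs : ∀ k, KoszSh.secForm s ⊤ ((Limits.Sigma.ι (fun _ : Fin c => Coh.structureModule X) k).app ⊤
      (OmegaSh.strSect X ⊤ 1)) = f k)
    (C : KoszSh.Cx (FlatMod.freeMod X c) s)
    (hR2 : ∀ (K : ChainComplex X.Modules ℕ) (q : ℕ),
      (∀ (V : X.affineOpens) (t : Γ(K.X (q + 1), V.1)), (K.d (q + 1) q).app V.1 t = 0 →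
        ∃ u : Γ(K.X (q + 2), V.1), (K.d (q + 2) (q + 1)).app V.1 u = t) →
      Limits.IsZero (K.homology (q + 1)))
    (hR3 : ∀ V : X.Opens, ∃ b : Module.Basis (Fin c) Γ(X, V) Γ(FlatMod.freeMod X c, V),
      ∀ k, b k = (Limits.Sigma.ι (fun _ : Fin c => Coh.structureModule X) k).app V
        (OmegaSh.strSect X V 1))
    (hR5 : ∀ (V : X.Opens), IsAffineOpen V →
      (X.presheaf.map (homOfLE (le_top : V ≤ ⊤)).op).hom.Flat)
    (hpre : HPre.{u}) (q : ℕ) (hq : 1 ≤ q) : Limits.IsZero (C.K.homology q) := by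
  obtain ⟨q, rfl⟩ : ∃ q', q = q' + 1 := ⟨q - 1, by omega⟩
  apply hR2
  intro V t ht
  obtain ⟨b, hb⟩ := hR3 V.1
  refine KosShB.sections_exact C V b ?_ hpre q t ht
  have h1 := isWeaklyRegular_map_of_flat _ (hR5 V.1 V.2) _ hreg
  rw [List.map_ofFn] at h1
  convert h1 using 2
  funext k
  rw [hb k, Function.comp_apply, ← hs k, ← secForm_res, ← app_res, strSect_one_res]

end Groth.Agent.Lib.Helper94.KosShC
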