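import Groth.Agent.Lib.Helper94.KosShC
import Groth.Agent.Lib.Helper45.KosExt
import Groth.Agent.Lib.Helper87.BasisBasicOpen
import Groth.Agent.Lib.Helper48.Conormal1
import Groth.Agent.Lib.Helper2.RankSections

/-!
# S15899: Koszul complex of a regular section of a finite locally free module is acyclic
-/

set_option autoImplicit false
universe u

namespace Groth.Agent.Lib.Helper94.KosShD

open CategoryTheory AlgebraicGeometry Opposite exteriorPower RingTheory.Sequence TopologicalSpace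

variable {X : Scheme.{u}}

theorem hpre : KosShC.HPre.{u} := fun φ D hD htot p x hx =>
  Groth.Agent.Lib.Helper45.KosExt.exists_preimage φ D hD htot p x hx

/-- the good opens: affine, with a basis of sections of `E` mapping to a weakly regular sequence -/
def Good {E : X.Modules} (s : E ⟶ Coh.structureModule X) (n : ℕ) : Set X.Opens :=
  {V | ∃ _ : IsAffineOpen V, ∃ b : Module.Basis (Fin n) Γ(X, V) Γ(E, V),
    IsWeaklyRegular Γ(X, V) (List.ofFn fun k => KoszSh.secForm s V (b k))}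

theorem good_basicOpen {E : X.Modules} [E.IsQuasicoherent] (s : E ⟶ Coh.structureModule X) (n : ℕ)
    (U : X.affineOpens) (b : Module.Basis (Fin n) Γ(X, U.1) Γ(E, U.1))
    (hreg : IsWeaklyRegular Γ(X, U.1) (List.ofFn fun k => KoszSh.secForm s U.1 (b k)))
    (g : Γ(X, U.1)) : X.basicOpen g ∈ Good s n := by
  obtain ⟨b', hb'⟩ := Groth.Agent.Lib.Helper87.BasisBasicOpen.exists_basis_basicOpen n E U b g
  refine ⟨U.2.basicOpen g, b', ?_⟩
  haveI : IsLocalization (Submonoid.powers g) Γ(X, X.basicOpen g) := U.2.isLocalization_basicOpen g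
  haveI : Module.Flat Γ(X, U.1) Γ(X, X.basicOpen g) :=
    IsLocalization.flat _ (Submonoid.powers g)
  have h1 := hreg.of_flat (S := Γ(X, X.basicOpen g))
  rw [List.map_ofFn] at h1
  convert h1 using 2
  funext k
  rw [hb' k, Function.comp_apply]
  exact KosShC.secForm_res s (homOfLE (X.basicOpen_le g)) (b k)

theorem isBasis_good {E : X.Modules} [E.IsQuasicoherent] (s : E ⟶ Coh.structureModule X) (n : ℕ)
    (hs : ∀ x : X, ∃ U : X.affineOpens, x ∈ U.1 ∧
      ∃ b : Module.Basis (Fin n) Γ(X, U.1) Γ(E, U.1),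
        IsWeaklyRegular Γ(X, U.1) (List.ofFn fun k => KoszSh.secForm s U.1 (b k))) :
    Opens.IsBasis (Good s n) := by
  rw [Opens.isBasis_iff_nbhd]
  intro W x hxW
  obtain ⟨U, hxU, b, hreg⟩ := hs x
  obtain ⟨g, hgW, hxg⟩ := U.2.exists_basicOpen_le (V := W) ⟨x, hxW⟩ hxU
  exact ⟨X.basicOpen g, good_basicOpen s n U b hreg g, hxg, hgW⟩

theorem isZero_homology {E : X.Modules} (n : ℕ) (hE : FlatMod.IsFinLocFreeOfRank n E)
    (s : E ⟶ Coh.structureModule X)
    (hs : ∀ x : X, ∃ U : X.affineOpens, x ∈ U.1 ∧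
      ∃ b : Module.Basis (Fin n) Γ(X, U.1) Γ(E, U.1),
        IsWeaklyRegular Γ(X, U.1) (List.ofFn fun k => KoszSh.secForm s U.1 (b k)))
    (C : KoszSh.Cx E s) (q : ℕ) (hq : 1 ≤ q) : Limits.IsZero (C.K.homology q) := by
  haveI : E.IsQuasicoherent :=
    Groth.Agent.Lib.Helper2.RankSections.isQuasicoherent_of_isFinLocFree E
      (Groth.Agent.Lib.Helper2.RankSections.isFinLocFree_of_rank hE)
  obtain ⟨q, rfl⟩ : ∃ q', q = q' + 1 := ⟨q - 1, by omega⟩
  rw [← HomologicalComplex.exactAt_iff_isZero_homology]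
  rw [HomologicalComplex.exactAt_iff' C.K (q + 2) (q + 1) q (by simp) (by simp)]
  apply Groth.Agent.Lib.Helper48.Conormal.exact_of_basis _ _ (isBasis_good s n hs)
  rintro V ⟨hV, b, hreg⟩ t ht
  exact KosShB.sections_exact C ⟨V, hV⟩ b hreg hpre q t ht

end Groth.Agent.Lib.Helper94.KosShD
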