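import Groth.Agent.Lib.Helper94.KosShA
import Groth.Agent.Lib.Helper94.KosShD
import Groth.Agent.Lib.Helper14.KosShExact
import Groth.Agent.Lib.Helper24.FreeModBasis
import Groth.Agent.Lib.Helper87.FlatRes

/-!
# S15902: local complete intersections in a CM scheme: regular generators near each point and
acyclicity of every Koszul complex of the free pair
-/

set_option autoImplicit false
universe u

namespace Groth.Agent.Lib.Helper94.KosShE

open CategoryTheory AlgebraicGeometry Opposite RingTheory.Sequence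

theorem main {X Y : Scheme.{u}}
    [IsLocallyNoetherian X] (hCM : ∀ x : X, LocCoh.IsCohenMacaulayLocalRing (X.presheaf.stalk x))
    (i : Y ⟶ X) [IsClosedImmersion i] (c : ℕ)
    (hgen : ∀ y : Y, ∃ U : X.affineOpens, i.base y ∈ U.1 ∧ ∃ g : Fin c → Γ(X, U.1),
      i.ker.ideal U = Ideal.span (Set.range g))
    (hht : ∀ y : Y, (c : ℕ∞) ≤ (RingHom.ker (i.stalkMap y).hom).height) :
    ∀ y : Y, ∃ U : X.affineOpens, i.base y ∈ U.1 ∧ ∃ f : Fin c → Γ(X, U.1),
      i.ker.ideal U = Ideal.span (Set.range f) ∧ IsWeaklyRegular Γ(X, U.1) (List.ofFn f) ∧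
      ∀ (s : FlatMod.freeMod (↑U.1) c ⟶ Coh.structureModule (↑U.1)),
        (∀ k : Fin c, KoszSh.secForm s ⊤
          ((Limits.Sigma.ι (fun _ : Fin c => Coh.structureModule (↑U.1)) k).app ⊤
            (OmegaSh.strSect (↑U.1) ⊤ 1)) = U.1.topIso.inv (f k)) →
        ∀ (C : KoszSh.Cx (FlatMod.freeMod (↑U.1) c) s) (q : ℕ), 1 ≤ q →
          Limits.IsZero (C.K.homology q) := by
  intro y
  obtain ⟨U, hyU, f, hker, hreg⟩ := KosShA.exists_regular_gens hCM i c hgen hht y
  refine ⟨U, hyU, f, hker, hreg, ?_⟩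
  intro s hs C q hq
  haveI : IsAffine (U.1 : Scheme.{u}) := U.2
  have hreg' : IsWeaklyRegular Γ((U.1 : Scheme.{u}), ⊤)
      (List.ofFn fun k => U.1.topIso.inv (f k)) := by
    have h1 := KosShC.isWeaklyRegular_map_of_flat (U.1.topIso.inv).hom
      (RingHom.Flat.of_bijective (ConcreteCategory.bijective_of_isIso U.1.topIso.inv)) _ hreg
    rw [List.map_ofFn] at h1
    exact h1
  exact KosShC.isZero_homology_freeMod c (fun k => U.1.topIso.inv (f k)) hreg' s hs C
    Groth.Agent.Lib.Helper14.KosShExact.isZero_homology_of_affine_sections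
    (Groth.Agent.Lib.Helper24.FreeModBasis.exists_basis_freeMod _ c)
    (fun V hV => Groth.Agent.Lib.Helper87.FlatRes.flat_restrict_affine V hV)
    KosShD.hpre q hq

end Groth.Agent.Lib.Helper94.KosShE
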