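import Groth.Agent.Lib.Helper94.KosShC
import Groth.Agent.Lib.Helper14.LogSub

/-!
# S15900: functoriality of Koszul complexes of cosections
-/

set_option autoImplicit false
universe u

namespace Groth.Agent.Lib.Helper94.KosShF

open CategoryTheory AlgebraicGeometry Opposite exteriorPower TopologicalSpace
open Groth.Agent.Lib.Helper94.KosShB Groth.Agent.Lib.Helper94.KosShC

/-- induction over decomposables with scalar multiples. -/
theorem dec_induction {R M : Type*} [CommRing R] [AddCommGroup M] [Module R M] (p : ℕ)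
    (P : ↥(⋀[R]^p M) → Prop) (h0 : P 0) (hadd : ∀ x y, P x → P y → P (x + y))
    (hsmul : ∀ (r : R) (e : Fin p → M), P (r • ιMulti R p e)) : ∀ y, P y := by
  intro y
  have hy : y ∈ Submodule.span R (Set.range (ιMulti R p (M := M))) := by
    rw [ιMulti_span]; trivial
  induction hy using Submodule.closure_induction with
  | zero => exact h0
  | add x y _ _ hx hy => exact hadd x y hx hy
  | smul_mem r x hx =>
    obtain ⟨e, rfl⟩ := hx
    exact hsmul r e

/-- naturality of the Koszul boundary. -/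
theorem map_dGen {R M N : Type*} [CommRing R] [AddCommGroup M] [Module R M] [AddCommGroup N]
    [Module R N] (g : M →ₗ[R] N) (φs : M →ₗ[R] R) (φt : N →ₗ[R] R) (h : ∀ m, φt (g m) = φs m)
    (p : ℕ) (e : Fin (p + 1) → M) :
    exteriorPower.map p g (KoszSh.dGen φs p e) = KoszSh.dGen φt p (g ∘ e) := by
  unfold KoszSh.dGen
  rw [map_sum]
  refine Finset.sum_congr rfl fun i _ => ?_
  rw [map_smul, map_apply_ιMulti, Function.comp_apply, h]
  rfl

variable {X : Scheme.{u}} {E F : X.Modules} {s : E ⟶ Coh.structureModule X}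
  {t : F ⟶ Coh.structureModule X} (f : E ⟶ F) (C : KoszSh.Cx E s) (D : KoszSh.Cx F t)

/-- the local model of `Λ^p f` on an affine open. -/
noncomputable def locMap (p : ℕ) (U : X.affineOpens) :
    Γ(C.K.X p, U.1) →ₗ[Γ(X, U.1)] Γ(D.K.X p, U.1) :=
  (D.loc p U).symm.toLinearMap ∘ₗ exteriorPower.map p (appLin f U.1) ∘ₗ (C.loc p U).toLinearMap

theorem locMap_dec (p : ℕ) (U : X.affineOpens) (e : Fin p → Γ(E, U.1)) :
    locMap f C D p U ((C.loc p U).symm (ιMulti _ p e)) =
      (D.loc p U).symm (ιMulti _ p (fun j => f.app U.1 (e j))) := by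
  change (D.loc p U).symm (exteriorPower.map p (appLin f U.1)
    (C.loc p U ((C.loc p U).symm (ιMulti _ p e)))) = _
  rw [LinearEquiv.apply_symm_apply, map_apply_ιMulti]
  rfl

theorem locMap_res (p : ℕ) (U U' : X.affineOpens) (i : U'.1 ≤ U.1) (x : Γ(C.K.X p, U.1)) :
    locMap f C D p U' ((C.K.X p).presheaf.map (homOfLE i).op x) =
      (D.K.X p).presheaf.map (homOfLE i).op (locMap f C D p U x) := by
  obtain ⟨y, rfl⟩ : ∃ y, x = (C.loc p U).symm y := ⟨C.loc p U x, (LinearEquiv.symm_apply_apply _ _).symm⟩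
  induction y using dec_induction with
  | h0 => simp
  | hadd a b ha hb => rw [map_add, map_add, map_add, map_add, map_add, ha, hb]
  | hsmul r e =>
    rw [map_smul, Scheme.Modules.map_smul, map_smul, map_smul, Scheme.Modules.map_smul]
    congr 1
    have h1 := C.loc_res p U U' i e
    have h2 := D.loc_res p U U' i (fun j => f.app U.1 (e j))
    have h3 := locMap_dec f C D p U' (fun j => E.val.map (homOfLE i).op (e j))
    have h4 := locMap_dec f C D p U e
    refine Eq.trans ?_ ((congrArg _ h4).trans h2).symm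
    refine Eq.trans (congrArg (locMap f C D p U') h1) ?_
    refine h3.trans ?_
    congr 2
    funext j
    exact app_res f (homOfLE i) (e j)

theorem isBasis_affine : Opens.IsBasis
    (Set.range (Subtype.val : {U : X.Opens // IsAffineOpen U} → X.Opens)) := by
  have h : Set.range (Subtype.val : {U : X.Opens // IsAffineOpen U} → X.Opens) =
      {U | IsAffineOpen U} := Subtype.range_coe_subtype
  rw [h]
  exact X.isBasis_affineOpens

theorem isBasis_affine' : Opens.IsBasis {U : X.Opens | IsAffineOpen U} := X.isBasis_affineOpens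

/-- the component `Λ^p f` as a morphism of modules. -/
theorem exists_comp (p : ℕ) : ∃ ψ : C.K.X p ⟶ D.K.X p,
    ∀ (U : X.affineOpens) (x : Γ(C.K.X p, U.1)), ψ.app U.1 x = locMap f C D p U x := by
  obtain ⟨κ, hκ⟩ := Groth.Agent.Lib.Helper14.LogSub.exists_hom_of_basis (C.K.X p) (D.K.X p)
    (fun U => IsAffineOpen U) isBasis_affine
    (fun U hU => (locMap f C D p ⟨U, hU⟩).toAddMonoidHom)
    (fun U U' hU hU' i x => locMap_res f C D p ⟨U, hU⟩ ⟨U', hU'⟩ i x)
    (fun U hU r x => map_smul (locMap f C D p ⟨U, hU⟩) r x)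
  exact ⟨κ, fun U x => hκ U.1 U.2 x⟩

/-- a morphism out of `K_p` is determined by its values on decomposables over affine opens. -/
theorem hom_ext_dec {N : X.Modules} (p : ℕ) (α β : C.K.X p ⟶ N)
    (h : ∀ (U : X.affineOpens) (e : Fin p → Γ(E, U.1)),
      α.app U.1 ((C.loc p U).symm (ιMulti _ p e)) = β.app U.1 ((C.loc p U).symm (ιMulti _ p e))) :
    α = β := by
  apply Groth.Agent.Lib.Helper14.LogSub.hom_ext_of_basis α β _ isBasis_affine'
  intro U hU x
  obtain ⟨y, rfl⟩ : ∃ y, x = (C.loc p ⟨U, hU⟩).symm y :=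
    ⟨C.loc p ⟨U, hU⟩ x, (LinearEquiv.symm_apply_apply _ _).symm⟩
  induction y using dec_induction with
  | h0 => simp
  | hadd a b ha hb => rw [map_add, map_add, map_add, ha, hb]
  | hsmul r e =>
    rw [map_smul, Scheme.Modules.Hom.app_smul, Scheme.Modules.Hom.app_smul]
    congr 1
    exact h ⟨U, hU⟩ e

theorem secForm_comp (hf : f ≫ t = s) (U : X.Opens) (m : Γ(E, U)) :
    KoszSh.secForm t U (appLin f U m) = KoszSh.secForm s U m := by
  subst hf
  rfl

theorem main (hf : f ≫ t = s) :
    ∃! φ : C.K ⟶ D.K, ∀ (p : ℕ) (U : X.affineOpens) (e : Fin p → Γ(E, U.1)),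
      (φ.f p).app U.1 ((C.loc p U).symm (ιMulti _ p e)) =
        (D.loc p U).symm (ιMulti _ p (fun j => f.app U.1 (e j))) := by
  choose ψ hψ using exists_comp f C D
  have hdec : ∀ (p : ℕ) (U : X.affineOpens) (e : Fin p → Γ(E, U.1)),
      (ψ p).app U.1 ((C.loc p U).symm (ιMulti _ p e)) =
        (D.loc p U).symm (ιMulti _ p (fun j => f.app U.1 (e j))) := by
    intro p U e
    rw [hψ, locMap_dec]
  have hcomm : ∀ p : ℕ, ψ (p + 1) ≫ D.K.d (p + 1) p = C.K.d (p + 1) p ≫ ψ p := by
    intro p
    apply hom_ext_dec C (p + 1)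
    intro U e
    rw [Scheme.Modules.Hom.comp_app, Scheme.Modules.Hom.comp_app]
    change (D.K.d (p + 1) p).app U.1 ((ψ (p + 1)).app U.1 _) =
      (ψ p).app U.1 ((C.K.d (p + 1) p).app U.1 _)
    rw [hdec, D.rule, C.rule, hψ]
    change _ = (D.loc p U).symm (exteriorPower.map p (appLin f U.1)
      (C.loc p U ((C.loc p U).symm _)))
    rw [LinearEquiv.apply_symm_apply,
      map_dGen (appLin f U.1) (KoszSh.secForm s U.1) (KoszSh.secForm t U.1)
        (secForm_comp f hf U.1) p e]
    rfl
  refine ⟨{ f := ψ, comm' := ?_ }, hdec, ?_⟩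
  · intro i j hij
    have : j + 1 = i := hij
    subst this
    exact hcomm j
  · intro φ' hφ'
    ext p : 1
    apply hom_ext_dec C p
    intro U e
    rw [hφ', hdec]

end Groth.Agent.Lib.Helper94.KosShF
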