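import Mathlib.LinearAlgebra.CliffordAlgebra.Contraction
import Mathlib.LinearAlgebra.CliffordAlgebra.Fold
import Mathlib.LinearAlgebra.ExteriorAlgebra.Grading
import Mathlib.LinearAlgebra.ExteriorPower.Basis
import Mathlib.RingTheory.Regular.RegularSequence
import Mathlib.RingTheory.Regular.IsSMulRegular
import Mathlib.Algebra.DirectSum.Decomposition
import Mathlib.LinearAlgebra.DirectSum.Basis

/-!
# Total Koszul exactness on the exterior algebra of a free module (operator calculus)
-/

set_option autoImplicit false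

namespace Groth.Agent.Lib.Helper94.KosTotA

variable {R M : Type*} [CommRing R] [AddCommGroup M] [Module R M]

/-- contraction on the exterior algebra. -/
noncomputable abbrev cl (d : Module.Dual R M) : ExteriorAlgebra R M →ₗ[R] ExteriorAlgebra R M :=
  CliffordAlgebra.contractLeft (Q := (0 : QuadraticForm R M)) d

/-- left multiplication by a vector. -/
noncomputable def Lv (v : M) : ExteriorAlgebra R M →ₗ[R] ExteriorAlgebra R M :=
  LinearMap.mulLeft R (ExteriorAlgebra.ι R v)

theorem Lv_apply (v : M) (x : ExteriorAlgebra R M) : Lv v x = ExteriorAlgebra.ι R v * x := rfl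

theorem cl_Lv (d : Module.Dual R M) (v : M) (x : ExteriorAlgebra R M) :
    cl d (Lv v x) = d v • x - Lv v (cl d x) := by
  rw [Lv_apply, Lv_apply]
  exact CliffordAlgebra.contractLeft_ι_mul (Q := (0 : QuadraticForm R M)) d v x

theorem cl_cl (d : Module.Dual R M) (x : ExteriorAlgebra R M) : cl d (cl d x) = 0 :=
  CliffordAlgebra.contractLeft_contractLeft (Q := (0 : QuadraticForm R M)) d x

theorem cl_comm (d d' : Module.Dual R M) (x : ExteriorAlgebra R M) :
    cl d (cl d' x) = - cl d' (cl d x) :=
  CliffordAlgebra.contractLeft_comm (Q := (0 : QuadraticForm R M)) d d' x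

theorem Lv_Lv (v : M) (x : ExteriorAlgebra R M) : Lv v (Lv v x) = 0 := by
  rw [Lv_apply, Lv_apply, ← mul_assoc, ExteriorAlgebra.ι_sq_zero, zero_mul]

theorem Lv_comm (v w : M) (x : ExteriorAlgebra R M) : Lv v (Lv w x) = - Lv w (Lv v x) := by
  rw [Lv_apply, Lv_apply, Lv_apply, Lv_apply, ← mul_assoc, ← mul_assoc, ← neg_mul]
  congr 1
  exact eq_neg_of_add_eq_zero_left (ExteriorAlgebra.ι_add_mul_swap v w)

theorem cl_algebraMap (d : Module.Dual R M) (r : R) :
    cl d (algebraMap R (ExteriorAlgebra R M) r) = 0 :=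
  CliffordAlgebra.contractLeft_algebraMap (Q := (0 : QuadraticForm R M)) d r

instance [Module.Free R M] : Module.Free R (ExteriorAlgebra R M) :=
  Module.Free.of_equiv (DirectSum.decomposeLinearEquiv (fun i : ℕ => ⋀[R]^i M)).symm

end Groth.Agent.Lib.Helper94.KosTotA
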