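import Groth.Agent.Lib.Helper94.KosTotA

/-!
# Operators attached to a finite basis: contractions, multiplications, the projection `P m`
-/

set_option autoImplicit false

namespace Groth.Agent.Lib.Helper94.KosTotB

open Groth.Agent.Lib.Helper94.KosTotA

variable {R M : Type*} [CommRing R] [AddCommGroup M] [Module R M] {n : ℕ}
  (b : Module.Basis (Fin n) R M)

/-- contraction with the `k`-th coordinate. -/
noncomputable def io (k : Fin n) : ExteriorAlgebra R M →ₗ[R] ExteriorAlgebra R M := cl (b.coord k)

/-- multiplication by the `k`-th basis vector. -/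
noncomputable def L (k : Fin n) : ExteriorAlgebra R M →ₗ[R] ExteriorAlgebra R M := Lv (b k)

theorem coord_self (k : Fin n) : b.coord k (b k) = 1 := by simp

theorem coord_ne {k j : Fin n} (h : k ≠ j) : b.coord k (b j) = 0 := by
  simp [h.symm]

theorem io_L_self (k : Fin n) (x : ExteriorAlgebra R M) :
    io b k (L b k x) = x - L b k (io b k x) := by
  unfold io L
  rw [cl_Lv, coord_self, one_smul]

theorem io_L_ne {k j : Fin n} (h : k ≠ j) (x : ExteriorAlgebra R M) :
    io b k (L b j x) = - L b j (io b k x) := by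
  unfold io L
  rw [cl_Lv, coord_ne b h, zero_smul, zero_sub]

theorem io_io (k : Fin n) (x : ExteriorAlgebra R M) : io b k (io b k x) = 0 := cl_cl _ x

theorem io_comm (k j : Fin n) (x : ExteriorAlgebra R M) :
    io b k (io b j x) = - io b j (io b k x) := cl_comm _ _ x

theorem L_L (k : Fin n) (x : ExteriorAlgebra R M) : L b k (L b k x) = 0 := Lv_Lv _ x

theorem L_comm (k j : Fin n) (x : ExteriorAlgebra R M) :
    L b k (L b j x) = - L b j (L b k x) := Lv_comm _ _ x

theorem cl_io (d : Module.Dual R M) (k : Fin n) (x : ExteriorAlgebra R M) :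
    cl d (io b k x) = - io b k (cl d x) := cl_comm _ _ x

theorem cl_L (d : Module.Dual R M) (k : Fin n) (x : ExteriorAlgebra R M) :
    cl d (L b k x) = d (b k) • x - L b k (cl d x) := cl_Lv d _ x

/-- `Q k = io k ∘ L k`, the projection onto `ker (io k)` along `im (L k)`. -/
noncomputable def Q (k : Fin n) : ExteriorAlgebra R M →ₗ[R] ExteriorAlgebra R M :=
  (io b k).comp (L b k)

theorem Q_apply (k : Fin n) (x : ExteriorAlgebra R M) : Q b k x = io b k (L b k x) := rfl

theorem io_Q_self (k : Fin n) (x : ExteriorAlgebra R M) : io b k (Q b k x) = 0 := io_io b k _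

theorem io_Q_ne {k j : Fin n} (h : k ≠ j) (x : ExteriorAlgebra R M) :
    io b k (Q b j x) = Q b j (io b k x) := by
  rw [Q_apply, Q_apply, io_comm, io_L_ne b h, map_neg, neg_neg]

theorem Q_of_io {k : Fin n} {x : ExteriorAlgebra R M} (h : io b k x = 0) : Q b k x = x := by
  rw [Q_apply, io_L_self, h, map_zero, sub_zero]

theorem Q_L_self (k : Fin n) (x : ExteriorAlgebra R M) : Q b k (L b k x) = 0 := by
  rw [Q_apply, L_L, map_zero]

theorem Q_L_ne {k j : Fin n} (h : k ≠ j) (x : ExteriorAlgebra R M) :
    Q b k (L b j x) = L b j (Q b k x) := by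
  rw [Q_apply, Q_apply, L_comm, map_neg, io_L_ne b h, neg_neg]

/-- membership in `A_m`: killed by the first `m` coordinate contractions. -/
def InA (m : ℕ) (g : ExteriorAlgebra R M) : Prop := ∀ k : Fin n, k.val < m → io b k g = 0

/-- the projection onto `A_m`. -/
noncomputable def P : ℕ → (ExteriorAlgebra R M →ₗ[R] ExteriorAlgebra R M)
  | 0 => LinearMap.id
  | (m + 1) => if h : m < n then (Q b ⟨m, h⟩).comp (P m) else P m

theorem P_zero (x : ExteriorAlgebra R M) : P b 0 x = x := rfl

theorem P_succ {m : ℕ} (h : m < n) (x : ExteriorAlgebra R M) :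
    P b (m + 1) x = Q b ⟨m, h⟩ (P b m x) := by
  simp only [P, dif_pos h, LinearMap.comp_apply]

theorem P_succ_of_not {m : ℕ} (h : ¬ m < n) (x : ExteriorAlgebra R M) :
    P b (m + 1) x = P b m x := by
  simp only [P, dif_neg h]

theorem inA_P (m : ℕ) (x : ExteriorAlgebra R M) : InA b m (P b m x) := by
  induction m with
  | zero => intro k hk; exact absurd hk (Nat.not_lt_zero _)
  | succ m ih =>
    intro k hk
    by_cases h : m < n
    · rw [P_succ b h]
      by_cases hkm : k = ⟨m, h⟩
      · rw [hkm]; exact io_Q_self b _ _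
      · rw [io_Q_ne b hkm, ih k, map_zero]
        have : k.val ≠ m := fun e => hkm (Fin.ext e)
        omega
    · rw [P_succ_of_not b h]
      exact ih k (by have := k.isLt; omega)

theorem P_of_inA (m : ℕ) {g : ExteriorAlgebra R M} (hg : InA b m g) : P b m g = g := by
  induction m with
  | zero => rfl
  | succ m ih =>
    have hg' : InA b m g := fun k hk => hg k (by omega)
    by_cases h : m < n
    · rw [P_succ b h, ih hg']
      exact Q_of_io b (hg ⟨m, h⟩ (by simp))
    · rw [P_succ_of_not b h, ih hg']

theorem P_L_of_le (m : ℕ) (j : Fin n) (hj : m ≤ j.val) (x : ExteriorAlgebra R M) :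
    P b m (L b j x) = L b j (P b m x) := by
  induction m with
  | zero => rfl
  | succ m ih =>
    by_cases h : m < n
    · rw [P_succ b h, P_succ b h, ih (by omega)]
      refine Q_L_ne b ?_ _
      intro e
      have := congrArg Fin.val e
      simp at this
      omega
    · rw [P_succ_of_not b h, P_succ_of_not b h, ih (by omega)]

theorem P_L_of_lt (m : ℕ) (j : Fin n) (hj : j.val < m) (x : ExteriorAlgebra R M) :
    P b m (L b j x) = 0 := by
  induction m with
  | zero => exact absurd hj (Nat.not_lt_zero _)
  | succ m ih =>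
    by_cases h : m < n
    · rw [P_succ b h]
      by_cases hjm : j.val < m
      · rw [ih hjm, map_zero]
      · have hjm' : j = ⟨m, h⟩ := Fin.ext (by simp; omega)
        rw [P_L_of_le b m j (by omega), hjm']
        exact Q_L_self b _ _
    · rw [P_succ_of_not b h]
      exact ih (by have := j.isLt; omega)

theorem P_algebraMap (m : ℕ) (r : R) :
    P b m (algebraMap R (ExteriorAlgebra R M) r) = algebraMap R (ExteriorAlgebra R M) r :=
  P_of_inA b m (fun _ _ => cl_algebraMap _ r)

/-- `P n` lands in the scalars. -/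
theorem exists_P_eq_algebraMap (x : ExteriorAlgebra R M) :
    ∃ r : R, P b n x = algebraMap R (ExteriorAlgebra R M) r := by
  induction x using CliffordAlgebra.left_induction with
  | algebraMap r => exact ⟨r, P_algebraMap b n r⟩
  | add x y hx hy =>
    obtain ⟨r, hr⟩ := hx
    obtain ⟨s, hs⟩ := hy
    exact ⟨r + s, by rw [map_add, hr, hs, map_add]⟩
  | ι_mul x v _ =>
    refine ⟨0, ?_⟩
    rw [map_zero]
    have hv : v = ∑ k, b.repr v k • b k := (b.sum_repr v).symm
    have : CliffordAlgebra.ι (0 : QuadraticForm R M) v * x = ∑ k, b.repr v k • L b k x := by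
      conv_lhs => rw [hv]
      rw [map_sum, Finset.sum_mul]
      refine Finset.sum_congr rfl fun k _ => ?_
      rw [map_smul, smul_mul_assoc]
      rfl
    rw [this, map_sum]
    refine Finset.sum_eq_zero fun k _ => ?_
    rw [map_smul, P_L_of_lt b n k k.isLt, smul_zero]

end Groth.Agent.Lib.Helper94.KosTotB
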