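import Groth.Prelude.Def_KoszTw
import Groth.Agent.Lib.Lead.Tw2
import Groth.Agent.Lib.Helper2.FreeModAff
import Groth.Agent.Lib.Helper2.RankSections
import Groth.Agent.Lib.Helper14.LogSub
import Groth.Agent.Lib.Helper94.KosShF

/-!
# Twisted Koszul complexes: generic sheaf lemmas and the basis of good opens
-/

set_option autoImplicit false
universe u

namespace Groth.Agent.Lib.Helper94.KosTwA

open CategoryTheory CategoryTheory.Limits AlgebraicGeometry Opposite TopologicalSpace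
open Groth.Agent.Lib.Lead.Inv

variable {X : Scheme.{u}}

/-- Two morphisms out of `A` whose section-level kernels agree on a basis of opens have the same
kernel subobject. -/
theorem kernelSubobject_eq_of_basis {A B₁ B₂ : X.Modules} (g₁ : A ⟶ B₁) (g₂ : A ⟶ B₂)
    (𝓑 : Set X.Opens) (h𝓑 : Opens.IsBasis 𝓑)
    (h : ∀ U ∈ 𝓑, ∀ a : Γ(A, U), g₁.app U a = 0 ↔ g₂.app U a = 0) :
    kernelSubobject g₁ = kernelSubobject g₂ := by
  have key : ∀ {B B' : X.Modules} (f : A ⟶ B) (f' : A ⟶ B'),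
      (∀ U ∈ 𝓑, ∀ a : Γ(A, U), f.app U a = 0 → f'.app U a = 0) →
      kernelSubobject f ≤ kernelSubobject f' := by
    intro B B' f f' hff'
    have w : (kernelSubobject f).arrow ≫ f' = 0 := by
      apply Groth.Agent.Lib.Helper14.LogSub.hom_ext_of_basis _ _ 𝓑 h𝓑
      intro U hU k
      rw [Scheme.Modules.Hom.comp_app, Scheme.Modules.Hom.zero_app]
      change f'.app U ((kernelSubobject f).arrow.app U k) = 0
      apply hff' U hU
      have h1 := kernelSubobject_arrow_comp f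
      have h2 := congrArg (fun φ => (Scheme.Modules.Hom.app φ U) k) h1
      exact h2
    exact Subobject.le_of_comm ((kernelSubobject f').factorThru _ (kernelSubobject_factors f' _ w))
      (Subobject.factorThru_arrow _ _ _)
  exact le_antisymm (key g₁ g₂ fun U hU a => (h U hU a).mp)
    (key g₂ g₁ fun U hU a => (h U hU a).mpr)

/-- good opens for the twisting argument. -/
def Good (F L : X.Modules) : Set X.Opens :=
  {U | IsAffineOpen U ∧ (∃ l : Γ(L, U), IsGen L U l) ∧ Module.Free Γ(X, U) Γ(F, U)}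

theorem isBasis_good (F L : X.Modules) (hF : FlatMod.IsFinLocFree F) (hL : PicF.IsInvertible L) :
    Opens.IsBasis (Good F L) := by
  haveI : F.IsQuasicoherent :=
    Groth.Agent.Lib.Helper2.RankSections.isQuasicoherent_of_isFinLocFree F hF
  rw [Opens.isBasis_iff_nbhd]
  intro W x hxW
  obtain ⟨U₁, hx₁, l, hl⟩ := (isInvertible_iff_exists_isGen.mp hL) x
  obtain ⟨U₂, n, hx₂, hiso⟩ := hF x
  obtain ⟨_, ⟨U, hU, rfl⟩, hxU, hUle⟩ :=
    X.isBasis_affineOpens.exists_subset_of_mem_open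
      (show x ∈ ((U₁ ⊓ U₂ ⊓ W : X.Opens) : Set X) from ⟨⟨hx₁, hx₂⟩, hxW⟩) (U₁ ⊓ U₂ ⊓ W).2
  have hU₁ : U ≤ U₁ := fun y hy => (hUle hy).1.1
  have hU₂ : U ≤ U₂ := fun y hy => (hUle hy).1.2
  have hUW : U ≤ W := fun y hy => (hUle hy).2
  refine ⟨U, ⟨hU, ⟨_, hl.res hU₁⟩, ?_⟩, hxU, hUW⟩
  obtain ⟨e⟩ := (Groth.Agent.Lib.Helper2.FreeModAff.nonempty_iso_freeMod_iff F hU n).mp
    (Groth.Agent.Lib.Helper2.FreeModAff.nonempty_iso_freeMod_of_le F hU₂ n hiso)
  exact Module.Free.of_equiv e.symm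

end Groth.Agent.Lib.Helper94.KosTwA
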