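import Groth.Agent.Lib.Helper94.KosTwA

/-!
# Twisted Koszul complexes: local analysis on a good open
-/

set_option autoImplicit false
universe u

namespace Groth.Agent.Lib.Helper94.KosTwB

open CategoryTheory CategoryTheory.Limits AlgebraicGeometry Opposite TopologicalSpace exteriorPower
open Groth.Agent.Lib.Lead.Inv Groth.Agent.Lib.Lead.QCohAff
open Groth.Agent.Lib.Helper94.KosShB Groth.Agent.Lib.Helper94.KosShF

/-- scaling of the Koszul boundary in the form. -/
theorem smul_dGen {R M : Type*} [CommRing R] [AddCommGroup M] [Module R M] (a : R)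
    (φ φ' : M →ₗ[R] R) (h : ∀ m, φ' m * a = φ m) (p : ℕ) (e : Fin (p + 1) → M) :
    a • KoszSh.dGen φ' p e = KoszSh.dGen φ p e := by
  unfold KoszSh.dGen
  rw [Finset.smul_sum]
  refine Finset.sum_congr rfl fun i _ => ?_
  rw [smul_smul, ← h (e i)]
  congr 1
  ring

variable {X : Scheme.{u}} {F L : X.Modules}

theorem tprod_const_eq {U : X.Opens} (l : Γ(L, U)) (n : ℕ) :
    KoszTw.tprod L n U (fun _ => l) = genPow l n := by
  induction n with
  | zero => rfl
  | succ n ih =>
    change SecTwist.tmul _ _ U (KoszTw.tprod L n U (fun _ => l)) l = _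
    rw [ih]
    rfl

/-- `f ↦ f ⊗ l`. -/
noncomputable def tau {U : X.Opens} {l : Γ(L, U)} (hl : IsGen L U l) :
    Γ(F, U) ≃ₗ[Γ(X, U)] Γ(CohB1.tensorMod F L, U) := tmulREquiv F hl le_rfl

theorem tau_apply {U : X.Opens} {l : Γ(L, U)} (hl : IsGen L U l) (f : Γ(F, U)) :
    tau (F := F) hl f = SecTwist.tmul F L U f l := by
  unfold tau
  rw [tmulREquiv_apply, res_self]
  rfl

variable {s : F ⟶ Coh.structureModule X} {lam : Coh.structureModule X ⟶ L}
  {t : CohB1.tensorMod F L ⟶ Coh.structureModule X}

/-- the coefficient of `lam 1` with respect to the generator. -/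
noncomputable def coef (lam : Coh.structureModule X ⟶ L) {U : X.Opens} {l : Γ(L, U)}
    (hl : IsGen L U l) : Γ(X, U) := hl.coeff le_rfl (val lam U)

theorem coef_smul (lam : Coh.structureModule X ⟶ L) {U : X.Opens} {l : Γ(L, U)}
    (hl : IsGen L U l) : coef lam hl • l = val lam U := by
  have := hl.coeff_smul le_rfl (val lam U)
  rw [res_self] at this
  exact this

theorem secForm_tau (htri : KoszTw.TwistTriangle s lam t) {U : X.Opens} {l : Γ(L, U)}
    (hl : IsGen L U l) (f : Γ(F, U)) :
    KoszSh.secForm t U (tau hl f) * coef lam hl = KoszSh.secForm s U f := by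
  have h1 := htri U f l
  rw [← tau_apply hl] at h1
  have h2 : lam.app U (t.app U (tau hl f)) = KoszSh.secForm t U (tau hl f) • val lam U :=
    app_eq_smul lam U _
  rw [h2, ← coef_smul lam hl, smul_smul] at h1
  have hinj := (hl U le_rfl).1
  apply hinj
  change (KoszSh.secForm t U (tau hl f) * coef lam hl) • L.presheaf.map (homOfLE le_rfl).op l =
    KoszSh.secForm s U f • L.presheaf.map (homOfLE le_rfl).op l
  rw [res_self]
  exact h1

theorem coef_mem_nonZeroDivisors [Mono lam] {U : X.Opens} {l : Γ(L, U)} (hl : IsGen L U l) :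
    coef lam hl ∈ nonZeroDivisors Γ(X, U) := by
  rw [mem_nonZeroDivisors_iff_right]
  intro r hr
  have hinj := Groth.Agent.Lib.Helper14.LogSub.app_injective_of_mono lam U
  have h2 : lam.app U r = r • val lam U := app_eq_smul lam U r
  have h3 : lam.app U (0 : Γ(Coh.structureModule X, U)) = 0 := map_zero _
  have h4 : lam.app U (show Γ(Coh.structureModule X, U) from r) = lam.app U 0 := by
    rw [h3]
    refine h2.trans ?_
    rw [← coef_smul lam hl, smul_smul, hr, zero_smul]
  exact hinj h4

end Groth.Agent.Lib.Helper94.KosTwB
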