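import Groth.Agent.Lib.Helper94.KosTwB

/-!
# S16093: `θ` identifies `Ker δ_{q+1}` with `Ker (∂_{q+1} ⊗ 1)`
-/

set_option autoImplicit false
universe u

namespace Groth.Agent.Lib.Helper94.KosTwC

open CategoryTheory CategoryTheory.Limits AlgebraicGeometry Opposite TopologicalSpace exteriorPower
open Groth.Agent.Lib.Lead.Inv Groth.Agent.Lib.Lead.QCohAff
open Groth.Agent.Lib.Helper94.KosShB Groth.Agent.Lib.Helper94.KosShF
open Groth.Agent.Lib.Helper94.KosTwA Groth.Agent.Lib.Helper94.KosTwB

variable {X : Scheme.{u}} {F L : X.Modules}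
  {s : F ⟶ Coh.structureModule X} {lam : Coh.structureModule X ⟶ L}
  {t : CohB1.tensorMod F L ⟶ Coh.structureModule X}
  (C : KoszSh.Cx F s) (D : KoszSh.Cx (CohB1.tensorMod F L) t)

theorem map_tau_symm {U : X.Opens} {l : Γ(L, U)} (hl : IsGen L U l) (n : ℕ)
    (w : ↥(⋀[Γ(X, U)]^n Γ(CohB1.tensorMod F L, U))) :
    exteriorPower.map n (tau (F := F) hl).toLinearMap
      (exteriorPower.map n (tau (F := F) hl).symm.toLinearMap w) = w := by
  rw [← LinearMap.comp_apply, ← exteriorPower.map_comp, LinearEquiv.comp_symm,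
    exteriorPower.map_id, LinearMap.id_apply]

theorem map_tau_injective {U : X.Opens} {l : Γ(L, U)} (hl : IsGen L U l) (n : ℕ) :
    Function.Injective (exteriorPower.map n (tau (F := F) hl).toLinearMap) :=
  exteriorPower.map_injective (tau (F := F) hl).symm.toLinearMap (LinearEquiv.symm_comp _)

/-- Claim 1. -/
theorem theta_app (p : ℕ) (θ : KoszTw.CxDecData C D p) (U : X.affineOpens) {l : Γ(L, U.1)}
    (hl : IsGen L U.1 l) (y' : ↥(⋀[Γ(X, U.1)]^p Γ(F, U.1))) :
    θ.iso.hom.app U.1 ((D.loc p U).symm (exteriorPower.map p (tau (F := F) hl).toLinearMap y')) =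
      SecTwist.tmul (C.K.X p) (CohB1.tensorPow L p) U.1 ((C.loc p U).symm y') (genPow l p) := by
  induction y' using dec_induction with
  | h0 =>
    rw [map_zero, map_zero, map_zero, map_zero]
    exact (tmul_zero_left _ _ _).symm
  | hadd a b ha hb =>
    rw [map_add, map_add, map_add, map_add, ha, hb]
    exact (tmul_add_left _ _ _ _ _).symm
  | hsmul r e =>
    have h1 := θ.rule U e (fun _ => l)
    have h2 : (fun i => SecTwist.tmul F L U.1 (e i) l) = (tau (F := F) hl).toLinearMap ∘ e := by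
      funext i
      exact (tau_apply hl (e i)).symm
    rw [h2, tprod_const_eq] at h1
    have e1 : exteriorPower.map p (tau (F := F) hl).toLinearMap (r • ιMulti _ p e) =
        r • ιMulti _ p ((tau (F := F) hl).toLinearMap ∘ e) := by
      rw [map_smul, map_apply_ιMulti]
    rw [e1, map_smul (D.loc p U).symm, map_smul (C.loc p U).symm]
    refine (Scheme.Modules.Hom.app_smul θ.iso.hom r _).trans ?_
    refine (congrArg (fun w => r • w) h1).trans ?_
    exact (tmul_smul_left _ _ r _ _).symm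

/-- Claim 3. -/
theorem coef_smul_D (htri : KoszTw.TwistTriangle s lam t) (q : ℕ) (U : X.affineOpens)
    {l : Γ(L, U.1)} (hl : IsGen L U.1 l) (y' : ↥(⋀[Γ(X, U.1)]^(q + 1) Γ(F, U.1))) :
    coef lam hl • KosShB.D D U q (exteriorPower.map (q + 1) (tau (F := F) hl).toLinearMap y') =
      exteriorPower.map q (tau (F := F) hl).toLinearMap (KosShB.D C U q y') := by
  induction y' using dec_induction with
  | h0 => simp
  | hadd a b ha hb => rw [map_add, map_add, map_add, map_add, smul_add, ha, hb]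
  | hsmul r e =>
    rw [map_smul, map_smul, map_smul, map_smul, map_apply_ιMulti, D_ιMulti, D_ιMulti,
      smul_comm]
    congr 1
    rw [← map_dGen (tau (F := F) hl).toLinearMap
      ((KoszSh.secForm t U.1).comp (tau (F := F) hl).toLinearMap) (KoszSh.secForm t U.1)
      (fun _ => rfl), ← map_smul]
    congr 1
    exact smul_dGen _ _ _ (fun m => secForm_tau htri hl m) q e

theorem main (hF : FlatMod.IsFinLocFree F) (hL : PicF.IsInvertible L) [Mono lam]
    (htri : KoszTw.TwistTriangle s lam t) (q : ℕ) (θ : KoszTw.CxDecData C D (q + 1)) :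
    kernelSubobject (θ.iso.hom ≫
      KoszTw.tensorMap (C.K.d (q + 1) q) (𝟙 (CohB1.tensorPow L (q + 1)))) =
      kernelSubobject (D.K.d (q + 1) q) := by
  apply kernelSubobject_eq_of_basis _ _ (Good F L) (isBasis_good F L hF hL)
  rintro U ⟨hU, ⟨l, hl⟩, hfree⟩ z
  let Ua : X.affineOpens := ⟨U, hU⟩
  -- parametrise z
  set y' := exteriorPower.map (q + 1) (tau (F := F) hl).symm.toLinearMap (D.loc (q + 1) Ua z)
    with hy'
  have hz : z = (D.loc (q + 1) Ua).symm
      (exteriorPower.map (q + 1) (tau (F := F) hl).toLinearMap y') := by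
    rw [hy', map_tau_symm, LinearEquiv.symm_apply_apply]
  set x := (C.loc (q + 1) Ua).symm y' with hx
  -- g₁ z
  have hg1 : (θ.iso.hom ≫ KoszTw.tensorMap (C.K.d (q + 1) q)
      (𝟙 (CohB1.tensorPow L (q + 1)))).app U z =
      SecTwist.tmul (C.K.X q) (CohB1.tensorPow L (q + 1)) U ((C.K.d (q + 1) q).app U x)
        (genPow l (q + 1)) := by
    rw [Scheme.Modules.Hom.comp_app]
    change (KoszTw.tensorMap (C.K.d (q + 1) q) (𝟙 (CohB1.tensorPow L (q + 1)))).app U
      (θ.iso.hom.app U z) = _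
    rw [hz, theta_app C D (q + 1) θ Ua hl y', KoszTw.tensorMap_tmul]
    rfl
  -- σ
  have hσ : SecTwist.tmul (C.K.X q) (CohB1.tensorPow L (q + 1)) U ((C.K.d (q + 1) q).app U x)
      (genPow l (q + 1)) = 0 ↔ (C.K.d (q + 1) q).app U x = 0 := by
    have h1 := tmulREquiv_apply (C.K.X q) (isGen_genPow hl (q + 1)) le_rfl
      ((C.K.d (q + 1) q).app U x)
    rw [res_self] at h1
    constructor
    · intro h0
      have : tmulREquiv (C.K.X q) (isGen_genPow hl (q + 1)) le_rfl
          ((C.K.d (q + 1) q).app U x) = 0 := h1.trans h0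
      exact (LinearEquiv.map_eq_zero_iff _).mp this
    · intro h0
      rw [h0]
      exact tmul_zero_left _ _ _
  have hDC : KosShB.D C Ua q y' = C.loc q Ua ((C.K.d (q + 1) q).app U x) := rfl
  have hDD : KosShB.D D Ua q (exteriorPower.map (q + 1) (tau (F := F) hl).toLinearMap y') =
      D.loc q Ua ((D.K.d (q + 1) q).app U z) := by
    rw [hz]
    rfl
  have hreg : IsSMulRegular (↥(⋀[Γ(X, U)]^q Γ(CohB1.tensorMod F L, U))) (coef lam hl) := by
    have : Module.Free Γ(X, U) Γ(F, U) := hfree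
    have : Module.Free Γ(X, U) Γ(CohB1.tensorMod F L, U) :=
      Module.Free.of_equiv (tau (F := F) hl)
    have hfl : Module.Free Γ(X, U) (↥(⋀[Γ(X, U)]^q Γ(CohB1.tensorMod F L, U))) := inferInstance
    have hflat : Module.Flat Γ(X, U) (↥(⋀[Γ(X, U)]^q Γ(CohB1.tensorMod F L, U))) := inferInstance
    exact Module.Flat.isSMulRegular_of_nonZeroDivisors (R := Γ(X, U))
      (M := ↥(⋀[Γ(X, U)]^q Γ(CohB1.tensorMod F L, U))) (coef_mem_nonZeroDivisors (lam := lam) hl)
  have h3 := coef_smul_D C D htri q Ua hl y'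
  rw [hg1]
  refine hσ.trans ?_
  constructor
  · intro h0
    have h4 : KosShB.D C Ua q y' = 0 := by rw [hDC, h0, map_zero]
    rw [h4, map_zero, hDD] at h3
    have h5 : D.loc q Ua ((D.K.d (q + 1) q).app U z) = 0 := hreg (by change coef lam hl • _ = coef lam hl • 0; rw [smul_zero]; exact h3)
    exact (LinearEquiv.map_eq_zero_iff _).mp h5
  · intro h0
    rw [hDD, h0, map_zero, smul_zero] at h3
    have h4 : KosShB.D C Ua q y' = 0 :=
      map_tau_injective hl q (by rw [map_zero]; exact h3.symm)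
    rw [hDC] at h4
    exact (LinearEquiv.map_eq_zero_iff _).mp h4

end Groth.Agent.Lib.Helper94.KosTwC
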