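import Groth.Agent.Lib.Helper94.KosTwC

/-!
# S16094: `θ ⊗ 1` identifies `Im δ_{q+1} ⊗ λ(O)` with `Im (∂_{q+1} ⊗ 1)`
-/

set_option autoImplicit false
universe u

namespace Groth.Agent.Lib.Helper94.KosTwD

open CategoryTheory CategoryTheory.Limits AlgebraicGeometry Opposite TopologicalSpace exteriorPower
open Groth.Agent.Lib.Lead.Inv Groth.Agent.Lib.Lead.QCohAff
open Groth.Agent.Lib.Helper94.KosShB Groth.Agent.Lib.Helper94.KosShF
open Groth.Agent.Lib.Helper94.KosTwA Groth.Agent.Lib.Helper94.KosTwB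
open Groth.Agent.Lib.Helper94.KosTwC

variable {X : Scheme.{u}}

/-- If on a basis of opens every section in the image of `g₁` is in the image of `g₂`, then
`Im g₁ ≤ Im g₂`. -/
theorem imageSubobject_le_of_basis {A₁ A₂ B : X.Modules} (g₁ : A₁ ⟶ B) (g₂ : A₂ ⟶ B)
    (𝓑 : Set X.Opens) (h𝓑 : Opens.IsBasis 𝓑)
    (h : ∀ U ∈ 𝓑, ∀ a : Γ(A₁, U), ∃ a' : Γ(A₂, U), g₂.app U a' = g₁.app U a) :
    imageSubobject g₁ ≤ imageSubobject g₂ := by
  have himg : imageSubobject g₂ = kernelSubobject (cokernel.π g₂) :=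
    (ShortComplex.exact_iff_image_eq_kernel _).mp (ShortComplex.exact_cokernel g₂)
  rw [himg]
  have w : g₁ ≫ cokernel.π g₂ = 0 := by
    apply Groth.Agent.Lib.Helper14.LogSub.hom_ext_of_basis _ _ 𝓑 h𝓑
    intro U hU a
    obtain ⟨a', ha'⟩ := h U hU a
    rw [Scheme.Modules.Hom.comp_app, Scheme.Modules.Hom.zero_app]
    change (cokernel.π g₂).app U (g₁.app U a) = 0
    rw [← ha']
    have h1 := cokernel.condition g₂
    exact congrArg (fun φ => (Scheme.Modules.Hom.app φ U) a') h1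
  exact imageSubobject_le g₁ (factorThruKernelSubobject _ g₁ w)
    (factorThruKernelSubobject_comp_arrow _ _ _)

theorem unitorR_inv_app (F : X.Modules) (U : X.Opens) (z : Γ(F, U)) :
    (SecTwist.unitorR F).inv.app U z =
      SecTwist.tmul F (Coh.structureModule X) U z
        ((1 : X.ringCatSheaf.obj.obj (op U)) : (Coh.structureModule X).val.obj (op U)) := by
  have h1 : (SecTwist.unitorR F).hom.app U (SecTwist.tmul F (Coh.structureModule X) U z
      ((1 : X.ringCatSheaf.obj.obj (op U)) : (Coh.structureModule X).val.obj (op U))) = z :=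
    (SecTwist.unitorR_tmul F U z 1).trans (one_smul _ _)
  have h2 := congrArg (fun φ : CohB1.tensorMod F (Coh.structureModule X) ⟶
      CohB1.tensorMod F (Coh.structureModule X) => (Scheme.Modules.Hom.app φ U)
    (show Γ(CohB1.tensorMod F (Coh.structureModule X), U) from
      SecTwist.tmul F (Coh.structureModule X) U z
      ((1 : X.ringCatSheaf.obj.obj (op U)) : (Coh.structureModule X).val.obj (op U))))
    (SecTwist.unitorR F).hom_inv_id
  change (SecTwist.unitorR F).inv.app U ((SecTwist.unitorR F).hom.app U _) = _ at h2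
  refine Eq.trans ?_ h2
  exact congrArg (fun w => (SecTwist.unitorR F).inv.app U w) h1.symm

variable {F L : X.Modules}
  {s : F ⟶ Coh.structureModule X} {lam : Coh.structureModule X ⟶ L}
  {t : CohB1.tensorMod F L ⟶ Coh.structureModule X}
  (C : KoszSh.Cx F s) (D : KoszSh.Cx (CohB1.tensorMod F L) t)

theorem g1_app (q : ℕ) (U : X.Opens) (x : Γ(C.K.X (q + 1), U)) (l : Γ(L, U)) :
    (KoszTw.tensorMap (KoszTw.tensorMap (C.K.d (q + 1) q) (𝟙 (CohB1.tensorPow L q))) (𝟙 L)).app U
      (SecTwist.tmul _ L U (SecTwist.tmul (C.K.X (q + 1)) (CohB1.tensorPow L q) U x (genPow l q)) l) =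
    SecTwist.tmul _ L U (SecTwist.tmul (C.K.X q) (CohB1.tensorPow L q) U
      ((C.K.d (q + 1) q).app U x) (genPow l q)) l := by
  refine (KoszTw.tensorMap_tmul _ _ U _ _).trans ?_
  congr 1
  exact KoszTw.tensorMap_tmul _ _ U _ _

theorem g2_app (htri : KoszTw.TwistTriangle s lam t) (q : ℕ) (θ : KoszTw.CxDecData C D q)
    (U : X.affineOpens) {l : Γ(L, U.1)} (hl : IsGen L U.1 l)
    (y' : ↥(⋀[Γ(X, U.1)]^(q + 1) Γ(F, U.1))) :
    ((SecTwist.unitorR (D.K.X (q + 1))).inv ≫ KoszTw.tensorMap (D.K.d (q + 1) q) lam ≫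
        KoszTw.tensorMap θ.iso.hom (𝟙 L)).app U.1
      ((D.loc (q + 1) U).symm (exteriorPower.map (q + 1) (tau (F := F) hl).toLinearMap y')) =
    SecTwist.tmul _ L U.1 (SecTwist.tmul (C.K.X q) (CohB1.tensorPow L q) U.1
      ((C.K.d (q + 1) q).app U.1 ((C.loc (q + 1) U).symm y')) (genPow l q)) l := by
  set z := (D.loc (q + 1) U).symm (exteriorPower.map (q + 1) (tau (F := F) hl).toLinearMap y')
    with hz
  rw [Scheme.Modules.Hom.comp_app, Scheme.Modules.Hom.comp_app]
  change (KoszTw.tensorMap θ.iso.hom (𝟙 L)).app U.1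
    ((KoszTw.tensorMap (D.K.d (q + 1) q) lam).app U.1
      ((SecTwist.unitorR (D.K.X (q + 1))).inv.app U.1 z)) = _
  have hv : lam.app U.1 ((1 : X.ringCatSheaf.obj.obj (op U.1)) :
      (Coh.structureModule X).val.obj (op U.1)) = coef lam hl • l := (coef_smul lam hl).symm
  have hDD : KosShB.D D U q (exteriorPower.map (q + 1) (tau (F := F) hl).toLinearMap y') =
      D.loc q U ((D.K.d (q + 1) q).app U.1 z) := rfl
  have hDC : KosShB.D C U q y' =
      C.loc q U ((C.K.d (q + 1) q).app U.1 ((C.loc (q + 1) U).symm y')) := rfl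
  have h3 := coef_smul_D C D htri q U hl y'
  rw [hDD, ← map_smul] at h3
  have h4 : coef lam hl • (D.K.d (q + 1) q).app U.1 z =
      (D.loc q U).symm (exteriorPower.map q (tau (F := F) hl).toLinearMap (KosShB.D C U q y')) := by
    rw [← h3, LinearEquiv.symm_apply_apply]
  have h5 : θ.iso.hom.app U.1 (coef lam hl • (D.K.d (q + 1) q).app U.1 z) =
      SecTwist.tmul (C.K.X q) (CohB1.tensorPow L q) U.1
        ((C.K.d (q + 1) q).app U.1 ((C.loc (q + 1) U).symm y')) (genPow l q) := by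
    rw [h4, theta_app C D q θ U hl, hDC, LinearEquiv.symm_apply_apply]
  have s1 : (KoszTw.tensorMap (D.K.d (q + 1) q) lam).app U.1
      ((SecTwist.unitorR (D.K.X (q + 1))).inv.app U.1 z) =
      SecTwist.tmul (D.K.X q) L U.1 (coef lam hl • (D.K.d (q + 1) q).app U.1 z) l := by
    refine (congrArg (fun w => (KoszTw.tensorMap (D.K.d (q + 1) q) lam).app U.1 w)
      (unitorR_inv_app (D.K.X (q + 1)) U.1 z)).trans ?_
    refine (KoszTw.tensorMap_tmul _ _ U.1 _ _).trans ?_
    refine (congrArg (fun w => SecTwist.tmul (D.K.X q) L U.1 ((D.K.d (q + 1) q).app U.1 z) w)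
      hv).trans ?_
    exact (tmul_smul_right _ _ _ _ _).trans (tmul_smul_left _ _ _ _ _).symm
  refine (congrArg (fun w => (KoszTw.tensorMap θ.iso.hom (𝟙 L)).app U.1 w) s1).trans ?_
  refine (KoszTw.tensorMap_tmul _ _ U.1 _ _).trans ?_
  exact congrArg (fun w => SecTwist.tmul _ L U.1 w l) h5

theorem main (hF : FlatMod.IsFinLocFree F) (hL : PicF.IsInvertible L)
    (htri : KoszTw.TwistTriangle s lam t) (q : ℕ) (θ : KoszTw.CxDecData C D q) :
    imageSubobject (KoszTw.tensorMap (KoszTw.tensorMap (C.K.d (q + 1) q)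
        (𝟙 (CohB1.tensorPow L q))) (𝟙 L)) =
      imageSubobject ((SecTwist.unitorR (D.K.X (q + 1))).inv ≫
        KoszTw.tensorMap (D.K.d (q + 1) q) lam ≫ KoszTw.tensorMap θ.iso.hom (𝟙 L)) := by
  apply le_antisymm
  · apply imageSubobject_le_of_basis _ _ (Good F L) (isBasis_good F L hF hL)
    rintro U ⟨hU, ⟨l, hl⟩, -⟩ a
    let Ua : X.affineOpens := ⟨U, hU⟩
    set e₂ := tmulREquiv (CohB1.tensorMod (C.K.X (q + 1)) (CohB1.tensorPow L q)) hl le_rfl
      with he₂
    set e₁ := tmulREquiv (C.K.X (q + 1)) (isGen_genPow hl q) le_rfl with he₁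
    set x := e₁.symm (e₂.symm a) with hx
    have ha : a = SecTwist.tmul _ L U
        (SecTwist.tmul (C.K.X (q + 1)) (CohB1.tensorPow L q) U x (genPow l q)) l := by
      have h1 : a = e₂ (e₁ x) := by
        rw [hx, LinearEquiv.apply_symm_apply, LinearEquiv.apply_symm_apply]
      rw [h1, he₂, he₁, tmulREquiv_apply, tmulREquiv_apply, res_self, res_self]
      rfl
    refine ⟨(D.loc (q + 1) Ua).symm
      (exteriorPower.map (q + 1) (tau (F := F) hl).toLinearMap (C.loc (q + 1) Ua x)), ?_⟩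
    rw [g2_app C D htri q θ Ua hl, ha, g1_app, LinearEquiv.symm_apply_apply]
  · apply imageSubobject_le_of_basis _ _ (Good F L) (isBasis_good F L hF hL)
    rintro U ⟨hU, ⟨l, hl⟩, -⟩ z
    let Ua : X.affineOpens := ⟨U, hU⟩
    set y' := exteriorPower.map (q + 1) (tau (F := F) hl).symm.toLinearMap (D.loc (q + 1) Ua z)
      with hy'
    have hz : z = (D.loc (q + 1) Ua).symm
        (exteriorPower.map (q + 1) (tau (F := F) hl).toLinearMap y') := by
      rw [hy', map_tau_symm, LinearEquiv.symm_apply_apply]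
    refine ⟨SecTwist.tmul _ L U (SecTwist.tmul (C.K.X (q + 1)) (CohB1.tensorPow L q) U
      ((C.loc (q + 1) Ua).symm y') (genPow l q)) l, ?_⟩
    rw [g1_app, hz, g2_app C D htri q θ Ua hl]

end Groth.Agent.Lib.Helper94.KosTwD
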