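import Groth.Agent.Lib.Helper94.ObsDimEFT
import Groth.Prelude.Def_W4bk4hartshdef114Obs

/-!
# Obstruction bounds

`HasObsBound F r`: obstructions of `F` are bounded by `r` elements of the kernel; this follows from an
`ArtFun.ObsTheory` and from a `W4bk4hartshdef114.ObsTheory` (for `h_A`), and it implies the bound
`dim J/nJ ≤ r` for a versal family over `P/J` (`finrank_le_of_hasObsBound`), hence generators of `I`
(`exists_finset_of_w4`).
-/

set_option autoImplicit false
universe u v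

open CategoryTheory ArtFun ArtFun.Art
open scoped TensorProduct

namespace Groth.Agent.Lib.Helper94.ObsDim

open IsLocalRing Groth.Agent.Lib.Helper94.ObsPS

section Bound

variable {k : Type u} [Field k]

/-- `F` has obstructions bounded by `r`: for every semismall `p : C' → C` and `u ∈ F(C)` there are `r`
elements of the kernel such that `u` lifts to `C'` modulo these elements. -/
def HasObsBound (F : Art k k ⥤ Type v) (r : ℕ) : Prop :=
  ∀ ⦃C' C : Art k k⦄ (p : C' ⟶ C), IsSemismallExt p → ∀ u : F.obj C,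
    ∃ x : Fin r → C', (∀ i, x i ∈ RingHom.ker p.toAlgHom) ∧
      ∀ (hK : Ideal.span (Set.range x) ≤ maximalIdeal C')
        (hKJ : Ideal.span (Set.range x) ≤ RingHom.ker p.toAlgHom),
        ∃ u'' : F.obj (C'.quot _ hK), F.map (quotFactor hK p hKJ) u'' = u

/-- The factored map `C'/K → C` of a semismall extension is semismall. -/
theorem isSemismallExt_quotFactor {C' C : Art k k} (p : C' ⟶ C) (hp : IsSemismallExt p)
    (K : Ideal C') (hK : K ≤ maximalIdeal C') (hKJ : K ≤ RingHom.ker p.toAlgHom) :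
    IsSemismallExt (quotFactor hK p hKJ) := by
  constructor
  · intro y
    obtain ⟨z, rfl⟩ := hp.1 y
    exact ⟨quotMk C' _ hK z, rfl⟩
  · rw [← le_bot_iff, Ideal.mul_le]
    intro a ha b hb
    obtain ⟨a', rfl⟩ := quotMk_surjective C' _ hK a
    obtain ⟨b', rfl⟩ := quotMk_surjective C' _ hK b
    have ha' : a' ∈ maximalIdeal C' := by
      rw [C'.mem_maximalIdeal_iff, ← res_app (quotMk C' _ hK)]
      exact ((C'.quot _ hK).mem_maximalIdeal_iff _).1 ha
    have hb' : b' ∈ RingHom.ker p.toAlgHom := by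
      rw [RingHom.mem_ker] at hb ⊢
      exact hb
    have : a' * b' ∈ maximalIdeal C' * RingHom.ker p.toAlgHom := Ideal.mul_mem_mul ha' hb'
    rw [hp.2, Ideal.mem_bot] at this
    rw [Ideal.mem_bot]
    have hmul : (quotMk C' _ hK).toAlgHom a' * (quotMk C' _ hK).toAlgHom b' =
        (quotMk C' _ hK).toAlgHom (a' * b') := (map_mul (quotMk C' _ hK).toAlgHom a' b').symm
    rw [hmul, this, map_zero]

/-- An obstruction theory with values in `V` gives the bound `dim V`. -/
theorem hasObsBound_of_obsTheory {F : Art k k ⥤ Type v} {V : Type u} [AddCommGroup V] [Module k V]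
    [Module.Finite k V] (T : ObsTheory F V) : HasObsBound F (Module.finrank k V) := by
  intro C' C p hp u
  obtain ⟨c, hc⟩ := TensorProduct.eq_repr_basis_left (Module.finBasis k V) (T.obs p hp u)
  refine ⟨fun i => ((c i : ↥(RingHom.ker p.toAlgHom)) : C'), fun i => (c i).2, ?_⟩
  intro hK hKJ
  have hq := isSemismallExt_quotFactor p hp _ hK hKJ
  have h0 : T.obs (quotFactor hK p hKJ) hq u = 0 := by
    rw [T.obs_quot p hp _ hK hKJ hq, ← hc, Finsupp.sum, map_sum]
    refine Finset.sum_eq_zero fun i _ => ?_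
    rw [LinearMap.lTensor_tmul]
    have : ((kerToQuot hK p hKJ).restrictScalars k) (c i) = 0 := by
      apply Subtype.ext
      exact Ideal.Quotient.eq_zero_iff_mem.2 (Ideal.subset_span ⟨i, rfl⟩)
    rw [this, TensorProduct.tmul_zero]
  exact (T.obs_eq_zero_iff _ hq _).1 h0

variable {P : Type u} [CommRing P] [IsLocalRing P] [IsNoetherianRing P] [Algebra k P]

omit [IsNoetherianRing P] in
/-- **Core estimate** from an obstruction bound. -/
theorem finrank_le_of_hasObsBound_aux (J : Ideal P) (hJ : J ≤ maximalIdeal P ^ 2)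
    (res : (P ⧸ J) →ₐ[k] k) {F : Art k k ⥤ Type v} {r : ℕ} (hB : HasObsBound F r)
    (ξ : Family (P ⧸ J) res F) (hξ : IsVersal ξ)
    (C' : Art k k) (ũ₀ : P →ₐ[k] C') (hsurj : Function.Surjective ũ₀)
    (h1 : ∀ x ∈ maximalIdeal P * J, ũ₀ x = 0) (h2 : ∀ j ∈ J, ũ₀ j = 0 → j ∈ maximalIdeal P * J)
    (compat : C'.res.comp ũ₀ = res.comp (Ideal.Quotient.mkₐ k J)) :
    Module.finrank k (↥J ⧸ (maximalIdeal P • (⊤ : Submodule P ↥J))) ≤ r := by
  classical
  have hJn : J ≤ maximalIdeal P := hJ.trans (Ideal.pow_le_self (by norm_num))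
  have hI : Ideal.map ũ₀ J ≤ maximalIdeal C' := by
    rw [Ideal.map_le_iff_le_comap]
    intro j hj
    exact Ideal.mem_comap.2 (map_mem_maximalIdeal C' ũ₀ (hJn hj))
  let p : C' ⟶ C'.quot (Ideal.map ũ₀ J) hI := quotMk C' (Ideal.map ũ₀ J) hI
  have hker : RingHom.ker p.toAlgHom = Ideal.map ũ₀ J := Ideal.Quotient.mkₐ_ker k _
  have hmem_n : ∀ s : P, ũ₀ s ∈ maximalIdeal C' → s ∈ maximalIdeal P := by
    intro s hs
    rw [C'.mem_maximalIdeal_iff] at hs
    exact mem_maximalIdeal_of_algHom_eq_zero (C'.res.comp ũ₀) hs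
  have hp : IsSemismallExt p := by
    refine ⟨quotMk_surjective _ _ _, ?_⟩
    rw [hker, ← le_bot_iff, Ideal.mul_le]
    intro a ha b hb
    obtain ⟨s, rfl⟩ := hsurj a
    obtain ⟨j, hj, rfl⟩ := (Ideal.mem_map_iff_of_surjective ũ₀ hsurj).1 hb
    rw [Ideal.mem_bot, ← map_mul]
    exact h1 _ (Ideal.mul_mem_mul (hmem_n s ha) hj)
  have hkill : ∀ j ∈ J, (p.toAlgHom.comp ũ₀) j = 0 := by
    intro j hj
    have : ũ₀ j ∈ RingHom.ker p.toAlgHom := by
      rw [hker]
      exact Ideal.mem_map_of_mem _ hj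
    exact this
  let φ : HomSet (P ⧸ J) res (C'.quot (Ideal.map ũ₀ J) hI) :=
    ⟨Ideal.Quotient.liftₐ J (p.toAlgHom.comp ũ₀) hkill, by
      apply AlgHom.ext
      intro y
      obtain ⟨s, rfl⟩ := Ideal.Quotient.mk_surjective y
      change (C'.quot (Ideal.map ũ₀ J) hI).res (p (ũ₀ s)) = res (Ideal.Quotient.mk J s)
      rw [res_app p]
      exact DFunLike.congr_fun compat s⟩
  have hφ : ∀ s : P, φ.1 (Ideal.Quotient.mk J s) = p (ũ₀ s) := fun s => rfl
  obtain ⟨x, hxJ, hx⟩ := hB p hp (ξ.app _ φ)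
  have hKJ : Ideal.span (Set.range x) ≤ RingHom.ker p.toAlgHom := by
    rw [Ideal.span_le]
    rintro _ ⟨i, rfl⟩
    exact hxJ i
  have hK : Ideal.span (Set.range x) ≤ maximalIdeal C' := hKJ.trans (hker.le.trans hI)
  have hxkill : ∀ i, ∀ a ∈ maximalIdeal C', a * x i = 0 := by
    intro i a ha
    have : a * x i ∈ maximalIdeal C' * RingHom.ker p.toAlgHom := Ideal.mul_mem_mul ha (hxJ i)
    rwa [hp.2, Ideal.mem_bot] at this
  have hq := isSemismallExt_quotFactor p hp _ hK hKJ
  obtain ⟨u'', hu''⟩ := hx hK hKJ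
  obtain ⟨ψ', hψ', -⟩ := hξ (quotFactor hK p hKJ) hq.1 φ u'' hu''
  have key : ∀ j ∈ J, ũ₀ j ∈ Ideal.span (Set.range x) := by
    intro j hj
    have hfg : ∀ s : P, (ψ'.1.comp (Ideal.Quotient.mkₐ k J)) s -
        ((quotMk C' _ hK).toAlgHom.comp ũ₀) s ∈ RingHom.ker (quotFactor hK p hKJ).toAlgHom := by
      intro s
      rw [RingHom.mem_ker, map_sub, sub_eq_zero]
      have e1 : (quotFactor hK p hKJ).toAlgHom ((ψ'.1.comp (Ideal.Quotient.mkₐ k J)) s) =
          φ.1 (Ideal.Quotient.mk J s) :=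
        DFunLike.congr_fun (congrArg Subtype.val hψ') (Ideal.Quotient.mk J s)
      rw [e1, hφ]
      rfl
    have h3 := eq_on_sq (maximalIdeal P) (maximalIdeal (C'.quot _ hK))
      (RingHom.ker (quotFactor hK p hKJ).toAlgHom) hq.2
      (ψ'.1.comp (Ideal.Quotient.mkₐ k J)) ((quotMk C' _ hK).toAlgHom.comp ũ₀)
      (fun s hs => map_mem_maximalIdeal (C'.quot _ hK) _ hs)
      (fun s hs => map_mem_maximalIdeal (C'.quot _ hK) _ hs) hfg j (hJ hj)
    have h4 : (ψ'.1.comp (Ideal.Quotient.mkₐ k J)) j = 0 := by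
      change ψ'.1 (Ideal.Quotient.mk J j) = 0
      rw [Ideal.Quotient.eq_zero_iff_mem.2 hj, map_zero]
    rw [h4] at h3
    exact Ideal.Quotient.eq_zero_iff_mem.1 h3.symm
  have key' : ∀ j ∈ J, ũ₀ j ∈ Submodule.span k (Set.range x) := fun j hj =>
    ideal_span_le_kspan C' x hxkill _ (key j hj)
  let L : (↥J ⧸ (maximalIdeal P • (⊤ : Submodule P ↥J))) →ₗ[k] C' :=
    ((⊤ : Ideal C').subtype.restrictScalars k).comp
      (lam (maximalIdeal P) J (⊤ : Ideal C') ũ₀ (fun _ _ => trivial) (fun a ha j hj => by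
        rw [← map_mul]
        exact h1 _ (Ideal.mul_mem_mul ha hj)))
  have hL : ∀ j : ↥J, L (Submodule.Quotient.mk j) = ũ₀ j := fun j => rfl
  have hLinj : Function.Injective L := by
    rw [← LinearMap.ker_eq_bot, eq_bot_iff]
    intro w hw
    obtain ⟨j, rfl⟩ := Submodule.Quotient.mk_surjective _ w
    rw [LinearMap.mem_ker, hL] at hw
    rw [Submodule.mem_bot, Submodule.Quotient.mk_eq_zero, Submodule.mem_smul_top_iff]
    exact h2 j j.2 hw
  have hLrange : LinearMap.range L ≤ Submodule.span k (Set.range x) := by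
    rintro _ ⟨w, rfl⟩
    obtain ⟨j, rfl⟩ := Submodule.Quotient.mk_surjective _ w
    rw [hL]
    exact key' j j.2
  haveI : Module.Finite k (Submodule.span k (Set.range x)) :=
    FiniteDimensional.span_of_finite k (Set.finite_range x)
  calc Module.finrank k (↥J ⧸ (maximalIdeal P • (⊤ : Submodule P ↥J)))
      = Module.finrank k (LinearMap.range L) := (LinearMap.finrank_range_of_inj hLinj).symm
    _ ≤ Module.finrank k (Submodule.span k (Set.range x)) := Submodule.finrank_mono hLrange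
    _ ≤ Fintype.card (Fin r) := finrank_range_le_card x
    _ = r := Fintype.card_fin _

/-- If `F` has obstructions bounded by `r` and `ξ : h_{P/J} → F` is versal (`P` a local Noetherian
`k`-algebra, `J ≤ n²`), then `dim J/nJ ≤ r`. -/
theorem finrank_le_of_hasObsBound (J : Ideal P) (hJ : J ≤ maximalIdeal P ^ 2) (res : (P ⧸ J) →ₐ[k] k)
    {F : Art k k ⥤ Type v} {r : ℕ} (hB : HasObsBound F r)
    (ξ : Family (P ⧸ J) res F) (hξ : IsVersal ξ) :
    Module.finrank k (↥J ⧸ (maximalIdeal P • (⊤ : Submodule P ↥J))) ≤ r := by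
  obtain ⟨N, hN1, hAR⟩ := exists_pow_inf_le_mul (maximalIdeal P) J
  have h𝔞1 : maximalIdeal P * J ⊔ maximalIdeal P ^ N ≤ maximalIdeal P :=
    sup_le Ideal.mul_le_left (Ideal.pow_le_self (by omega))
  refine finrank_le_of_hasObsBound_aux J hJ res hB ξ hξ
    (artQuot (res.comp (Ideal.Quotient.mkₐ k J)) _ h𝔞1 N le_sup_right)
    (Ideal.Quotient.mkₐ k _) (Ideal.Quotient.mkₐ_surjective k _) ?_ ?_ ?_
  · intro x hx
    exact Ideal.Quotient.eq_zero_iff_mem.2 (le_sup_left (a := maximalIdeal P * J) hx)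
  · intro j hj h0
    have h3 : j ∈ maximalIdeal P * J ⊔ maximalIdeal P ^ N := Ideal.Quotient.eq_zero_iff_mem.1 h0
    obtain ⟨a, ha, b, hb, rfl⟩ := Submodule.mem_sup.1 h3
    have hb' : b ∈ J := by
      have : b = (a + b) - a := by ring
      rw [this]
      exact J.sub_mem hj (Ideal.mul_le_right ha)
    exact Ideal.add_mem _ ha (hAR ⟨hb', hb⟩)
  · apply AlgHom.ext
    intro s
    rfl

end Bound

section W4

variable {k : Type u} [Field k]

theorem ker_le_maximalIdeal {C' C : Art k k} (p : C' ⟶ C) :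
    RingHom.ker p.toAlgHom ≤ maximalIdeal C' := by
  intro x hx
  rw [C'.mem_maximalIdeal_iff, ← res_app p]
  have : p x = 0 := hx
  rw [this, map_zero]

theorem isSmallExt_of_le (D : Art k k) (J' : Ideal D) (hJ' : J' ≤ maximalIdeal D)
    (hkill : maximalIdeal D * J' = ⊥) : W4bk4hartshdef114.IsSmallExt k D J' := by
  refine ⟨inferInstance, inferInstance, ?_, ?_, ?_⟩
  · intro x
    refine ⟨D.res x, ?_⟩
    rw [← IsLocalRing.mem_maximalIdeal, D.mem_maximalIdeal_iff, map_sub, AlgHom.commutes,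
      Algebra.algebraMap_self_apply, sub_self]
  · intro x j hx hj
    have : x * j ∈ maximalIdeal D * J' :=
      Ideal.mul_mem_mul ((IsLocalRing.mem_maximalIdeal x).2 hx) hj
    rwa [hkill, Ideal.mem_bot] at this
  · intro h
    exact (IsLocalRing.maximalIdeal.isMaximal D).ne_top (top_le_iff.1 (h ▸ hJ'))


/-- An obstruction theory for the algebra `A` (in the sense of `W4bk4hartshdef114`) bounds the
obstructions of `h_A`. -/
theorem hasObsBound_of_w4 {A : Type u} [CommRing A] [Algebra k A] (res : A →ₐ[k] k)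
    {V : Type u} [AddCommGroup V] [Module k V] [Module.Finite k V]
    (T : W4bk4hartshdef114.ObsTheory k A V) : HasObsBound (hR A res) (Module.finrank k V) := by
  intro C' C p hp u
  have hJm : RingHom.ker p.toAlgHom ≤ maximalIdeal C' := ker_le_maximalIdeal p
  have hsmall := isSmallExt_of_le C' (RingHom.ker p.toAlgHom) hJm hp.2
  let ι : (C' ⧸ RingHom.ker p.toAlgHom) ≃ₐ[k] C := Ideal.quotientKerAlgEquivOfSurjective hp.1
  let u' : A →ₐ[k] C' ⧸ RingHom.ker p.toAlgHom :=
    ι.symm.toAlgHom.comp (u : HomSet A res C).1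
  obtain ⟨c, hc⟩ := TensorProduct.eq_repr_basis_left (Module.finBasis k V)
    (T.obs C' (RingHom.ker p.toAlgHom) u')
  refine ⟨fun i => ((c i : ↥(RingHom.ker p.toAlgHom)) : C'), fun i => (c i).2, ?_⟩
  intro hK hKJ
  have hq := isSemismallExt_quotFactor p hp _ hK hKJ
  have h0 := T.obs_quot C' (RingHom.ker p.toAlgHom) _ hsmall hKJ u'
  have h0' : LinearMap.lTensor V (W4bk4hartshdef114.idealToQuot k (RingHom.ker p.toAlgHom)
      (Ideal.span (Set.range fun i => ((c i : ↥(RingHom.ker p.toAlgHom)) : C'))))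
      (T.obs C' (RingHom.ker p.toAlgHom) u') = 0 := by
    rw [← hc, Finsupp.sum, map_sum]
    refine Finset.sum_eq_zero fun i _ => ?_
    rw [LinearMap.lTensor_tmul]
    have : W4bk4hartshdef114.idealToQuot k (RingHom.ker p.toAlgHom)
        (Ideal.span (Set.range fun i => ((c i : ↥(RingHom.ker p.toAlgHom)) : C'))) (c i) = 0 := by
      apply Subtype.ext
      exact Ideal.Quotient.eq_zero_iff_mem.2 (Ideal.subset_span ⟨i, rfl⟩)
    rw [this, TensorProduct.tmul_zero]
  rw [h0'] at h0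
  have hmaple : Ideal.map (quotMk C' _ hK).toAlgHom (RingHom.ker p.toAlgHom) ≤
      RingHom.ker (quotFactor hK p hKJ).toAlgHom :=
    Ideal.map_le_iff_le_comap.2 (fun j hj => hj)
  have hkill' : maximalIdeal (C'.quot _ hK) *
      Ideal.map (quotMk C' _ hK).toAlgHom (RingHom.ker p.toAlgHom) = ⊥ := by
    rw [← le_bot_iff, ← hq.2]
    exact Ideal.mul_mono_right hmaple
  have hsmall' := isSmallExt_of_le (C'.quot _ hK) _
    (hmaple.trans (ker_le_maximalIdeal (quotFactor hK p hKJ))) hkill' 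
  have hsmall'' : W4bk4hartshdef114.IsSmallExt k
      (C' ⧸ Ideal.span (Set.range fun i => ((c i : ↥(RingHom.ker p.toAlgHom)) : C')))
      (Ideal.map (Ideal.Quotient.mkₐ k
        (Ideal.span (Set.range fun i => ((c i : ↥(RingHom.ker p.toAlgHom)) : C'))))
        (RingHom.ker p.toAlgHom)) := hsmall'
  obtain ⟨w0, hw⟩ := (T.obs_eq_zero_iff _ _ hsmall'' _).1 h0
  let w : A →ₐ[k] (C'.quot _ hK).carrier := w0
  have hgen : ∀ y : C' ⧸ Ideal.span (Set.range fun i => ((c i : ↥(RingHom.ker p.toAlgHom)) : C')),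
      ι ((DoubleQuot.quotQuotEquivQuotOfLEₐ k hKJ) ((Ideal.Quotient.mkₐ k _) y)) =
        (quotFactor hK p hKJ).toAlgHom y := by
    intro y
    obtain ⟨c', rfl⟩ := Ideal.Quotient.mk_surjective y
    rfl
  have hfac : ∀ a : A, (quotFactor hK p hKJ).toAlgHom (w a) = (u : HomSet A res C).1 a := by
    intro a
    have h1 : (Ideal.Quotient.mkₐ k (Ideal.map (Ideal.Quotient.mkₐ k
        (Ideal.span (Set.range fun i => ((c i : ↥(RingHom.ker p.toAlgHom)) : C'))))
        (RingHom.ker p.toAlgHom))) (w0 a) =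
        (DoubleQuot.quotQuotEquivQuotOfLEₐ k hKJ).symm (u' a) := DFunLike.congr_fun hw a
    have h2 := congrArg (fun z => ι ((DoubleQuot.quotQuotEquivQuotOfLEₐ k hKJ) z)) h1
    refine (hgen (w a)).symm.trans (h2.trans ?_)
    rw [AlgEquiv.apply_symm_apply]
    exact ι.apply_symm_apply _
  refine ⟨(⟨w, ?_⟩ : HomSet A res (C'.quot _ hK)), ?_⟩
  · apply AlgHom.ext
    intro a
    change (C'.quot _ hK).res (w a) = res a
    rw [← res_app (quotFactor hK p hKJ), hfac]
    exact DFunLike.congr_fun (u : HomSet A res C).2 a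
  · apply Subtype.ext
    apply AlgHom.ext
    intro a
    exact hfac a


variable {P : Type u} [CommRing P] [IsLocalRing P] [IsNoetherianRing P] [Algebra k P]

omit [IsNoetherianRing P] in
/-- An augmentation of a local `k`-algebra with residue field `k`. -/
theorem exists_augmentation (hres : Function.Surjective (algebraMap k (IsLocalRing.ResidueField P))) :
    Nonempty (P →ₐ[k] k) := by
  let e₀ : k ≃ₐ[k] IsLocalRing.ResidueField P :=
    AlgEquiv.ofBijective (Algebra.ofId k (IsLocalRing.ResidueField P))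
      ⟨(algebraMap k (IsLocalRing.ResidueField P)).injective, hres⟩
  exact ⟨e₀.symm.toAlgHom.comp (IsScalarTower.toAlgHom k P (IsLocalRing.ResidueField P))⟩

/-- If `P/I` (`I ≤ m²`) has an obstruction theory with values in `V`, then `I` is generated by at most
`dim V` elements. -/
theorem exists_finset_of_w4 (hres : Function.Surjective (algebraMap k (IsLocalRing.ResidueField P)))
    (I : Ideal P) (hI : I ≤ maximalIdeal P ^ 2)
    (V : Type u) [AddCommGroup V] [Module k V] [Module.Finite k V]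
    (T : W4bk4hartshdef114.ObsTheory k (P ⧸ I) V) :
    ∃ s : Finset P, Ideal.span (s : Set P) = I ∧ s.card ≤ Module.finrank k V := by
  obtain ⟨ε⟩ := exists_augmentation (k := k) (P := P) hres
  have hIm : I ≤ maximalIdeal P := hI.trans (Ideal.pow_le_self (by norm_num))
  let res : (P ⧸ I) →ₐ[k] k :=
    Ideal.Quotient.liftₐ I ε (fun a ha => algHom_eq_zero_of_mem ε (hIm ha))
  have hμ := finrank_le_of_hasObsBound I hI res (hasObsBound_of_w4 res T)
    (Family.self _ res) (isVersal_self res)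
  obtain ⟨s, hs, hcard⟩ := exists_finset_span_eq' ε I
  exact ⟨s, hs, hcard.trans hμ⟩

end W4

end Groth.Agent.Lib.Helper94.ObsDim
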