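import Mathlib
import Groth.Agent.Lib.Helper94.RegImmPt
import Groth.Prelude.Def_RegImm

/-!
# Regular immersions (not necessarily closed): stalk kernels
-/

set_option autoImplicit false
universe u

namespace Groth.Agent.Lib.Helper94.RegImmPt2

open CategoryTheory AlgebraicGeometry RingTheory.Sequence Ideal Groth.Agent.Lib.Helper94.RegImmPt

/-- Version of `ker_stalkMap` with surjectivity on sections as hypothesis. -/
theorem ker_stalkMap_of_surjective {Z X : Scheme.{u}} (i : Z ⟶ X) (z : Z) (U : X.Opens)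
    (hU : IsAffineOpen U) (hW : IsAffineOpen (i ⁻¹ᵁ U)) (hz : i z ∈ U)
    (hsurj : Function.Surjective (i.app U).hom) :
    RingHom.ker (i.stalkMap z).hom =
      (RingHom.ker (i.app U).hom).map (X.presheaf.germ U (i z) hz).hom := by
  let W : Z.Opens := i ⁻¹ᵁ U
  have hzW : z ∈ W := hz
  letI : Algebra Γ(X, U) (X.presheaf.stalk (i z)) :=
    TopCat.Presheaf.algebra_section_stalk X.presheaf (⟨i z, hz⟩ : U)
  letI : Algebra Γ(Z, W) (Z.presheaf.stalk z) :=
    TopCat.Presheaf.algebra_section_stalk Z.presheaf (⟨z, hzW⟩ : W)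
  haveI h1 : IsLocalization.AtPrime (X.presheaf.stalk (i z)) (hU.primeIdealOf ⟨i z, hz⟩).asIdeal :=
    hU.isLocalization_stalk ⟨i z, hz⟩
  haveI h2 : IsLocalization.AtPrime (Z.presheaf.stalk z) (hW.primeIdealOf ⟨z, hzW⟩).asIdeal :=
    hW.isLocalization_stalk ⟨z, hzW⟩
  exact Groth.Agent.Lib.Helper64.SubschemeStalk.ker_eq_map_ker_of_surjective
    (hU.primeIdealOf ⟨i z, hz⟩).asIdeal (hW.primeIdealOf ⟨z, hzW⟩).asIdeal (i.app U).hom
    hsurj (i.stalkMap z).hom
    (fun a => Scheme.Hom.germ_stalkMap_apply i U z hz a)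

theorem surjective_of_eq {Z X : Scheme.{u}} (i : Z ⟶ X) (W W' : X.Opens) (h : W = W')
    (hs : Function.Surjective (i.app W).hom) : Function.Surjective (i.app W').hom := by
  subst h
  exact hs

theorem app_surjective_of_restrict {Z X : Scheme.{u}} (i : Z ⟶ X) (U : X.Opens)
    (hU : IsAffineOpen U) [IsClosedImmersion (i ∣_ U)] : Function.Surjective (i.app U).hom := by
  haveI : IsAffine U := hU
  have h1 : Function.Surjective ((i ∣_ U).app ⊤).hom :=
    (i ∣_ U).app_surjective ⊤ (isAffineOpen_top _)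
  rw [morphismRestrict_app] at h1
  have hiso : IsIso (Z.presheaf.map (eqToHom (image_morphismRestrict_preimage i U ⊤)).op) :=
    inferInstance
  have h2 : Function.Surjective (i.app (U.ι ''ᵁ ⊤)).hom := by
    intro b
    obtain ⟨a, ha⟩ := h1 ((Z.presheaf.map (eqToHom (image_morphismRestrict_preimage i U ⊤)).op).hom b)
    refine ⟨a, ?_⟩
    apply (ConcreteCategory.bijective_of_isIso
      (Z.presheaf.map (eqToHom (image_morphismRestrict_preimage i U ⊤)).op)).1
    exact ha
  exact surjective_of_eq i _ _ (Scheme.Opens.ι_image_top U) h2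

theorem isAffineOpen_preimage_of_restrict {Z X : Scheme.{u}} (i : Z ⟶ X) (U : X.Opens)
    (hU : IsAffineOpen U) [IsClosedImmersion (i ∣_ U)] : IsAffineOpen (i ⁻¹ᵁ U) := by
  haveI : IsAffine U := hU
  exact isAffine_of_isAffineHom (i ∣_ U)

/-- A regular immersion (kind `regular`) at `z` has stalk kernel generated by a regular sequence. -/
theorem stalk_of_isRegularImmersionAt {Z X : Scheme.{u}} (i : Z ⟶ X) (z : Z)
    (h : RegImm.IsRegularImmersionAt RegImm.Kind.regular i z) :
    ∃ rs : List (X.presheaf.stalk (i z)),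
      RingTheory.Sequence.IsRegular (X.presheaf.stalk (i z)) rs ∧
        RingHom.ker (i.stalkMap z).hom = Ideal.ofList rs := by
  obtain ⟨⟨U, hU⟩, hzU, hcl, rs, hrs, hker⟩ := h
  change IsRegular Γ(X, U) rs at hrs
  change i z ∈ U at hzU
  change RingHom.ker (i.app U).hom = ofList rs at hker
  haveI : IsClosedImmersion (i ∣_ U) := hcl
  have hk := ker_stalkMap_of_surjective i z U hU (isAffineOpen_preimage_of_restrict i U hU) hzU
    (app_surjective_of_restrict i U hU)
  rw [hker, Ideal.map_ofList] at hk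
  refine ⟨rs.map (X.presheaf.germ U (i z) hzU).hom, ?_, hk⟩
  letI : Algebra Γ(X, U) (X.presheaf.stalk (i z)) :=
    TopCat.Presheaf.algebra_section_stalk X.presheaf (⟨i z, hzU⟩ : U)
  haveI h1 : IsLocalization.AtPrime (X.presheaf.stalk (i z)) (hU.primeIdealOf ⟨i z, hzU⟩).asIdeal :=
    hU.isLocalization_stalk ⟨i z, hzU⟩
  have hflat : (X.presheaf.germ U (i z) hzU).hom.Flat := by
    change Module.Flat Γ(X, U) (X.presheaf.stalk (i z))
    exact IsLocalization.flat _ (hU.primeIdealOf ⟨i z, hzU⟩).asIdeal.primeCompl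
  refine Groth.Agent.S1661.isRegular_map_of_flat _ hflat rs hrs ?_
  rw [Ideal.map_ofList, ← hk]
  exact ker_stalkMap_ne_top i z

end Groth.Agent.Lib.Helper94.RegImmPt2
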