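import Mathlib
import Groth.Prelude.Def_CInt

set_option autoImplicit false
universe u

open CategoryTheory CategoryTheory.Limits AlgebraicGeometry TopologicalSpace

namespace Groth.Agent.Lib.Helper94.SDP1

theorem P1 {X X' : Scheme.{u}} (f : X' ⟶ X) [Flat f] [LocallyOfFinitePresentation f]
    (V' : X'.Opens) :
    ∃ (V : X.Opens) (π : (V' : Scheme.{u}) ⟶ (V : Scheme.{u})),
      (∀ x' : X', x' ∈ V' → f x' ∈ V) ∧ π ≫ V.ι = V'.ι ≫ f ∧ Flat π ∧
        LocallyOfFinitePresentation π ∧ Surjective π := by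
  have hopen : IsOpenMap (V'.ι ≫ f) := (V'.ι ≫ f).isOpenMap
  let V : X.Opens := ⟨Set.range (V'.ι ≫ f), hopen.isOpen_range⟩
  have hrange : Set.range (V'.ι ≫ f) ⊆ Set.range V.ι := by
    rw [Scheme.Opens.range_ι]
    exact subset_rfl
  let π : (V' : Scheme.{u}) ⟶ (V : Scheme.{u}) := IsOpenImmersion.lift V.ι (V'.ι ≫ f) hrange
  have hπ : π ≫ V.ι = V'.ι ≫ f := IsOpenImmersion.lift_fac _ _ _
  refine ⟨V, π, ?_, hπ, ?_, ?_, ?_⟩
  · intro x' hx'
    exact ⟨⟨x', hx'⟩, rfl⟩
  · have hc : Flat (π ≫ V.ι) := by rw [hπ]; infer_instance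
    have : MorphismProperty.HasOfPostcompProperty @Flat.{u} @IsOpenImmersion.{u} :=
      instHasOfPostcompPropertySchemeIsOpenImmersionOfIsStableUnderBaseChange _
    exact MorphismProperty.of_postcomp (W := @Flat) (W' := @IsOpenImmersion) π V.ι inferInstance hc
  · have hc : LocallyOfFinitePresentation (π ≫ V.ι) := by rw [hπ]; infer_instance
    have : MorphismProperty.HasOfPostcompProperty @LocallyOfFinitePresentation.{u}
        @IsOpenImmersion.{u} :=
      instHasOfPostcompPropertySchemeIsOpenImmersionOfIsStableUnderBaseChange _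
    exact MorphismProperty.of_postcomp (W := @LocallyOfFinitePresentation) (W' := @IsOpenImmersion)
      π V.ι inferInstance hc
  · constructor
    rintro ⟨x, hx⟩
    obtain ⟨y, hy⟩ := hx
    refine ⟨y, ?_⟩
    apply V.ι.isOpenEmbedding.injective
    have h1 : V.ι (π y) = (V'.ι ≫ f) y := by
      rw [← hπ]; rfl
    exact h1.trans hy

end Groth.Agent.Lib.Helper94.SDP1
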