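import Mathlib
import Groth.Prelude.Def_RegImm
import Groth.Prelude.Def_LCI2
import Groth.Agent.Lib.Helper43.KRComp
import Groth.Agent.Lib.Helper43.KindIdeal
import Groth.Agent.Lib.Helper43.KoszulH1
import Groth.Agent.S2103

/-!
# Descent of lci along syntomic covers of the source, part A: algebraic lemmas (helper94)
-/

set_option autoImplicit false
universe u

namespace Groth.Agent.Lib.Helper94.SynDescA

open Groth.Agent.Lib.Helper43.KRIdeal Groth.Agent.Lib.Helper43.KRPres MvPolynomial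

section Quasi

variable {R : Type u} [CommRing R]

/-- elements of `𝔭 * span (range f)` -/
lemma exists_coeff_of_mem_mul {c : ℕ} (f : Fin c → R) (𝔭 : Ideal R) (x : R)
    (hx : x ∈ 𝔭 * Ideal.span (Set.range f)) :
    ∃ m : Fin c → R, (∀ i, m i ∈ 𝔭) ∧ x = ∑ i, m i * f i := by
  refine Submodule.mul_induction_on hx ?_ ?_
  · intro a ha b hb
    obtain ⟨w, rfl⟩ := (Ideal.mem_span_range_iff_exists_fun).1 hb
    refine ⟨fun i => a * w i, fun i => 𝔭.mul_mem_right _ ha, ?_⟩
    rw [Finset.mul_sum]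
    exact Finset.sum_congr rfl fun i _ => by ring
  · rintro x y ⟨m, hm, rfl⟩ ⟨m', hm', rfl⟩
    refine ⟨fun i => m i + m' i, fun i => 𝔭.add_mem (hm i) (hm' i), ?_⟩
    rw [← Finset.sum_add_distrib]
    exact Finset.sum_congr rfl fun i _ => by ring

lemma exists_coeff_of_mem_span_image {c : ℕ} (f : Fin c → R) (j : Fin c) (y : R)
    (hy : y ∈ Ideal.span (f '' {i | i ≠ j})) :
    ∃ w : Fin c → R, w j = 0 ∧ y = ∑ i, w i * f i := by
  classical
  refine Submodule.span_induction ?_ ?_ ?_ ?_ hy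
  · rintro _ ⟨i, hi, rfl⟩
    refine ⟨Pi.single i 1, by simp [Ne.symm hi], ?_⟩
    simp [Pi.single_apply]
  · exact ⟨0, rfl, by simp⟩
  · rintro x y _ _ ⟨w, hw, rfl⟩ ⟨w', hw', rfl⟩
    refine ⟨w + w', by simp [hw, hw'], ?_⟩
    rw [← Finset.sum_add_distrib]
    exact Finset.sum_congr rfl fun i _ => by simp [add_mul]
  · rintro r x _ ⟨w, hw, rfl⟩
    refine ⟨fun i => r * w i, by simp [hw], ?_⟩
    rw [smul_eq_mul, Finset.mul_sum]
    exact Finset.sum_congr rfl fun i _ => by ring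

/-- isolating a coefficient of a quasi-regular sequence modulo a prime -/
lemma quasi_coeff {c : ℕ} (f : Fin c → R) (hq : CAlgX.IsQuasiRegular f) (𝔭 : Ideal R) [𝔭.IsPrime]
    (hJ : Ideal.span (Set.range f) ≤ 𝔭) (j : Fin c) (s : R)
    (hs : s * f j ∈ 𝔭 * Ideal.span (Set.range f) ⊔ Ideal.span (f '' {i | i ≠ j})) : s ∈ 𝔭 := by
  classical
  obtain ⟨x, hx, y, hy, hxy⟩ := Submodule.mem_sup.1 hs
  obtain ⟨m, hm, rfl⟩ := exists_coeff_of_mem_mul f 𝔭 x hx
  obtain ⟨w, hw, rfl⟩ := exists_coeff_of_mem_span_image f j y hy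
  let a : Fin c → R := fun i => (if i = j then s else 0) - m i - w i
  have hrel : ∑ i, a i * f i = 0 := by
    have h1 : ∑ i, a i * f i =
        ∑ i, (if i = j then s else 0) * f i - ∑ i, m i * f i - ∑ i, w i * f i := by
      rw [← Finset.sum_sub_distrib, ← Finset.sum_sub_distrib]
      exact Finset.sum_congr rfl fun i _ => by simp only [a]; ring
    rw [h1]
    have h2 : ∑ i, (if i = j then s else 0) * f i = s * f j := by
      simp
    rw [h2, ← hxy]
    ring
  have h3 := Groth.Agent.Lib.Helper43.KindIdeal.quasi_rel_mem f hq a hrel j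
  have h4 : a j = s - m j := by simp [a, hw]
  rw [h4] at h3
  have : s = (s - m j) + m j := by ring
  rw [this]
  exact 𝔭.add_mem (hJ h3) (hm j)

end Quasi

section Ind

variable {P₁ R' : Type u} [CommRing P₁] [CommRing R']

/-- the independence hypothesis of `KRIdeal.koszulRegularIdeal_map` from quasi-regularity of the
image sequence -/
lemma ind_of_map_quasiRegular (μ : P₁ →+* R') (hμ : Function.Surjective μ) {C : ℕ}
    (H : Fin C → P₁) (hq : CAlgX.IsQuasiRegular (fun i => μ (H i))) (K : Ideal P₁)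
    (hK : K.map μ ≤ Ideal.span (Set.range fun i => μ (H i))) (hker : RingHom.ker μ ≤ K)
    (hHK : ∀ i, H i ∈ K) (𝔭 : Ideal P₁) [𝔭.IsPrime] (hK𝔭 : K ≤ 𝔭) :
    ∀ (h₁ : List P₁) (a : P₁) (h₂ : List P₁), List.ofFn H = h₁ ++ a :: h₂ → ∀ s : P₁, s ∉ 𝔭 →
      ∀ z ∈ Ideal.ofList h₁, s * a - z ∉ 𝔭 * K := by
  intro h₁ a h₂ hsplit s hs z hz hmem
  have hlen : h₁.length < C := by
    have := congrArg List.length hsplit
    simp at this
    omega
  let j : Fin C := ⟨h₁.length, hlen⟩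
  have ha : a = H j := by
    have h1 : (List.ofFn H)[h₁.length]? = some (H j) := by
      rw [List.getElem?_ofFn]; simp [hlen, j]
    rw [hsplit] at h1
    simpa using h1
  have hh₁ : ∀ x ∈ h₁, ∃ i : Fin C, i ≠ j ∧ x = H i := by
    intro x hx
    obtain ⟨k, hk, rfl⟩ := List.getElem_of_mem hx
    have hkC : k < C := lt_trans hk hlen
    refine ⟨⟨k, hkC⟩, fun h => ?_, ?_⟩
    · have := congrArg Fin.val h
      simp [j] at this
      omega
    · have h1 : (List.ofFn H)[k]? = some (H ⟨k, hkC⟩) := by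
        rw [List.getElem?_ofFn]; simp [hkC]
      rw [hsplit, List.getElem?_append_left hk, List.getElem?_eq_getElem hk] at h1
      exact Option.some.inj h1
  haveI h𝔭' : (𝔭.map μ).IsPrime := Ideal.map_isPrime_of_surjective hμ (hker.trans hK𝔭)
  have hcomap : (𝔭.map μ).comap μ = 𝔭 := by
    rw [Ideal.comap_map_of_surjective' μ hμ, sup_eq_left]
    exact hker.trans hK𝔭
  apply hs
  rw [← hcomap, Ideal.mem_comap]
  refine quasi_coeff (fun i => μ (H i)) hq (𝔭.map μ) ?_ j (μ s) ?_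
  · rw [Ideal.span_le]
    rintro _ ⟨i, rfl⟩
    exact Ideal.mem_map_of_mem _ (hK𝔭 (hHK i))
  · have h1 : μ (s * a - z) ∈ 𝔭.map μ * Ideal.span (Set.range fun i => μ (H i)) := by
      have := Ideal.mem_map_of_mem μ hmem
      rw [Ideal.map_mul] at this
      exact Ideal.mul_mono_right hK this
    have h2 : μ z ∈ Ideal.span ((fun i => μ (H i)) '' {i | i ≠ j}) := by
      have := Ideal.mem_map_of_mem μ hz
      rw [Ideal.ofList, Ideal.map_span] at this
      refine Ideal.span_mono ?_ this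
      rintro _ ⟨x, hx, rfl⟩
      obtain ⟨i, hi, rfl⟩ := hh₁ x hx
      exact ⟨i, hi, rfl⟩
    have h3 : μ s * μ (H j) = μ (s * a - z) + μ z := by
      rw [ha]; simp
    show μ s * μ (H j) ∈ _
    rw [h3]
    exact Submodule.add_mem_sup h1 h2

end Ind

section IndPoly

variable {R₁ R₂ : Type u} [CommRing R₁] [CommRing R₂]

/-- polynomial-ring form of `ind_of_map_quasiRegular` -/
lemma ind_of_map_quasiRegular_poly (ν : R₁ →+* R₂) (hν : Function.Surjective ν) {N C : ℕ}
    (H : Fin C → MvPolynomial (Fin N) R₁)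
    (hq : CAlgX.IsQuasiRegular (fun i => MvPolynomial.map ν (H i)))
    (K : Ideal (MvPolynomial (Fin N) R₁))
    (hK : K.map (MvPolynomial.map ν) ≤ Ideal.span (Set.range fun i => MvPolynomial.map ν (H i)))
    (hker : RingHom.ker (MvPolynomial.map (σ := Fin N) ν) ≤ K)
    (hHK : ∀ i, H i ∈ K) (𝔭 : Ideal (MvPolynomial (Fin N) R₁)) [𝔭.IsPrime] (hK𝔭 : K ≤ 𝔭) :
    ∀ (h₁ : List (MvPolynomial (Fin N) R₁)) (a : MvPolynomial (Fin N) R₁)
      (h₂ : List (MvPolynomial (Fin N) R₁)), List.ofFn H = h₁ ++ a :: h₂ →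
      ∀ s : MvPolynomial (Fin N) R₁, s ∉ 𝔭 →
      ∀ z ∈ Ideal.ofList h₁, s * a - z ∉ 𝔭 * K :=
  ind_of_map_quasiRegular (MvPolynomial.map ν) (MvPolynomial.map_surjective _ hν) H hq K hK hker
    hHK 𝔭 hK𝔭

end IndPoly

section Iter

/-- the kernel of a presentation by an iterated polynomial ring of an lci algebra is
Koszul-regular -/
theorem ker_koszulRegular_of_isLCI_iter (A D : Type u) [CommRing A] [CommRing D] [Algebra A D]
    (h : LCI.IsLCI A D) (m n : ℕ)
    (γ : MvPolynomial (Fin m) (MvPolynomial (Fin n) A) →ₐ[A] D) (hγ : Function.Surjective γ) :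
    LCI.IsKoszulRegularIdeal (RingHom.ker γ.toRingHom) := by
  obtain ⟨-, n₀, α, hα, hkα⟩ := h
  let ε : MvPolynomial (Fin (Fintype.card (Fin m ⊕ Fin n))) A ≃ₐ[A]
      MvPolynomial (Fin m) (MvPolynomial (Fin n) A) :=
    (renameEquiv A (Fintype.equivFin (Fin m ⊕ Fin n)).symm).trans (sumAlgEquiv A (Fin m) (Fin n))
  have h1 := ker_koszulRegular_indep A D n₀ _ α hα (γ.comp ε.toAlgHom)
    (hγ.comp ε.surjective) hkα
  have h2 := koszulRegularIdeal_map_equiv ε.toRingEquiv _ h1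
  have hK : (RingHom.ker (γ.comp ε.toAlgHom).toRingHom).map
      ((ε.toRingEquiv : _ ≃+* _) : _ →+* _) = RingHom.ker γ.toRingHom := by
    rw [Ideal.map_comap_of_equiv]
    ext x
    rw [Ideal.mem_comap, RingHom.mem_ker, RingHom.mem_ker]
    show γ (ε (ε.symm x)) = 0 ↔ γ x = 0
    rw [ε.apply_symm_apply]
  rwa [hK] at h2

end Iter

end Groth.Agent.Lib.Helper94.SynDescA
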