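import Mathlib
import Groth.Prelude.Def_RegImm
import Groth.Agent.Lib.Helper94.SyntL

/-!
# Syntomic cluster, part T: quotient of a presented algebra by an ideal of the base
-/

set_option autoImplicit false
universe u

namespace Groth.Agent.Lib.Helper94.SyntT

open MvPolynomial Groth.Agent.Lib.Helper94.SyntL

variable (R : Type u) [CommRing R] (I : Ideal R)

section Q1

variable (N C : ℕ) (G : Fin C → MvPolynomial (Fin N) R)

/-- `R[x] → (R/I)[x]/(Ḡ)` -/
noncomputable def quotMapHom : MvPolynomial (Fin N) R →ₐ[R]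
    Synt.RelGCIRing (R ⧸ I) N C (fun i => MvPolynomial.map (Ideal.Quotient.mk I) (G i)) :=
  (Ideal.Quotient.mkₐ R _).comp (MvPolynomial.mapAlgHom (Algebra.ofId R (R ⧸ I)))

theorem quotMapHom_apply (a : MvPolynomial (Fin N) R) :
    quotMapHom R I N C G a = Ideal.Quotient.mk _ (MvPolynomial.map (Ideal.Quotient.mk I) a) := rfl

theorem quotMapHom_surjective : Function.Surjective (quotMapHom R I N C G) := by
  intro y
  obtain ⟨b, rfl⟩ := Ideal.Quotient.mk_surjective y
  obtain ⟨a, rfl⟩ := MvPolynomial.map_surjective _ Ideal.Quotient.mk_surjective b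
  exact ⟨a, rfl⟩

theorem ker_quotMapHom : RingHom.ker (quotMapHom R I N C G).toRingHom =
    Ideal.span (Set.range G) ⊔ I.map (MvPolynomial.C : R →+* MvPolynomial (Fin N) R) := by
  have hsurj : Function.Surjective (MvPolynomial.map (σ := Fin N) (Ideal.Quotient.mk I)) :=
    MvPolynomial.map_surjective _ Ideal.Quotient.mk_surjective
  have h1 : RingHom.ker (quotMapHom R I N C G).toRingHom =
      (Ideal.span (Set.range fun i => MvPolynomial.map (Ideal.Quotient.mk I) (G i))).comap
        (MvPolynomial.map (Ideal.Quotient.mk I)) := by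
    ext a
    rw [RingHom.mem_ker, Ideal.mem_comap, ← Ideal.Quotient.eq_zero_iff_mem]
    rfl
  have h2 : Ideal.span (Set.range fun i => MvPolynomial.map (Ideal.Quotient.mk I) (G i)) =
      (Ideal.span (Set.range G)).map (MvPolynomial.map (Ideal.Quotient.mk I)) := by
    rw [Ideal.map_span, ← Set.range_comp]; rfl
  rw [h1, h2, Ideal.comap_map_of_surjective _ hsurj, ← RingHom.ker_eq_comap_bot,
    MvPolynomial.ker_map, Ideal.mk_ker]

/-- `(R[x]/(G))/I ≅ (R/I)[x]/(Ḡ)` -/
theorem nonempty_quotMapEquiv :
    Nonempty ((Synt.RelGCIRing R N C G ⧸ I.map (algebraMap R (Synt.RelGCIRing R N C G))) ≃ₐ[R]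
      Synt.RelGCIRing (R ⧸ I) N C (fun i => MvPolynomial.map (Ideal.Quotient.mk I) (G i))) := by
  have h1 : I.map (algebraMap R (Synt.RelGCIRing R N C G)) =
      (I.map (MvPolynomial.C : R →+* MvPolynomial (Fin N) R)).map
        (Ideal.Quotient.mkₐ R (Ideal.span (Set.range G))) := by
    rw [← Ideal.map_coe (Ideal.Quotient.mkₐ R (Ideal.span (Set.range G))), Ideal.map_map]
    rfl
  let e1 := Ideal.quotientEquivAlgOfEq R h1
  let e2 := DoubleQuot.quotQuotEquivQuotSupₐ R (Ideal.span (Set.range G))
    (I.map (MvPolynomial.C : R →+* MvPolynomial (Fin N) R))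
  let e3 := Ideal.quotientEquivAlgOfEq R (ker_quotMapHom R I N C G).symm
  let e4 := Ideal.quotientKerAlgEquivOfSurjective (quotMapHom_surjective R I N C G)
  exact ⟨e1.trans (e2.trans (e3.trans e4))⟩

end Q1

section Q2

variable {R} (n c : ℕ) (F : Fin c → MvPolynomial (Fin n) R) (h : MvPolynomial (Fin n) R)

/-- adding an invertible-element variable with a unit `h` does nothing -/
theorem nonempty_algEquiv_rel_of_isUnit
    (hu : IsUnit (Ideal.Quotient.mk (Ideal.span (Set.range F)) h)) :
    Nonempty (Synt.RelGCIRing R n c F ≃ₐ[R] Synt.RelGCIRing R (n + 1) (c + 1) (rel R n c F h)) := by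
  obtain ⟨e⟩ := nonempty_algEquiv_away R n c F h
  let e0 : Synt.RelGCIRing R n c F ≃ₐ[Synt.RelGCIRing R n c F]
      Localization.Away (Ideal.Quotient.mk (Ideal.span (Set.range F)) h) :=
    IsLocalization.atUnits _ (Submonoid.powers (Ideal.Quotient.mk (Ideal.span (Set.range F)) h))
      (by
        rintro _ ⟨k, rfl⟩
        exact hu.pow k)
  exact ⟨(e0.restrictScalars R).trans e⟩

theorem map_rel {R' : Type u} [CommRing R'] (f : R →+* R') (i : Fin (c + 1)) :
    MvPolynomial.map f (rel R n c F h i) =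
      rel R' n c (fun j => MvPolynomial.map f (F j)) (MvPolynomial.map f h) i := by
  induction i using Fin.lastCases with
  | last => simp [rel, MvPolynomial.map_rename]
  | cast j => simp [rel, MvPolynomial.map_rename]

end Q2

end Groth.Agent.Lib.Helper94.SyntT
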