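import Mathlib
import Groth.Agent.Lib.Helper94.SynDescA
import Groth.Agent.Lib.Helper94.SyntV
import Groth.Agent.Lib.Helper94.SyntT
import Groth.Agent.Lib.Helper94.SyntM
import Groth.Agent.Lib.Helper94.SyntLCI
import Groth.Agent.Lib.Helper43.KRDescent
import Groth.Agent.Lib.Helper43.KREtale
import Groth.Agent.Lib.Helper43.KRLocalProp
import Groth.Agent.S9254
import Groth.Agent.S9147

/-!
# Descent of lci along syntomic covers of the source, part B: the chart construction (helper94)
-/

set_option autoImplicit false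
set_option linter.style.haveILetI false
universe u

namespace Groth.Agent.Lib.Helper94.SynDescB

open Groth.Agent.Lib.Helper43.KRIdeal Groth.Agent.Lib.Helper43.KRPres MvPolynomial
open Groth.Agent.Lib.Helper94.SynDescA Groth.Agent.Lib.Helper94.SyntL
open Groth.Agent.Lib.Helper94.SyntC Groth.Agent.Lib.Helper94.SyntJ

section Quasi

variable {R : Type u} [CommRing R]

lemma quasiRegular_of_koszulRegular_ofFn {c : ℕ} (f : Fin c → R)
    (h : LCI.IsKoszulRegularSeq R (List.ofFn f)) : CAlgX.IsQuasiRegular f := by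
  have h1 := Groth.Agent.Lib.Helper43.KoszulH1.isH1Regular_of_isKoszulRegularSeq (List.ofFn f) h
  have h2 := Groth.Agent.S2103.result _ h1
  have h3 := Groth.Agent.Lib.Helper43.SeqFlatBC.quasi_cast (List.length_ofFn (f := f)).symm _ h2
  have : (List.ofFn f).get ∘ Fin.cast (List.length_ofFn (f := f)).symm = f := by
    funext i
    simp
  rwa [this] at h3

end Quasi

section Descent

open Groth.Agent.Lib.Helper43.KRDescent Groth.Agent.Lib.Helper43.KREtale

/-- **Descent to a chart**: if `Ω` is a flat finitely presented `P`-algebra such that `I Ω` is a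
Koszul-regular ideal, then `I` has a Koszul-regular chart at every prime in the image of
`Spec Ω`. -/
theorem exists_chart_of_flat_of_koszulRegular_map {P Ω : Type u} [CommRing P] [CommRing Ω]
    [Algebra P Ω] [Module.Flat P Ω] [Algebra.FinitePresentation P Ω] (I : Ideal P)
    (hKR : LCI.IsKoszulRegularIdeal (I.map (algebraMap P Ω))) (𝔭 : PrimeSpectrum P)
    (hI : I ≤ 𝔭.asIdeal) (h𝔭 : 𝔭 ∈ Set.range (PrimeSpectrum.comap (algebraMap P Ω))) :
    ∃ g : P, g ∉ 𝔭.asIdeal ∧ ∃ l, Chart I g l := by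
  have hopen : IsOpen (Set.range (PrimeSpectrum.comap (algebraMap P Ω))) :=
    (PrimeSpectrum.isOpenMap_comap_of_hasGoingDown_of_finitePresentation (R := P) (S := Ω)).isOpen_range
  obtain ⟨_, ⟨g, rfl⟩, h𝔭g, hgW⟩ :=
    PrimeSpectrum.isTopologicalBasis_basic_opens.exists_subset_of_mem_open h𝔭 hopen
  have hg : g ∉ 𝔭.asIdeal := h𝔭g
  obtain ⟨φ, hφ, hφff⟩ := faithfullyFlat_away (P := P) (B := Ω) g (algebraMap P Ω g)
    (by
      intro 𝔭' hg'
      obtain ⟨𝔮, h𝔮⟩ := hgW (show 𝔭' ∈ (PrimeSpectrum.basicOpen g : Set _) from hg')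
      refine ⟨𝔮, ?_, congrArg PrimeSpectrum.asIdeal h𝔮⟩
      intro hmem
      apply hg'
      rw [← h𝔮]
      exact hmem)
    (IsLocalization.Away.algebraMap_isUnit _)
  letI := φ.toAlgebra
  haveI : Module.FaithfullyFlat (Localization.Away g) (Localization.Away (algebraMap P Ω g)) := hφff
  have hKR' : LCI.IsKoszulRegularIdeal ((I.map (algebraMap P (Localization.Away g))).map
      (algebraMap (Localization.Away g) (Localization.Away (algebraMap P Ω g)))) := by
    have h1 := koszulRegularIdeal_map_of_flat (algebraMap Ω (Localization.Away (algebraMap P Ω g)))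
      (RingHom.flat_algebraMap_iff.2 (IsLocalization.flat _ (Submonoid.powers (algebraMap P Ω g))))
      _ hKR
    rw [Ideal.map_map] at h1 ⊢
    have hcomp : (algebraMap (Localization.Away g) (Localization.Away (algebraMap P Ω g))).comp
        (algebraMap P (Localization.Away g)) =
        (algebraMap Ω (Localization.Away (algebraMap P Ω g))).comp (algebraMap P Ω) := by
      ext a
      rw [RingHom.comp_apply, RingHom.comp_apply]
      change φ (algebraMap P _ a) = _
      rw [hφ, ← IsScalarTower.algebraMap_apply P Ω]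
    rw [hcomp]
    exact h1
  have hKRg := koszulRegularIdeal_of_faithfullyFlat (Localization.Away g)
    (Localization.Away (algebraMap P Ω g)) _ hKR'
  exact exists_chart_of_away I g hKRg 𝔭 hg hI

end Descent

section Core

variable (A : Type u) [CommRing A] (n : ℕ) (I : Ideal (MvPolynomial (Fin n) A))
  (m c : ℕ) (Gt : Fin c → MvPolynomial (Fin m) (MvPolynomial (Fin n) A))

/-- localization away from an element preserves lci over a fixed base -/
lemma isLCI_away_target (S : Type u) [CommRing S] [Algebra A S] (hS : LCI.IsLCI A S) (s : S)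
    (T : Type u) [CommRing T] [Algebra S T] [Algebra A T] [IsScalarTower A S T]
    [IsLocalization.Away s T] : LCI.IsLCI A T := by
  have h1 : Groth.Agent.Lib.Helper43.KRComp.IsLCIHom (algebraMap A S) := by
    show @LCI.IsLCI A _ S _ (algebraMap A S).toAlgebra
    convert hS
    exact Algebra.algebra_ext _ _ fun r => rfl
  have h2 : Groth.Agent.Lib.Helper43.KRComp.IsLCIHom (algebraMap S T) :=
    Groth.Agent.Lib.Helper43.KRLocalProp.isLCIHom_holdsForLocalizationAway T s
  have h3 := h1.comp h2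
  rw [← IsScalarTower.algebraMap_eq] at h3
  show LCI.IsLCI A T
  have : @LCI.IsLCI A _ T _ (algebraMap A T).toAlgebra := h3
  convert this
  exact Algebra.algebra_ext _ _ fun r => rfl

local notation "PP" => MvPolynomial (Fin n) A
local notation "BB" => MvPolynomial (Fin n) A ⧸ I
local notation "GG" => (fun i => MvPolynomial.map (Ideal.Quotient.mk I) (Gt i))
local notation "DD₀" => Synt.RelGCIRing (MvPolynomial (Fin n) A ⧸ I) m c
  (fun i => MvPolynomial.map (Ideal.Quotient.mk I) (Gt i))

open Groth.Agent.Lib.Helper94.SyntT in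
/-- **Cancellation**: if `Ω = P[y]/(H)` is a relative global complete intersection over `P = A[x]`
whose reduction modulo `I` is a relative global complete intersection over `P/I` and lci over `A`,
then `I Ω` is a Koszul-regular ideal. -/
theorem koszulRegularIdeal_map_relGCI (N C : ℕ) (H : Fin C → MvPolynomial (Fin N) PP)
    (hRel : Synt.IsRelGCI PP N C H)
    (hRelB : Synt.IsRelGCI BB N C (fun i => MvPolynomial.map (Ideal.Quotient.mk I) (H i)))
    (hlci₁ : LCI.IsLCI A (Synt.RelGCIRing BB N C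
      (fun i => MvPolynomial.map (Ideal.Quotient.mk I) (H i)))) :
    LCI.IsKoszulRegularIdeal (I.map (algebraMap PP (Synt.RelGCIRing PP N C H))) := by
  classical
  let q₁ : MvPolynomial (Fin N) PP →ₐ[PP] Synt.RelGCIRing BB N C
      (fun i => MvPolynomial.map (Ideal.Quotient.mk I) (H i)) := quotMapHom PP I N C H
  have hq₁surj : Function.Surjective q₁ := quotMapHom_surjective PP I N C H
  have hkerq₁ : RingHom.ker q₁.toRingHom = Ideal.span (Set.range H) ⊔
      I.map (MvPolynomial.C : PP →+* MvPolynomial (Fin N) PP) :=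
    ker_quotMapHom PP I N C H
  have hK₁ : LCI.IsKoszulRegularIdeal (RingHom.ker q₁.toRingHom) :=
    ker_koszulRegular_of_isLCI_iter A _ hlci₁ N n (q₁.restrictScalars A) hq₁surj
  -- cancellation
  let ρ : MvPolynomial (Fin N) PP →+* Synt.RelGCIRing PP N C H :=
    Ideal.Quotient.mk (Ideal.span (Set.range H))
  have hρ : Function.Surjective ρ := Ideal.Quotient.mk_surjective
  have hkerρ : RingHom.ker ρ = Ideal.ofList (List.ofFn H) := by
    rw [Groth.Agent.Lib.Helper94.CIField.ofList_ofFn]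
    exact Ideal.mk_ker
  have hkrH : LCI.IsKoszulRegularSeq (MvPolynomial (Fin N) PP) (List.ofFn H) :=
    Groth.Agent.S9254.result PP N C H hRel
  have hle : RingHom.ker ρ ≤ RingHom.ker q₁.toRingHom := by
    rw [hkerq₁, Ideal.mk_ker]
    exact le_sup_left
  let μ₁ : MvPolynomial (Fin N) PP →+* MvPolynomial (Fin N) BB :=
    MvPolynomial.map (Ideal.Quotient.mk I)
  have hμ₁ : Function.Surjective μ₁ := MvPolynomial.map_surjective _ Ideal.Quotient.mk_surjective
  have hquasi : CAlgX.IsQuasiRegular (fun i => μ₁ (H i)) :=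
    quasiRegular_of_koszulRegular_ofFn _
      (Groth.Agent.S9254.result BB N C _ hRelB)
  have hind : ∀ 𝔭 : Ideal (MvPolynomial (Fin N) PP), 𝔭.IsPrime → RingHom.ker q₁.toRingHom ≤ 𝔭 →
      ∀ (h₁ : List (MvPolynomial (Fin N) PP)) (a : MvPolynomial (Fin N) PP)
        (h₂ : List (MvPolynomial (Fin N) PP)),
      List.ofFn H = h₁ ++ a :: h₂ → ∀ s : MvPolynomial (Fin N) PP, s ∉ 𝔭 →
      ∀ z ∈ Ideal.ofList h₁, s * a - z ∉ 𝔭 * RingHom.ker q₁.toRingHom := by
    intro 𝔭 h𝔭 hK𝔭
    haveI := h𝔭
    refine ind_of_map_quasiRegular_poly (Ideal.Quotient.mk I) Ideal.Quotient.mk_surjective H hquasi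
      (RingHom.ker q₁.toRingHom) ?_ ?_ ?_ 𝔭 hK𝔭
    · rw [hkerq₁, Ideal.map_sup, Ideal.map_span, ← Set.range_comp, Ideal.map_map]
      have h0 : (MvPolynomial.map (Ideal.Quotient.mk I)).comp
          (MvPolynomial.C : PP →+* MvPolynomial (Fin N) PP) =
          (MvPolynomial.C : BB →+* MvPolynomial (Fin N) BB).comp (Ideal.Quotient.mk I) := by
        refine RingHom.ext fun a => ?_
        simp
      rw [h0, ← Ideal.map_map, Ideal.map_quotient_self, Ideal.map_bot, sup_bot_eq]
      rfl
    · rw [MvPolynomial.ker_map, Ideal.mk_ker, hkerq₁]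
      exact le_sup_right
    · intro i
      rw [hkerq₁]
      exact Ideal.mem_sup_left (Ideal.subset_span ⟨i, rfl⟩)
  have hKR : LCI.IsKoszulRegularIdeal ((RingHom.ker q₁.toRingHom).map ρ) :=
    koszulRegularIdeal_map ρ hρ (List.ofFn H) hkerρ hkrH (RingHom.ker q₁.toRingHom) hK₁ hle hind
  have hmap : (RingHom.ker q₁.toRingHom).map ρ =
      I.map (algebraMap PP (Synt.RelGCIRing PP N C H)) := by
    rw [hkerq₁, Ideal.map_sup, Ideal.map_quotient_self, bot_sup_eq, Ideal.map_map]
    rfl
  rwa [hmap] at hKR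

open Groth.Agent.Lib.Helper94.SyntT in
/-- **Chart construction**: if `P/I`, with `P = A[x]`, has a relative global complete intersection
algebra `D₀ = (P/I)[y]/(G)` which is lci over `A`, then `I` has a Koszul-regular chart at the
contraction of every prime of `D₀`. -/
theorem exists_chart_of_relGCI
    (hrel : Synt.IsRelGCI BB m c GG) (hlci : LCI.IsLCI A DD₀) (𝔯 : Ideal DD₀) [𝔯.IsPrime] :
    ∃ g : PP,
      g ∉ 𝔯.comap ((quotMapHom PP I m c Gt).toRingHom.comp
        (C : PP →+* MvPolynomial (Fin m) PP)) ∧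
      ∃ l, Chart I g l := by
  classical
  let q₀ : MvPolynomial (Fin m) PP →ₐ[PP] DD₀ := quotMapHom PP I m c Gt
  let μ : MvPolynomial (Fin m) PP →+* MvPolynomial (Fin m) BB :=
    MvPolynomial.map (Ideal.Quotient.mk I)
  -- the prime of `P[y]`
  let 𝔮' : Ideal (MvPolynomial (Fin m) PP) := 𝔯.comap q₀.toRingHom
  haveI : 𝔮'.IsPrime := Ideal.comap_isPrime _ _
  -- all primes of `B[y]` containing `G` give good primes of `P[y]`
  have hgoodB : ∀ (qB : Ideal (MvPolynomial (Fin m) BB)) [qB.IsPrime],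
      Ideal.span (Set.range GG) ≤ qB →
      (⟨qB.comap μ, Ideal.comap_isPrime _ _⟩ : PrimeSpectrum (MvPolynomial (Fin m) PP)) ∈
        GoodLocus PP Gt := by
    intro qB _ hqB _
    have hT := (Groth.Agent.Lib.Helper94.SyntF.transRegAt_of_isRelGCI BB m c GG hrel qB hqB).2
    haveI : (qB.comap μ).IsPrime := Ideal.comap_isPrime _ _
    refine (Groth.Agent.Lib.Helper94.SyntM.transRegAt_iff (R₁ := PP) (R := BB) qB (qB.comap μ) rfl
      Gt).1 ?_
    have : (List.ofFn Gt).map (MvPolynomial.map (algebraMap PP BB)) = List.ofFn GG := by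
      rw [List.map_ofFn]
      rfl
    rw [this]
    exact hT
  -- `𝔮'` is good
  have h𝔮'good : (⟨𝔮', inferInstance⟩ : PrimeSpectrum (MvPolynomial (Fin m) PP)) ∈
      GoodLocus PP Gt := by
    let qB : Ideal (MvPolynomial (Fin m) BB) := 𝔯.comap (Ideal.Quotient.mk (Ideal.span (Set.range GG)))
    haveI : qB.IsPrime := Ideal.comap_isPrime _ _
    have hqB : Ideal.span (Set.range GG) ≤ qB := by
      intro x hx
      show Ideal.Quotient.mk _ x ∈ 𝔯
      rw [Ideal.Quotient.eq_zero_iff_mem.2 hx]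
      exact 𝔯.zero_mem
    exact hgoodB qB hqB
  -- a basic open neighbourhood inside the good locus
  obtain ⟨U, ⟨h, rfl⟩, h𝔮'U, hUG⟩ :=
    PrimeSpectrum.isTopologicalBasis_basic_opens.exists_subset_of_mem_open h𝔮'good
      (isOpen_goodLocus PP Gt)
  have hh𝔮' : h ∉ 𝔮' := h𝔮'U
  have hRel : Synt.IsRelGCI PP (m + 1) (c + 1) (rel PP m c Gt h) := by
    apply Groth.Agent.Lib.Helper94.SyntM.isRelGCI_rel PP m c Gt h
    intro q' _ hq' hhq'
    exact hUG (show (⟨q', inferInstance⟩ : PrimeSpectrum _) ∈ _ from hhq') hq'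
  -- the same over `B`
  have hmaprel : (fun i => MvPolynomial.map (Ideal.Quotient.mk I) (rel PP m c Gt h i)) =
      rel BB m c GG (μ h) := funext fun i => map_rel m c Gt h (Ideal.Quotient.mk I) i
  have hRelB : Synt.IsRelGCI BB (m + 1) (c + 1)
      (fun i => MvPolynomial.map (Ideal.Quotient.mk I) (rel PP m c Gt h i)) := by
    rw [hmaprel]
    apply Groth.Agent.Lib.Helper94.SyntM.isRelGCI_rel BB m c GG (μ h)
    intro q' _ hq' _
    exact (Groth.Agent.Lib.Helper94.SyntF.transRegAt_of_isRelGCI BB m c GG hrel q' hq').2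
  -- `D₁` is lci over `A`
  have hlci₁ : LCI.IsLCI A (Synt.RelGCIRing BB (m + 1) (c + 1)
      (fun i => MvPolynomial.map (Ideal.Quotient.mk I) (rel PP m c Gt h i))) := by
    rw [hmaprel]
    obtain ⟨e⟩ := Groth.Agent.Lib.Helper94.SyntL.nonempty_algEquiv_away BB m c GG (μ h)
    let hb : DD₀ := Ideal.Quotient.mk (Ideal.span (Set.range GG)) (μ h)
    have h1 : LCI.IsLCI A (Localization.Away hb) :=
      isLCI_away_target A DD₀ hlci hb _
    exact Groth.Agent.Lib.Helper43.KRComp.isLCI_of_ringEquiv A _ _ e.toRingEquiv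
      (fun r => (e.restrictScalars A).commutes r) h1
  -- cancellation
  have hKRΩ := koszulRegularIdeal_map_relGCI A n I (m + 1) (c + 1) (rel PP m c Gt h) hRel hRelB hlci₁
  have hsyn := Groth.Agent.S9147.result PP (m + 1) (c + 1) (rel PP m c Gt h) hRel
  haveI : Module.Flat PP (Synt.RelGCIRing PP (m + 1) (c + 1) (rel PP m c Gt h)) := hsyn.1
  haveI : Algebra.FinitePresentation PP (Synt.RelGCIRing PP (m + 1) (c + 1) (rel PP m c Gt h)) :=
    hsyn.2.1
  -- the prime `𝔭` of `P`
  let 𝔭 : PrimeSpectrum PP := ⟨𝔯.comap ((quotMapHom PP I m c Gt).toRingHom.comp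
        (C : PP →+* MvPolynomial (Fin m) PP)), Ideal.comap_isPrime _ _⟩
  have hI𝔭 : I ≤ 𝔭.asIdeal := by
    intro a ha
    show q₀ (C a) ∈ 𝔯
    have : q₀ (C a) = 0 := by
      show Ideal.Quotient.mk _ (MvPolynomial.map (Ideal.Quotient.mk I) (C a)) = 0
      rw [MvPolynomial.map_C, Ideal.Quotient.eq_zero_iff_mem.2 ha, map_zero, map_zero]
    rw [this]
    exact 𝔯.zero_mem
  -- a prime of `Ω₁` over `𝔭`
  have h𝔭range : 𝔭 ∈ Set.range (PrimeSpectrum.comap
      (algebraMap PP (Synt.RelGCIRing PP (m + 1) (c + 1) (rel PP m c Gt h)))) := by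
    let ν : Synt.RelGCIRing PP m c Gt →ₐ[PP] DD₀ :=
      Ideal.Quotient.liftₐ (Ideal.span (Set.range Gt)) q₀ (by
        intro a ha
        have hle : Ideal.span (Set.range Gt) ≤ RingHom.ker q₀.toRingHom := by
          rw [ker_quotMapHom]
          exact le_sup_left
        exact hle ha)
    let 𝔯₀ : Ideal (Synt.RelGCIRing PP m c Gt) := 𝔯.comap ν.toRingHom
    haveI : 𝔯₀.IsPrime := Ideal.comap_isPrime _ _
    let hb₀ : Synt.RelGCIRing PP m c Gt := Ideal.Quotient.mk (Ideal.span (Set.range Gt)) h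
    have hhb₀ : hb₀ ∉ 𝔯₀ := hh𝔮'
    have hdisj : Disjoint (Submonoid.powers hb₀ : Set (Synt.RelGCIRing PP m c Gt))
        (𝔯₀ : Set (Synt.RelGCIRing PP m c Gt)) := by
      rw [Set.disjoint_left]
      rintro x ⟨k, rfl⟩ hx
      exact hhb₀ (Ideal.IsPrime.mem_of_pow_mem inferInstance _ hx)
    have hprime : (𝔯₀.map (algebraMap _ (Localization.Away hb₀))).IsPrime :=
      IsLocalization.isPrime_of_isPrime_disjoint (Submonoid.powers hb₀) _ _ inferInstance hdisj
    have hback : (𝔯₀.map (algebraMap _ (Localization.Away hb₀))).comap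
        (algebraMap _ (Localization.Away hb₀)) = 𝔯₀ :=
      IsLocalization.under_map_of_isPrime_disjoint (Submonoid.powers hb₀) _ inferInstance hdisj
    obtain ⟨e⟩ := Groth.Agent.Lib.Helper94.SyntL.nonempty_algEquiv_away PP m c Gt h
    refine ⟨⟨(𝔯₀.map (algebraMap _ (Localization.Away hb₀))).comap e.symm.toAlgHom.toRingHom,
      Ideal.comap_isPrime _ _⟩, ?_⟩
    apply PrimeSpectrum.ext
    ext a
    show e.symm (algebraMap PP _ a) ∈ 𝔯₀.map (algebraMap _ (Localization.Away hb₀)) ↔
      q₀ (C a) ∈ 𝔯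
    rw [e.symm.commutes, IsScalarTower.algebraMap_apply PP (Synt.RelGCIRing PP m c Gt)
      (Localization.Away hb₀), ← Ideal.mem_comap, hback]
    show ν (algebraMap PP _ a) ∈ 𝔯 ↔ _
    rw [ν.commutes, ← q₀.commutes]
    rfl
  exact exists_chart_of_flat_of_koszulRegular_map I hKRΩ 𝔭 hI𝔭 h𝔭range

end Core

end Groth.Agent.Lib.Helper94.SynDescB
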