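import Mathlib
import Groth.Agent.Lib.Helper94.SynDescB
import Groth.Agent.Lib.Helper94.SyntX
import Groth.Agent.Lib.Helper46.FppfSourceSch
import Groth.Agent.Lib.Helper43.KoszulLocal

/-!
# Descent of lci along syntomic covers of the source, part C: the ring-level statement (helper94)
-/

set_option autoImplicit false
set_option linter.style.haveILetI false
universe u

namespace Groth.Agent.Lib.Helper94.SynDescC

open Groth.Agent.Lib.Helper43.KRIdeal MvPolynomial
open Groth.Agent.Lib.Helper94.SynDescB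

section PI

variable (A : Type u) [CommRing A] (n : ℕ) (I : Ideal (MvPolynomial (Fin n) A))

local notation "PP" => MvPolynomial (Fin n) A
local notation "BB" => MvPolynomial (Fin n) A ⧸ I

open Groth.Agent.Lib.Helper94.SyntT in
/-- the quotient form -/
theorem koszulRegularIdeal_of_syntomic_cover (T : Type u) [CommRing T] [Algebra BB T] [Algebra A T]
    [IsScalarTower A BB T] (hsyn : Synt.IsSyntomic BB T)
    (hsurj : Function.Surjective (PrimeSpectrum.comap (algebraMap BB T)))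
    (hlci : LCI.IsLCI A T) : LCI.IsKoszulRegularIdeal I := by
  classical
  apply isKoszulRegularIdeal_of_charts
  intro 𝔭 h𝔭
  -- the prime of `B`
  have hker : RingHom.ker (Ideal.Quotient.mk I) ≤ 𝔭.asIdeal := by rw [Ideal.mk_ker]; exact h𝔭
  haveI h𝔭B : (𝔭.asIdeal.map (Ideal.Quotient.mk I)).IsPrime :=
    Ideal.map_isPrime_of_surjective Ideal.Quotient.mk_surjective hker
  have hcomap : (𝔭.asIdeal.map (Ideal.Quotient.mk I)).comap (Ideal.Quotient.mk I) = 𝔭.asIdeal := by
    rw [Ideal.comap_map_of_surjective' _ Ideal.Quotient.mk_surjective, sup_eq_left]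
    exact hker
  obtain ⟨𝔯, h𝔯⟩ := hsurj ⟨_, h𝔭B⟩
  have h𝔯' : 𝔯.asIdeal.comap (algebraMap BB T) = 𝔭.asIdeal.map (Ideal.Quotient.mk I) :=
    congrArg PrimeSpectrum.asIdeal h𝔯
  -- the relGCI chart
  obtain ⟨g₀, hg₀, m, c, G, hG, ⟨e₀⟩⟩ :=
    Groth.Agent.Lib.Helper94.SyntV.exists_relGCI_of_isSyntomic BB T hsyn 𝔯.asIdeal
  choose Gt hGt using fun i => MvPolynomial.map_surjective (σ := Fin m) _
    (Ideal.Quotient.mk_surjective (I := I)) (G i)
  obtain rfl : G = fun i => MvPolynomial.map (Ideal.Quotient.mk I) (Gt i) :=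
    funext fun i => (hGt i).symm
  -- lci over `A`
  have hlci₀ : LCI.IsLCI A (Synt.RelGCIRing BB m c
      (fun i => MvPolynomial.map (Ideal.Quotient.mk I) (Gt i))) := by
    have h1 : LCI.IsLCI A (Localization.Away g₀) := isLCI_away_target A T hlci g₀ _
    exact Groth.Agent.Lib.Helper43.KRComp.isLCI_of_ringEquiv A _ _ e₀.toRingEquiv
      (fun r => (e₀.restrictScalars A).commutes r) h1
  -- the prime of `D₀`
  have hdisj : Disjoint (Submonoid.powers g₀ : Set T) (𝔯.asIdeal : Set T) := by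
    rw [Set.disjoint_left]
    rintro x ⟨k, rfl⟩ hx
    exact hg₀ (𝔯.2.mem_of_pow_mem _ hx)
  have hprime : (𝔯.asIdeal.map (algebraMap T (Localization.Away g₀))).IsPrime :=
    IsLocalization.isPrime_of_isPrime_disjoint (Submonoid.powers g₀) _ _ 𝔯.2 hdisj
  have hback : (𝔯.asIdeal.map (algebraMap T (Localization.Away g₀))).comap
      (algebraMap T (Localization.Away g₀)) = 𝔯.asIdeal :=
    IsLocalization.under_map_of_isPrime_disjoint (Submonoid.powers g₀) _ 𝔯.2 hdisj
  let 𝔯₀ : Ideal (Synt.RelGCIRing BB m c (fun i => MvPolynomial.map (Ideal.Quotient.mk I) (Gt i))) :=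
    (𝔯.asIdeal.map (algebraMap T (Localization.Away g₀))).comap e₀.symm.toAlgHom.toRingHom
  haveI : 𝔯₀.IsPrime := Ideal.comap_isPrime _ _
  obtain ⟨g, hg, l, hl⟩ := exists_chart_of_relGCI A n I m c Gt hG hlci₀ 𝔯₀
  refine ⟨g, fun hmem => hg ?_, l, hl⟩
  -- `g ∈ 𝔭` implies `g` in the contraction of `𝔯₀`
  show e₀.symm (quotMapHom PP I m c Gt (C g)) ∈ 𝔯.asIdeal.map (algebraMap T (Localization.Away g₀))
  have h1 : quotMapHom PP I m c Gt (C g) = algebraMap BB _ (Ideal.Quotient.mk I g) := by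
    show Ideal.Quotient.mk _ (MvPolynomial.map (Ideal.Quotient.mk I) (C g)) = _
    rw [MvPolynomial.map_C]
    rfl
  rw [h1, e₀.symm.commutes, IsScalarTower.algebraMap_apply BB T (Localization.Away g₀),
    ← Ideal.mem_comap, hback, ← Ideal.mem_comap, h𝔯']
  exact Ideal.mem_map_of_mem _ hmem

end PI

section RD

open Groth.Agent.Lib.Helper94.SyntX Groth.Agent.Lib.Helper43.KRComp

/-- **lci descends along syntomic covers of the source** (ring form) -/
theorem isLCIHom_of_comp_synHom {A B T : Type u} [CommRing A] [CommRing B] [CommRing T]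
    (φ : A →+* B) (ψ : B →+* T) (hψ : SynHom ψ)
    (hsurj : Function.Surjective (PrimeSpectrum.comap ψ)) (h : IsLCIHom (ψ.comp φ)) :
    IsLCIHom φ := by
  letI := φ.toAlgebra
  letI := ψ.toAlgebra
  letI := (ψ.comp φ).toAlgebra
  haveI : IsScalarTower A B T := IsScalarTower.of_algebraMap_eq (fun _ => rfl)
  have hsyn : Synt.IsSyntomic B T := hψ
  have hlci : LCI.IsLCI A T := h
  have hflat : ψ.Flat := hsyn.1
  have hfpψ : ψ.FinitePresentation := hsyn.2.1
  have hfpc : (ψ.comp φ).FinitePresentation :=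
    Groth.Agent.Lib.Helper43.KoszulLocal.finitePresentation_of_isLCI A T hlci
  have hfp : φ.FinitePresentation :=
    Groth.Agent.Lib.Helper46.FppfSourceSch.ringDescends_finitePresentation φ ψ hflat hfpψ hsurj hfpc
  haveI : Algebra.FinitePresentation A B := hfp
  obtain ⟨n, π, hπ, -⟩ := Algebra.FinitePresentation.out (R := A) (A := B)
  show LCI.IsLCI A B
  refine ⟨inferInstance, n, π, hπ, ?_⟩
  let eB : (MvPolynomial (Fin n) A ⧸ RingHom.ker π.toRingHom) ≃ₐ[A] B :=
    Ideal.quotientKerAlgEquivOfSurjective hπ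
  letI algT : Algebra (MvPolynomial (Fin n) A ⧸ RingHom.ker π.toRingHom) T :=
    (ψ.comp (eB.toRingEquiv : _ →+* B)).toAlgebra
  haveI : IsScalarTower A (MvPolynomial (Fin n) A ⧸ RingHom.ker π.toRingHom) T := by
    refine IsScalarTower.of_algebraMap_eq (R := A)
      (S := MvPolynomial (Fin n) A ⧸ RingHom.ker π.toRingHom) (A := T) (fun a => ?_)
    show ψ (φ a) = ψ (eB (algebraMap A _ a))
    rw [eB.commutes]
    rfl
  have hsyn' : Synt.IsSyntomic (MvPolynomial (Fin n) A ⧸ RingHom.ker π.toRingHom) T :=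
    respectsIso.2 ψ eB.toRingEquiv hψ
  have hsurj' : Function.Surjective (PrimeSpectrum.comap
      (algebraMap (MvPolynomial (Fin n) A ⧸ RingHom.ker π.toRingHom) T)) := by
    intro 𝔮
    obtain ⟨𝔯, h𝔯⟩ := hsurj (PrimeSpectrum.comap (eB.symm.toRingEquiv : B →+* _) 𝔮)
    refine ⟨𝔯, ?_⟩
    apply PrimeSpectrum.ext
    have h1 := congrArg PrimeSpectrum.asIdeal h𝔯
    ext x
    show ψ (eB x) ∈ 𝔯.asIdeal ↔ x ∈ 𝔮.asIdeal
    have h2 : ψ (eB x) ∈ 𝔯.asIdeal ↔ eB x ∈ (PrimeSpectrum.comap ψ 𝔯).asIdeal := Iff.rfl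
    rw [h2, h1]
    show eB.symm (eB x) ∈ 𝔮.asIdeal ↔ _
    rw [eB.symm_apply_apply]
  exact koszulRegularIdeal_of_syntomic_cover A n (RingHom.ker π.toRingHom) T hsyn' hsurj' hlci

end RD

end Groth.Agent.Lib.Helper94.SynDescC
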