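import Groth.Agent.Lib.Helper94.SyntKos
import Groth.Agent.Lib.Helper94.SyntLCI
import Groth.Agent.Lib.Helper94.SyntX
import Groth.Agent.Lib.Helper94.CIBridge3
import Groth.Agent.Lib.Helper43.KoszulAtLCI

/-!
# flat + lci (factorisation sense) = syntomic = CI morphism (helper94)
-/

set_option autoImplicit false
universe u

namespace Groth.Agent.Lib.Helper94.SyntKos2

open AlgebraicGeometry CategoryTheory Limits
open Groth.Agent.Lib.Helper94.SyntX Groth.Agent.Lib.Helper43.KRComp
  Groth.Agent.Lib.Helper43.LCIDescent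

theorem synHom_iff {R S : Type u} [CommRing R] [CommRing S] (φ : R →+* S) :
    SynHom φ ↔ φ.Flat ∧ IsLCIHom φ := by
  letI := φ.toAlgebra
  constructor
  · intro h
    exact ⟨h.1, Groth.Agent.Lib.Helper94.SyntLCI.isLCI_of_isSyntomic R S h⟩
  · rintro ⟨h1, h2⟩
    exact Groth.Agent.Lib.Helper94.SyntKos.isSyntomic_of_flat_of_isLCI R S h1 h2

/-- flat + Koszul at every point iff syntomic -/
theorem flat_and_isKoszulAt_iff_isSyntomicMor {X S : Scheme.{u}} (f : X ⟶ S) :
    (Flat f ∧ ∀ x : X, Synt.IsKoszulAt f x) ↔ Synt.IsSyntomicMor f := by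
  rw [Groth.Agent.Lib.Helper43.KoszulAtLCI.isKoszulAt_iff_lciMor, isSyntomicMor_iff_affineLocally,
    HasRingHomProperty.iff_appLE (P := affineLocally @SynHom),
    HasRingHomProperty.iff_appLE (P := @Flat), HasRingHomProperty.iff_appLE (P := lciMor)]
  constructor
  · rintro ⟨h1, h2⟩ U V e
    exact (synHom_iff _).mpr ⟨h1 U V e, h2 U V e⟩
  · intro h
    exact ⟨fun U V e => ((synHom_iff _).mp (h U V e)).1, fun U V e => ((synHom_iff _).mp (h U V e)).2⟩

/-- for flat `f`: Koszul at every point iff CI morphism -/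
theorem isKoszulAt_iff_isCIMorphism {X Y : Scheme.{u}} (f : X ⟶ Y) [Flat f] :
    (∀ x : X, Synt.IsKoszulAt f x) ↔ CInt.IsCIMorphism f := by
  rw [Groth.Agent.Lib.Helper94.CIBridge3.isCIMorphism_iff_isSyntomicMor,
    ← flat_and_isKoszulAt_iff_isSyntomicMor]
  exact ⟨fun h => ⟨inferInstance, h⟩, fun h => h.2⟩

end Groth.Agent.Lib.Helper94.SyntKos2
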