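import Mathlib
import Groth.Agent.Lib.Helper94.SynDescC
import Groth.Agent.Lib.Helper94.SyntZ
import Groth.Agent.Lib.Helper94.SyntKos2
import Groth.Agent.Lib.Helper30.EtaleSource
import Groth.Agent.Lib.Helper43.KoszulAtLCI
import Groth.Agent.S9758

/-!
# Descent of lci along syntomic covers of the source, part D: schemes (helper94)

Framework copied from helper30's `EtaleSource` / helper46's `FppfSourceSch`, now for surjective
syntomic morphisms.
-/

set_option autoImplicit false
universe u
open CategoryTheory CategoryTheory.Limits AlgebraicGeometry Opposite TopologicalSpace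

namespace Groth.Agent.Lib.Helper94.SynDescD

open Groth.Agent.Lib.Helper30.EtaleSource Groth.Agent.Lib.Helper94.SyntX
open Groth.Agent.Lib.Helper43.KRComp Groth.Agent.Lib.Helper43.LCIDescent

/-- syntomic morphisms, affine-local form -/
abbrev syn : MorphismProperty Scheme.{u} := affineLocally @SynHom

lemma syn_flat {X Y : Scheme.{u}} (e : X ⟶ Y) (he : syn e) : Flat e := by
  rw [HasRingHomProperty.iff_appLE (P := @Flat)]
  have he' := (HasRingHomProperty.iff_appLE (P := affineLocally @SynHom)).1 he
  intro U V h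
  have := he' U V h
  exact this.1

lemma syn_lfp {X Y : Scheme.{u}} (e : X ⟶ Y) (he : syn e) : LocallyOfFinitePresentation e := by
  rw [HasRingHomProperty.iff_appLE (P := @LocallyOfFinitePresentation)]
  have he' := (HasRingHomProperty.iff_appLE (P := affineLocally @SynHom)).1 he
  intro U V h
  have := he' U V h
  exact this.2.1

/-- The affine form of descent along syntomic surjections of the source. -/
def SpecDescends (P : MorphismProperty Scheme.{u}) : Prop :=
  ∀ ⦃A B C : CommRingCat.{u}⦄ (φ : A ⟶ B) (ψ : B ⟶ C), syn (Spec.map ψ) →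
    Surjective (Spec.map ψ) → P (Spec.map ψ ≫ Spec.map φ) → P (Spec.map φ)

variable {P : MorphismProperty Scheme.{u}}

set_option backward.isDefEq.respectTransparency false in
/-- The all-affine case. -/
theorem of_isAffine [P.RespectsIso] (H : SpecDescends P) {X' X Y : Scheme.{u}} [IsAffine X']
    [IsAffine X] [IsAffine Y] (e : X' ⟶ X) (f : X ⟶ Y) (he : syn e)
    [Surjective e] (h : P (e ≫ f)) : P f := by
  rw [← iff_Spec_map_appTop P]
  refine H f.appTop e.appTop ?_ ?_ ?_
  · rw [iff_Spec_map_appTop syn]; exact he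
  · rw [iff_Spec_map_appTop @Surjective]; infer_instance
  · rw [← Spec.map_comp, ← Scheme.Hom.comp_appTop, iff_Spec_map_appTop P]
    exact h

set_option backward.isDefEq.respectTransparency false in
/-- Affine source and target, arbitrary syntomic cover. -/
theorem of_isAffine_of_isAffine [IsZariskiLocalAtSource P] (H : SpecDescends P)
    {X' X Y : Scheme.{u}} [IsAffine X] [IsAffine Y] (e : X' ⟶ X) (f : X ⟶ Y) (he : syn e)
    [Surjective e] (h : P (e ≫ f)) : P f := by
  haveI := syn_flat e he
  haveI := syn_lfp e he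
  obtain ⟨K, hK, hKsurj⟩ :=
    Groth.Agent.Lib.Helper30.exists_compact_open_surj e e.isOpenMap e.surjective
  have : CompactSpace K := isCompact_iff_compactSpace.mp hK
  obtain ⟨W, p, hW, hp, hpe, hpP⟩ := exists_affine_cover_of_compact K.toScheme
  have hsurj : Surjective (p ≫ K.ι ≫ e) := by
    refine ⟨fun x => ?_⟩
    obtain ⟨y, hy, rfl⟩ := hKsurj x
    obtain ⟨w, hw⟩ := hp.surj ⟨y, hy⟩
    refine ⟨w, ?_⟩
    rw [Scheme.Hom.comp_apply, Scheme.Hom.comp_apply, hw]
    rfl
  have hsyn : syn (p ≫ K.ι ≫ e) := hpP syn _ (IsZariskiLocalAtSource.comp he K.ι)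
  refine of_isAffine H (p ≫ K.ι ≫ e) f hsyn ?_
  rw [Category.assoc, Category.assoc]
  exact hpP P _ (IsZariskiLocalAtSource.comp h K.ι)

set_option backward.isDefEq.respectTransparency false in
/-- Affine target. -/
theorem of_isAffine_target [IsZariskiLocalAtSource P] (H : SpecDescends P)
    {X' X Y : Scheme.{u}} [IsAffine Y] (e : X' ⟶ X) (f : X ⟶ Y) (he : syn e)
    [Surjective e] (h : P (e ≫ f)) : P f := by
  rw [IsZariskiLocalAtSource.iff_of_openCover (P := P) X.affineCover]
  intro i
  refine of_isAffine_of_isAffine H (pullback.snd e (X.affineCover.f i)) _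
    (MorphismProperty.pullback_snd _ _ he) ?_
  rw [← pullback.condition_assoc]
  exact IsZariskiLocalAtSource.comp h _

set_option backward.isDefEq.respectTransparency false in
/-- **Descent along syntomic surjections of the source**, reduced to the affine statement. -/
theorem of_syntomic_surjective_comp [IsZariskiLocalAtTarget P] [IsZariskiLocalAtSource P]
    (H : SpecDescends P) {X' X Y : Scheme.{u}} (e : X' ⟶ X) (f : X ⟶ Y) (he : syn e)
    [Surjective e] (h : P (e ≫ f)) : P f := by
  rw [IsZariskiLocalAtTarget.iff_of_iSup_eq_top (P := P) _ (iSup_affineOpens_eq_top Y)]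
  intro U
  have : IsAffine (U : Y.Opens).toScheme := U.2
  have : Surjective (e ∣_ (f ⁻¹ᵁ U)) :=
    IsZariskiLocalAtTarget.restrict (P := @Surjective) inferInstance _
  have hsyn : syn (e ∣_ (f ⁻¹ᵁ U)) :=
    IsZariskiLocalAtTarget.restrict (P := syn) he _
  refine of_isAffine_target H (e ∣_ (f ⁻¹ᵁ U)) (f ∣_ U) hsyn ?_
  have := IsZariskiLocalAtTarget.restrict h (U : Y.Opens)
  rwa [morphismRestrict_comp] at this

/-- the affine statement for lci morphisms -/
theorem specDescends_lciMor : SpecDescends lciMor.{u} := by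
  intro A B C φ ψ hsyn hsurj hP
  rw [HasRingHomProperty.Spec_iff (P := lciMor)]
  rw [← Spec.map_comp, HasRingHomProperty.Spec_iff (P := lciMor)] at hP
  exact Groth.Agent.Lib.Helper94.SynDescC.isLCIHom_of_comp_synHom φ.hom ψ.hom
    ((HasRingHomProperty.Spec_iff (P := affineLocally @SynHom)).1 hsyn) hsurj.surj hP

/-- **lci descends along syntomic surjections of the source** -/
theorem lciMor_of_syntomic_surjective_comp {X' X Y : Scheme.{u}} (g : X' ⟶ X) (hg : syn g)
    [Surjective g] (f : X ⟶ Y) (h : lciMor (g ≫ f)) : lciMor f :=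
  of_syntomic_surjective_comp specDescends_lciMor g f hg h

/-- S9730 -/
theorem isKoszulAt_comp_iff_of_syntomic_surjective {X' X Y : Scheme.{u}} (g : X' ⟶ X)
    (hg : Synt.IsSyntomicMor g) [Surjective g] (f : X ⟶ Y) :
    (∀ x' : X', Synt.IsKoszulAt (g ≫ f) x') ↔ (∀ x : X, Synt.IsKoszulAt f x) := by
  constructor
  · intro h
    rw [Groth.Agent.Lib.Helper43.KoszulAtLCI.isKoszulAt_iff_lciMor] at h ⊢
    exact lciMor_of_syntomic_surjective_comp g ((isSyntomicMor_iff_affineLocally g).1 hg) f h
  · intro h
    exact Groth.Agent.Lib.Helper43.KoszulAtLCI.isKoszulAt_comp g f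
      ((Groth.Agent.S9758.result g).2 hg).2 h

end Groth.Agent.Lib.Helper94.SynDescD
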