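import Mathlib
import Groth.Agent.Lib.Helper3.QuasiRegular
import Groth.Agent.Lib.Helper94.CIField

/-!
# Syntomic cluster, part G: conormal module of an ideal locally generated by a regular sequence
-/

set_option autoImplicit false
universe u

namespace Groth.Agent.Lib.Helper94.SyntG

open RingTheory.Sequence Ideal MvPolynomial

/-- degree one quasi-regularity -/
theorem mem_of_sum_mem_sq {B : Type u} [CommRing B] {c : ℕ} (f : Fin c → B)
    (hreg : IsWeaklyRegular B (List.ofFn f)) (a : Fin c → B)
    (h : ∑ i, a i * f i ∈ Ideal.span (Set.range f) ^ 2) (i : Fin c) :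
    a i ∈ Ideal.span (Set.range f) := by
  classical
  have hq := Groth.Agent.Lib.Helper3.QReg.isQuasiRegular_of_isWeaklyRegular f hreg
  let Pl : MvPolynomial (Fin c) B := ∑ j, C (a j) * X j
  have hhom : Pl.IsHomogeneous 1 := by
    apply MvPolynomial.IsHomogeneous.sum
    intro j _
    have := (MvPolynomial.isHomogeneous_C (Fin c) (a j)).mul (MvPolynomial.isHomogeneous_X B j)
    simpa using this
  have hev : MvPolynomial.eval f Pl = ∑ j, a j * f j := by
    simp [Pl]
  have := hq 1 Pl hhom (by rw [hev]; exact h) (Finsupp.single i 1)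
  have hco : Pl.coeff (Finsupp.single i 1) = a i := by
    simp only [Pl, MvPolynomial.coeff_sum, MvPolynomial.coeff_C_mul, MvPolynomial.coeff_X]
    rw [Finset.sum_eq_single i]
    · simp
    · intro j _ hji
      rw [if_neg, mul_zero]
      intro h1
      apply hji
      have := Finsupp.single_left_injective (one_ne_zero) h1
      exact this
    · simp
  rwa [hco] at this

/-- local-global version -/
theorem mem_of_sum_mem_sq_of_local {P : Type u} [CommRing P] {c : ℕ} (F : Fin c → P)
    (hloc : ∀ (m : Ideal P) [m.IsMaximal], Ideal.span (Set.range F) ≤ m →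
      IsWeaklyRegular (Localization.AtPrime m)
        ((List.ofFn F).map (algebraMap P (Localization.AtPrime m))))
    (a : Fin c → P) (h : ∑ i, a i * F i ∈ Ideal.span (Set.range F) ^ 2) (i : Fin c) :
    a i ∈ Ideal.span (Set.range F) := by
  apply Ideal.mem_of_localization_maximal
  intro m hm
  by_cases hI : Ideal.span (Set.range F) ≤ m
  · have hreg := hloc m hI
    rw [List.map_ofFn] at hreg
    have hspan : Ideal.span (Set.range (algebraMap P (Localization.AtPrime m) ∘ F)) =
        (Ideal.span (Set.range F)).map (algebraMap P (Localization.AtPrime m)) := by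
      rw [Ideal.map_span, Set.range_comp]
    rw [← hspan]
    apply mem_of_sum_mem_sq (algebraMap P (Localization.AtPrime m) ∘ F) hreg
      (fun j => algebraMap P (Localization.AtPrime m) (a j))
    rw [hspan, ← Ideal.map_pow]
    have := Ideal.mem_map_of_mem (algebraMap P (Localization.AtPrime m)) h
    simpa only [map_sum, map_mul, Function.comp_apply] using this
  · obtain ⟨x, hxI, hxm⟩ := Set.not_subset.mp hI
    have : (Ideal.span (Set.range F)).map (algebraMap P (Localization.AtPrime m)) = ⊤ := by
      apply Ideal.eq_top_of_isUnit_mem _ (Ideal.mem_map_of_mem _ hxI)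
      exact IsLocalization.map_units (Localization.AtPrime m) (⟨x, hxm⟩ : m.primeCompl)
    rw [this]
    trivial

theorem span_toCotangent {P : Type u} [CommRing P] {c : ℕ} (F : Fin c → P) :
    Submodule.span (P ⧸ Ideal.span (Set.range F)) (Set.range
      (fun i : Fin c => (Ideal.span (Set.range F)).toCotangent
        ⟨F i, Ideal.subset_span (Set.mem_range_self i)⟩)) = ⊤ := by
  rw [eq_top_iff]
  rintro x -
  obtain ⟨⟨y, hy⟩, rfl⟩ := Ideal.toCotangent_surjective _ x
  obtain ⟨a, rfl⟩ := (Ideal.mem_span_range_iff_exists_fun).mp hy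
  have : (Ideal.span (Set.range F)).toCotangent ⟨∑ i, a i * F i, hy⟩ =
      ∑ i, (Ideal.Quotient.mk (Ideal.span (Set.range F)) (a i)) •
        (Ideal.span (Set.range F)).toCotangent ⟨F i, Ideal.subset_span (Set.mem_range_self i)⟩ := by
    have h1 : (⟨∑ i, a i * F i, hy⟩ : Ideal.span (Set.range F)) =
        ∑ i, a i • (⟨F i, Ideal.subset_span (Set.mem_range_self i)⟩ : Ideal.span (Set.range F)) := by
      apply Subtype.ext
      simp
    rw [h1, map_sum]
    refine Finset.sum_congr rfl fun i _ => ?_
    rw [map_smul]
    rfl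
  rw [this]
  exact Submodule.sum_mem _ fun i _ => Submodule.smul_mem _ _ (Submodule.subset_span ⟨i, rfl⟩)

theorem linearIndependent_toCotangent {P : Type u} [CommRing P] {c : ℕ} (F : Fin c → P)
    (hloc : ∀ (m : Ideal P) [m.IsMaximal], Ideal.span (Set.range F) ≤ m →
      IsWeaklyRegular (Localization.AtPrime m)
        ((List.ofFn F).map (algebraMap P (Localization.AtPrime m)))) :
    LinearIndependent (P ⧸ Ideal.span (Set.range F))
      (fun i : Fin c => (Ideal.span (Set.range F)).toCotangent
        ⟨F i, Ideal.subset_span (Set.mem_range_self i)⟩) := by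
  rw [Fintype.linearIndependent_iff]
  intro g hg i
  have hsurj := Ideal.Quotient.mk_surjective (I := Ideal.span (Set.range F))
  choose a ha using fun j => hsurj (g j)
  have hy : ∑ j, a j * F j ∈ Ideal.span (Set.range F) :=
    Ideal.sum_mem _ fun j _ => Ideal.mul_mem_left _ _ (Ideal.subset_span (Set.mem_range_self j))
  have h1 : (Ideal.span (Set.range F)).toCotangent ⟨∑ j, a j * F j, hy⟩ = 0 := by
    rw [← hg]
    have h1 : (⟨∑ i, a i * F i, hy⟩ : Ideal.span (Set.range F)) =
        ∑ i, a i • (⟨F i, Ideal.subset_span (Set.mem_range_self i)⟩ : Ideal.span (Set.range F)) := by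
      apply Subtype.ext
      simp
    rw [h1, map_sum]
    refine Finset.sum_congr rfl fun j _ => ?_
    rw [map_smul, ← ha j]
    rfl
  rw [Ideal.toCotangent_eq_zero] at h1
  rw [← ha i, Ideal.Quotient.eq_zero_iff_mem]
  exact mem_of_sum_mem_sq_of_local F hloc a h1 i

end Groth.Agent.Lib.Helper94.SyntG
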