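import Mathlib
import Groth.Prelude.Def_RegImm
import Groth.Prelude.Def_LCI2
import Groth.Prelude.Def_CInt
import Groth.Agent.Lib.Helper94.SyntR
import Groth.Agent.Lib.Helper94.CIMain
import Groth.Agent.Lib.Helper43.KoszulH1
import Groth.Agent.Lib.Helper43.SeqFlatBC
import Groth.Agent.Lib.Helper43.KoszulLocal
import Groth.Agent.S9273
import Groth.Agent.S2103
import Groth.Agent.S5803

set_option autoImplicit false
universe u

namespace Groth.Agent.Lib.Helper94.SyntKos

open TensorProduct Groth.Agent.Lib.Helper94.SyntB

theorem flat_of_comp_isLocalization {A A' C : Type*} [CommRing A] [CommRing A'] [CommRing C]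
    (a : A →+* A') (M : Submonoid A) (hloc : @IsLocalization A _ M A' _ a.toAlgebra)
    (b : A' →+* C) (h : (b.comp a).Flat) : b.Flat := by
  letI := a.toAlgebra
  letI := b.toAlgebra
  letI := (b.comp a).toAlgebra
  haveI : IsScalarTower A A' C := .of_algebraMap_eq' rfl
  exact (Module.flat_iff_of_isLocalization A' M C).mpr h

/-- abstract base change of H1-regular sequences with flat quotient -/
theorem h1Regular_of_flat_quotient {R B κ C : Type u} [CommRing R] [CommRing B] [CommRing κ]
    [CommRing C] [Algebra R B] [Algebra R κ] [Algebra R C] [Algebra κ C] [IsScalarTower R κ C]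
    (θ : B →ₐ[R] C)
    (hθ : (Algebra.TensorProduct.lift (Algebra.ofId κ C) θ (fun _ _ => Commute.all _ _) :
      κ ⊗[R] B →ₐ[κ] C).toRingHom.Flat)
    {c : ℕ} (l : Fin c → B) (hl : CAlgX.IsH1Regular l)
    (hflat : Module.Flat R (B ⧸ Ideal.span (Set.range l))) :
    CAlgX.IsH1Regular (fun i => θ (l i)) := by
  have h1 := Groth.Agent.S9273.result R B κ c l hflat hl
  have h2 := Groth.Agent.Lib.Helper43.SeqFlatBC.h1Regular_of_flat _ hθ _ h1
  convert h2 using 1
  funext i
  simp

section

variable {R : Type u} [CommRing R] {n : ℕ} (p : Ideal R) [p.IsPrime]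
  (g : MvPolynomial (Fin n) R) (Q' : Ideal (MvPolynomial (Fin n) p.ResidueField)) [Q'.IsPrime]

/-- `R[x] → κ(p)[x]` as an `R`-algebra map -/
noncomputable def psiAlg : MvPolynomial (Fin n) R →ₐ[R] MvPolynomial (Fin n) p.ResidueField :=
  MvPolynomial.mapAlgHom (Algebra.ofId R p.ResidueField)

theorem psiAlg_apply (a : MvPolynomial (Fin n) R) : psiAlg p a = psi p a := rfl

/-- `R[x]_g → κ(p)[x]_{Q'}` -/
noncomputable def theta (hg : psi p g ∉ Q') :
    Localization.Away g →ₐ[R] Localization.AtPrime Q' :=
  IsLocalization.liftAlgHom (M := Submonoid.powers g)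
    (f := (IsScalarTower.toAlgHom R (MvPolynomial (Fin n) p.ResidueField)
      (Localization.AtPrime Q')).comp (psiAlg p))
    (by
      rintro ⟨_, k, rfl⟩
      rw [map_pow]
      refine IsUnit.pow _ ?_
      exact IsLocalization.map_units (M := Q'.primeCompl) (Localization.AtPrime Q')
        ⟨psi p g, hg⟩)

theorem theta_algebraMap (hg : psi p g ∉ Q') (a : MvPolynomial (Fin n) R) :
    theta p g Q' hg (algebraMap _ _ a) = algebraMap _ (Localization.AtPrime Q') (psi p a) := by
  simp [theta, IsLocalization.liftAlgHom_apply, psiAlg_apply]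

theorem theta_flat (hg : psi p g ∉ Q') :
    (Algebra.TensorProduct.lift (Algebra.ofId p.ResidueField (Localization.AtPrime Q'))
      (theta p g Q' hg) (fun _ _ => Commute.all _ _) :
      p.ResidueField ⊗[R] Localization.Away g →ₐ[p.ResidueField]
        Localization.AtPrime Q').toRingHom.Flat := by
  let a : p.ResidueField ⊗[R] MvPolynomial (Fin n) R →ₐ[R]
      p.ResidueField ⊗[R] Localization.Away g :=
    Algebra.TensorProduct.map (AlgHom.id R p.ResidueField)
      (IsScalarTower.toAlgHom R (MvPolynomial (Fin n) R) (Localization.Away g))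
  refine flat_of_comp_isLocalization a.toRingHom
    ((Submonoid.powers g).map (Algebra.TensorProduct.includeRight (R := R)
      (A := p.ResidueField))) ?_ _ ?_
  · letI : Algebra (p.ResidueField ⊗[R] MvPolynomial (Fin n) R)
        (p.ResidueField ⊗[R] Localization.Away g) := a.toRingHom.toAlgebra
    haveI : IsScalarTower p.ResidueField (p.ResidueField ⊗[R] MvPolynomial (Fin n) R)
        (p.ResidueField ⊗[R] Localization.Away g) :=
      .of_algebraMap_eq <| by
        intro x
        change _ = a.toRingHom (algebraMap p.ResidueField _ x)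
        simp [a]
    exact IsLocalization.tensorProduct_tensorProduct_right R p.ResidueField (Submonoid.powers g)
      (Localization.Away g) (RingHom.ext fun x => by simp [RingHom.algebraMap_toAlgebra, a])
  · have he : (Algebra.TensorProduct.lift (Algebra.ofId p.ResidueField (Localization.AtPrime Q'))
        (theta p g Q' hg) (fun _ _ => Commute.all _ _) :
        p.ResidueField ⊗[R] Localization.Away g →ₐ[p.ResidueField]
          Localization.AtPrime Q').toRingHom.comp a.toRingHom =
        (algebraMap (MvPolynomial (Fin n) p.ResidueField) (Localization.AtPrime Q')).comp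
          (MvPolynomial.algebraTensorAlgEquiv (σ := Fin n) R p.ResidueField).toAlgHom.toRingHom := by
      refine RingHom.ext fun x => ?_
      induction x using TensorProduct.induction_on with
      | zero => simp
      | add x y hx hy => simp only [map_add, hx, hy]
      | tmul k q =>
        simp only [a, AlgHom.toRingHom_eq_coe, RingHom.coe_comp, RingHom.coe_coe,
          Function.comp_apply, Algebra.TensorProduct.map_tmul, AlgHom.coe_id, id_eq,
          IsScalarTower.coe_toAlgHom', Algebra.TensorProduct.lift_tmul, theta_algebraMap,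
          Algebra.ofId_apply]
        change _ = algebraMap _ _ (MvPolynomial.algebraTensorAlgEquiv R p.ResidueField (k ⊗ₜ[R] q))
        rw [MvPolynomial.algebraTensorAlgEquiv_tmul, Algebra.smul_def, map_mul,
          ← IsScalarTower.algebraMap_apply]
    rw [he]
    refine RingHom.Flat.comp (RingHom.Flat.of_bijective (AlgEquiv.bijective _)) ?_
    rw [RingHom.flat_algebraMap_iff]
    exact IsLocalization.flat _ Q'.primeCompl

theorem flat_quot_away (I : Ideal (MvPolynomial (Fin n) R))
    (hflat : Module.Flat R (MvPolynomial (Fin n) R ⧸ I)) :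
    Module.Flat R (Localization.Away g ⧸ I.map (algebraMap (MvPolynomial (Fin n) R) (Localization.Away g))) := by
  have hloc := (inferInstance : IsLocalization
      (Algebra.algebraMapSubmonoid (MvPolynomial (Fin n) R ⧸ I) (Submonoid.powers g))
      (Localization.Away g ⧸ I.map (algebraMap (MvPolynomial (Fin n) R) (Localization.Away g))))
  have h1 : Module.Flat (MvPolynomial (Fin n) R ⧸ I)
      (Localization.Away g ⧸ I.map (algebraMap (MvPolynomial (Fin n) R) (Localization.Away g))) :=
    IsLocalization.flat _ (Algebra.algebraMapSubmonoid (MvPolynomial (Fin n) R ⧸ I) (Submonoid.powers g))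
  exact Module.Flat.trans R (MvPolynomial (Fin n) R ⧸ I) _

theorem range_get_eq {A : Type*} (l : List A) : Set.range l.get = {x | x ∈ l} := by
  ext x
  simp [List.mem_iff_get]

/-- **Key lemma**: a Koszul-regular ideal of `R[x]` with flat quotient induces regular ideals in the
local rings of the fibres. -/
theorem isRegularIdeal_fibre (I : Ideal (MvPolynomial (Fin n) R))
    (hI : LCI.IsKoszulRegularIdeal I) (hflat : Module.Flat R (MvPolynomial (Fin n) R ⧸ I))
    (hIQ : I.map (psi p) ≤ Q') :
    CInt.IsRegularIdeal ((I.map (psi p)).map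
      (algebraMap (MvPolynomial (Fin n) p.ResidueField) (Localization.AtPrime Q'))) := by
  have hIq : I ≤ Q'.comap (psi p) := fun x hx => hIQ (Ideal.mem_map_of_mem _ hx)
  obtain ⟨g, hg, l, hl, hIl⟩ := hI ⟨Q'.comap (psi p), Ideal.comap_isPrime _ _⟩ hIq
  have hg' : psi p g ∉ Q' := hg
  have hH1 := Groth.Agent.Lib.Helper43.KoszulH1.isH1Regular_of_isKoszulRegularSeq l hl
  have hfl : Module.Flat R (Localization.Away g ⧸ Ideal.span (Set.range l.get)) := by
    rw [range_get_eq, ← hIl]
    exact flat_quot_away g I hflat
  have h1 := h1Regular_of_flat_quotient (κ := p.ResidueField) (theta p g Q' hg')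
    (theta_flat p g Q' hg') l.get hH1 hfl
  have h2 := Groth.Agent.S2103.result _ h1
  -- the ideal
  have hmap : (I.map (psi p)).map
      (algebraMap (MvPolynomial (Fin n) p.ResidueField) (Localization.AtPrime Q')) =
      Ideal.span (Set.range fun i => theta p g Q' hg' (l.get i)) := by
    have e1 : (algebraMap (MvPolynomial (Fin n) p.ResidueField) (Localization.AtPrime Q')).comp
        (psi p) = (theta p g Q' hg').toRingHom.comp
          (algebraMap (MvPolynomial (Fin n) R) (Localization.Away g)) := by
      refine RingHom.ext fun a => ?_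
      simp [theta_algebraMap]
    rw [Ideal.map_map, e1, ← Ideal.map_map, hIl, Ideal.map_span, ← range_get_eq, ← Set.range_comp]
    rfl
  have hmem : ∀ i, theta p g Q' hg' (l.get i) ∈
      IsLocalRing.maximalIdeal (Localization.AtPrime Q') := by
    intro i
    have : theta p g Q' hg' (l.get i) ∈ (I.map (psi p)).map
      (algebraMap (MvPolynomial (Fin n) p.ResidueField) (Localization.AtPrime Q')) := by
      rw [hmap]
      exact Ideal.subset_span ⟨i, rfl⟩
    have hle : (I.map (psi p)).map
      (algebraMap (MvPolynomial (Fin n) p.ResidueField) (Localization.AtPrime Q')) ≤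
        IsLocalRing.maximalIdeal (Localization.AtPrime Q') := by
      rw [← Localization.AtPrime.map_eq_maximalIdeal]
      exact Ideal.map_mono hIQ
    exact hle this
  have h3 := Groth.Agent.S5803.result (Localization.AtPrime Q') _ _
    (fun i => by
      rw [IsLocalRing.ringJacobson_eq_maximalIdeal]
      exact hmem i) h2
  refine ⟨List.ofFn fun i => theta p g Q' hg' (l.get i), ?_, ?_⟩
  · rw [IsLocalRing.isRegular_iff_isWeaklyRegular_of_subset_maximalIdeal]
    · exact h3
    · intro r hr
      rw [List.mem_ofFn] at hr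
      obtain ⟨i, rfl⟩ := hr
      exact hmem i
  · rw [hmap, Groth.Agent.Lib.Helper94.CIField.ofList_ofFn]

end

open Groth.Agent.Lib.Helper94.SyntR Groth.Agent.Lib.Helper94.CILoc Groth.Agent.Lib.Helper94.CIMain in
/-- flat + lci (Koszul-regular kernel) implies syntomic -/
theorem isSyntomic_of_flat_of_isLCI (R S : Type u) [CommRing R] [CommRing S] [Algebra R S]
    (hflat : Module.Flat R S) (hL : LCI.IsLCI R S) : Synt.IsSyntomic R S := by
  have hfp : Algebra.FinitePresentation R S := by
    rw [← RingHom.finitePresentation_algebraMap]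
    exact Groth.Agent.Lib.Helper43.KoszulLocal.finitePresentation_of_isLCI R S hL
  obtain ⟨hft, n, f, hf, hI⟩ := hL
  have hflat' : Module.Flat R (MvPolynomial (Fin n) R ⧸ RingHom.ker f.toRingHom) :=
    Module.Flat.of_linearEquiv
      (Ideal.quotientKerAlgEquivOfSurjective hf).toLinearEquiv
  refine ⟨hflat, hfp, fun p => ?_⟩
  have hφ := fibreHom_surjective f p.asIdeal hf
  haveI : Algebra.FiniteType p.asIdeal.ResidueField (p.asIdeal.Fiber S) :=
    Algebra.FiniteType.of_surjective (fibreHom f p.asIdeal) hφ
  rw [isLCIOver_iff_forall_prime]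
  intro Q
  haveI := Q.2
  rw [isCIOver_iff_isRegularIdeal_ker (stdHom (fibreHom f p.asIdeal) Q.asIdeal)
    (stdHom_surjective _ hφ Q.asIdeal), ker_stdHom _ hφ, ker_fibreHom f p.asIdeal hf]
  refine isRegularIdeal_fibre p.asIdeal _ _ hI hflat' ?_
  rw [← ker_fibreHom f p.asIdeal hf]
  intro x hx
  rw [Ideal.mem_comap]
  rw [RingHom.mem_ker] at hx
  rw [hx]
  exact Q.asIdeal.zero_mem

end Groth.Agent.Lib.Helper94.SyntKos
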