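import Groth.Agent.Lib.Helper94.SyntKos2

/-!
# flat morphisms between smooth schemes are syntomic (helper94)
-/

set_option autoImplicit false
universe u
open CategoryTheory CategoryTheory.Limits AlgebraicGeometry

namespace Groth.Agent.Lib.Helper94.SyntKos3

open Groth.Agent.Lib.Helper43.KRComp Groth.Agent.Lib.Helper43.LCIDescent
  Groth.Agent.Lib.Helper43.KRLocalProp in
instance : MorphismProperty.ContainsIdentities lciMor.{u} :=
  HasRingHomProperty.containsIdentities
    (isLCIHom_holdsForLocalizationAway.containsIdentities)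

open Groth.Agent.Lib.Helper43.KRComp Groth.Agent.Lib.Helper43.LCIDescent
  Groth.Agent.Lib.Helper43.KRLocalProp in
/-- the identity is a Koszul-regular immersion -/
theorem regImm_id (X : Scheme.{u}) : RegImm.IsRegularImmersion .koszul (𝟙 X) := by
  have h1 : lciMor (𝟙 X) := MorphismProperty.id_mem _ _
  have h2 := Groth.Agent.Lib.Helper43.KoszulAtLCI.isKoszulAt_of_lciMor (𝟙 X) h1
  exact Groth.Agent.Lib.Helper43.KoszulAtFactor.regImm_of_koszulAt (𝟙 X) h2 (𝟙 X) (𝟙 X) (by simp)

/-- a morphism between smooth `S`-schemes is Koszul at every point -/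
theorem isKoszulAt_of_smooth {X Y S : Scheme.{u}}
    (p : X ⟶ S) (q : Y ⟶ S) [Smooth p] [Smooth q] (f : X ⟶ Y) (hf : f ≫ q = p) (x : X) :
    Synt.IsKoszulAt f x := by
  let Γ : X ⟶ pullback p q := pullback.lift (𝟙 X) f (by simp [hf])
  have hΓ1 : Γ ≫ pullback.fst p q = 𝟙 X := pullback.lift_fst _ _ _
  have hΓ2 : Γ ≫ pullback.snd p q = f := pullback.lift_snd _ _ _
  haveI : IsImmersion (Γ ≫ pullback.fst p q) := by rw [hΓ1]; infer_instance
  haveI : IsImmersion Γ := IsImmersion.of_comp Γ (pullback.fst p q)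
  haveI : Smooth (pullback.fst p q) := MorphismProperty.pullback_fst _ _ inferInstance
  haveI : Smooth (pullback.snd p q) := MorphismProperty.pullback_snd _ _ inferInstance
  have hΓ : RegImm.IsRegularImmersion .koszul Γ :=
    (Groth.Agent.Lib.Helper43.KRSmoothImm.regImm_koszul_iff_of_smooth (𝟙 X) Γ (pullback.fst p q)
      hΓ1).1 (regImm_id X)
  haveI : LocallyOfFiniteType (f ≫ q) := by rw [hf]; infer_instance
  haveI : LocallyOfFiniteType f := locallyOfFiniteType_of_comp f q
  refine ⟨⊤, pullback p q, (⊤ : X.Opens).ι ≫ Γ, pullback.snd p q, trivial, inferInstance,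
    Groth.Agent.Lib.Helper43.KoszulAtDescent.regImm_openImmersion_comp _ _ hΓ, inferInstance, ?_⟩
  rw [Category.assoc, hΓ2]

/-- a flat morphism between smooth `S`-schemes is syntomic -/
theorem isSyntomicMor_of_smooth_of_flat {X Y S : Scheme.{u}}
    (p : X ⟶ S) (q : Y ⟶ S) [Smooth p] [Smooth q] (f : X ⟶ Y) (hf : f ≫ q = p) [Flat f] :
    Synt.IsSyntomicMor f := by
  rw [← Groth.Agent.Lib.Helper94.SyntKos2.flat_and_isKoszulAt_iff_isSyntomicMor]
  exact ⟨inferInstance, isKoszulAt_of_smooth p q f hf⟩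

end Groth.Agent.Lib.Helper94.SyntKos3
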