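import Mathlib
import Groth.Agent.Lib.Helper94.SyntM

/-!
# Syntomic cluster, part N: choosing a good denominator
-/

set_option autoImplicit false
universe u

namespace Groth.Agent.Lib.Helper94.SyntN

open RingTheory.Sequence Ideal MvPolynomial TensorProduct
open Groth.Agent.Lib.Helper94.SyntB Groth.Agent.Lib.Helper94.SyntC
open Groth.Agent.Lib.Helper94.SyntJ Groth.Agent.Lib.Helper94.SyntL

variable (R : Type u) [CommRing R] (n c : ℕ) (F : Fin c → MvPolynomial (Fin n) R)

/-- If all primes containing `𝔠` and avoiding `Mult` are good, there is a good `h` congruent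
modulo `𝔠` to an element of `Mult`. -/
theorem exists_good (𝔠 : Ideal (MvPolynomial (Fin n) R)) (Mult : Submonoid (MvPolynomial (Fin n) R))
    (H : ∀ (q' : Ideal (MvPolynomial (Fin n) R)) [q'.IsPrime], 𝔠 ≤ q' →
      Disjoint (q' : Set (MvPolynomial (Fin n) R)) Mult → Ideal.span (Set.range F) ≤ q' →
        TransRegAt R (List.ofFn F) q') :
    ∃ h m : MvPolynomial (Fin n) R, m ∈ Mult ∧ m - h ∈ 𝔠 ∧
      ∀ (q' : Ideal (MvPolynomial (Fin n) R)) [q'.IsPrime],
        Ideal.span (Set.range F) ≤ q' → h ∉ q' → TransRegAt R (List.ofFn F) q' := by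
  have hG := isOpen_goodLocus R F
  set Z := (GoodLocus R F)ᶜ with hZ
  have hZc : IsClosed Z := hG.isClosed_compl
  set J := PrimeSpectrum.vanishingIdeal Z with hJ
  have hZJ : PrimeSpectrum.zeroLocus (J : Set (MvPolynomial (Fin n) R)) = Z := by
    rw [hJ, PrimeSpectrum.zeroLocus_vanishingIdeal_eq_closure, hZc.closure_eq]
  have hgoodJ : ∀ h ∈ J, ∀ (q' : Ideal (MvPolynomial (Fin n) R)) [q'.IsPrime],
      Ideal.span (Set.range F) ≤ q' → h ∉ q' → TransRegAt R (List.ofFn F) q' := by
    intro h hhJ q' _ hI hh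
    have hq'Z : (⟨q', inferInstance⟩ : PrimeSpectrum _) ∉ Z := by
      intro hmem
      apply hh
      exact (PrimeSpectrum.mem_vanishingIdeal _ _).mp hhJ _ hmem
    have : (⟨q', inferInstance⟩ : PrimeSpectrum _) ∈ GoodLocus R F := by
      by_contra hcon
      exact hq'Z hcon
    exact this hI
  by_contra hne
  push Not at hne
  have hdisj : Disjoint ((J ⊔ 𝔠 : Ideal (MvPolynomial (Fin n) R)) : Set (MvPolynomial (Fin n) R))
      Mult := by
    rw [Set.disjoint_left]
    intro x hx hxM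
    obtain ⟨h, hhJ, t, ht, rfl⟩ := Submodule.mem_sup.mp hx
    obtain ⟨q', hq', hI, hh, hnot⟩ := hne h (h + t) hxM (by simpa using ht)
    exact hnot (@hgoodJ h hhJ q' hq' hI hh)
  obtain ⟨q', hq'p, hle, hdis⟩ := Ideal.exists_le_prime_disjoint _ _ hdisj
  haveI := hq'p
  have hq'Z : (⟨q', hq'p⟩ : PrimeSpectrum _) ∈ Z := by
    rw [← hZJ, PrimeSpectrum.mem_zeroLocus]
    exact SetLike.coe_subset_coe.mpr ((le_sup_left : J ≤ J ⊔ 𝔠).trans hle)
  apply hq'Z
  intro hI
  exact H q' (le_sup_right.trans hle) hdis hI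

theorem exists_good_of_fibre_dim (p : Ideal R) [p.IsPrime] (hc : c ≤ n)
    (hdim : ringKrullDim (p.Fiber (Synt.RelGCIRing R n c F)) = ((n - c : ℕ) : WithBot ℕ∞)) :
    ∃ (h : MvPolynomial (Fin n) R) (r : R), r ∉ p ∧
      (∀ (q' : Ideal (MvPolynomial (Fin n) R)) [q'.IsPrime],
        Ideal.span (Set.range F) ≤ q' → h ∉ q' → TransRegAt R (List.ofFn F) q') ∧
      C r - h ∈ p.map (C : R →+* MvPolynomial (Fin n) R) := by
  obtain ⟨h, m, hm, hmh, hgood⟩ := exists_good R n c F (p.map (C : R →+* MvPolynomial (Fin n) R))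
    (p.primeCompl.map (C : R →+* MvPolynomial (Fin n) R)) (by
      intro q' _ hle hdis hI
      have hp' : p = q'.comap (C : R →+* MvPolynomial (Fin n) R) := by
        apply le_antisymm
        · intro a ha
          exact hle (Ideal.mem_map_of_mem _ ha)
        · intro a ha
          by_contra hap
          exact Set.disjoint_left.mp hdis ha ⟨a, hap, rfl⟩
      exact Groth.Agent.Lib.Helper94.SyntF.transRegAt_of_fibre_dim R n c F q' hI p hp' hc hdim)
  obtain ⟨r, hr, rfl⟩ := hm
  exact ⟨h, r, hr, hgood, hmh⟩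

theorem isUnit_tmul_of_sub_mem (p : Ideal R) [p.IsPrime] (h : MvPolynomial (Fin n) R) (r : R)
    (hr : r ∉ p) (hmem : C r - h ∈ p.map (C : R →+* MvPolynomial (Fin n) R)) :
    IsUnit ((1 : p.ResidueField) ⊗ₜ[R] (Ideal.Quotient.mk (Ideal.span (Set.range F)) h) :
      p.Fiber (Synt.RelGCIRing R n c F)) := by
  have h1 : psi p (C r - h) = 0 := by
    have : C r - h ∈ RingHom.ker (psi (n := n) p) := by rw [ker_psi]; exact hmem
    exact this
  have h2 : psi p h = C (algebraMap R p.ResidueField r) := by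
    rw [map_sub, sub_eq_zero] at h1
    rw [← h1]
    simp [psi]
  have hu : IsUnit (algebraMap R p.ResidueField r) := by
    rw [isUnit_iff_ne_zero, Ne, Ideal.algebraMap_residueField_eq_zero]
    exact hr
  have h3 : IsUnit (Groth.Agent.Lib.Helper94.SyntF.fibreEquiv R n c F p
      ((1 : p.ResidueField) ⊗ₜ[R] (Ideal.Quotient.mk (Ideal.span (Set.range F)) h))) := by
    rw [Groth.Agent.Lib.Helper94.SyntM.fibreEquiv_tmul, h2]
    exact (hu.map (C : p.ResidueField →+* MvPolynomial (Fin n) p.ResidueField)).map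
      (Ideal.Quotient.mk _)
  have h4 := h3.map (Groth.Agent.Lib.Helper94.SyntF.fibreEquiv R n c F p).symm
  rwa [AlgEquiv.symm_apply_apply] at h4

end Groth.Agent.Lib.Helper94.SyntN
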