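import Mathlib
import Groth.Agent.Lib.Helper94.SyntN

/-!
# Syntomic cluster, part O: descent of relative global complete intersections to finite type
`ℤ`-subalgebras
-/

set_option autoImplicit false
universe u

namespace Groth.Agent.Lib.Helper94.SyntO

open RingTheory.Sequence Ideal MvPolynomial TensorProduct
open Groth.Agent.Lib.Helper94.SyntB Groth.Agent.Lib.Helper94.SyntC
open Groth.Agent.Lib.Helper94.SyntJ Groth.Agent.Lib.Helper94.SyntL

/-- If the relations are transversally regular at all primes containing them, the presentation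
is a relative global complete intersection. -/
theorem isRelGCI_of_forall_transRegAt (R : Type u) [CommRing R] (n c : ℕ)
    (F : Fin c → MvPolynomial (Fin n) R)
    (hgood : ∀ (q' : Ideal (MvPolynomial (Fin n) R)) [q'.IsPrime],
      Ideal.span (Set.range F) ≤ q' → TransRegAt R (List.ofFn F) q') :
    Synt.IsRelGCI R n c F := by
  intro p' hnt
  let p : Ideal R := p'.asIdeal
  let e1 := Groth.Agent.Lib.Helper94.SyntF.fibreEquiv R n c F p
  let e2 : (MvPolynomial (Fin n) p.ResidueField ⧸ Ideal.span (Set.range fun i => psi p (F i)))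
      ≃ₐ[_] Localization.Away (Ideal.Quotient.mk
        (Ideal.span (Set.range fun i => psi p (F i))) (1 : MvPolynomial (Fin n) p.ResidueField)) :=
    haveI : IsLocalization.Away (1 : MvPolynomial (Fin n) p.ResidueField ⧸
        Ideal.span (Set.range fun i => psi p (F i)))
        (Localization.Away (Ideal.Quotient.mk
        (Ideal.span (Set.range fun i => psi p (F i))) (1 : MvPolynomial (Fin n) p.ResidueField))) := by
      rw [← map_one (Ideal.Quotient.mk (Ideal.span (Set.range fun i => psi p (F i))))]
      infer_instance
    IsLocalization.atOne _ _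
  haveI : Nontrivial (MvPolynomial (Fin n) p.ResidueField ⧸
      Ideal.span (Set.range fun i => psi p (F i))) := e1.symm.toEquiv.nontrivial
  haveI : Nontrivial (Localization.Away (Ideal.Quotient.mk
      (Ideal.span (Set.range fun i => psi p (F i))) (1 : MvPolynomial (Fin n) p.ResidueField))) :=
    e2.symm.toEquiv.nontrivial
  obtain ⟨hc, hdim⟩ := Groth.Agent.Lib.Helper94.SyntK.ringKrullDim_away_of_regular
    (fun i => psi p (F i)) (1 : MvPolynomial (Fin n) p.ResidueField) (by
      intro Q _ hQ _
      haveI : (Q.comap (psi p)).IsPrime := Ideal.comap_isPrime _ Q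
      have h1 : Ideal.span (Set.range F) ≤ Q.comap (psi p) := by
        rw [Ideal.span_le]
        rintro _ ⟨i, rfl⟩
        exact hQ (Ideal.subset_span ⟨i, rfl⟩)
      have h2 := hgood (Q.comap (psi p)) h1
      have h3 := (Groth.Agent.Lib.Helper94.SyntD.transRegAt_ascent (R₁ := R)
        (R := p.ResidueField) Q (Q.comap (psi p)) rfl _ h2).1
      rw [List.map_ofFn] at h3
      exact h3)
  refine ⟨hc, ?_⟩
  rw [← hdim]
  exact ringKrullDim_eq_of_ringEquiv (e1.toRingEquiv.trans e2.toRingEquiv)

end Groth.Agent.Lib.Helper94.SyntO
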