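import Mathlib
import Groth.Prelude.Def_RegImm
import Groth.Agent.Lib.Helper94.SyntF

/-!
# Syntomic cluster, part P: base change of presented algebras
-/

set_option autoImplicit false
universe u

namespace Groth.Agent.Lib.Helper94.SyntP

open Ideal MvPolynomial TensorProduct

variable (R₀ R : Type u) [CommRing R₀] [CommRing R] [Algebra R₀ R] (n c : ℕ)
  (F₀ : Fin c → MvPolynomial (Fin n) R₀)

/-- Base change of a presented algebra. -/
noncomputable def baseChangeEquiv :
    R ⊗[R₀] (Synt.RelGCIRing R₀ n c F₀) ≃ₐ[R]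
      Synt.RelGCIRing R n c (fun i => MvPolynomial.map (algebraMap R₀ R) (F₀ i)) :=
  (Algebra.TensorProduct.tensorQuotientEquiv (R := R₀) R (MvPolynomial (Fin n) R₀)
    R (Ideal.span (Set.range F₀))).trans
  (Ideal.quotientEquivAlg _ _ (MvPolynomial.algebraTensorAlgEquiv R₀ R) (by
    rw [← Ideal.map_coe (Algebra.TensorProduct.includeRight), Ideal.map_map, Ideal.map_span,
      ← Set.range_comp]
    congr 2
    ext i : 1
    simp))

theorem baseChangeEquiv_tmul (a : MvPolynomial (Fin n) R₀) :
    baseChangeEquiv R₀ R n c F₀ ((1 : R) ⊗ₜ[R₀] (Ideal.Quotient.mk (Ideal.span (Set.range F₀)) a)) =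
      Ideal.Quotient.mk _ (MvPolynomial.map (algebraMap R₀ R) a) := by
  simp only [baseChangeEquiv, AlgEquiv.trans_apply,
    Algebra.TensorProduct.tensorQuotientEquiv_apply_tmul]
  erw [Ideal.quotientEquivAlg_mk]
  simp

end Groth.Agent.Lib.Helper94.SyntP
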