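import Mathlib
import Groth.Prelude.Def_RegImm
import Groth.Agent.Lib.Helper94.SyntG

/-!
# Syntomic cluster, part U: linear algebra for the Jacobian criterion
-/

set_option autoImplicit false
universe u

namespace Groth.Agent.Lib.Helper94.SyntU

open Module

/-- a full-row-rank matrix over a field has a nonvanishing maximal minor -/
theorem exists_minor_of_linearIndependent_rows {K : Type u} [Field K] {c n : ℕ}
    (M : Matrix (Fin c) (Fin n) K) (h : LinearIndependent K M.row) :
    ∃ I : Fin c ↪ Fin n, (M.submatrix id I).det ≠ 0 := by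
  classical
  have hrank : M.rank = c := by rw [h.rank_matrix, Fintype.card_fin]
  have hspan : Submodule.span K (Set.range M.col) = ⊤ := by
    apply Submodule.eq_top_of_finrank_eq
    rw [← Matrix.rank_eq_finrank_span_cols, hrank, Module.finrank_fintype_fun_eq_card,
      Fintype.card_fin]
  obtain ⟨κ, a, ha, hsp, hli⟩ := exists_linearIndependent' K M.col
  rw [hspan] at hsp
  let B : Module.Basis κ K (Fin c → K) := Module.Basis.mk hli hsp.ge
  haveI : Fintype κ := FiniteDimensional.fintypeBasisIndex B
  have hcard : Fintype.card κ = c := by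
    have := Module.finrank_eq_card_basis B
    rw [Module.finrank_fintype_fun_eq_card, Fintype.card_fin] at this
    exact this.symm
  let e : Fin c ≃ κ := (Fintype.equivFinOfCardEq hcard).symm
  refine ⟨⟨a ∘ e, ha.comp e.injective⟩, ?_⟩
  have hli2 : LinearIndependent K (M.submatrix id (a ∘ e)).col := by
    have h1 : (M.submatrix id (a ∘ e)).col = (M.col ∘ a) ∘ e := by
      funext i j
      rfl
    rw [h1]
    exact hli.comp e e.injective
  have hu := Matrix.linearIndependent_cols_iff_isUnit.mp hli2
  exact ((Matrix.isUnit_iff_isUnit_det _).mp hu).ne_zero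

/-- conversely -/
theorem linearIndependent_rows_of_minor {K : Type u} [Field K] {c n : ℕ}
    (M : Matrix (Fin c) (Fin n) K) (I : Fin c → Fin n) (h : (M.submatrix id I).det ≠ 0) :
    LinearIndependent K M.row := by
  have h1 : LinearIndependent K (M.submatrix id I).row :=
    Matrix.linearIndependent_rows_of_det_ne_zero h
  let π : (Fin n → K) →ₗ[K] (Fin c → K) := LinearMap.funLeft K K I
  have h2 : (M.submatrix id I).row = π ∘ M.row := by
    funext j i
    rfl
  rw [h2] at h1
  exact LinearIndependent.of_comp π h1


open IsLocalRing RingTheory.Sequence TensorProduct in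
/-- the classes of a weakly regular sequence in the maximal ideal of a local ring are linearly
independent in `κ ⊗ J`, `J` the ideal they generate -/
theorem linearIndependent_tmul_of_isWeaklyRegular {B : Type u} [CommRing B] [IsLocalRing B] {c : ℕ}
    (f : Fin c → B) (hreg : IsWeaklyRegular B (List.ofFn f)) (hm : ∀ j, f j ∈ maximalIdeal B)
    (J : Ideal B) (hJ : J = Ideal.span (Set.range f)) (hfJ : ∀ j, f j ∈ J) :
    LinearIndependent (B ⧸ maximalIdeal B)
      (fun j => (1 : B ⧸ maximalIdeal B) ⊗ₜ[B] (⟨f j, hfJ j⟩ : J)) := by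
  classical
  subst hJ
  rw [Fintype.linearIndependent_iff]
  intro g hg j
  choose b hb using fun j => Ideal.Quotient.mk_surjective (g j)
  let y : Fin c → Ideal.span (Set.range f) := fun j => ⟨f j, hfJ j⟩
  let w : Ideal.span (Set.range f) := ∑ j, b j • y j
  have hterm : ∀ j, g j • ((1 : B ⧸ maximalIdeal B) ⊗ₜ[B] y j) =
      (1 : B ⧸ maximalIdeal B) ⊗ₜ[B] (b j • y j) := by
    intro j
    rw [TensorProduct.tmul_smul, TensorProduct.smul_tmul', TensorProduct.smul_tmul', ← hb j]
    congr 1
  have h1 : TensorProduct.mk B (B ⧸ maximalIdeal B) (Ideal.span (Set.range f)) 1 w = 0 := by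
    rw [← hg]
    simp only [w, map_sum, TensorProduct.mk_apply]
    exact Finset.sum_congr rfl fun j _ => (hterm j).symm
  rw [← LinearMap.mem_ker, LinearMap.ker_tensorProductMk] at h1
  have h2 := Submodule.mem_map_of_mem (f := (Ideal.span (Set.range f)).subtype) h1
  rw [Submodule.map_smul'', Submodule.map_top, Submodule.range_subtype] at h2
  obtain ⟨a, ha, hsum⟩ := (Submodule.mem_ideal_smul_span_iff_exists_sum (maximalIdeal B) f _).mp h2
  have hw : ((Ideal.span (Set.range f)).subtype w : B) = ∑ j, b j * f j := by
    simp [w, y]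
  rw [hw, Finsupp.sum_fintype _ _ (fun i => by simp)] at hsum
  have h3 : ∑ j, (b j - a j) * f j ∈ Ideal.span (Set.range f) ^ 2 := by
    have : ∑ j, (b j - a j) * f j = 0 := by
      simp only [sub_mul, Finset.sum_sub_distrib, smul_eq_mul] at hsum ⊢
      rw [hsum, sub_self]
    rw [this]
    exact Ideal.zero_mem _
  have h4 := Groth.Agent.Lib.Helper94.SyntG.mem_of_sum_mem_sq f hreg (fun j => b j - a j) h3 j
  have h5 : Ideal.span (Set.range f) ≤ maximalIdeal B := by
    rw [Ideal.span_le]
    rintro _ ⟨i, rfl⟩
    exact hm i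
  have h6 : b j ∈ maximalIdeal B := by
    have := Ideal.add_mem _ (h5 h4) (ha j)
    simpa using this
  rw [← hb j]
  exact Ideal.Quotient.eq_zero_iff_mem.mpr h6

end Groth.Agent.Lib.Helper94.SyntU

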