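import Mathlib
import Groth.Prelude.Def_RegImm
import Groth.Agent.Lib.Helper94.SyntX

/-!
# Syntomic cluster, part Y: scheme-theoretic fibres versus fibre rings
-/

set_option autoImplicit false
universe u

namespace Groth.Agent.Lib.Helper94.SyntY

open AlgebraicGeometry CategoryTheory CategoryTheory.Limits
  Groth.Agent.Lib.Helper94.SyntX Groth.Agent.Lib.Helper94.SyntW

variable {X S : Scheme.{u}} (f : X ⟶ S)

/-- If the scheme-theoretic fibre of `f` over the point of `V` given by the prime `p` is syntomic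
over the residue field, then the fibre ring of `Γ(S, V) → Γ(X, U)` at `p` is a local complete
intersection. -/
theorem isLCIOver_fiber_of_isSyntomicMor_fiber {U : X.Opens} {V : S.Opens}
    (hU : IsAffineOpen U) (hV : IsAffineOpen V) (e : U ≤ f ⁻¹ᵁ V) (p : PrimeSpectrum Γ(S, V))
    (h : Synt.IsSyntomicMor (f.fiberToSpecResidueField (hV.fromSpec p))) :
    letI := (f.appLE V U e).hom.toAlgebra
    Synt.IsLCIOver p.asIdeal.ResidueField (p.asIdeal.Fiber Γ(X, U)) := by
  letI := (f.appLE V U e).hom.toAlgebra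
  rw [isSyntomicMor_iff_affineLocally] at h
  -- the map on fibres
  have hφ : CommRingCat.ofHom (algebraMap Γ(S, V) Γ(X, U)) = f.appLE V U e := rfl
  have comm₁ : Spec.map (f.appLE V U e) ≫ hV.fromSpec = hU.fromSpec ≫ f :=
    hV.SpecMap_appLE_fromSpec f hU e
  have comm₂ : (Spec Γ(S, V)).fromSpecResidueField p ≫ hV.fromSpec =
      Spec.map (hV.fromSpec.residueFieldMap p) ≫ S.fromSpecResidueField (hV.fromSpec p) :=
    (Scheme.Hom.SpecMap_residueFieldMap_fromSpecResidueField hV.fromSpec p).symm
  let Θ : (Spec.map (f.appLE V U e)).fiber p ⟶ f.fiber (hV.fromSpec p) :=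
    pullback.map _ _ _ _ hU.fromSpec (Spec.map (hV.fromSpec.residueFieldMap p)) hV.fromSpec
      comm₁ comm₂
  haveI : IsOpenImmersion Θ := Scheme.pullback_map_isOpenImmersion _ _ _ _ _ _ _ _ _
  have hΘ : Θ ≫ f.fiberToSpecResidueField (hV.fromSpec p) =
      (Spec.map (f.appLE V U e)).fiberToSpecResidueField p ≫
        Spec.map (hV.fromSpec.residueFieldMap p) := by
    exact pullback.lift_snd _ _ _
  have h1 : affineLocally @SynHom (Θ ≫ f.fiberToSpecResidueField (hV.fromSpec p)) :=
    IsZariskiLocalAtSource.comp h Θ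
  rw [hΘ, MorphismProperty.cancel_right_of_respectsIso (affineLocally @SynHom)] at h1
  have h2 := (MorphismProperty.arrow_mk_iso_iff (affineLocally @SynHom)
    (Spec.fiberToSpecResidueFieldIso Γ(S, V) Γ(X, U) p)).mp (by rw [hφ]; exact h1)
  rw [HasRingHomProperty.Spec_iff (P := affineLocally @SynHom)] at h2
  exact (isSyntomic_field_iff _ _).mp (synHom_algebraMap_iff.mp h2)

end Groth.Agent.Lib.Helper94.SyntY
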