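import Mathlib
import Groth.Prelude.Def_DRing2
import Groth.Agent.Lib.Helper68.TorMod

/-!
# `Tor_i(M, A/(gs)) = 0` for `i > 0` when `gs` is weakly regular on `A` and on `M`
-/

set_option autoImplicit false
universe u

open CategoryTheory CategoryTheory.Limits MonoidalCategory TensorProduct RingTheory.Sequence Pointwise

namespace Groth.Agent.Lib.Helper94.TorIntA

open Groth.Agent.Lib.Helper68 Groth.Agent.Lib.Helper68.TorMod

variable {A : Type u} [CommRing A]

/-- `N ↦ Tor_i(M, N)` as a predicate of vanishing in positive degrees. -/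
def TorVan (M : ModuleCat.{u} A) (N : Type u) [AddCommGroup N] [Module A N] : Prop :=
  ∀ i : ℕ, IsZero (((Tor (ModuleCat.{u} A) (i + 1)).obj M).obj (ModuleCat.of A N))

theorem TorVan.of_equiv (M : ModuleCat.{u} A) {N N' : Type u} [AddCommGroup N] [Module A N]
    [AddCommGroup N'] [Module A N'] (e : N ≃ₗ[A] N') (h : TorVan M N) : TorVan M N' := fun i =>
  (h i).of_iso (((Tor (ModuleCat.{u} A) (i + 1)).obj M).mapIso e.toModuleIso.symm)

theorem lTensor_lsmul (M N : Type u) [AddCommGroup M] [Module A M] [AddCommGroup N] [Module A N]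
    (x : A) : (LinearMap.lsmul A N x).lTensor M = LinearMap.lsmul A (M ⊗[A] N) x := by
  apply TensorProduct.ext'
  intro m n
  simp

/-- one step: pass to `N/xN`. -/
theorem TorVan.quotSMulTop (M : Type u) [AddCommGroup M] [Module A M] (N : Type u)
    [AddCommGroup N] [Module A N] (x : A) (hx : IsSMulRegular N x)
    (hx' : IsSMulRegular (M ⊗[A] N) x) (h : TorVan (ModuleCat.of A M) N) :
    TorVan (ModuleCat.of A M) (QuotSMulTop x N) := by
  have hex : Function.Exact (LinearMap.lsmul A N x) (Submodule.mkQ (x • (⊤ : Submodule A N))) := by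
    intro n
    rw [Submodule.mkQ_apply, Submodule.Quotient.mk_eq_zero]
    constructor
    · intro hn
      obtain ⟨m, -, rfl⟩ := (Submodule.mem_smul_pointwise_iff_exists _ _ _).mp hn
      exact ⟨m, rfl⟩
    · rintro ⟨m, rfl⟩
      exact Submodule.smul_mem_pointwise_smul m x ⊤ trivial
  have hf : Function.Injective (LinearMap.lsmul A N x) := hx
  have hg : Function.Surjective (Submodule.mkQ (x • (⊤ : Submodule A N))) :=
    Submodule.mkQ_surjective _
  intro i
  cases i with
  | zero =>
    refine isZero_tor_one_of_injective (ModuleCat.of A M) _ _ hex hf hg (h 0) ?_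
    change Function.Injective ((LinearMap.lsmul A N x).lTensor M)
    rw [lTensor_lsmul]
    exact hx'
  | succ n =>
    exact isZero_tor_succ_succ (ModuleCat.of A M) _ _ hex hf hg n (h (n + 1)) (h n)

/-- `Tor_i(M, N/(gs)N) = 0` for `i > 0` when `gs` is weakly regular on `N` and `M ⊗ N`. -/
theorem torVan_quot_of_isWeaklyRegular (M : Type u) [AddCommGroup M] [Module A M] (gs : List A) :
    ∀ (N : Type u) [AddCommGroup N] [Module A N], IsWeaklyRegular N gs →
      IsWeaklyRegular (M ⊗[A] N) gs → TorVan (ModuleCat.of A M) N →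
      TorVan (ModuleCat.of A M) (N ⧸ (Ideal.ofList gs • (⊤ : Submodule A N))) := by
  induction gs with
  | nil =>
    intro N _ _ _ _ h
    have hbot : Ideal.ofList ([] : List A) • (⊤ : Submodule A N) = ⊥ := by
      rw [Ideal.ofList_nil, Submodule.bot_smul]
    exact h.of_equiv _ (Submodule.quotEquivOfEqBot _ hbot).symm
  | cons x gs ih =>
    intro N _ _ hN hMN h
    obtain ⟨hx, hN'⟩ := (isWeaklyRegular_cons_iff N x gs).mp hN
    obtain ⟨hx', hMN'⟩ := (isWeaklyRegular_cons_iff (M ⊗[A] N) x gs).mp hMN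
    have h1 := h.quotSMulTop M N x hx hx'
    have hMN'' : IsWeaklyRegular (M ⊗[A] QuotSMulTop x N) gs :=
      ((QuotSMulTop.tensorQuotSMulTopEquivQuotSMulTop x M N).isWeaklyRegular_congr gs).mpr hMN'
    have h2 := ih (QuotSMulTop x N) hN' hMN'' h1
    exact h2.of_equiv _ (Submodule.quotOfListConsSMulTopEquivQuotSMulTopInner N x gs).symm

/-- `Tor_i(M, A/(gs)) = 0` for `i > 0` when `gs` is weakly regular on `A` and on `M`. -/
theorem torVan_quot_ofList (M : Type u) [AddCommGroup M] [Module A M] (gs : List A)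
    (hA : IsWeaklyRegular A gs) (hM : IsWeaklyRegular M gs) :
    TorVan (ModuleCat.of A M) (A ⧸ Ideal.ofList gs) := by
  have h0 : TorVan (ModuleCat.of A M) A := fun i =>
    isZero_tor_succ_of_projective (ModuleCat.of A M) A i
  have hMA : IsWeaklyRegular (M ⊗[A] A) gs :=
    ((TensorProduct.rid A M).isWeaklyRegular_congr gs).mpr hM
  have h1 := torVan_quot_of_isWeaklyRegular M gs A hA hMA h0
  have heq : Ideal.ofList gs • (⊤ : Submodule A A) = Ideal.ofList gs := by
    rw [smul_eq_mul, Ideal.mul_top]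
  exact h1.of_equiv _ (Submodule.quotEquivOfEq _ _ heq)

/-- `Tor_i(A/(fs), A/(gs)) = 0` for `i > 0` when `gs` and `fs ++ gs` are weakly regular. -/
theorem torVan_quot_quot (fs gs : List A) (hg : IsWeaklyRegular A gs)
    (hfg : IsWeaklyRegular A (fs ++ gs)) :
    TorVan (ModuleCat.of A (A ⧸ Ideal.ofList fs)) (A ⧸ Ideal.ofList gs) := by
  refine torVan_quot_ofList _ gs hg ?_
  have h1 := ((isWeaklyRegular_append_iff (M := A) fs gs).mp hfg).2
  have heq : Ideal.ofList fs • (⊤ : Submodule A A) = Ideal.ofList fs := by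
    rw [smul_eq_mul, Ideal.mul_top]
  exact ((Submodule.quotEquivOfEq _ _ heq).isWeaklyRegular_congr gs).mp h1

end Groth.Agent.Lib.Helper94.TorIntA
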