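import Mathlib
import Groth.Prelude.Def_DRing2
import Groth.Agent.Lib.Helper64.TorBC
import Groth.Agent.Lib.Helper88.TorGen2
import Groth.Agent.Lib.Helper94.TorIntA

/-!
# Local criterion for Tor-independence of two quotients
-/

set_option autoImplicit false
universe u

open CategoryTheory CategoryTheory.Limits MonoidalCategory TensorProduct RingTheory.Sequence

namespace Groth.Agent.Lib.Helper94.TorIntB

open Groth.Agent.Lib.Helper94.TorIntA

variable {A : Type u} [CommRing A]

/-- A module is zero if for each maximal ideal some localization of it vanishes. -/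
theorem subsingleton_of_forall_loc (T : Type u) [AddCommGroup T] [Module A T]
    (h : ∀ (q : Ideal A) [q.IsPrime], (∀ a : A, (∀ t : T, a • t = 0) → a ∈ q) →
      ∃ (R : Type u) (_ : CommRing R) (f : A →+* R),
        (letI := f.toAlgebra; IsLocalization.AtPrime R q) ∧
        (letI := f.toAlgebra; Subsingleton (R ⊗[A] T))) :
    Subsingleton T := by
  rw [subsingleton_iff_forall_eq 0]
  intro t
  by_contra hne
  let K : Ideal A := LinearMap.ker (LinearMap.toSpanSingleton A T t)
  have hK : K ≠ ⊤ := by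
    intro hK
    have : (1 : A) ∈ K := by rw [hK]; trivial
    rw [LinearMap.mem_ker, LinearMap.toSpanSingleton_apply, one_smul] at this
    exact hne this
  obtain ⟨q, hq, hKq⟩ := Ideal.exists_le_maximal K hK
  haveI := hq.isPrime
  obtain ⟨R, _, f, hloc, hsub⟩ := h q (fun a ha => hKq (by
    rw [LinearMap.mem_ker, LinearMap.toSpanSingleton_apply]
    exact ha t))
  letI := f.toAlgebra
  haveI : IsLocalization.AtPrime R q := hloc
  haveI : Subsingleton (R ⊗[A] T) := hsub
  have h0 : TensorProduct.mk A R T 1 t = 0 := Subsingleton.elim _ _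
  obtain ⟨s, hs⟩ := (IsLocalizedModule.eq_zero_iff q.primeCompl (TensorProduct.mk A R T 1)).mp h0
  apply s.2
  apply hKq
  rw [LinearMap.mem_ker, LinearMap.toSpanSingleton_apply]
  exact hs

/-- `B` with the module structure through a surjection `φ` is `A ⧸ ker φ`. -/
noncomputable def quotKerLinearEquiv {B : Type u} [CommRing B] (φ : A →+* B)
    (hφ : Function.Surjective φ) :
    letI := φ.toModule
    (A ⧸ RingHom.ker φ) ≃ₗ[A] B :=
  letI := φ.toModule
  { (RingHom.quotientKerEquivOfSurjective hφ).toAddEquiv with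
    map_smul' := by
      intro a x
      obtain ⟨y, rfl⟩ := Ideal.Quotient.mk_surjective x
      change (RingHom.quotientKerEquivOfSurjective hφ) (a • Ideal.Quotient.mk _ y) =
        φ a * (RingHom.quotientKerEquivOfSurjective hφ) (Ideal.Quotient.mk _ y)
      rw [Algebra.smul_def, map_mul]
      rfl }

theorem tor_subsingleton_of_local {BY BZ : Type u} [CommRing BY] [CommRing BZ]
    (φY : A →+* BY) (φZ : A →+* BZ) (hY : Function.Surjective φY) (hZ : Function.Surjective φZ)
    (hloc : ∀ (q : Ideal A) [q.IsPrime], RingHom.ker φY ⊔ RingHom.ker φZ ≤ q →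
      ∃ (R : Type u) (_ : CommRing R) (f : A →+* R),
        (letI := f.toAlgebra; IsLocalization.AtPrime R q) ∧
        ∃ fs gs : List R, (RingHom.ker φY).map f = Ideal.ofList fs ∧
          (RingHom.ker φZ).map f = Ideal.ofList gs ∧
          IsWeaklyRegular R gs ∧ IsWeaklyRegular R (fs ++ gs))
    (i : ℕ) (hi : 0 < i) :
    Subsingleton (@DRing.Tor A _ i BY BZ _ φY.toModule _ φZ.toModule) := by
  letI mY := φY.toModule
  letI mZ := φZ.toModule
  obtain ⟨j, rfl⟩ : ∃ j, i = j + 1 := ⟨i - 1, by omega⟩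
  have hkY : ∀ r ∈ RingHom.ker φY, ∀ b : (ModuleCat.of A BY), r • b = 0 := by
    intro r hr b
    change φY r * b = 0
    rw [(RingHom.mem_ker).mp hr, zero_mul]
  have hkZ : ∀ r ∈ RingHom.ker φZ, ∀ b : (ModuleCat.of A BZ), r • b = 0 := by
    intro r hr b
    change φZ r * b = 0
    rw [(RingHom.mem_ker).mp hr, zero_mul]
  have hkill := (Groth.Agent.Lib.Helper88.TorGen.kills_tor_left (ModuleCat.of A BZ)
    (ModuleCat.of A BY) _ hkY (j + 1)).sup
    (Groth.Agent.Lib.Helper88.TorGen.kills_tor_right (ModuleCat.of A BY)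
    (ModuleCat.of A BZ) _ hkZ (j + 1))
  rw [Groth.Agent.Lib.Helper88.TorGen.kills_iff] at hkill
  refine subsingleton_of_forall_loc (A := A) (DRing.Tor A (j + 1) BY BZ) ?_
  intro q _ hq
  have hle : RingHom.ker φY ⊔ RingHom.ker φZ ≤ q := fun a ha => hq a (hkill a ha)
  obtain ⟨R, _, f, hl, fs, gs, hfs, hgs, hg, hfg⟩ := hloc q hle
  refine ⟨R, inferInstance, f, hl, ?_⟩
  letI := f.toAlgebra
  haveI : IsLocalization.AtPrime R q := hl
  have hflat : f.Flat := by
    change Module.Flat A R
    exact IsLocalization.flat R q.primeCompl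
  obtain ⟨e⟩ := Groth.Agent.Lib.Helper64.TorBC.tor_baseChange_aux f hflat BY BZ (j + 1)
  have hvan := torVan_quot_quot fs gs hg hfg j
  -- identify the base changes with the quotients
  let eY : (R ⊗[A] BY) ≃ₗ[R] (R ⧸ Ideal.ofList fs) :=
    (TensorProduct.AlgebraTensorModule.congr (LinearEquiv.refl R R)
      (quotKerLinearEquiv φY hY).symm) ≪≫ₗ
    (Algebra.TensorProduct.quotIdealMapEquivTensorQuot R (RingHom.ker φY)).symm.toLinearEquiv ≪≫ₗ
    Submodule.quotEquivOfEq _ _ hfs
  let eZ : (R ⊗[A] BZ) ≃ₗ[R] (R ⧸ Ideal.ofList gs) :=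
    (TensorProduct.AlgebraTensorModule.congr (LinearEquiv.refl R R)
      (quotKerLinearEquiv φZ hZ).symm) ≪≫ₗ
    (Algebra.TensorProduct.quotIdealMapEquivTensorQuot R (RingHom.ker φZ)).symm.toLinearEquiv ≪≫ₗ
    Submodule.quotEquivOfEq _ _ hgs
  have hz : IsZero (((Tor (ModuleCat.{u} R) (j + 1)).obj (ModuleCat.of R (R ⊗[A] BY))).obj
      (ModuleCat.of R (R ⊗[A] BZ))) :=
    hvan.of_iso (((Tor (ModuleCat.{u} R) (j + 1)).mapIso eY.toModuleIso).app _ ≪≫
      ((Tor (ModuleCat.{u} R) (j + 1)).obj _).mapIso eZ.toModuleIso)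
  have hs := ModuleCat.subsingleton_of_isZero hz
  exact e.toEquiv.subsingleton

end Groth.Agent.Lib.Helper94.TorIntB
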