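import Mathlib
import Groth.Prelude.Def_RegImm
import Groth.Agent.Lib.Helper94.RegImmPt
import Groth.Agent.Lib.Helper94.FibU
import Groth.Agent.Lib.Helper94.TorIntC

/-!
# Intersection of two regular closed immersions in a CM scheme: stalk level
-/

set_option autoImplicit false
universe u

open CategoryTheory CategoryTheory.Limits AlgebraicGeometry RingTheory.Sequence Ideal IsLocalRing

namespace Groth.Agent.Lib.Helper94.TorIntD

open Groth.Agent.Lib.Helper94

section A

variable {X Y Z : Scheme.{u}} (iY : Y ⟶ X) (iZ : Z ⟶ X) [IsClosedImmersion iY]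
  [IsClosedImmersion iZ]

/-- the ideal sheaf of the scheme-theoretic intersection is the sum -/
theorem ker_inter : (pullback.fst iY iZ ≫ iY).ker = iY.ker ⊔ iZ.ker := by
  apply le_antisymm
  · have h1 : iY.ker ≤ (iY.ker ⊔ iZ.ker).subschemeι.ker := by
      rw [Scheme.IdealSheafData.ker_subschemeι]; exact le_sup_left
    have h2 : iZ.ker ≤ (iY.ker ⊔ iZ.ker).subschemeι.ker := by
      rw [Scheme.IdealSheafData.ker_subschemeι]; exact le_sup_right
    have hl : IsClosedImmersion.lift iY _ h1 ≫ iY = IsClosedImmersion.lift iZ _ h2 ≫ iZ := by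
      rw [IsClosedImmersion.lift_fac, IsClosedImmersion.lift_fac]
    have h3 : pullback.lift _ _ hl ≫ (pullback.fst iY iZ ≫ iY) =
        (iY.ker ⊔ iZ.ker).subschemeι := by
      rw [pullback.lift_fst_assoc, IsClosedImmersion.lift_fac]
    have h4 := Scheme.Hom.le_ker_comp (pullback.lift _ _ hl) (pullback.fst iY iZ ≫ iY)
    rw [h3, Scheme.IdealSheafData.ker_subschemeι] at h4
    exact h4
  · apply sup_le
    · exact Scheme.Hom.le_ker_comp _ _
    · rw [pullback.condition]; exact Scheme.Hom.le_ker_comp _ _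

theorem ker_app_inter (U : X.Opens) (hU : IsAffineOpen U) :
    RingHom.ker ((pullback.fst iY iZ ≫ iY).app U).hom =
      RingHom.ker (iY.app U).hom ⊔ RingHom.ker (iZ.app U).hom := by
  have h := congrArg (fun I : X.IdealSheafData => I.ideal ⟨U, hU⟩) (ker_inter iY iZ)
  simp only [Scheme.IdealSheafData.ideal_sup, Pi.sup_apply, Scheme.Hom.ker_apply] at h
  exact h

end A

/-- extension to the stalk of the kernel on an affine open does not depend on the affine open -/
theorem map_ker_germ_indep {Y X : Scheme.{u}} (i : Y ⟶ X) [IsClosedImmersion i] (x : X)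
    (hx : x ∈ Set.range i) (U V : X.Opens) (hU : IsAffineOpen U) (hV : IsAffineOpen V)
    (hxU : x ∈ U) (hxV : x ∈ V) :
    (RingHom.ker (i.app U).hom).map (X.presheaf.germ U x hxU).hom =
      (RingHom.ker (i.app V).hom).map (X.presheaf.germ V x hxV).hom := by
  obtain ⟨y, rfl⟩ := hx
  rw [← RegImmPt.ker_stalkMap i y U hU hxU, ← RegImmPt.ker_stalkMap i y V hV hxV]

theorem map_ker_germ_ne_top {Y X : Scheme.{u}} (i : Y ⟶ X) [IsClosedImmersion i] (x : X)
    (hx : x ∈ Set.range i) (U : X.Opens) (hU : IsAffineOpen U) (hxU : x ∈ U) :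
    (RingHom.ker (i.app U).hom).map (X.presheaf.germ U x hxU).hom ≠ ⊤ := by
  obtain ⟨y, rfl⟩ := hx
  rw [← RegImmPt.ker_stalkMap i y U hU hxU]
  exact RegImmPt.ker_stalkMap_ne_top i y

/-- stalk generators of a regular immersion of codimension `a` -/
theorem exists_list_stalk {Y X : Scheme.{u}} (i : Y ⟶ X) [IsClosedImmersion i] (a : ℕ)
    (h : RegImm.IsRegularImmersionOfCodim RegImm.Kind.regular a i) (x : X)
    (hx : x ∈ Set.range i) (U : X.Opens) (hU : IsAffineOpen U) (hxU : x ∈ U) :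
    ∃ fs : List (X.presheaf.stalk x), fs.length = a ∧ IsRegular (X.presheaf.stalk x) fs ∧
      (RingHom.ker (i.app U).hom).map (X.presheaf.germ U x hxU).hom = ofList fs := by
  have hne := map_ker_germ_ne_top i x hx U hU hxU
  obtain ⟨y, rfl⟩ := hx
  obtain ⟨UY, hyU, -, rs, hlen, hrs, hker⟩ := h.2 y
  replace hrs : IsRegular Γ(X, UY.1) rs := hrs
  rw [map_ker_germ_indep i (i y) ⟨y, rfl⟩ U UY.1 hU UY.2 hxU hyU, hker, Ideal.map_ofList] at hne ⊢
  refine ⟨rs.map (X.presheaf.germ UY.1 (i y) hyU).hom, by rw [List.length_map, hlen], ?_, rfl⟩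
  letI : Algebra Γ(X, UY.1) (X.presheaf.stalk (i y)) :=
    TopCat.Presheaf.algebra_section_stalk X.presheaf (⟨i y, hyU⟩ : UY.1)
  haveI h1 : IsLocalization.AtPrime (X.presheaf.stalk (i y))
      (UY.2.primeIdealOf ⟨i y, hyU⟩).asIdeal := UY.2.isLocalization_stalk ⟨i y, hyU⟩
  have hflat : (X.presheaf.germ UY.1 (i y) hyU).hom.Flat := by
    change Module.Flat Γ(X, UY.1) (X.presheaf.stalk (i y))
    exact IsLocalization.flat _ (UY.2.primeIdealOf ⟨i y, hyU⟩).asIdeal.primeCompl
  refine Groth.Agent.S1661.isRegular_map_of_flat _ hflat rs hrs ?_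
  rw [Ideal.map_ofList]
  exact hne

/-- heights of primes of the stalk containing the ideal of a closed subscheme, from the
dimensions of the local rings at the points of the subscheme -/
theorem le_height_of_codim {W X : Scheme.{u}} (w : W ⟶ X) [IsClosedImmersion w] (n : ℕ)
    (hcodim : ∀ w0 : W, (n : WithBot ℕ∞) ≤ ringKrullDim (X.presheaf.stalk (w w0)))
    (x : X) (U : X.Opens) (hU : IsAffineOpen U) (hxU : x ∈ U)
    (p : Ideal (X.presheaf.stalk x)) [p.IsPrime]
    (hp : (RingHom.ker (w.app U).hom).map (X.presheaf.germ U x hxU).hom ≤ p) :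
    (n : ℕ∞) ≤ p.height := by
  have hcodim' : ∀ ξ : X, ξ ∈ Set.range w →
      (n : WithBot ℕ∞) ≤ ringKrullDim (X.presheaf.stalk ξ) := by
    rintro _ ⟨w0, rfl⟩
    exact hcodim w0
  letI : Algebra Γ(X, U) (X.presheaf.stalk x) :=
    TopCat.Presheaf.algebra_section_stalk X.presheaf (⟨x, hxU⟩ : U)
  haveI h1 : IsLocalization.AtPrime (X.presheaf.stalk x) (hU.primeIdealOf ⟨x, hxU⟩).asIdeal :=
    hU.isLocalization_stalk ⟨x, hxU⟩
  have hh : (p.under Γ(X, U)).height = p.height :=
    IsLocalization.height_under (hU.primeIdealOf ⟨x, hxU⟩).asIdeal.primeCompl p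
  rw [← hh]
  have hker : RingHom.ker (w.app U).hom ≤ p.under Γ(X, U) := Ideal.map_le_iff_le_comap.mp hp
  set p' : PrimeSpectrum Γ(X, U) := ⟨p.under Γ(X, U), inferInstance⟩ with hp'
  have hξU : hU.fromSpec p' ∈ U := FibU.fromSpec_mem hU p'
  have hloc := hU.isLocalization_stalk' p' hξU
  have hdim := @IsLocalization.AtPrime.ringKrullDim_eq_height _ _ p'.asIdeal p'.2
    (X.presheaf.stalk (hU.fromSpec p')) _
    (TopCat.Presheaf.algebra_section_stalk X.presheaf ⟨hU.fromSpec p', hξU⟩) hloc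
  -- the point lies in the range of `w`
  have hV : IsAffineOpen (w ⁻¹ᵁ U) := hU.preimage w
  have hsurj : Function.Surjective (w.app U).hom := w.app_surjective U hU
  have hP : ((p.under Γ(X, U)).map (w.app U).hom).IsPrime :=
    Ideal.map_isPrime_of_surjective hsurj hker
  have hcm : ((p.under Γ(X, U)).map (w.app U).hom).comap (w.app U).hom = p.under Γ(X, U) := by
    rw [Ideal.comap_map_of_surjective _ hsurj, sup_eq_left]
    exact hker
  have hnat := IsAffineOpen.SpecMap_appLE_fromSpec w hU hV le_rfl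
  have hrange : hU.fromSpec p' ∈ Set.range w := by
    let P : Spec Γ(W, w ⁻¹ᵁ U) := (⟨_, hP⟩ : PrimeSpectrum Γ(W, w ⁻¹ᵁ U))
    refine ⟨hV.fromSpec P, ?_⟩
    have h2 : (hV.fromSpec ≫ w) P =
        (Spec.map (w.appLE U (w ⁻¹ᵁ U) le_rfl) ≫ hU.fromSpec) P := by rw [hnat]
    rw [Scheme.Hom.comp_apply, Scheme.Hom.comp_apply] at h2
    rw [h2]
    congr 1
    apply PrimeSpectrum.ext
    have happ : w.appLE U (w ⁻¹ᵁ U) le_rfl = w.app U := by
      rw [Scheme.Hom.appLE, show (homOfLE (le_refl (w ⁻¹ᵁ U))).op = 𝟙 _ from rfl,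
        CategoryTheory.Functor.map_id, Category.comp_id]
    rw [happ]
    exact hcm
  have h3 := hcodim' _ hrange
  rw [hdim] at h3
  exact_mod_cast h3

end Groth.Agent.Lib.Helper94.TorIntD
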