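import Mathlib
import Groth.Prelude.Def_RegImm
import Groth.Prelude.Def_DRing2
import Groth.Agent.Lib.Helper94.TorIntB
import Groth.Agent.Lib.Helper94.TorIntD

/-!
# Intersection of two regular closed immersions in a CM scheme
-/

set_option autoImplicit false
universe u

open CategoryTheory CategoryTheory.Limits AlgebraicGeometry RingTheory.Sequence Ideal IsLocalRing

namespace Groth.Agent.Lib.Helper94.TorIntE

open Groth.Agent.Lib.Helper94 Groth.Agent.Lib.Helper94.TorIntD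

/-- a prime containing the ideal of a closed subscheme is a point of it -/
theorem fromSpec_mem_range {W X : Scheme.{u}} (w : W ⟶ X) [IsClosedImmersion w]
    (U : X.Opens) (hU : IsAffineOpen U) (p' : PrimeSpectrum Γ(X, U))
    (hker : RingHom.ker (w.app U).hom ≤ p'.asIdeal) : hU.fromSpec p' ∈ Set.range w := by
  have hV : IsAffineOpen (w ⁻¹ᵁ U) := hU.preimage w
  have hsurj : Function.Surjective (w.app U).hom := w.app_surjective U hU
  have hP : (p'.asIdeal.map (w.app U).hom).IsPrime :=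
    Ideal.map_isPrime_of_surjective hsurj hker
  have hcm : (p'.asIdeal.map (w.app U).hom).comap (w.app U).hom = p'.asIdeal := by
    rw [Ideal.comap_map_of_surjective _ hsurj, sup_eq_left]
    exact hker
  have hnat := IsAffineOpen.SpecMap_appLE_fromSpec w hU hV le_rfl
  let P : Spec Γ(W, w ⁻¹ᵁ U) := (⟨_, hP⟩ : PrimeSpectrum Γ(W, w ⁻¹ᵁ U))
  refine ⟨hV.fromSpec P, ?_⟩
  have h2 : (hV.fromSpec ≫ w) P =
      (Spec.map (w.appLE U (w ⁻¹ᵁ U) le_rfl) ≫ hU.fromSpec) P := by rw [hnat]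
  rw [Scheme.Hom.comp_apply, Scheme.Hom.comp_apply] at h2
  rw [h2]
  congr 1
  apply PrimeSpectrum.ext
  have happ : w.appLE U (w ⁻¹ᵁ U) le_rfl = w.app U := by
    rw [Scheme.Hom.appLE, show (homOfLE (le_refl (w ⁻¹ᵁ U))).op = 𝟙 _ from rfl,
      CategoryTheory.Functor.map_id, Category.comp_id]
  rw [happ]
  exact hcm

section Main

variable {X Y Z : Scheme.{u}} [IsLocallyNoetherian X]
  (hCM : ∀ x : X, LocCoh.IsCohenMacaulayLocalRing (X.presheaf.stalk x))
  (iY : Y ⟶ X) (iZ : Z ⟶ X) [IsClosedImmersion iY] [IsClosedImmersion iZ] (a b : ℕ)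
  (hY : RegImm.IsRegularImmersionOfCodim RegImm.Kind.regular a iY)
  (hZ : RegImm.IsRegularImmersionOfCodim RegImm.Kind.regular b iZ)
  (hcodim : ∀ w : ↥(pullback iY iZ), ((a + b : ℕ) : WithBot ℕ∞) ≤
      ringKrullDim (X.presheaf.stalk ((pullback.fst iY iZ ≫ iY) w)))

include hCM hY hZ hcodim in
theorem stalk_data (x : X) (hx : x ∈ Set.range (pullback.fst iY iZ ≫ iY)) (U : X.Opens)
    (hU : IsAffineOpen U) (hxU : x ∈ U) :
    ∃ fs gs : List (X.presheaf.stalk x), fs.length = a ∧ gs.length = b ∧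
      (RingHom.ker (iY.app U).hom).map (X.presheaf.germ U x hxU).hom = ofList fs ∧
      (RingHom.ker (iZ.app U).hom).map (X.presheaf.germ U x hxU).hom = ofList gs ∧
      IsRegular (X.presheaf.stalk x) gs ∧ IsRegular (X.presheaf.stalk x) (fs ++ gs) := by
  obtain ⟨w0, hw0⟩ := hx
  have hxY : x ∈ Set.range iY := ⟨pullback.fst iY iZ w0, by rw [← hw0]; rfl⟩
  have hxZ : x ∈ Set.range iZ := ⟨pullback.snd iY iZ w0, by
    rw [← hw0, ← Scheme.Hom.comp_apply, ← pullback.condition]⟩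
  obtain ⟨fs, hfl, hfr, hfk⟩ := exists_list_stalk iY a hY x hxY U hU hxU
  obtain ⟨gs, hgl, hgr, hgk⟩ := exists_list_stalk iZ b hZ x hxZ U hU hxU
  haveI := hCM x
  refine ⟨fs, gs, hfl, hgl, hfk, hgk, hgr, ?_⟩
  apply TorIntC.isRegular_of_height
  · intro r hr
    rcases List.mem_append.mp hr with h | h
    · exact RegCancel.ofList_le_maximalIdeal_of_isRegular fs hfr (Ideal.subset_span h)
    · exact RegCancel.ofList_le_maximalIdeal_of_isRegular gs hgr (Ideal.subset_span h)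
  · intro p hp hle
    haveI := hp
    have h1 := le_height_of_codim (pullback.fst iY iZ ≫ iY) (a + b) hcodim x U hU hxU p (by
      rw [ker_app_inter iY iZ U hU, Ideal.map_sup, hfk, hgk, ← Ideal.ofList_append]
      exact hle)
    rw [List.length_append, hfl, hgl]
    exact h1

include hCM hY hZ hcodim in
theorem regular_inter :
    RegImm.IsRegularImmersionOfCodim RegImm.Kind.regular (a + b) (pullback.fst iY iZ ≫ iY) := by
  refine ⟨inferInstance, fun w0 => ?_⟩
  obtain ⟨_, ⟨U, hU, rfl⟩, hxU, -⟩ := X.isBasis_affineOpens.exists_subset_of_mem_open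
    (Set.mem_univ ((pullback.fst iY iZ ≫ iY) w0)) isOpen_univ
  replace hU : IsAffineOpen U := hU
  replace hxU : (pullback.fst iY iZ ≫ iY) w0 ∈ U := hxU
  obtain ⟨fs, gs, hfl, hgl, hfk, hgk, -, hreg⟩ := stalk_data hCM iY iZ a b hY hZ hcodim
    ((pullback.fst iY iZ ≫ iY) w0) ⟨w0, rfl⟩ U hU hxU
  have hker : RingHom.ker ((pullback.fst iY iZ ≫ iY).stalkMap w0).hom = ofList (fs ++ gs) := by
    rw [RegImmPt.ker_stalkMap (pullback.fst iY iZ ≫ iY) w0 U hU hxU, ker_app_inter iY iZ U hU,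
      Ideal.map_sup, hfk, hgk, ← Ideal.ofList_append]
  obtain ⟨V, hV, hzV, bs, hbs, hkV, hlen⟩ :=
    RegImmPt.exists_affine_of_stalk (pullback.fst iY iZ ≫ iY) w0 (fs ++ gs) hreg hker
  refine ⟨⟨V, hV⟩, hzV, inferInstance, bs, ?_, hbs, hkV⟩
  rw [hlen, List.length_append, hfl, hgl]

include hCM hY hZ hcodim in
theorem tor_inter (U : X.Opens) (hU : IsAffineOpen U) (i : ℕ) (hi : 0 < i) :
    Subsingleton (@DRing.Tor Γ(X, U) _ i Γ(Y, iY ⁻¹ᵁ U) Γ(Z, iZ ⁻¹ᵁ U) _
      (iY.app U).hom.toModule _ (iZ.app U).hom.toModule) := by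
  apply TorIntB.tor_subsingleton_of_local (iY.app U).hom (iZ.app U).hom
    (iY.app_surjective U hU) (iZ.app_surjective U hU) _ i hi
  intro q hq hle
  let p' : PrimeSpectrum Γ(X, U) := ⟨q, hq⟩
  have hξU : hU.fromSpec p' ∈ U := FibU.fromSpec_mem hU p'
  have hrange : hU.fromSpec p' ∈ Set.range (pullback.fst iY iZ ≫ iY) := by
    apply fromSpec_mem_range
    rw [ker_app_inter iY iZ U hU]
    exact hle
  obtain ⟨fs, gs, -, -, hfk, hgk, hgr, hreg⟩ := stalk_data hCM iY iZ a b hY hZ hcodim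
    (hU.fromSpec p') hrange U hU hξU
  exact ⟨X.presheaf.stalk (hU.fromSpec p'), inferInstance,
    (X.presheaf.germ U (hU.fromSpec p') hξU).hom, hU.isLocalization_stalk' p' hξU,
    fs, gs, hfk, hgk, hgr.toIsWeaklyRegular, hreg.toIsWeaklyRegular⟩

end Main

end Groth.Agent.Lib.Helper94.TorIntE
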