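import Mathlib

set_option autoImplicit false

namespace Groth.Agent.Lib.Helper94

open CategoryTheory CategoryTheory.Limits MonoidalCategory TensorProduct

universe u

variable {R : Type u} [CommRing R]

section modules

variable {P2 P1 P0 M N : Type u} [AddCommGroup P2] [Module R P2] [AddCommGroup P1] [Module R P1]
  [AddCommGroup P0] [Module R P0] [AddCommGroup M] [Module R M] [AddCommGroup N] [Module R N]

/-- For a complex `P2 → P1 → P0 → M` exact at `P1` and `P0`, the tensored complex is exact at
`N ⊗ P1` iff `N ⊗ ker π → N ⊗ P0` is injective. -/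
theorem exact_lTensor_iff_injective (d2 : P2 →ₗ[R] P1) (d1 : P1 →ₗ[R] P0) (π : P0 →ₗ[R] M)
    (h21 : Function.Exact d2 d1) (h10 : Function.Exact d1 π) :
    Function.Exact (d2.lTensor N) (d1.lTensor N) ↔
      Function.Injective ((LinearMap.ker π).subtype.lTensor N) := by
  let d1' : P1 →ₗ[R] LinearMap.ker π :=
    d1.codRestrict (LinearMap.ker π) (fun x => h10.apply_apply_eq_zero x)
  have hd1 : d1 = (LinearMap.ker π).subtype ∘ₗ d1' := by
    ext x; rfl
  have hsurj : Function.Surjective d1' := by
    rintro ⟨z, hz⟩
    obtain ⟨x, rfl⟩ := (h10 z).mp hz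
    exact ⟨x, rfl⟩
  have hex' : Function.Exact d2 d1' := by
    intro x
    rw [← h21 x]
    constructor
    · intro h
      have := congrArg (LinearMap.ker π).subtype h
      simpa [d1'] using this
    · intro h
      apply Subtype.ext
      simpa [d1'] using h
  have hexT : Function.Exact (d2.lTensor N) (d1'.lTensor N) := lTensor_exact N hex' hsurj
  have hsurjT : Function.Surjective (d1'.lTensor N) := LinearMap.lTensor_surjective N hsurj
  have hcomp : d1.lTensor N = (LinearMap.ker π).subtype.lTensor N ∘ₗ d1'.lTensor N := by
    rw [hd1, LinearMap.lTensor_comp]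
  constructor
  · intro h
    rw [injective_iff_map_eq_zero]
    intro x hx
    obtain ⟨y, rfl⟩ := hsurjT x
    have : d1.lTensor N y = 0 := by rw [hcomp]; exact hx
    obtain ⟨z, rfl⟩ := (h y).mp this
    exact hexT.apply_apply_eq_zero z
  · intro h y
    rw [← hexT y, hcomp, LinearMap.comp_apply]
    constructor
    · intro hy
      exact h (by rw [hy, map_zero])
    · intro hy
      rw [hy, map_zero]

end modules

section presentations

variable {M N K F K' F' : Type u} [AddCommGroup M] [Module R M] [AddCommGroup N] [Module R N]
  [AddCommGroup K] [Module R K] [AddCommGroup F] [Module R F]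
  [AddCommGroup K'] [Module R K'] [AddCommGroup F'] [Module R F']

/-- The symmetric `Tor₁` diagram chase: for flat presentations `0 → K → F → M → 0` and
`0 → K' → F' → N → 0`, `N ⊗ K → N ⊗ F` is injective iff `K' ⊗ M → F' ⊗ M` is. -/
theorem lTensor_injective_iff_rTensor_injective [Module.Flat R F] [Module.Flat R F']
    (ι : K →ₗ[R] F) (π : F →ₗ[R] M) (hι : Function.Injective ι) (hex : Function.Exact ι π)
    (hπ : Function.Surjective π)
    (ι' : K' →ₗ[R] F') (π' : F' →ₗ[R] N) (hι' : Function.Injective ι')
    (hex' : Function.Exact ι' π') (hπ' : Function.Surjective π') :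
    Function.Injective (ι.lTensor N) ↔ Function.Injective (ι'.rTensor M) := by
  constructor
  · intro h
    rw [← LinearMap.lTensor_inj_iff_rTensor_inj]
    exact lTensor_injective_of_exact_of_exact_of_rTensor_injective hex hπ hex' hπ'
      ((LinearMap.lTensor_inj_iff_rTensor_inj _ _).mp h)
      (Module.Flat.lTensor_preserves_injective_linearMap ι' hι')
  · intro h
    exact lTensor_injective_of_exact_of_exact_of_rTensor_injective hex' hπ' hex hπ h
      (Module.Flat.lTensor_preserves_injective_linearMap ι hι)

end presentations

section bridge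

theorem tor_one_isZero_iff_of_resolution (N M : ModuleCat.{u} R) (P : ProjectiveResolution M) :
    IsZero (((Tor (ModuleCat.{u} R) 1).obj N).obj M) ↔
      Function.Injective ((LinearMap.ker (P.π.f 0).hom).subtype.lTensor N) := by
  have e : ((Tor (ModuleCat.{u} R) 1).obj N).obj M ≅
      (((tensorLeft N).mapHomologicalComplex _).obj P.complex).homology 1 :=
    P.isoLeftDerivedObj (tensorLeft N) 1
  rw [e.isZero_iff, ← HomologicalComplex.exactAt_iff_isZero_homology,
    HomologicalComplex.exactAt_iff' _ 2 1 0 (by simp) (by simp),
    ShortComplex.ShortExact.moduleCat_exact_iff_function_exact]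
  have h21 : Function.Exact (P.complex.d 2 1).hom (P.complex.d 1 0).hom := by
    have := P.exact_succ 0
    rwa [ShortComplex.ShortExact.moduleCat_exact_iff_function_exact] at this
  have h10 : Function.Exact (P.complex.d 1 0).hom (P.π.f 0).hom := by
    have := P.exact₀
    rwa [ShortComplex.ShortExact.moduleCat_exact_iff_function_exact] at this
  exact exact_lTensor_iff_injective (N := N) _ _ _ h21 h10

variable (N M : Type u) [AddCommGroup N] [Module R N] [AddCommGroup M] [Module R M]

/-- `Tor₁(N, M) = 0` iff `N ⊗ K → N ⊗ F` is injective, for any flat presentation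
`0 → K → F → M → 0` of the second variable. -/
theorem tor_one_isZero_iff {K F : Type u} [AddCommGroup K] [Module R K] [AddCommGroup F]
    [Module R F] [Module.Flat R F] (ι : K →ₗ[R] F) (π : F →ₗ[R] M) (hι : Function.Injective ι)
    (hex : Function.Exact ι π) (hπ : Function.Surjective π) :
    IsZero (((Tor (ModuleCat.{u} R) 1).obj (ModuleCat.of R N)).obj (ModuleCat.of R M)) ↔
      Function.Injective (ι.lTensor N) := by
  let P : ProjectiveResolution (ModuleCat.of R M) := ProjectiveResolution.of _
  rw [tor_one_isZero_iff_of_resolution _ _ P]
  have hproj : Module.Projective R (P.complex.X 0) := by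
    have := P.projective 0
    infer_instance
  have hflat : Module.Flat R (P.complex.X 0) := inferInstance
  have hπ0 : Function.Surjective (P.π.f 0).hom := by
    have : Epi (P.π.f 0) := inferInstance
    exact (ModuleCat.epi_iff_surjective _).mp this
  let j : LinearMap.ker (Finsupp.linearCombination R (id : N → N)) →ₗ[R] (N →₀ R) :=
    (LinearMap.ker (Finsupp.linearCombination R (id : N → N))).subtype
  have hj : Function.Injective j := Subtype.val_injective
  have hjex : Function.Exact j (Finsupp.linearCombination R (id : N → N)) :=
    LinearMap.exact_subtype_ker_map _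
  have hq : Function.Surjective (Finsupp.linearCombination R (id : N → N)) :=
    Finsupp.linearCombination_id_surjective R N
  have h1 := lTensor_injective_iff_rTensor_injective (N := N) (M := M)
      (K' := LinearMap.ker (Finsupp.linearCombination R (id : N → N))) (F' := N →₀ R)
      (LinearMap.ker (P.π.f 0).hom).subtype (P.π.f 0).hom Subtype.val_injective
      (LinearMap.exact_subtype_ker_map _) hπ0 j (Finsupp.linearCombination R (id : N → N))
      hj hjex hq
  have h2 := lTensor_injective_iff_rTensor_injective (N := N) (M := M)
      (K' := LinearMap.ker (Finsupp.linearCombination R (id : N → N))) (F' := N →₀ R)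
      ι π hι hex hπ j
      (Finsupp.linearCombination R (id : N → N)) hj hjex hq
  exact h1.trans h2.symm

/-- `Tor₁(N, M) = 0` iff `K' ⊗ M → F' ⊗ M` is injective, for any flat presentation
`0 → K' → F' → N → 0` of the first variable. -/
theorem tor_one_isZero_iff' {K' F' : Type u} [AddCommGroup K'] [Module R K'] [AddCommGroup F']
    [Module R F'] [Module.Flat R F'] (ι' : K' →ₗ[R] F') (π' : F' →ₗ[R] N)
    (hι' : Function.Injective ι') (hex' : Function.Exact ι' π') (hπ' : Function.Surjective π') :
    IsZero (((Tor (ModuleCat.{u} R) 1).obj (ModuleCat.of R N)).obj (ModuleCat.of R M)) ↔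
      Function.Injective (ι'.rTensor M) := by
  let j : LinearMap.ker (Finsupp.linearCombination R (id : M → M)) →ₗ[R] (M →₀ R) :=
    (LinearMap.ker (Finsupp.linearCombination R (id : M → M))).subtype
  have hj : Function.Injective j := Subtype.val_injective
  have hjex : Function.Exact j (Finsupp.linearCombination R (id : M → M)) :=
    LinearMap.exact_subtype_ker_map _
  have hq : Function.Surjective (Finsupp.linearCombination R (id : M → M)) :=
    Finsupp.linearCombination_id_surjective R M
  have h1 := tor_one_isZero_iff N M
    (K := LinearMap.ker (Finsupp.linearCombination R (id : M → M))) (F := M →₀ R)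
    j (Finsupp.linearCombination R (id : M → M)) hj hjex hq
  have h2 := lTensor_injective_iff_rTensor_injective (N := N) (M := M)
    (K := LinearMap.ker (Finsupp.linearCombination R (id : M → M))) (F := M →₀ R) j
    (Finsupp.linearCombination R (id : M → M)) hj hjex hq ι' π' hι' hex' hπ'
  exact h1.trans h2

end bridge

end Groth.Agent.Lib.Helper94
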