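import Groth.Agent.Lib.Helper74.VAFtSys

set_option autoImplicit false
universe u

open CategoryTheory CategoryTheory.Limits AlgebraicGeometry TopologicalSpace Opposite

noncomputable section

open Groth.Agent.Lib.Helper74.FtSub Groth.Agent.Lib.Helper74.VAFt

namespace Groth.Agent.Lib.Helper94.VAFtD6

open Groth.Agent.Lib.Helper74.SymQ

/-- affine case -/
theorem app_eq_of_affine {X Y : Scheme.{u}} {q : X ⟶ Y} {E : Y.Modules} (hE : Coh.IsQCoh E)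
    {𝒯' : RelProj.QCGrAlg Y} {jE : E ⟶ 𝒯'.toModule} (hGr : RelProj.IsGrSymAlg E 𝒯' jE)
    {𝒮L : RelProj.QCGrAlg X} (u₁ u₂ : RelProj.QGrHom q 𝒯' 𝒮L)
    (h : ∀ (U : Y.Opens) (x : Γ(E, U)),
      (u₁.app U).hom ((jE.app U) x) = (u₂.app U).hom ((jE.app U) x))
    (U : Y.Opens) (hU : IsAffineOpen U) : u₁.app U = u₂.app U := by
  have : E.IsQuasicoherent := hE
  have hf := isSymmetricAlgebra_of_isSymAlg hGr.1 U hU
  apply CommRingCat.hom_ext
  refine ringHom_ext_of_isSymmetricAlgebra hf ?_ ?_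
  · intro r
    rw [algebraMap_algSect]
    have e1 := congrArg (fun η => η.hom r) (u₁.str_app U)
    have e2 := congrArg (fun η => η.hom r) (u₂.str_app U)
    exact e1.trans e2.symm
  · intro m
    exact h U m

theorem qGrHom_ext_of_sym {X Y : Scheme.{u}} {q : X ⟶ Y} {E : Y.Modules} (hE : Coh.IsQCoh E)
    {𝒯' : RelProj.QCGrAlg Y} {jE : E ⟶ 𝒯'.toModule} (hGr : RelProj.IsGrSymAlg E 𝒯' jE)
    {𝒮L : RelProj.QCGrAlg X} (u₁ u₂ : RelProj.QGrHom q 𝒯' 𝒮L)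
    (h : ∀ (U : Y.Opens) (x : Γ(E, U)),
      (u₁.app U).hom ((jE.app U) x) = (u₂.app U).hom ((jE.app U) x)) :
    ∀ U : Y.Opens, u₁.app U = u₂.app U := by
  intro U
  apply CommRingCat.hom_ext
  refine RingHom.ext fun s => ?_
  refine TopCat.Sheaf.eq_of_locally_eq'
    (⟨𝒮L.presheaf, 𝒮L.isSheaf⟩ : TopCat.Sheaf CommRingCat.{u} X.carrier)
    (fun V : {V : Y.affineOpens // V.1 ≤ U} => q ⁻¹ᵁ (V.1.1 : Y.Opens)) (q ⁻¹ᵁ U)
    (fun V => homOfLE (q.preimage_mono V.2)) ?_ _ _ ?_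
  · intro x hx
    have hx' : q x ∈ U := hx
    obtain ⟨V, hV, hxV, hVU⟩ := Opens.isBasis_iff_nbhd.mp Y.isBasis_affineOpens hx'
    exact Opens.mem_iSup.mpr ⟨⟨⟨V, hV⟩, hVU⟩, hxV⟩
  · intro V
    have n1 := congrArg (fun η => η.hom s) (u₁.naturality V.2)
    have n2 := congrArg (fun η => η.hom s) (u₂.naturality V.2)
    have ha := app_eq_of_affine hE hGr u₁ u₂ h V.1.1 V.1.2
    refine n1.trans (Eq.trans ?_ n2.symm)
    change (u₁.app V.1.1).hom _ = (u₂.app V.1.1).hom _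
    rw [ha]

end Groth.Agent.Lib.Helper94.VAFtD6
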